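import Mathlib.Algebra.MonoidAlgebra.Basic
import Mathlib.RingTheory.Ideal.Quotient.Operations
import Mathlib.RingTheory.Nilpotent.Lemmas
import Mathlib.RingTheory.LocalRing.ResidueField.Ideal

/-! Natural endomorphisms of character maps (endomorphisms of diagonalisable groups). -/

universe u

namespace Groth.Agent.DiagRig

/-- A natural multiplicative endomorphism of `T ↦ (N →* T)` on `R`-algebras. -/
structure CharEnd (R : Type u) [CommRing R] (N : Type) [CommGroup N] where
  F : ∀ (T : Type u) [CommRing T] [Algebra R T], (N →* T) → (N →* T)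
  map_mul : ∀ (T : Type u) [CommRing T] [Algebra R T] (s t : N →* T), F T (s * t) = F T s * F T t
  natural : ∀ (T T' : Type u) [CommRing T] [Algebra R T] [CommRing T'] [Algebra R T'] (k : T →ₐ[R] T')
    (t : N →* T), k.toRingHom.toMonoidHom.comp (F T t) = F T' (k.toRingHom.toMonoidHom.comp t)

namespace CharEnd

variable {R : Type u} [CommRing R] {N : Type} [CommGroup N] (E : CharEnd R N)

noncomputable section

/-- The matrix coefficients. -/
def c (m n : N) : R := (E.F (MonoidAlgebra R N) (MonoidAlgebra.of R N) m).coeff n

lemma F_apply (T : Type u) [CommRing T] [Algebra R T] (t : N →* T) (m : N) :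
    E.F T t m = MonoidAlgebra.lift R T N t (E.F (MonoidAlgebra R N) (MonoidAlgebra.of R N) m) := by
  have h := DFunLike.congr_fun (E.natural _ T (MonoidAlgebra.lift R T N t) (MonoidAlgebra.of R N)) m
  simp only [MonoidHom.comp_apply] at h
  refine Eq.trans ?_ h.symm
  congr
  ext x
  simp

lemma c_mul_c [DecidableEq N] (m n n' : N) : E.c m n * E.c m n' = if n = n' then E.c m n else 0 := by
  let P := MonoidAlgebra R (N × N)
  let I := (MonoidAlgebra.of R (N × N)).comp (MonoidHom.inl N N)
  let J := (MonoidAlgebra.of R (N × N)).comp (MonoidHom.inr N N)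
  let D : N →* N × N := (MonoidHom.id N).prod (MonoidHom.id N)
  have hIJ : I * J = (MonoidAlgebra.of R (N × N)).comp D := by
    ext x
    simp [I, J, D, MonoidAlgebra.single_mul_single]
  have h := DFunLike.congr_fun (E.map_mul (MonoidAlgebra R (N × N)) I J) m
  rw [hIJ, MonoidHom.mul_apply, E.F_apply _ ((MonoidAlgebra.of R (N × N)).comp D), E.F_apply _ I,
    E.F_apply _ J] at h
  have hl : ∀ (ψ : N →* N × N), MonoidAlgebra.lift R (MonoidAlgebra R (N × N)) N
      ((MonoidAlgebra.of R (N × N)).comp ψ) = MonoidAlgebra.mapDomainAlgHom R R ψ := fun ψ => by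
    apply MonoidAlgebra.algHom_ext
    · intro x; simp
    · exact Subsingleton.elim _ _
  have hprod : ∀ f g : MonoidAlgebra R N,
      (MonoidAlgebra.mapDomainAlgHom R R (MonoidHom.inl N N) f *
        MonoidAlgebra.mapDomainAlgHom R R (MonoidHom.inr N N) g).coeff (n, n') = f.coeff n * g.coeff n' := by
    intro f g
    induction f using MonoidAlgebra.induction_linear with
    | zero => simp
    | add a b ha hb => rw [map_add, add_mul, MonoidAlgebra.coeff_add, Finsupp.add_apply, ha, hb]; simp [add_mul]
    | single x r =>
      induction g using MonoidAlgebra.induction_linear with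
      | zero => simp
      | add a b ha hb => rw [map_add, mul_add, MonoidAlgebra.coeff_add, Finsupp.add_apply, ha, hb]; simp [mul_add]
      | single y s =>
        simp [MonoidAlgebra.single_mul_single, Finsupp.single_apply, ite_and]
        split_ifs <;> simp_all
  have hdiag : ∀ f : MonoidAlgebra R N, (MonoidAlgebra.mapDomainAlgHom R R D f).coeff (n, n') =
      if n = n' then f.coeff n else 0 := by
    intro f
    induction f using MonoidAlgebra.induction_linear with
    | zero => simp
    | add a b ha hb => rw [map_add, MonoidAlgebra.coeff_add, Finsupp.add_apply, ha, hb]; split_ifs <;> simp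
    | single x r =>
      by_cases h3 : n = n' <;> by_cases h4 : x = n <;> simp_all [D, Finsupp.single_apply, eq_comm]
  simp only [I, J, hl] at h
  have h2 := congrArg (fun z : MonoidAlgebra R (N × N) => z.coeff (n, n')) h
  simp only [hprod, hdiag] at h2
  exact h2.symm

lemma c_eq_zero_of_residueField [DecidableEq N] (m n : N)
    (h : ∀ p : Ideal R, ∀ [p.IsPrime], algebraMap R p.ResidueField (E.c m n) = 0) : E.c m n = 0 := by
  have h1 : IsNilpotent (E.c m n) := by
    rw [← mem_nilradical, nilradical_eq_sInf, Ideal.mem_sInf]
    intro p hp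
    have : p.IsPrime := hp
    exact Ideal.algebraMap_residueField_eq_zero.mp (h p)
  have h2 : IsIdempotentElem (E.c m n) := by
    show _ * _ = _
    simpa using E.c_mul_c m n n
  obtain ⟨k, hk⟩ := h1
  rw [← h2.pow_succ_eq k, pow_succ, hk, zero_mul]

/-- An endomorphism which is the identity over all residue fields is the identity. -/
theorem eq_id (h : ∀ p : Ideal R, ∀ [p.IsPrime] (T : Type u) [CommRing T] [Algebra p.ResidueField T]
    [Algebra R T] [IsScalarTower R p.ResidueField T] (t : N →* T), E.F T t = t)
    (T : Type u) [CommRing T] [Algebra R T] (t : N →* T) : E.F T t = t := by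
  classical
  ext m
  have hc : ∀ n, n ≠ m → E.c m n = 0 := by
    intro n hn
    refine E.c_eq_zero_of_residueField m n fun p _ => ?_
    let L := p.ResidueField
    let k : MonoidAlgebra R N →ₐ[R] MonoidAlgebra L N := MonoidAlgebra.mapAlgHom (M := N) (IsScalarTower.toAlgHom R R L)
    have h3 := DFunLike.congr_fun (E.natural _ _ k (MonoidAlgebra.of R N)) m
    rw [h p (MonoidAlgebra L N)] at h3
    have h4 := congrArg (fun z : MonoidAlgebra L N => z.coeff n) h3
    simp [k, L, hn.symm] at h4
    exact Ideal.algebraMap_residueField_eq_zero.mpr h4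
  have hone : E.F (MonoidAlgebra R N) (MonoidAlgebra.of R N) m = MonoidAlgebra.single m 1 := by
    have hs : E.F (MonoidAlgebra R N) (MonoidAlgebra.of R N) m = MonoidAlgebra.single m (E.c m m) := by
      ext x
      by_cases hx : x = m
      · subst hx; simp [c]
      · simpa [c, hx, Finsupp.single_apply, Ne.symm hx] using hc x hx
    have h1 := E.F_apply R (1 : N →* R) m
    have hF1 : E.F R (1 : N →* R) = 1 := by
      have h2 := E.map_mul R (1 : N →* R) 1
      rw [one_mul] at h2
      ext x
      have h3 := DFunLike.congr_fun h2 x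
      rw [MonoidHom.mul_apply] at h3
      exact (IsUnit.map (E.F R 1) (Group.isUnit x)).mul_eq_left.mp h3.symm
    rw [hF1, hs] at h1
    simp at h1
    rw [hs, ← h1]
  rw [E.F_apply, hone]
  simp

end

end CharEnd

end Groth.Agent.DiagRig
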