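import Groth.Agent.DiagRig.Action
import Groth.Agent.DiagRig.CharEnd

/-! Character points are faithful; normalising points act by endomorphisms of character maps. -/

universe u

open CategoryTheory MonoidalCategory CartesianMonoidalCategory MonObj GrpObj AlgebraicGeometry Limits
open Groth.Agent.RedPts

noncomputable section

namespace Groth.Agent.DiagRig

namespace SplitPts

variable {S U : Scheme.{u}} {p : U ⟶ S} {M : Type} [AddCommGroup M] {G : Over S} [GrpObj G]

/-- The characters are determined by the points. -/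
def Inj (A : SplitPts p G M) : Prop :=
  ∀ {Y : Over U} (s t : Multiplicative M →* Γ(Y.left, ⊤)), A.σ s = A.σ t → s = t

lemma ofIso_inj (e : Grp.mk (Red.bc p G) ≅ Grp.mk (Red.DS U M)) : (ofIso p e).Inj := by
  intro Y s t h
  have h1 := congrArg (bcUn p) h
  simp only [ofIso, Groth.Agent.DiagRig.σ] at h1
  rw [bcUn_bcTr, bcUn_bcTr] at h1
  have h2 : dPt (U := U) s = dPt t := by
    have e1 := ((Grp.forget (Over U)).mapIso e).inv_hom_id
    have h3 := congrArg (· ≫ e.hom.hom.hom) h1
    dsimp only at h3
    refine ((Category.comp_id (dPt s)).symm.trans ((congrArg (dPt s ≫ ·) e1.symm).trans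
      ((Category.assoc _ _ _).symm.trans (h3.trans ((Category.assoc _ _ _).trans
        ((congrArg (dPt t ≫ ·) e1).trans (Category.comp_id _)))))))
  apply MonoidHom.ext
  intro m
  have h4 := congrArg (fun x => dFn x m.toAdd) h2
  simpa [dFn_dPt] using h4

lemma Inj.restrict {A : SplitPts p G M} (hA : A.Inj) {V : Scheme.{u}} (j : V ⟶ U) : (A.restrict j).Inj := by
  intro Y s t h
  refine hA (Y := (Over.map j).obj Y) s t ?_
  exact (cancel_epi (Over.isoMk (Iso.refl _) (by simp) :
    (Over.map (j ≫ p)).obj Y ≅ (Over.map p).obj ((Over.map j).obj Y)).hom).mp h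

end SplitPts

variable {S : Scheme.{u}} {R : CommRingCat.{u}} {p : Spec R ⟶ S} {M : Type} [AddCommGroup M]
  {H K : Over S} [GrpObj H] [GrpObj K]

lemma gPt_mul (P : SplitPts p H M) {T : Type u} [CommRing T] [Algebra R T] (s t : Multiplicative M →* T) :
    gPt p P (s * t) = gPt p P s * gPt p P t := by
  rw [gPt, gPt, gPt, ← P.σ_mul]
  congr 1
  ext z
  exact map_mul toΓ (s z) (t z)

lemma gPt_injective (P : SplitPts p H M) (hP : P.Inj) {T : Type u} [CommRing T] [Algebra R T]
    {s t : Multiplicative M →* T} (h : gPt p P s = gPt p P t) : s = t := by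
  have := hP _ _ h
  ext m
  exact (ConcreteCategory.bijective_of_isIso (Scheme.ΓSpecIso (CommRingCat.of T)).inv).1
    (DFunLike.congr_fun this m)

lemma gPt_surjective (P : SplitPts p H M) {T : Type u} [CommRing T] [Algebra R T]
    (g : (Over.map p).obj (specOver (R := R) T) ⟶ H) : ∃ t : Multiplicative M →* T, gPt p P t = g := by
  obtain ⟨t, ht⟩ := P.σ_surjective g
  refine ⟨(Scheme.ΓSpecIso (CommRingCat.of T)).hom.hom.toMonoidHom.comp t, ?_⟩
  rw [gPt, ← ht]
  congr 1
  ext z
  exact congr($(Iso.hom_inv_id (Scheme.ΓSpecIso (CommRingCat.of T))) (t z))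

variable (P : SplitPts p H M) (i : H ⟶ K) (hn : AlgGrp.IsNormalHom i)
  {T : Type u} [CommRing T] [Algebra R T] (k : (Over.map p).obj (specOver (R := R) T) ⟶ K)

/-- The point `k` moved to a `T`-algebra. -/
def kPt (T' : Type u) [CommRing T'] [Algebra R T'] [Algebra T T'] [IsScalarTower R T T'] :
    (Over.map p).obj (specOver (R := R) T') ⟶ K :=
  (Over.map p).map (testMap (IsScalarTower.toAlgHom R T T')) ≫ k

include hn in
lemma exists_conj (T' : Type u) [CommRing T'] [Algebra R T'] [Algebra T T'] [IsScalarTower R T T']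
    (t : Multiplicative M →* T') : ∃ t' : Multiplicative M →* T',
      kPt k T' * (gPt p P t ≫ i) * (kPt k T')⁻¹ = gPt p P t' ≫ i := by
  obtain ⟨n', hn'⟩ := hn _ (kPt k T') (gPt p P t)
  obtain ⟨t', rfl⟩ := gPt_surjective P n'
  exact ⟨t', hn'⟩

variable [Mono i] [IsMonHom i] (hP : P.Inj)

include hP in
lemma conj_unique {T' : Type u} [CommRing T'] [Algebra R T'] (g : (Over.map p).obj (specOver (R := R) T') ⟶ K)
    {s t₁ t₂ : Multiplicative M →* T'} (h₁ : g * (gPt p P s ≫ i) * g⁻¹ = gPt p P t₁ ≫ i)
    (h₂ : g * (gPt p P s ≫ i) * g⁻¹ = gPt p P t₂ ≫ i) : t₁ = t₂ :=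
  gPt_injective P hP ((cancel_mono i).mp (h₁.symm.trans h₂))

lemma conj_hom_mul {T' : Type u} [CommRing T'] [Algebra R T'] (g : (Over.map p).obj (specOver (R := R) T') ⟶ K)
    {s t s' t' : Multiplicative M →* T'} (h₁ : g * (gPt p P s ≫ i) * g⁻¹ = gPt p P s' ≫ i)
    (h₂ : g * (gPt p P t ≫ i) * g⁻¹ = gPt p P t' ≫ i) :
    g * (gPt p P (s * t) ≫ i) * g⁻¹ = gPt p P (s' * t') ≫ i := by
  rw [gPt_mul, gPt_mul, MonObj.mul_comp, MonObj.mul_comp, ← h₁, ← h₂]
  exact conj_mul.symm

/-- A normalising point acts on character maps. -/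
def conjEnd : CharEnd T (Multiplicative M) where
  F T' _ _ t :=
    letI : Algebra R T' := ((algebraMap T T').comp (algebraMap R T)).toAlgebra
    haveI : IsScalarTower R T T' := IsScalarTower.of_algebraMap_eq fun _ => rfl
    (exists_conj P i hn k T' t).choose
  map_mul T' _ _ s t := by
    letI : Algebra R T' := ((algebraMap T T').comp (algebraMap R T)).toAlgebra
    haveI : IsScalarTower R T T' := IsScalarTower.of_algebraMap_eq fun _ => rfl
    exact conj_unique P i hP (kPt k T') (exists_conj P i hn k T' (s * t)).choose_spec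
      (conj_hom_mul P i (kPt k T') (exists_conj P i hn k T' s).choose_spec
        (exists_conj P i hn k T' t).choose_spec)
  natural T₁ T₂ _ _ _ _ f t := by
    letI : Algebra R T₁ := ((algebraMap T T₁).comp (algebraMap R T)).toAlgebra
    haveI : IsScalarTower R T T₁ := IsScalarTower.of_algebraMap_eq fun _ => rfl
    letI : Algebra R T₂ := ((algebraMap T T₂).comp (algebraMap R T)).toAlgebra
    haveI : IsScalarTower R T T₂ := IsScalarTower.of_algebraMap_eq fun _ => rfl
    refine conj_unique P i hP (kPt k T₂) ?_ (exists_conj P i hn k T₂ _).choose_spec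
    let fR : T₁ →ₐ[R] T₂ := f.restrictScalars R
    have hk : (Over.map p).map (testMap fR) ≫ kPt k T₁ = kPt k T₂ := by
      rw [kPt, kPt, ← Category.assoc, ← Functor.map_comp]
      congr 2
      apply Over.OverMorphism.ext
      show Spec.map _ ≫ Spec.map _ = Spec.map _
      rw [← Spec.map_comp, ← CommRingCat.ofHom_comp]
      exact congrArg (fun g => Spec.map (CommRingCat.ofHom g)) f.comp_algebraMap
    have h1 := congrArg ((Over.map p).map (testMap fR) ≫ ·) (exists_conj P i hn k T₁ t).choose_spec
    simp only [MonObj.comp_mul, GrpObj.comp_inv, hk] at h1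
    rw [← Category.assoc, ← Category.assoc, testMap_gPt, testMap_gPt] at h1
    exact h1

/-- If `k` commutes with all points of `H` over all `T`-algebras, its endomorphism is trivial, and conversely. -/
lemma conjEnd_eq_iff (T' : Type u) [CommRing T'] [iRT : Algebra R T'] [Algebra T T'] [IsScalarTower R T T']
    (t : Multiplicative M →* T') :
    (conjEnd P i hn k hP).F T' t = t ↔
      kPt k T' * (gPt p P t ≫ i) = (gPt p P t ≫ i) * kPt k T' := by
  have he : iRT = ((algebraMap T T').comp (algebraMap R T)).toAlgebra :=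
    Algebra.algebra_ext _ _ fun r => IsScalarTower.algebraMap_apply R T T' r
  subst he
  letI : Algebra R T' := ((algebraMap T T').comp (algebraMap R T)).toAlgebra
  constructor
  · intro h
    have h1 := (exists_conj P i hn k T' t).choose_spec
    simp only [conjEnd] at h
    rw [h] at h1
    rwa [mul_inv_eq_iff_eq_mul] at h1
  · intro h
    apply gPt_injective P hP
    rw [← cancel_mono i]
    exact (exists_conj P i hn k T' t).choose_spec.symm.trans (mul_inv_eq_iff_eq_mul.mpr h)

end Groth.Agent.DiagRig
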