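import Groth.Agent.DiagRig.Agree
import Groth.Agent.DiagRig.Inj

/-! The locus where two character graphs agree is clopen. -/

universe u

open CategoryTheory MonoidalCategory CartesianMonoidalCategory MonObj GrpObj AlgebraicGeometry Limits
open Groth.Agent.RedPts

noncomputable section


namespace Groth.Agent.DiagRig

section Std

variable {U : Scheme.{u}} {M : Type} [AddCommGroup M]

lemma dPt_mul {Y : Over U} (s t : Multiplicative M →* Γ(Y.left, ⊤)) :
    dPt (U := U) (s * t) = dPt s * dPt t := by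
  apply d_ext
  intro m
  rw [d_mul, dFn_dPt, dFn_dPt, dFn_dPt]
  rfl

lemma dPt_comp {Y Y' : Over U} (h : Y' ⟶ Y) (t : Multiplicative M →* Γ(Y.left, ⊤)) :
    h ≫ dPt (U := U) t = dPt (h.left.appTop.hom.toMonoidHom.comp t) := by
  apply d_ext
  intro m
  rw [d_comp, dFn_dPt, dFn_dPt]
  rfl

/-- The tautological splitting of `D(M)`. -/
def SplitPts.std (U : Scheme.{u}) (M : Type) [AddCommGroup M] : SplitPts (𝟙 U) (Red.DS U M) M where
  σ {Y} t := (Over.isoMk (Iso.refl _) (by simp) : (Over.map (𝟙 U)).obj Y ≅ Y).hom ≫ dPt t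
  σ_mul s t := by rw [← MonObj.comp_mul, ← dPt_mul]
  σ_comp {Y Y'} h t := by
    rw [← dPt_comp h t, ← Category.assoc, ← Category.assoc]
    congr 1
  σ_surjective {Y} g := by
    obtain ⟨t, ht⟩ := exists_dPt (U := U) ((Over.isoMk (Iso.refl _) (by simp) :
      (Over.map (𝟙 U)).obj Y ≅ Y).inv ≫ g)
    exact ⟨t, by rw [ht, Iso.hom_inv_id_assoc]⟩

end Std

section Hom

variable {S U : Scheme.{u}} (p : U ⟶ S) {G : Over S} [GrpObj G] {M : Type} [AddCommGroup M]

omit [GrpObj G] in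
/-- A morphism compatible with the products of points is a homomorphism. -/
lemma isMonHom_of_pts {A B : Over S} [GrpObj A] [GrpObj B] (v : A ⟶ B)
    (h : ∀ (Y : Over S) (x y : Y ⟶ A), (x * y) ≫ v = (x ≫ v) * (y ≫ v)) : IsMonHom v where
  one_hom := by
    have h1 := h (𝟙_ (Over S)) 1 1
    rw [_root_.mul_one] at h1
    have h2 : (1 : 𝟙_ (Over S) ⟶ A) ≫ v = 1 := mul_eq_left.mp h1.symm
    simpa [Hom.one_def, toUnit_unique (toUnit (𝟙_ (Over S))) (𝟙 _)] using h2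
  mul_hom := by
    rw [mul_eq_mul, h, mul_eq_mul, MonObj.comp_mul]
    simp

/-- A natural multiplicative family of points gives a homomorphism out of `D(M)`. -/
lemma exists_pts_hom (Φ : ∀ {Y : Over U}, (Multiplicative M →* Γ(Y.left, ⊤)) → ((Over.map p).obj Y ⟶ G))
    (hmul : ∀ {Y : Over U} (s t : Multiplicative M →* Γ(Y.left, ⊤)), Φ (s * t) = Φ s * Φ t)
    (hnat : ∀ {Y Y' : Over U} (h : Y' ⟶ Y) (t : Multiplicative M →* Γ(Y.left, ⊤)),
      (Over.map p).map h ≫ Φ t = Φ (h.left.appTop.hom.toMonoidHom.comp t)) :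
    ∃ (t₀ : Multiplicative M →* Γ((Red.DS U M).left, ⊤)) (v : Red.DS U M ⟶ Red.bc p G),
      IsMonHom v ∧ (∀ {Y : Over U} (t : Multiplicative M →* Γ(Y.left, ⊤)), dPt t ≫ v = bcUn p (Φ t)) ∧
        v.left ≫ pullback.fst G.hom p = (Φ t₀).left := by
  obtain ⟨t₀, ht₀⟩ := exists_dPt (U := U) (𝟙 (Red.DS U M))
  have hpt : ∀ {Y : Over U} (t : Multiplicative M →* Γ(Y.left, ⊤)),
      dPt t ≫ bcUn p (Φ t₀) = bcUn p (Φ t) := fun {Y} t => by
    have h1 : dPt t ≫ bcUn p (Φ t₀) = bcUn p ((Over.map p).map (dPt (U := U) t) ≫ Φ t₀) :=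
      ((Over.mapPullbackAdj p).homEquiv_naturality_left _ _).symm
    rw [h1, hnat]
    congr 2
    have h2 : dPt (U := U) ((dPt (U := U) t).left.appTop.hom.toMonoidHom.comp t₀) = dPt t := by
      rw [← dPt_comp, ht₀, Category.comp_id]
    refine MonoidHom.ext fun m => ?_
    have h3 := congrArg (fun x => dFn x m.toAdd) h2
    simpa [dFn_dPt] using h3
  refine ⟨t₀, bcUn p (Φ t₀), isMonHom_of_pts _ fun Y x y => ?_, hpt, by rw [← bcTr_left, bcTr_bcUn]⟩
  obtain ⟨s, rfl⟩ := exists_dPt (U := U) x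
  obtain ⟨t, rfl⟩ := exists_dPt (U := U) y
  rw [← dPt_mul, hpt, hpt, hpt, hmul, bcUn_mul]

end Hom

/-- Triviality of a point of `D(M)` under a homomorphism given by points. -/
lemma gPt_std_comp_eq_one_iff {S : Scheme.{u}} {R : CommRingCat.{u}} {p : Spec R ⟶ S} {G : Over S} [GrpObj G]
    {M : Type} [AddCommGroup M] (v : Red.DS (Spec R) M ⟶ Red.bc p G)
    {T : Type u} [CommRing T] [Algebra R T] (t : Multiplicative M →* T)
    {x : (Over.map p).obj (specOver (R := R) T) ⟶ G}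
    (hx : dPt ((toΓ (R := R) (T := T)).toMonoidHom.comp t) ≫ v = bcUn p x) :
    gPt (𝟙 (Spec R)) (SplitPts.std (Spec R) M) t ≫ v = 1 ↔ x = 1 := by
  have h1 : bcUn p (1 : (Over.map p).obj (specOver (R := R) T) ⟶ G) = 1 := by
    have h2 := bcUn_mul p (1 : (Over.map p).obj (specOver (R := R) T) ⟶ G) 1
    rw [_root_.mul_one] at h2
    exact mul_eq_left.mp h2.symm
  refine Iff.trans ?_ ((Over.mapPullbackAdj p).homEquiv _ _).injective.eq_iff
  show (_ ≫ dPt _) ≫ v = 1 ↔ bcUn p x = bcUn p 1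
  rw [Category.assoc, hx, h1]
  constructor
  · intro h
    rw [← cancel_epi (Over.isoMk (Iso.refl _) (by simp) :
      (Over.map (𝟙 (Spec R))).obj (specOver (R := R) T) ≅ specOver (R := R) T).hom, MonObj.comp_one]
    exact h
  · intro h
    rw [h, MonObj.comp_one]

variable {S : Scheme.{u}} {H₁ H₂ G : Over S} [GrpObj H₁] [GrpObj H₂] [GrpObj G] (i₁ : H₁ ⟶ G) (i₂ : H₂ ⟶ G)
  {R : CommRingCat.{u}} {p : Spec R ⟶ S} {M₁ M₂ : Type} [AddCommGroup M₁] [AddCommGroup M₂]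
  (P₁ : SplitPts p H₁ M₁) (P₂ : SplitPts p H₂ M₂)

/-- The two character points give the same point of `G`. -/
def EqPt {T : Type u} [CommRing T] [Algebra R T] (a : Multiplicative M₁ →* T) (b : Multiplicative M₂ →* T) :
    Prop :=
  gPt p P₁ a ≫ i₁ = gPt p P₂ b ≫ i₂

lemma EqPt.map {T T' : Type u} [CommRing T] [Algebra R T] [CommRing T'] [Algebra R T']
    {a : Multiplicative M₁ →* T} {b : Multiplicative M₂ →* T} (h : EqPt i₁ i₂ P₁ P₂ a b) (k : T →ₐ[R] T') :
    EqPt i₁ i₂ P₁ P₂ (k.toRingHom.toMonoidHom.comp a) (k.toRingHom.toMonoidHom.comp b) := by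
  have h' : (Over.map p).map (testMap k) ≫ gPt p P₁ a ≫ i₁ = (Over.map p).map (testMap k) ≫ gPt p P₂ b ≫ i₂ :=
    congrArg ((Over.map p).map (testMap k) ≫ ·) h
  rw [← Category.assoc, ← Category.assoc, testMap_gPt, testMap_gPt] at h'
  exact h'

omit [GrpObj H₁] [GrpObj H₂] in
/-- The kernel of a homomorphism factoring through `w` is a base change of that of `w`. -/
lemma lfp_kerι_of_factor {Z : Over S} (w : Z ⟶ G)
    (hlfp : LocallyOfFinitePresentation (pullback.fst w.left (1 : 𝟙_ (Over S) ⟶ G).left))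
    {H' : Over (Spec R)} [GrpObj H'] (v : H' ⟶ Red.bc p G) (g : (Over.map p).obj H' ⟶ Z)
    (hg : v.left ≫ pullback.fst G.hom p = g.left ≫ w.left) :
    LocallyOfFinitePresentation (kerι v).left := by
  let o : 𝟙_ (Over S) ⟶ G := 1
  let o' : 𝟙_ (Over (Spec R)) ⟶ Red.bc p G := 1
  have ho1 : o'.left ≫ pullback.fst G.hom p = p ≫ o.left := by
    have h1 : bcUn p (1 : (Over.map p).obj (𝟙_ (Over (Spec R))) ⟶ G) = o' := by
      have h2 := bcUn_mul p (1 : (Over.map p).obj (𝟙_ (Over (Spec R))) ⟶ G) 1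
      rw [_root_.mul_one] at h2
      exact mul_eq_left.mp h2.symm
    rw [← bcTr_left, ← h1, bcTr_bcUn, show (1 : (Over.map p).obj (𝟙_ (Over (Spec R))) ⟶ G) = toUnit _ ≫ o
      from (MonObj.comp_one _).symm, Over.comp_left]
    show (𝟙 _ ≫ p) ≫ o.left = _
    rw [Category.id_comp]
  have hsq : IsPullback p o'.left o.left (pullback.fst G.hom p) := by
    refine IsPullback.of_bot ?_ ho1.symm (IsPullback.of_hasPullback G.hom p)
    have e1 : o'.left ≫ pullback.snd G.hom p = 𝟙 _ := Over.w o'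
    have e2 : o.left ≫ G.hom = 𝟙 _ := Over.w o
    rw [e1, e2]
    exact @IsPullback.of_vert_isIso _ _ _ _ _ _ _ _ _ _ (IsIso.id _) (IsIso.id _) ⟨by simp⟩
  have h2 : IsPullback (pullback.fst v.left o'.left) (pullback.snd v.left o'.left ≫ p)
      (g.left ≫ w.left) o.left := by
    rw [← hg]
    exact ((IsPullback.of_hasPullback v.left o'.left).flip.paste_horiz hsq).flip
  let k : pullback v.left o'.left ⟶ pullback w.left o.left :=
    pullback.lift (pullback.fst v.left o'.left ≫ g.left) (pullback.snd v.left o'.left ≫ p)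
      ((Category.assoc _ _ _).trans h2.w)
  have h4 : IsPullback k (pullback.fst v.left o'.left) (pullback.fst w.left o.left) g.left := by
    refine IsPullback.of_right ?_ (pullback.lift_fst ..) (IsPullback.of_hasPullback w.left o.left).flip
    rw [pullback.lift_snd]
    exact h2.flip
  exact MorphismProperty.of_isPullback (P := @LocallyOfFinitePresentation) h4 hlfp

variable [IsMonHom i₁] [IsMonHom i₂]

lemma EqPt.mul {T : Type u} [CommRing T] [Algebra R T]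
    {a a' : Multiplicative M₁ →* T} {b b' : Multiplicative M₂ →* T} (h : EqPt i₁ i₂ P₁ P₂ a b)
    (h' : EqPt i₁ i₂ P₁ P₂ a' b') : EqPt i₁ i₂ P₁ P₂ (a * a') (b * b') := by
  unfold EqPt at *
  rw [gPt_mul, gPt_mul, MonObj.mul_comp, MonObj.mul_comp, h, h']

lemma EqPt.one {T : Type u} [CommRing T] [Algebra R T] :
    EqPt i₁ i₂ P₁ P₂ (1 : Multiplicative M₁ →* T) (1 : Multiplicative M₂ →* T) := by
  simp only [EqPt, gPt, MonoidHom.comp_one, SplitPts.σ_one, MonObj.one_comp]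

variable [IsSeparated G.hom]

/-- The locus where two graphs agree is cut out by an idempotent. -/
theorem exists_graph_idempotent
    (hcomm : ∀ (Y : Over S) (a : Y ⟶ H₁) (b : Y ⟶ H₂), Commute (a ≫ i₁) (b ≫ i₂))
    (hlfp : LocallyOfFinitePresentation (pullback.fst (((fst H₁ H₂ ≫ i₁) * (snd H₁ H₂ ≫ i₂)⁻¹ : H₁ ⊗ H₂ ⟶ G)).left
      (1 : 𝟙_ (Over S) ⟶ G).left))
    {M₃ : Type} [AddCommGroup M₃] (ρ : Multiplicative M₁ →* Multiplicative M₃)
    (ψ : Multiplicative M₂ →* Multiplicative M₃) :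
    ∃ e : R, IsIdempotentElem e ∧
      (∀ (T : Type u) [CommRing T] [Algebra R T], algebraMap R T e = 0 →
        ∀ t : Multiplicative M₃ →* T, EqPt i₁ i₂ P₁ P₂ (t.comp ρ) (t.comp ψ)) ∧
      ∀ (T : Type u) [CommRing T] [Algebra R T],
        EqPt i₁ i₂ P₁ P₂ ((MonoidAlgebra.of T (Multiplicative M₃)).comp ρ)
          ((MonoidAlgebra.of T (Multiplicative M₃)).comp ψ) → algebraMap R T e = 0 := by
  let w : H₁ ⊗ H₂ ⟶ G := (fst H₁ H₂ ≫ i₁) * (snd H₁ H₂ ≫ i₂)⁻¹
  let F : ∀ {Y : Over (Spec R)}, (Multiplicative M₃ →* Γ(Y.left, ⊤)) → ((Over.map p).obj Y ⟶ H₁ ⊗ H₂) :=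
    fun {Y} t => lift (P₁.σ (t.comp ρ)) (P₂.σ (t.comp ψ))
  have hFw : ∀ {Y : Over (Spec R)} (t : Multiplicative M₃ →* Γ(Y.left, ⊤)),
      F t ≫ w = (P₁.σ (t.comp ρ) ≫ i₁) * (P₂.σ (t.comp ψ) ≫ i₂)⁻¹ := fun {Y} t => by
    simp [F, w, MonObj.comp_mul, GrpObj.comp_inv]
  obtain ⟨t₀, v, hmon, hpt, hvleft⟩ := exists_pts_hom p (M := M₃) (fun {Y} t => F t ≫ w)
    (fun {Y} s t => by
      rw [hFw, hFw, hFw, MonoidHom.mul_comp, MonoidHom.mul_comp, P₁.σ_mul, P₂.σ_mul, MonObj.mul_comp,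
        MonObj.mul_comp, _root_.mul_inv_rev]
      have c₁ := (hcomm _ (P₁.σ (t.comp ρ)) (P₂.σ (s.comp ψ))).inv_right
      have c₂ : Commute (P₂.σ (t.comp ψ) ≫ i₂)⁻¹ (P₂.σ (s.comp ψ) ≫ i₂)⁻¹ := by
        refine Commute.inv_inv ?_
        show _ * _ = _ * _
        rw [← MonObj.mul_comp, ← MonObj.mul_comp, ← P₂.σ_mul, ← P₂.σ_mul, mul_comm]
      rw [c₂.eq, _root_.mul_assoc, ← _root_.mul_assoc (P₁.σ (t.comp ρ) ≫ i₁), c₁.eq]
      simp only [_root_.mul_assoc])
    (fun {Y Y'} h t => by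
      rw [← Category.assoc, comp_lift, P₁.σ_comp, P₂.σ_comp]
      rfl)
  have : IsSeparated (Red.bc p G).hom := inferInstanceAs (IsSeparated (pullback.snd G.hom p))
  have hk : LocallyOfFinitePresentation (kerι v).left :=
    lfp_kerι_of_factor w hlfp v (F t₀) hvleft
  obtain ⟨e, he, he0, he1⟩ := exists_idempotent_trivial_locus v (SplitPts.std (Spec R) M₃) hk
  have hiff : ∀ (T : Type u) [CommRing T] [Algebra R T] (t : Multiplicative M₃ →* T),
      gPt (𝟙 (Spec R)) (SplitPts.std (Spec R) M₃) t ≫ v = 1 ↔ EqPt i₁ i₂ P₁ P₂ (t.comp ρ) (t.comp ψ) :=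
    fun T _ _ t => (gPt_std_comp_eq_one_iff v t (hpt _)).trans (by
      rw [hFw, mul_inv_eq_one]
      exact Iff.rfl)
  exact ⟨e, he, fun T _ _ h t => (hiff T t).mp (he0 T h t), fun T _ _ h => he1 T ((hiff (MonoidAlgebra T (Multiplicative M₃)) (MonoidAlgebra.of T (Multiplicative M₃))).mpr h)⟩

end Groth.Agent.DiagRig
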