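import Groth.Agent.DiagRig.ConjGlue
import Groth.Agent.DiagRig.AgreeGraph

/-! Base change of split charts and of groups of multiplicative type in terms of points. -/

universe u

open CategoryTheory MonoidalCategory CartesianMonoidalCategory MonObj GrpObj AlgebraicGeometry Limits

noncomputable section

namespace Groth.Agent.DiagRig

variable {S S' U U' : Scheme.{u}} {p : U ⟶ S} {H : Over S} [GrpObj H] {M : Type} [AddCommGroup M]

/-- Base change of a split chart. -/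
def SplitPts.bc (P : SplitPts p H M) (q : S' ⟶ S) (a : U' ⟶ U) (b : U' ⟶ S') (h : a ≫ p = b ≫ q) :
    SplitPts b (Red.bc q H) M where
  σ {Y} t := bcUn q ((Over.homMk (𝟙 Y.left) (by simp [h]) :
    (Over.map q).obj ((Over.map b).obj Y) ⟶ (Over.map (a ≫ p)).obj Y) ≫ (P.restrict a).σ t)
  σ_mul s t := by rw [← bcUn_mul, ← MonObj.comp_mul, ← (P.restrict a).σ_mul]
  σ_comp {Y Y'} k t := by
    refine Eq.trans ((Over.mapPullbackAdj q).homEquiv_naturality_left _ _).symm (congrArg (bcUn q) ?_)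
    rw [← (P.restrict a).σ_comp k t]
    simp only [← Category.assoc]
    congr 1
  σ_surjective {Y} g := by
    let i : (Over.map q).obj ((Over.map b).obj Y) ≅ (Over.map (a ≫ p)).obj Y :=
      Over.isoMk (Iso.refl _) (by simp [h])
    obtain ⟨t, ht⟩ := (P.restrict a).σ_surjective (i.inv ≫ bcTr q g)
    refine ⟨t, Eq.trans (congrArg (bcUn q) ?_) (bcUn_bcTr q g)⟩
    rw [ht, ← Category.assoc]
    refine Eq.trans (congrArg (· ≫ bcTr q g) ?_) (Category.id_comp _)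
    ext1
    show 𝟙 _ ≫ 𝟙 _ = 𝟙 _
    simp

lemma SplitPts.Inj.bc {P : SplitPts p H M} (hP : P.Inj) (q : S' ⟶ S) (a : U' ⟶ U) (b : U' ⟶ S')
    (h : a ≫ p = b ≫ q) : (P.bc q a b h).Inj := by
  intro Y s t e
  refine hP.restrict a s t ?_
  have e' := congrArg (bcTr q) e
  simp only [SplitPts.bc, bcTr_bcUn] at e'
  let i : (Over.map q).obj ((Over.map b).obj Y) ≅ (Over.map (a ≫ p)).obj Y :=
    Over.isoMk (Iso.refl _) (by simp [h])
  exact (cancel_epi i.hom).mp e'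

variable (q : S' ⟶ S) {G : Over S}

omit [GrpObj H] in
lemma bcTr_map {Y : Over S'} (x : Y ⟶ Red.bc q H) (w : H ⟶ G) :
    bcTr q (x ≫ (Over.pullback q).map w) = bcTr q x ≫ w :=
  (Over.mapPullbackAdj q).homEquiv_naturality_right_symm x w

lemma bcTr_injective {Y : Over S'} : Function.Injective (bcTr q : (Y ⟶ Red.bc q G) → _) :=
  ((Over.mapPullbackAdj q).homEquiv Y G).symm.injective

lemma bcTr_one [GrpObj G] {Y : Over S'} : bcTr q (1 : Y ⟶ Red.bc q G) = 1 := by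
  have h := bcTr_mul q (1 : Y ⟶ Red.bc q G) 1
  rw [_root_.mul_one] at h
  exact mul_eq_left.mp h.symm

lemma bcTr_inv [GrpObj G] {Y : Over S'} (y : Y ⟶ Red.bc q G) : bcTr q y⁻¹ = (bcTr q y)⁻¹ := by
  refine eq_inv_of_mul_eq_one_left ?_
  rw [← bcTr_mul, inv_mul_cancel, bcTr_one]

lemma isMonHom_bcMap [GrpObj G] (w : H ⟶ G) [IsMonHom w] :
    IsMonHom (M := Red.bc q H) (N := Red.bc q G) ((Over.pullback q).map w) := by
  refine isMonHom_of_pts _ fun Y x y => bcTr_injective q ?_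
  rw [bcTr_mul, bcTr_map, bcTr_map, bcTr_map, bcTr_mul, MonObj.mul_comp]

/-- A group that splits over a flat quasi-compact cover. -/
def SplitLoc {R : CommRingCat.{u}} (H : Over (Spec R)) [GrpObj H] : Prop :=
  ∃ (S' : Scheme.{u}) (f : S' ⟶ Spec R), Flat f ∧ Surjective f ∧
    (∃ W : S'.Opens, IsCompact (W : Set S') ∧ f.base '' (W : Set S') = Set.univ) ∧
    ∀ s' : S', ∃ U : S'.Opens, s' ∈ U ∧ ∃ (M : Type) (_ : AddCommGroup M),
      ∃ P : SplitPts (U.ι ≫ f) H M, P.Inj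

lemma splitLoc_of_locally {R : CommRingCat.{u}} {H : Over (Spec R)} [GrpObj H]
    (hH : TwC.Locally (Spec R) TwC.Topology.fpqc (fun S' f => ∃ (M : Type) (_ : AddCommGroup M),
      Nonempty (Grp.mk (Red.bc f H) ≅ Grp.mk (Red.DS S' M)))) : SplitLoc H := by
  obtain ⟨S', f, hf, hsurj, hcov, hloc⟩ := hH
  obtain ⟨W, hWc, hW⟩ := hcov ⊤ (isAffineOpen_top _)
  exact ⟨S', f, hf, hsurj, ⟨W, hWc, by simpa using hW⟩, fun s' =>
    let ⟨U, hU, M, inst, ⟨e⟩⟩ := hloc s'; ⟨U, hU, M, inst, SplitPts.ofIso _ e, SplitPts.ofIso_inj e⟩⟩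

lemma SplitLoc.bc {R R' : CommRingCat.{u}} {H : Over (Spec R)} [GrpObj H] (h : SplitLoc H)
    (q : Spec R' ⟶ Spec R) [IsClosedImmersion q] : SplitLoc (Red.bc q H) := by
  obtain ⟨S', f, hf, hsurj, ⟨W, hWc, hW⟩, hloc⟩ := h
  refine ⟨pullback f q, pullback.snd f q, inferInstance, inferInstance,
    ⟨pullback.fst f q ⁻¹ᵁ W, (pullback.fst f q).isClosedEmbedding.isCompact_preimage hWc, ?_⟩, fun z => ?_⟩
  · refine Set.eq_univ_of_forall fun s => ?_
    obtain ⟨w, hw, hws⟩ := hW.ge (Set.mem_univ (q.base s))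
    obtain ⟨z, hz1, hz2⟩ := Scheme.Pullback.exists_preimage_pullback w s hws
    exact ⟨z, show (pullback.fst f q).base z ∈ W from hz1 ▸ hw, hz2⟩
  · obtain ⟨U, hU, M, inst, P, hP⟩ := hloc ((pullback.fst f q).base z)
    have e : (pullback.fst f q ∣_ U) ≫ U.ι ≫ f = ((pullback.fst f q ⁻¹ᵁ U).ι ≫ pullback.snd f q) ≫ q := by
      rw [← Category.assoc, morphismRestrict_ι, Category.assoc, Category.assoc, pullback.condition]
    exact ⟨_, hU, M, inst, P.bc q _ _ e, hP.bc q _ _ e⟩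

end Groth.Agent.DiagRig
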