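import Groth.Agent.DiagRig.RigidChart
import Groth.Agent.DiagRig.BCPts

/-! Rigidity of groups of multiplicative type along nilpotent ideals. -/

universe u

open CategoryTheory MonoidalCategory CartesianMonoidalCategory MonObj GrpObj AlgebraicGeometry Limits
open scoped TensorProduct

noncomputable section

namespace Groth.Agent.DiagRig

variable {R : CommRingCat.{u}} {H H' G : Over (Spec R)} [GrpObj H] [GrpObj H'] [GrpObj G]

omit [GrpObj H] in
lemma SplitPts.exists_restrict {U : Scheme.{u}} {p : U ⟶ Spec R} [GrpObj H] {M : Type} [AddCommGroup M]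
    (P : SplitPts p H M) (hP : P.Inj) {V : Scheme.{u}} (a : V ⟶ U) (p' : V ⟶ Spec R) (h : a ≫ p = p') :
    ∃ P' : SplitPts p' H M, P'.Inj :=
  h ▸ ⟨P.restrict a, hP.restrict a⟩

/-- A finite flat affine cover over which `H` splits. -/
theorem SplitLoc.exists_charts (h : SplitLoc H) :
    ∃ (ι₀ : Type u) (_ : Finite ι₀) (T : ι₀ → Type u) (_ : ∀ i, CommRing (T i)) (_ : ∀ i, Algebra R (T i)),
      (∀ i, Flat (specP R (T i))) ∧ (∀ s : (Spec R : Scheme.{u}), ∃ i z, (specP R (T i)).base z = s) ∧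
      ∀ i, ∃ (M : Type) (_ : AddCommGroup M), ∃ P : SplitPts (specP R (T i)) H M, P.Inj := by
  classical
  obtain ⟨S', f, hf, hsurj, ⟨W, hWc, hW⟩, hloc⟩ := h
  have key : ∀ s' : S', ∃ W' : S'.Opens, IsAffineOpen W' ∧ s' ∈ W' ∧ ∃ (M : Type) (_ : AddCommGroup M),
      ∃ P : SplitPts (W'.ι ≫ f) H M, P.Inj := fun s' => by
    obtain ⟨U, hU, M, inst, P, hP⟩ := hloc s'
    obtain ⟨W', hW', hsW', hsub⟩ := exists_isAffineOpen_mem_and_subset (X := S') (x := s') (U := U) hU
    exact ⟨W', hW', hsW', M, inst, P.exists_restrict hP (S'.homOfLE (show W' ≤ U from hsub)) _ (by rw [Scheme.homOfLE_ι_assoc])⟩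
  choose V hV hmem M inst P hP using key
  obtain ⟨F, hF⟩ := hWc.elim_finite_subcover (fun s' : S' => (V s' : Set S')) (fun s' => (V s').isOpen)
    (fun x _ => Set.mem_iUnion.mpr ⟨x, hmem x⟩)
  let T : {x // x ∈ F} → CommRingCat.{u} := fun i => Γ(S', V i.1)
  let φ : ∀ i, R ⟶ T i := fun i => Spec.preimage ((hV i.1).fromSpec ≫ f)
  let alg : ∀ i, Algebra R (T i) := fun i => (φ i).hom.toAlgebra
  have hp : ∀ i, specP R (T i) = (hV i.1).fromSpec ≫ f := fun i => Spec.map_preimage _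
  refine ⟨{x // x ∈ F}, inferInstance, fun i => T i, fun i => inferInstance, alg, fun i => ?_, fun s => ?_,
    fun i => ?_⟩
  · rw [hp]; infer_instance
  · obtain ⟨x, hx, hxs⟩ := hW.ge (Set.mem_univ s)
    obtain ⟨y, hyF, hy⟩ := Set.mem_iUnion₂.mp (hF hx)
    obtain ⟨z, hz⟩ := (hV y).range_fromSpec.ge hy
    refine ⟨⟨y, hyF⟩, z, ?_⟩
    rw [hp, Scheme.Hom.comp_apply, hz, hxs]
  · refine ⟨M i.1, inst i.1, (P i.1).exists_restrict (hP i.1) (hV i.1).isoSpec.inv _ ?_⟩
    rw [hp, ← Category.assoc]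
    rfl

/-- A common finite flat affine cover. -/
theorem exists_common_charts (h : SplitLoc H) (h' : SplitLoc H') :
    ∃ (ι₀ : Type u) (_ : Finite ι₀) (T : ι₀ → Type u) (_ : ∀ i, CommRing (T i)) (_ : ∀ i, Algebra R (T i)),
      (∀ i, Flat (specP R (T i))) ∧ (∀ s : (Spec R : Scheme.{u}), ∃ i z, (specP R (T i)).base z = s) ∧
      ∀ i, ∃ (M M' : Type) (_ : AddCommGroup M) (_ : AddCommGroup M'), ∃ (P : SplitPts (specP R (T i)) H M)
        (P' : SplitPts (specP R (T i)) H' M'), P.Inj ∧ P'.Inj := by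
  obtain ⟨A, hA, T, hT, aT, fT, sT, cT⟩ := h.exists_charts
  obtain ⟨B, hB, T', hT', aT', fT', sT', cT'⟩ := h'.exists_charts
  have e1 : ∀ k : A × B, Spec.map (CommRingCat.ofHom
      (Algebra.TensorProduct.includeLeftRingHom : T k.1 →+* T k.1 ⊗[R] T' k.2)) ≫ specP R (T k.1) =
      specP R (T k.1 ⊗[R] T' k.2) := fun k => by
    rw [specP, specP, ← Spec.map_comp]; rfl
  have e2 : ∀ k : A × B, Spec.map (CommRingCat.ofHom
      (Algebra.TensorProduct.includeRight : T' k.2 →ₐ[R] T k.1 ⊗[R] T' k.2).toRingHom) ≫ specP R (T' k.2) =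
      specP R (T k.1 ⊗[R] T' k.2) := fun k => by
    rw [specP, specP, ← Spec.map_comp, ← CommRingCat.ofHom_comp]
    congr 2
    exact (Algebra.TensorProduct.includeRight : T' k.2 →ₐ[R] T k.1 ⊗[R] T' k.2).comp_algebraMap
  have e3 : ∀ k : A × B, specP R (T k.1 ⊗[R] T' k.2) = (pullbackSpecIso R (T k.1) (T' k.2)).inv ≫
      pullback.fst (specP R (T k.1)) (specP R (T' k.2)) ≫ specP R (T k.1) := fun k => by
    rw [← e1 k, pullbackSpecIso_inv_fst_assoc]
  refine ⟨A × B, inferInstance, fun k => T k.1 ⊗[R] T' k.2, fun k => inferInstance, fun k => inferInstance,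
    fun k => ?_, fun s => ?_, fun k => ?_⟩
  · rw [e3]
    have := fT k.1
    have := fT' k.2
    infer_instance
  · obtain ⟨a, z, hz⟩ := sT s
    obtain ⟨b, z', hz'⟩ := sT' s
    obtain ⟨w, hw, -⟩ := Scheme.Pullback.exists_preimage_pullback z z' (hz.trans hz'.symm)
    refine ⟨⟨a, b⟩, (pullbackSpecIso R (T a) (T' b)).hom.base w, ?_⟩
    rw [e3 ⟨a, b⟩, ← Scheme.Hom.comp_apply, Iso.hom_inv_id_assoc, Scheme.Hom.comp_apply, hw, hz]
  · obtain ⟨M, i₁, P, hP⟩ := cT k.1
    obtain ⟨M', i₂, P', hP'⟩ := cT' k.2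
    obtain ⟨Q, hQ⟩ := P.exists_restrict hP _ _ (e1 k)
    obtain ⟨Q', hQ'⟩ := P'.exists_restrict hP' _ _ (e2 k)
    exact ⟨M, M', i₁, i₂, Q, Q', hQ, hQ'⟩

set_option backward.isDefEq.respectTransparency.types false in
/-- Morphisms agree if they agree over a flat cover. -/
lemma ext_cover {ι₀ : Type u} (T : ι₀ → Type u) [∀ i, CommRing (T i)] [∀ i, Algebra R (T i)]
    [∀ i, Flat (specP R (T i))] (hsurj : ∀ s : (Spec R : Scheme.{u}), ∃ i z, (specP R (T i)).base z = s)
    {X Z : Over (Spec R)} (u v : X ⟶ Z)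
    (h : ∀ (i : ι₀) (X' : Over (Spec R)) (k : X' ⟶ X) (z : X'.left ⟶ Spec (CommRingCat.of (T i))),
      z ≫ specP R (T i) = X'.hom → k ≫ u = k ≫ v) : u = v := by
  let π : (∐ fun i => pullback X.hom (specP R (T i))) ⟶ X.left := Sigma.desc fun i => pullback.fst _ _
  have : Flat π := (IsZariskiLocalAtSource.iff_of_openCover (P := @Flat) (sigmaOpenCover _)).mpr fun i => by
    show Flat (Sigma.ι (fun i => pullback X.hom (specP R (T i))) i ≫ Sigma.desc _)
    rw [Sigma.ι_desc]
    infer_instance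
  have : Surjective π := ⟨fun x => by
    obtain ⟨i, z, hz⟩ := hsurj (X.hom.base x)
    obtain ⟨w, hw, -⟩ := Scheme.Pullback.exists_preimage_pullback x z hz.symm
    exact ⟨(Sigma.ι (fun i => pullback X.hom (specP R (T i))) i).base w, by
      rw [← Scheme.Hom.comp_apply, Sigma.ι_desc, hw]⟩⟩
  have : Epi π := Flat.epi_of_flat_of_surjective π
  ext1
  rw [← cancel_epi π]
  refine Sigma.hom_ext _ _ fun i => ?_
  rw [Sigma.ι_desc_assoc, Sigma.ι_desc_assoc]
  exact congrArg CommaMorphism.left (h i (Over.mk (pullback.fst X.hom (specP R (T i)) ≫ X.hom))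
    (Over.homMk (pullback.fst _ _)) (pullback.snd _ _) pullback.condition.symm)

set_option backward.isDefEq.respectTransparency.types false in
/-- Congruences between groups of multiplicative type lift to homomorphisms. -/
theorem exists_hom_lift (J : Ideal R) (hJ : IsNilpotent J) (hH : SplitLoc H) (hH' : SplitLoc H')
    (i : H ⟶ G) (i' : H' ⟶ G) [IsMonHom i] [IsMonHom i'] [Mono i']
    (hle : ∀ (X : Over (Spec R)) (x : X ⟶ H), OverJ J X → ∃ y : X ⟶ H', y ≫ i' = x ≫ i) :
    ∃ φ : H ⟶ H', IsMonHom φ ∧ ∀ (X : Over (Spec R)) (x : X ⟶ H), OverJ J X → x ≫ φ ≫ i' = x ≫ i := by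
  obtain ⟨A, hA, T, _, _, hflat, hsurj, hc⟩ := exists_common_charts hH hH'
  choose M M' _ _ P P' hP hP' using hc
  have Φ : ∀ a, Rig J i i' (specP R (T a)) := fun a => (Rig.exists_chart hJ (hP a) (hP' a) hle).some
  -- compatibility
  have key : ∀ (a b : A) {X : Over (Spec R)} (z : X.left ⟶ Spec (CommRingCat.of (T a))) (hz : z ≫ specP R (T a) = X.hom)
      (z' : X.left ⟶ Spec (CommRingCat.of (T b))) (hz' : z' ≫ specP R (T b) = X.hom) (x : X ⟶ H),
      (Φ a).F z hz x = (Φ b).F z' hz' x := by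
    intro a b X z hz z' hz' x
    let T' := T a ⊗[R] T b
    let l := pullback.lift z z' (hz.trans hz'.symm) ≫ (pullbackSpecIso R (T a) (T b)).hom
    let la : Spec (CommRingCat.of T') ⟶ Spec (CommRingCat.of (T a)) :=
      Spec.map (CommRingCat.ofHom (Algebra.TensorProduct.includeLeftRingHom : T a →+* T'))
    let lb : Spec (CommRingCat.of T') ⟶ Spec (CommRingCat.of (T b)) :=
      Spec.map (CommRingCat.ofHom (Algebra.TensorProduct.includeRight : T b →ₐ[R] T').toRingHom)
    have hla : la ≫ specP R (T a) = specP R T' := by rw [specP, specP, ← Spec.map_comp]; rfl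
    have hlb : lb ≫ specP R (T b) = specP R T' := by
      rw [specP, specP, ← Spec.map_comp, ← CommRingCat.ofHom_comp]
      congr 2
      exact (Algebra.TensorProduct.includeRight : T b →ₐ[R] T').comp_algebraMap
    have el : l ≫ la = z := by
      rw [Category.assoc]
      show pullback.lift z z' _ ≫ (pullbackSpecIso R (T a) (T b)).hom ≫
        Spec.map (CommRingCat.ofHom (Algebra.TensorProduct.includeLeftRingHom : T a →+* T')) = z
      rw [pullbackSpecIso_hom_fst]
      exact pullback.lift_fst _ _ _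
    have el' : l ≫ lb = z' := by
      rw [Category.assoc]
      refine (congrArg (pullback.lift z z' (hz.trans hz'.symm) ≫ ·) (pullbackSpecIso_hom_snd R (T a) (T b))).trans ?_
      exact pullback.lift_snd _ _ _
    obtain ⟨Q, hQ⟩ := (P' a).exists_restrict (hP' a) la _ hla
    obtain ⟨Q₀, -⟩ := (P a).exists_restrict (hP a) la _ hla
    have hl : l ≫ specP R T' = X.hom := by rw [← hla, ← Category.assoc, el, hz]
    calc (Φ a).F z hz x = ((Φ a).restrict la _ hla).F l hl x := (Φ a).F_eq el.symm rfl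
      _ = ((Φ b).restrict lb _ hlb).F l hl x := Rig.unique hJ hQ Q₀ _ _ l hl x
      _ = _ := (Φ b).F_eq el' rfl
  -- gluing
  let Y : A → Scheme.{u} := fun a => pullback H.hom (specP R (T a))
  let π : (∐ Y) ⟶ H.left := Sigma.desc fun a => pullback.fst _ _
  have hι : ∀ a, Sigma.ι Y a ≫ π = pullback.fst H.hom (specP R (T a)) := fun a => Sigma.ι_desc _ a
  have : Flat π := (IsZariskiLocalAtSource.iff_of_openCover (P := @Flat) (sigmaOpenCover Y)).mpr fun a => by
    show Flat (Sigma.ι Y a ≫ Sigma.desc _)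
    rw [Sigma.ι_desc]
    infer_instance
  have : Surjective π := ⟨fun x => by
    obtain ⟨a, z, hz⟩ := hsurj (H.hom.base x)
    obtain ⟨w, hw, -⟩ := Scheme.Pullback.exists_preimage_pullback x z hz.symm
    exact ⟨(Sigma.ι Y a).base w, by rw [← Scheme.Hom.comp_apply, Sigma.ι_desc, hw]⟩⟩
  have : QuasiCompact π := ⟨fun U hUo hUc => by
    have e : π.base ⁻¹' U = ⋃ a, (Sigma.ι Y a).base '' ((pullback.fst H.hom (specP R (T a))).base ⁻¹' U) := by
      ext w
      obtain ⟨a, y, rfl⟩ := (sigmaOpenCover Y).exists_eq w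
      have hy : π.base ((Sigma.ι Y a).base y) = (pullback.fst H.hom (specP R (T a))).base y := by
        rw [← Scheme.Hom.comp_apply, Sigma.ι_desc]
      constructor
      · intro h
        refine Set.mem_iUnion.mpr ⟨a, y, ?_, rfl⟩
        show (pullback.fst H.hom (specP R (T a))).base y ∈ U
        rw [← hy]
        exact h
      · intro h
        obtain ⟨b, y', hy', e'⟩ := Set.mem_iUnion.mp h
        show π.base _ ∈ U
        rw [show ((sigmaOpenCover Y).f a).base y = (Sigma.ι Y b).base y' from e'.symm, ← Scheme.Hom.comp_apply,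
          Sigma.ι_desc]
        exact hy'
    show IsCompact (π.base ⁻¹' U)
    rw [e]
    exact isCompact_iUnion fun a =>
      ((pullback.fst H.hom (specP R (T a))).isCompact_preimage (U := ⟨U, hUo⟩) hUc).image (Sigma.ι Y a).continuous⟩
  let pt : ∀ a, Over (Spec R) := fun a => Over.mk (pullback.fst H.hom (specP R (T a)) ≫ H.hom)
  let xa : ∀ a, pt a ⟶ H := fun a => Over.homMk (pullback.fst H.hom (specP R (T a)))
  let ya : ∀ a, pt a ⟶ H' := fun a => (Φ a).F (pullback.snd H.hom (specP R (T a))) pullback.condition.symm (xa a)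
  let gY : (∐ Y) ⟶ H'.left := Sigma.desc fun a => (ya a).left
  have hg : ∀ a, Sigma.ι Y a ≫ gY = (ya a).left := fun a => Sigma.ι_desc _ a
  have hov : pullback.fst π π ≫ gY = pullback.snd π π ≫ gY := by
    refine hom_ext_of_forall _ _ fun w => ?_
    obtain ⟨(a : A), z, hz⟩ := (sigmaOpenCover Y).exists_eq ((pullback.fst π π).base w)
    obtain ⟨(b : A), z', hz'⟩ := (sigmaOpenCover Y).exists_eq ((pullback.snd π π).base w)
    let O : (pullback π π).Opens :=
      pullback.fst π π ⁻¹ᵁ (Sigma.ι Y a).opensRange ⊓ pullback.snd π π ⁻¹ᵁ (Sigma.ι Y b).opensRange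
    refine ⟨O, ⟨⟨z, hz⟩, ⟨z', hz'⟩⟩, ?_⟩
    have hra : Set.range (O.ι ≫ pullback.fst π π).base ⊆ Set.range (Sigma.ι Y a).base := by
      rintro _ ⟨y, rfl⟩; exact y.2.1
    have hrb : Set.range (O.ι ≫ pullback.snd π π).base ⊆ Set.range (Sigma.ι Y b).base := by
      rintro _ ⟨y, rfl⟩; exact y.2.2
    let la := IsOpenImmersion.lift (Sigma.ι Y a) (O.ι ≫ pullback.fst π π) hra
    let lb := IsOpenImmersion.lift (Sigma.ι Y b) (O.ι ≫ pullback.snd π π) hrb
    have hla : la ≫ Sigma.ι Y a = O.ι ≫ pullback.fst π π := IsOpenImmersion.lift_fac _ _ _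
    have hlb : lb ≫ Sigma.ι Y b = O.ι ≫ pullback.snd π π := IsOpenImmersion.lift_fac _ _ _
    have hab : la ≫ pullback.fst H.hom (specP R (T a)) = lb ≫ pullback.fst H.hom (specP R (T b)) := by
      rw [show pullback.fst H.hom (specP R (T a)) = Sigma.ι Y a ≫ π from (hι a).symm,
        show pullback.fst H.hom (specP R (T b)) = Sigma.ι Y b ≫ π from (hι b).symm,
        reassoc_of% hla, reassoc_of% hlb, pullback.condition]
    let X : Over (Spec R) := Over.mk ((la ≫ pullback.fst H.hom (specP R (T a))) ≫ H.hom)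
    let ka : X ⟶ pt a := Over.homMk la (Category.assoc _ _ _).symm
    let kb : X ⟶ pt b := Over.homMk lb (by
      show lb ≫ _ ≫ H.hom = (la ≫ _) ≫ H.hom
      rw [hab, Category.assoc])
    have exy : ka ≫ xa a = kb ≫ xa b := by ext1; exact hab
    have h1 : ka ≫ ya a = kb ≫ ya b := by
      show ka ≫ (Φ a).F _ _ _ = kb ≫ (Φ b).F _ _ _
      rw [(Φ a).nat, (Φ b).nat]
      exact (congrArg ((Φ a).F _ _) exy).trans (key a b _ _ _ _ _)
    have h2 : la ≫ (ya a).left = lb ≫ (ya b).left := congrArg CommaMorphism.left h1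
    rw [show (ya a).left = Sigma.ι Y a ≫ gY from (hg a).symm,
      show (ya b).left = Sigma.ι Y b ≫ gY from (hg b).symm, reassoc_of% hla, reassoc_of% hlb] at h2
    simpa using h2
  let gH : H.left ⟶ H'.left := EffectiveEpi.desc π gY (fun {W} a b hab => by
    have h : pullback.lift a b hab ≫ pullback.fst π π ≫ gY = pullback.lift a b hab ≫ pullback.snd π π ≫ gY :=
      congrArg (pullback.lift a b hab ≫ ·) hov
    rwa [pullback.lift_fst_assoc, pullback.lift_snd_assoc] at h)
  have hfac : π ≫ gH = gY := EffectiveEpi.fac ..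
  have hgH : gH ≫ H'.hom = H.hom := by
    have : Epi π := Flat.epi_of_flat_of_surjective π
    rw [← cancel_epi π, ← Category.assoc, hfac]
    refine Sigma.hom_ext _ _ fun a => ?_
    rw [Sigma.ι_desc_assoc, Sigma.ι_desc_assoc]
    exact Over.w (ya a)
  let φ : H ⟶ H' := Over.homMk gH hgH
  have hφ : ∀ (a : A) (X : Over (Spec R)) (x : X ⟶ H) (z : X.left ⟶ Spec (CommRingCat.of (T a)))
      (hz : z ≫ specP R (T a) = X.hom), x ≫ φ = (Φ a).F z hz x := by
    intro a X x z hz
    let l : X ⟶ pt a := Over.homMk (pullback.lift x.left z (by rw [hz]; exact Over.w x)) (by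
      show _ ≫ pullback.fst _ _ ≫ H.hom = X.hom
      rw [pullback.lift_fst_assoc]
      exact Over.w x)
    have h1 : l ≫ xa a = x := by ext1; exact pullback.lift_fst _ _ _
    have h2 : xa a ≫ φ = ya a := by
      ext1
      show pullback.fst H.hom (specP R (T a)) ≫ gH = _
      rw [show pullback.fst H.hom (specP R (T a)) = Sigma.ι Y a ≫ π from (hι a).symm,
        Category.assoc, hfac, Sigma.ι_desc]
    calc x ≫ φ = l ≫ ya a := by rw [← h2, ← Category.assoc, h1]
      _ = (Φ a).F z hz x := ((Φ a).nat l _ _ (xa a)).trans ((Φ a).F_eq (pullback.lift_snd _ _ _) h1)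
  refine ⟨φ, isMonHom_of_pts φ fun X x y => ?_, fun X x hX => ?_⟩
  · refine ext_cover T hsurj _ _ fun a X' k z hz => ?_
    rw [← Category.assoc, MonObj.comp_mul, MonObj.comp_mul, ← Category.assoc, ← Category.assoc,
      hφ a X' _ z hz, hφ a X' _ z hz, hφ a X' _ z hz, (Φ a).mul]
  · refine ext_cover T hsurj _ _ fun a X' k z hz => ?_
    rw [← Category.assoc, ← Category.assoc, hφ a X' _ z hz, ← Category.assoc]
    refine (Φ a).congr z hz (k ≫ x) ?_
    obtain ⟨w, hw⟩ := hX
    exact ⟨k.left ≫ w, by rw [Category.assoc, hw, Over.w k]⟩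

/-- Homomorphisms between groups of multiplicative type which agree modulo a nilpotent ideal are equal. -/
theorem hom_eq_of_congr (J : Ideal R) (hJ : IsNilpotent J) (hH : SplitLoc H) (hH' : SplitLoc H')
    (u v : H ⟶ H') [IsMonHom u] [IsMonHom v]
    (h : ∀ (X : Over (Spec R)) (x : X ⟶ H), OverJ J X → x ≫ u = x ≫ v) : u = v := by
  obtain ⟨A, hA, T, _, _, hflat, hsurj, hc⟩ := exists_common_charts hH hH'
  choose M M' _ _ P P' hP hP' using hc
  refine ext_cover T hsurj _ _ fun a X' k z hz => ?_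
  let Φu : Rig J u (𝟙 H') (specP R (T a)) :=
    { F := fun _ _ x => x ≫ u
      nat := fun k _ _ x => (Category.assoc _ _ _).symm
      mul := fun _ _ x y => MonObj.mul_comp x y u
      congr := fun _ _ x _ => Category.comp_id _ }
  let Φv : Rig J u (𝟙 H') (specP R (T a)) :=
    { F := fun _ _ x => x ≫ v
      nat := fun k _ _ x => (Category.assoc _ _ _).symm
      mul := fun _ _ x y => MonObj.mul_comp x y v
      congr := fun {X} _ _ x hX => (Category.comp_id _).trans (h X x hX).symm }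
  exact Rig.unique hJ (hP' a) (P a) Φu Φv z hz k

/-- Congruent subgroups of multiplicative type are isomorphic compatibly with the congruence. -/
theorem exists_iso_lift (J : Ideal R) (hJ : IsNilpotent J) (hH : SplitLoc H) (hH' : SplitLoc H')
    (i : H ⟶ G) (i' : H' ⟶ G) [IsMonHom i] [IsMonHom i'] [Mono i] [Mono i']
    (hle : ∀ (X : Over (Spec R)) (x : X ⟶ H), OverJ J X → ∃ y : X ⟶ H', y ≫ i' = x ≫ i)
    (hle' : ∀ (X : Over (Spec R)) (x : X ⟶ H'), OverJ J X → ∃ y : X ⟶ H, y ≫ i = x ≫ i') :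
    ∃ φ : H ≅ H', IsMonHom φ.hom ∧ ∀ (X : Over (Spec R)) (x : X ⟶ H), OverJ J X → x ≫ φ.hom ≫ i' = x ≫ i := by
  obtain ⟨φ, hφm, hφ⟩ := exists_hom_lift J hJ hH hH' i i' hle
  obtain ⟨ψ, hψm, hψ⟩ := exists_hom_lift J hJ hH' hH i' i hle'
  refine ⟨⟨φ, ψ, hom_eq_of_congr J hJ hH hH _ _ fun X x hX => ?_, hom_eq_of_congr J hJ hH' hH' _ _ fun X x hX => ?_⟩,
    hφm, hφ⟩
  · rw [← cancel_mono i]
    simpa [hφ X x hX] using hψ X (x ≫ φ) hX
  · rw [← cancel_mono i']
    simpa [hψ X x hX] using hφ X (x ≫ ψ) hX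

end Groth.Agent.DiagRig
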