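import Groth.Agent.DiagRig.EqLocus
import Groth.Agent.DiagRig.Rigid

/-! Base change of fpqc-locally split groups to affine schemes. -/

universe u

open CategoryTheory MonoidalCategory CartesianMonoidalCategory MonObj GrpObj AlgebraicGeometry Limits

noncomputable section

namespace Groth.Agent.DiagRig

variable {S : Scheme.{u}} {H : Over S} [GrpObj H]

set_option backward.isDefEq.respectTransparency.types false in
/-- An fpqc-locally split group splits over a flat quasi-compact cover of any affine scheme over the base. -/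
theorem splitLoc_bc (hH : SplitFpqc H) {A : CommRingCat.{u}} (b : Spec A ⟶ S) : SplitLoc (Red.bc b H) := by
  classical
  have key : ∀ a : (Spec A : Scheme.{u}), ∃ (V : S.affineOpens) (C : (Spec A).affineOpens), a ∈ C.1 ∧ C.1 ≤ b ⁻¹ᵁ V.1 := by
    intro a
    obtain ⟨V, hV, haV, -⟩ := exists_isAffineOpen_mem_and_subset (X := S) (x := b.base a) (U := ⊤) trivial
    obtain ⟨C, hC, haC, hsub⟩ := exists_isAffineOpen_mem_and_subset (X := Spec A) (x := a) (U := b ⁻¹ᵁ V) haV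
    exact ⟨⟨V, hV⟩, ⟨C, hC⟩, haC, hsub⟩
  choose V C hmem hle using key
  obtain ⟨F, hF⟩ := (isCompact_univ (X := (Spec A : Scheme.{u}))).elim_finite_subcover
    (fun a => ((C a).1 : Set (Spec A : Scheme.{u}))) (fun a => (C a).1.isOpen)
    (fun x _ => Set.mem_iUnion.mpr ⟨x, hmem x⟩)
  choose κ hκ T t hflat hsurj M inst P hP using fun a => hH (V a)
  let c : ∀ a, Spec Γ(Spec A, (C a).1) ⟶ Spec Γ(S, (V a).1) := fun a =>
    Spec.map (b.appLE (V a).1 (C a).1 (hle a))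
  have hc : ∀ a, c a ≫ (V a).2.fromSpec = (C a).2.fromSpec ≫ b := fun a =>
    (V a).2.SpecMap_appLE_fromSpec b (C a).2 (hle a)
  let I₀ := (a : {x // x ∈ F}) × κ a.1
  let Z : I₀ → Scheme.{u} := fun k => pullback (c k.1.1) (Spec.map (t k.1.1 k.2))
  let π : (∐ Z) ⟶ Spec A := Sigma.desc fun k => pullback.fst _ _ ≫ (C k.1.1).2.fromSpec
  have hι : ∀ k, Sigma.ι Z k ≫ π = pullback.fst _ _ ≫ (C k.1.1).2.fromSpec := fun k => Sigma.ι_desc _ k
  have : Flat π := (IsZariskiLocalAtSource.iff_of_openCover (P := @Flat) (sigmaOpenCover Z)).mpr fun k => by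
    show Flat (Sigma.ι Z k ≫ π)
    rw [hι]
    have := hflat k.1.1 k.2
    have : IsOpenImmersion (C k.1.1).2.fromSpec := IsAffineOpen.isOpenImmersion_fromSpec _
    infer_instance
  have hsurj' : Surjective π := ⟨fun s => by
    obtain ⟨a, haF, ha⟩ := Set.mem_iUnion₂.mp (hF (Set.mem_univ s))
    obtain ⟨z, hz⟩ := (C a).2.range_fromSpec.ge ha
    obtain ⟨k, q, hq⟩ := hsurj a ((c a).base z)
    obtain ⟨w, hw, -⟩ := Scheme.Pullback.exists_preimage_pullback z q hq.symm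
    refine ⟨(Sigma.ι Z ⟨⟨a, haF⟩, k⟩).base w, ?_⟩
    rw [← Scheme.Hom.comp_apply, hι, Scheme.Hom.comp_apply, hw, hz]⟩
  have : CompactSpace (∐ Z : Scheme.{u}) := (sigmaMk Z).compactSpace
  refine ⟨∐ Z, π, inferInstance, hsurj', ⟨⊤, isCompact_univ, ?_⟩, fun w => ?_⟩
  · rw [TopologicalSpace.Opens.coe_top, Set.image_univ]
    exact hsurj'.1.range_eq
  · obtain ⟨k, y, hy⟩ := (sigmaOpenCover Z).exists_eq w
    let U := (Sigma.ι Z k).opensRange
    refine ⟨U, ⟨y, hy⟩, M k.1.1 k.2, inst k.1.1 k.2, ?_⟩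
    have e : pullback.snd (c k.1.1) (Spec.map (t k.1.1 k.2)) ≫ (Spec.map (t k.1.1 k.2) ≫ (V k.1.1).2.fromSpec) =
        (pullback.fst (c k.1.1) (Spec.map (t k.1.1 k.2)) ≫ (C k.1.1).2.fromSpec) ≫ b := by
      rw [← pullback.condition_assoc, hc, Category.assoc]
    have h2 : (Sigma.ι Z k).isoOpensRange.inv ≫ (pullback.fst (c k.1.1) (Spec.map (t k.1.1 k.2)) ≫
        (C k.1.1).2.fromSpec) = U.ι ≫ π := by
      rw [← hι, ← Category.assoc, Scheme.Hom.isoOpensRange_inv_comp]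
    exact h2 ▸ ⟨((P k.1.1 k.2).bc b _ _ e).restrict _,
      SplitPts.Inj.restrict (SplitPts.Inj.bc (hP k.1.1 k.2) b _ _ e) _⟩

end Groth.Agent.DiagRig
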