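import Groth.Prelude.Def_SGA3x
import Groth.Prelude.Def_TwC
import Groth.Agent.FpqcDesc.Props
import Groth.Agent.AlgSpCov.SchemeDescent
import Mathlib.RingTheory.FiniteType
import Mathlib.AlgebraicGeometry.Morphisms.FinitePresentation

/-! Properties of groups of multiplicative type and finite type over the base. -/

universe u

open CategoryTheory MonoidalCategory CartesianMonoidalCategory MonObj GrpObj AlgebraicGeometry Limits MorphismProperty

noncomputable section

namespace Groth.Agent.DiagRig

variable {S : Scheme.{u}}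

/-- A property local on the target and descending along fpqc maps holds for groups that are fpqc-locally
diagonalisable with allowed character groups if it holds for these `D(M) → Spec ℤ`. -/
theorem splitting_prop (P : MorphismProperty Scheme.{u}) [IsZariskiLocalAtTarget P] [P.IsStableUnderBaseChange]
    [P.DescendsAlong (@Surjective ⊓ @Flat ⊓ @QuasiCompact)] (Q : ∀ (M : Type) [AddCommGroup M], Prop)
    (hP : ∀ (M : Type) [AddCommGroup M], Q M → P (Red.diag (ULift.{u} ℤ) M).hom)
    (H : Over S) [GrpObj H] (hH : ∃ (S' : Scheme.{u}) (f : S' ⟶ S), Flat f ∧ Surjective f ∧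
      (∀ V : S.Opens, IsAffineOpen V → ∃ W : S'.Opens, IsCompact (W : Set S') ∧ f.base '' (W : Set S') = (V : Set S)) ∧
      ∀ s' : S', ∃ U : S'.Opens, s' ∈ U ∧ ∃ (M : Type) (_ : AddCommGroup M), Q M ∧
        Nonempty (Grp.mk (Red.bc (U.ι ≫ f) H) ≅ Grp.mk (Red.DS (U : Scheme.{u}) M))) : P H.hom := by
  obtain ⟨S', f, hf, hs, hcov, hloc⟩ := hH
  have hS' : P (pullback.snd H.hom f) := by
    have key : ∀ s' : S', ∃ U : S'.Opens, s' ∈ U ∧ P (pullback.snd H.hom f ∣_ U) := by
      intro s'
      obtain ⟨U, hU, M, _, hQ, ⟨e⟩⟩ := hloc s'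
      refine ⟨U, hU, ?_⟩
      have h1 : P (pullback.snd H.hom (U.ι ≫ f)) := by
        let i : Red.bc (U.ι ≫ f) H ≅ Red.DS (U : Scheme.{u}) M := (Grp.forget _).mapIso e
        have h2 : P (pullback.snd (Red.diag (ULift.{u} ℤ) M).hom (IsTerminal.from specULiftZIsTerminal (U : Scheme.{u}))) :=
          MorphismProperty.pullback_snd _ _ (hP M hQ)
        refine (P.arrow_mk_iso_iff (Arrow.isoMk ((CategoryTheory.Over.forget _).mapIso i) (Iso.refl _) ?_)).mpr h2
        exact (Over.w i.hom).trans (Category.comp_id _).symm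
      have sq : IsPullback ((pullback.snd H.hom f ⁻¹ᵁ U).ι ≫ pullback.fst H.hom f) (pullback.snd H.hom f ∣_ U)
          H.hom (U.ι ≫ f) :=
        (isPullback_morphismRestrict (pullback.snd H.hom f) U).flip.paste_horiz (IsPullback.of_hasPullback _ _)
      rw [← sq.isoPullback_hom_snd, P.cancel_left_of_respectsIso]
      exact h1
    choose U hU hPU using key
    exact IsZariskiLocalAtTarget.of_iSup_eq_top U (top_le_iff.mp fun s' _ =>
      TopologicalSpace.Opens.mem_iSup.mpr ⟨s', hU s'⟩) hPU
  refine IsZariskiLocalAtTarget.of_iSup_eq_top _ (iSup_affineOpens_eq_top S) fun V => ?_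
  obtain ⟨W, hWc, hW⟩ := hcov V.1 V.2
  have hWV : W ≤ f ⁻¹ᵁ V.1 := fun x hx => hW.le ⟨x, hx, rfl⟩
  let g : (W : Scheme.{u}) ⟶ (V.1 : Scheme.{u}) := f.resLE V.1 W hWV
  have hg : g ≫ V.1.ι = W.ι ≫ f := f.resLE_comp_ι hWV
  have : CompactSpace W := isCompact_iff_compactSpace.mp hWc
  have : IsAffine V.1 := V.2
  have hqc : QuasiCompact g := inferInstance
  have hflat : Flat g := by
    show Flat (S'.homOfLE hWV ≫ f ∣_ V.1)
    infer_instance
  have hsurj : Surjective g := ⟨fun v => by
    obtain ⟨x, hx, hxv⟩ := hW.ge v.2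
    exact ⟨⟨x, hx⟩, Subtype.ext ((congr(($hg).base ⟨x, hx⟩)).trans hxv)⟩⟩
  refine MorphismProperty.of_isPullback_of_descendsAlong (Q := @Surjective ⊓ @Flat ⊓ @QuasiCompact) (P := P)
    (f := g) (IsPullback.of_hasPullback g (H.hom ∣_ V.1)) ⟨⟨hsurj, hflat⟩, hqc⟩ ?_
  have sq : IsPullback (pullback.snd g (H.hom ∣_ V.1) ≫ (H.hom ⁻¹ᵁ V.1).ι) (pullback.fst g (H.hom ∣_ V.1))
      H.hom (W.ι ≫ f) :=
    hg ▸ (IsPullback.of_hasPullback g (H.hom ∣_ V.1)).flip.paste_horiz (isPullback_morphismRestrict H.hom V.1).flip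
  have hWP : P (pullback.snd H.hom (W.ι ≫ f)) := by
    have sq' : IsPullback (pullback.fst (pullback.snd H.hom f) W.ι ≫ pullback.fst H.hom f)
        (pullback.snd (pullback.snd H.hom f) W.ι) H.hom (W.ι ≫ f) :=
      (IsPullback.of_hasPullback _ _).paste_horiz (IsPullback.of_hasPullback _ _)
    rw [← P.cancel_left_of_respectsIso sq'.isoPullback.hom, sq'.isoPullback_hom_snd]
    exact MorphismProperty.pullback_snd _ _ hS'
  rw [← sq.isoPullback_hom_snd, P.cancel_left_of_respectsIso]
  exact hWP

/-- A property local on the target and descending along fpqc maps holds for groups of multiplicative type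
and finite type if it holds for `D(M) → Spec ℤ`. -/
theorem multType_prop (P : MorphismProperty Scheme.{u}) [IsZariskiLocalAtTarget P] [P.IsStableUnderBaseChange]
    [P.DescendsAlong (@Surjective ⊓ @Flat ⊓ @QuasiCompact)]
    (hP : ∀ (M : Type) [AddCommGroup M], AddGroup.FG M → P (Red.diag (ULift.{u} ℤ) M).hom)
    (H : Over S) [GrpObj H] (hH : SGA3x.IsMultTypeFT H) : P H.hom :=
  splitting_prop P (fun M _ => AddGroup.FG M) hP H hH

set_option backward.isDefEq.respectTransparency.types false in
/-- A group that is fpqc-locally diagonalisable, of any type, is affine over the base. -/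
lemma isAffineHom_of_locally (H : Over S) [GrpObj H]
    (hH : TwC.Locally S TwC.Topology.fpqc (fun S' f => ∃ (M : Type) (_ : AddCommGroup M),
      Nonempty (Grp.mk (Red.bc f H) ≅ Grp.mk (Red.DS S' M)))) : IsAffineHom H.hom :=
  haveI := Groth.Agent.FpqcDesc.descendsAlong_isAffineHom.{u}
  splitting_prop @IsAffineHom (fun _ _ => True) (fun M _ _ =>
    haveI : IsAffine (Red.diag (ULift.{u} ℤ) M).left := isAffine_Spec _
    isAffineHom_of_isAffine (Red.diag (ULift.{u} ℤ) M).hom) H (by
      obtain ⟨S', f, hf, hs, hcov, hloc⟩ := hH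
      exact ⟨S', f, hf, hs, hcov, fun s' => let ⟨U, hU, M, i, e⟩ := hloc s'; ⟨U, hU, M, i, trivial, e⟩⟩)

set_option backward.isDefEq.respectTransparency.types false in
lemma multType_isAffineHom (H : Over S) [GrpObj H] (hH : SGA3x.IsMultTypeFT H) : IsAffineHom H.hom :=
  haveI := Groth.Agent.FpqcDesc.descendsAlong_isAffineHom.{u}

  multType_prop @IsAffineHom (fun M _ _ =>
    haveI : IsAffine (Red.diag (ULift.{u} ℤ) M).left := isAffine_Spec _
    isAffineHom_of_isAffine (Red.diag (ULift.{u} ℤ) M).hom) H hH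

set_option backward.isDefEq.respectTransparency.types false in
lemma multType_locallyOfFiniteType (H : Over S) [GrpObj H] (hH : SGA3x.IsMultTypeFT H) :
    LocallyOfFiniteType H.hom := by
  refine multType_prop @LocallyOfFiniteType (fun M _ hM => ?_) H hH
  have := AddGroup.fg_iff_addMonoid_fg.mp hM
  have : Monoid.FG (Multiplicative M) := Monoid.fg_of_addMonoid_fg  
  exact HasRingHomProperty.Spec_iff.mpr (RingHom.finiteType_algebraMap.mpr inferInstance)

set_option backward.isDefEq.respectTransparency.types false in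
lemma multType_locallyOfFinitePresentation (H : Over S) [GrpObj H] (hH : SGA3x.IsMultTypeFT H) :
    LocallyOfFinitePresentation H.hom := by
  refine multType_prop @LocallyOfFinitePresentation (fun M _ hM => ?_) H hH
  have := AddGroup.fg_iff_addMonoid_fg.mp hM
  have : Monoid.FG (Multiplicative M) := Monoid.fg_of_addMonoid_fg  
  have : IsNoetherianRing (ULift.{u} ℤ) := isNoetherianRing_of_ringEquiv ℤ ULift.ringEquiv.symm
  have h : Algebra.FinitePresentation (ULift.{u} ℤ) (MonoidAlgebra (ULift.{u} ℤ) (Multiplicative M)) :=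
    Algebra.FinitePresentation.of_finiteType.mp inferInstance
  exact HasRingHomProperty.Spec_iff.mpr (RingHom.finitePresentation_algebraMap.mpr h)

set_option backward.isDefEq.respectTransparency.types false in
lemma multType_flat (H : Over S) [GrpObj H] (hH : SGA3x.IsMultTypeFT H) : Flat H.hom :=
  multType_prop @Flat (fun M _ _ => HasRingHomProperty.Spec_iff.mpr
    (RingHom.flat_algebraMap_iff.mpr inferInstance)) H hH

end Groth.Agent.DiagRig
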