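import Groth.Agent.DiagRig.TrivialLocus
import Groth.Agent.DiagRig.BCLoc
import Groth.Agent.DiagRig.Rigid
import Groth.Agent.DiagRig.MultProp

/-! Base change of groups of multiplicative type to schemes; commutativity; agreement loci are clopen. -/

universe u

open CategoryTheory MonoidalCategory CartesianMonoidalCategory MonObj GrpObj AlgebraicGeometry Limits

noncomputable section

namespace Groth.Agent.DiagRig

variable {S T : Scheme.{u}}

/-- The covering condition is stable under base change. -/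
lemma cov_pullback {S' : Scheme.{u}} (f : S' ⟶ S) (t : T ⟶ S)
    (hcov : ∀ V : S.Opens, IsAffineOpen V → ∃ W : S'.Opens, IsCompact (W : Set S') ∧ f.base '' (W : Set S') = (V : Set S))
    (V : T.Opens) (hV : IsAffineOpen V) :
    ∃ W : (pullback f t).Opens, IsCompact (W : Set (pullback f t : Scheme.{u})) ∧
      (pullback.snd f t).base '' (W : Set (pullback f t : Scheme.{u})) = (V : Set T) := by
  classical
  have key : ∀ v : (V : Set T), ∃ W : (pullback f t).Opens, ∃ C : T.Opens, v.1 ∈ C ∧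
      IsCompact (W : Set (pullback f t : Scheme.{u})) ∧
      (C : Set T) ⊆ (pullback.snd f t).base '' (W : Set (pullback f t : Scheme.{u})) ∧
      (pullback.snd f t).base '' (W : Set (pullback f t : Scheme.{u})) ⊆ (V : Set T) := by
    intro v
    obtain ⟨A, hA, hvA, -⟩ := exists_isAffineOpen_mem_and_subset (X := S) (x := t.base v.1) (U := ⊤) trivial
    obtain ⟨C, hC, hvC, hCsub⟩ := exists_isAffineOpen_mem_and_subset (X := T) (x := v.1) (U := V ⊓ t ⁻¹ᵁ A) ⟨v.2, hvA⟩
    obtain ⟨W₀, hW₀c, hW₀⟩ := hcov A hA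
    have hWA : W₀ ≤ f ⁻¹ᵁ A := fun x hx => hW₀.le ⟨x, hx, rfl⟩
    have hCA : C ≤ t ⁻¹ᵁ A := fun x hx => (hCsub hx).2
    let a : (W₀ : Scheme.{u}) ⟶ A := f.resLE A W₀ hWA
    let c : (C : Scheme.{u}) ⟶ A := t.resLE A C hCA
    have : CompactSpace W₀ := isCompact_iff_compactSpace.mp hW₀c
    have : IsAffine A := hA
    have : IsAffine C := hC
    have : QuasiCompact a := inferInstance
    have : CompactSpace (pullback a c : Scheme.{u}) := QuasiCompact.compactSpace_of_compactSpace (pullback.snd a c)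
    let m : pullback a c ⟶ pullback f t := pullback.map a c f t W₀.ι C.ι A.ι (f.resLE_comp_ι hWA) (t.resLE_comp_ι hCA)
    have hm : Set.range m.base =
        ((pullback.fst f t ⁻¹ᵁ W₀ ⊓ pullback.snd f t ⁻¹ᵁ C : (pullback f t).Opens) : Set (pullback f t : Scheme.{u})) := by
      show Set.range (pullback.map a c f t W₀.ι C.ι A.ι _ _) = _
      rw [Scheme.Pullback.range_map, Scheme.Opens.range_ι, Scheme.Opens.range_ι]
      rfl
    refine ⟨pullback.fst f t ⁻¹ᵁ W₀ ⊓ pullback.snd f t ⁻¹ᵁ C, C, hvC, ?_, fun x hx => ?_, ?_⟩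
    · rw [← hm]; exact isCompact_range m.continuous
    · obtain ⟨w, hw, hwx⟩ := hW₀.ge (hCA hx)
      obtain ⟨z, hz1, hz2⟩ := Scheme.Pullback.exists_preimage_pullback w x hwx
      exact ⟨z, ⟨show (pullback.fst f t).base z ∈ W₀ from hz1 ▸ hw, show (pullback.snd f t).base z ∈ C from hz2 ▸ hx⟩, hz2⟩
    · rintro _ ⟨z, hz, rfl⟩
      exact (hCsub hz.2).1
  choose W C hC hWc hW hWV using key
  obtain ⟨F, hF⟩ := hV.isCompact.elim_finite_subcover (fun v => (C v : Set T)) (fun v => (C v).isOpen)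
    (fun x hx => Set.mem_iUnion.mpr ⟨⟨x, hx⟩, hC ⟨x, hx⟩⟩)
  refine ⟨⨆ v ∈ F, W v, ?_, ?_⟩
  · simp only [TopologicalSpace.Opens.coe_iSup]
    exact F.isCompact_biUnion fun v _ => hWc v
  · simp only [TopologicalSpace.Opens.coe_iSup, Set.image_iUnion]
    refine Set.Subset.antisymm (Set.iUnion₂_subset fun v _ => hWV v) fun x hx => ?_
    obtain ⟨v, hv, hxv⟩ := Set.mem_iUnion₂.mp (hF hx)
    exact Set.mem_iUnion₂.mpr ⟨v, hv, hW v hxv⟩

variable {H : Over S} [GrpObj H]

/-- Groups of multiplicative type are commutative on points. -/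
theorem mul_comm_of_splitFpqc (hH : SplitFpqc H) {X : Over S} (a b : X ⟶ H) : a * b = b * a := by
  ext1
  refine hom_ext_of_forall _ _ fun w => ?_
  obtain ⟨V, hV, hwV, -⟩ := exists_isAffineOpen_mem_and_subset (X := S) (x := X.hom.base w) (U := ⊤) trivial
  let O := X.hom ⁻¹ᵁ V
  refine ⟨O, hwV, ?_⟩
  let A : CommRingCat.{u} := Γ(S, V)
  let ι' : Spec A ⟶ S := hV.fromSpec
  let z : (O : Scheme.{u}) ⟶ Spec A := (X.hom ∣_ V) ≫ hV.isoSpec.hom
  have hz : z ≫ ι' = O.ι ≫ X.hom := by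
    show (_ ≫ hV.isoSpec.hom) ≫ hV.fromSpec = _
    rw [Category.assoc, IsAffineOpen.isoSpec_hom_fromSpec, morphismRestrict_ι]
  obtain ⟨κ, _, T, _, _, hflat, hsurj, hc⟩ := (splitLoc_bc hH ι').exists_charts
  let Y : Over (Spec A) := Over.mk z
  let k : (Over.map ι').obj Y ⟶ X := Over.homMk O.ι hz.symm
  have key : bcUn ι' (k ≫ a) * bcUn ι' (k ≫ b) = bcUn ι' (k ≫ b) * bcUn ι' (k ≫ a) := by
    refine ext_cover T hsurj _ _ fun i X' l z' hz' => ?_
    obtain ⟨M, _, P, -⟩ := hc i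
    rw [MonObj.comp_mul, MonObj.comp_mul]
    let e : (Over.map (specP A (T i))).obj (Over.mk z') ≅ X' := Over.isoMk (Iso.refl _)
      ((Category.id_comp _).trans hz'.symm)
    obtain ⟨s, hs⟩ := P.σ_surjective (e.hom ≫ l ≫ bcUn ι' (k ≫ a))
    obtain ⟨s', hs'⟩ := P.σ_surjective (e.hom ≫ l ≫ bcUn ι' (k ≫ b))
    rw [← cancel_epi e.hom, MonObj.comp_mul, MonObj.comp_mul, ← hs, ← hs', ← P.σ_mul, ← P.σ_mul, mul_comm s]
  rw [← bcUn_mul, ← bcUn_mul] at key
  have h1 := congrArg (bcTr ι') key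
  rw [bcTr_bcUn, bcTr_bcUn, ← MonObj.comp_mul, ← MonObj.comp_mul] at h1
  exact congrArg CommaMorphism.left h1

set_option backward.isDefEq.respectTransparency.types false in
/-- Two homomorphisms between groups of multiplicative type agree over a clopen part of any base change, which
contains every point whose fibre they agree on. -/
theorem agree_clopen {H' : Over S} [GrpObj H'] (hH : SGA3x.IsMultTypeFT H) (hH' : SGA3x.IsMultTypeFT H')
    (t : T ⟶ S) (u v : Red.bc t H ⟶ Red.bc t H') [IsMonHom u] [IsMonHom v] :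
    ∃ U : T.Opens, IsClosed (U : Set T) ∧
      (∀ x, x ∈ U ↔ ∀ (Y : Over T) (g : Y ⟶ Red.bc t H) (z : Y.left ⟶ Spec (T.residueField x)),
        z ≫ T.fromSpecResidueField x = Y.hom → g ≫ u = g ≫ v) ∧
      ∀ (Y : Over T) (g : Y ⟶ Red.bc t H), Set.range Y.hom.base ⊆ U → g ≫ u = g ≫ v := by
  have comm : ∀ (Y : Over T) (a b : Y ⟶ Red.bc t H'), a * b = b * a := fun Y a b => bcTr_injective t (by
    rw [bcTr_mul, bcTr_mul, mul_comm_of_splitFpqc (splitFpqc_of_multTypeFT H' hH')])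
  let w : Red.bc t H ⟶ Red.bc t H' := u * v⁻¹
  have hw : ∀ {Y : Over T} (g : Y ⟶ Red.bc t H), g ≫ w = (g ≫ u) * (g ≫ v)⁻¹ := fun g => by
    rw [MonObj.comp_mul, GrpObj.comp_inv]
  have : IsMonHom w := isMonHom_of_pts w fun Y x y => by
    rw [hw, hw, hw, MonObj.mul_comp, MonObj.mul_comp, _root_.mul_inv_rev]
    calc ((x ≫ u) * (y ≫ u)) * ((y ≫ v)⁻¹ * (x ≫ v)⁻¹) = (x ≫ u) * ((y ≫ u) * (y ≫ v)⁻¹ * (x ≫ v)⁻¹) := by group
      _ = (x ≫ u) * ((x ≫ v)⁻¹ * ((y ≫ u) * (y ≫ v)⁻¹)) := by rw [comm _ ((y ≫ u) * (y ≫ v)⁻¹)]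
      _ = _ := by group
  have hiff : ∀ {Y : Over T} (g : Y ⟶ Red.bc t H), g ≫ w = 1 ↔ g ≫ u = g ≫ v := fun g => by
    rw [hw, mul_inv_eq_one]
  have := multType_locallyOfFiniteType H hH
  have := multType_locallyOfFinitePresentation H' hH'
  have := multType_isAffineHom H' hH'
  have : LocallyOfFiniteType (Red.bc t H).hom := MorphismProperty.pullback_snd (P := @LocallyOfFiniteType) H.hom t inferInstance
  have : LocallyOfFinitePresentation (Red.bc t H').hom :=
    MorphismProperty.pullback_snd (P := @LocallyOfFinitePresentation) H'.hom t inferInstance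
  have : IsAffineHom (Red.bc t H').hom := MorphismProperty.pullback_snd (P := @IsAffineHom) H'.hom t inferInstance
  obtain ⟨S', f, hf, hsurj, hcov, hloc⟩ := hH
  obtain ⟨U, hU, hUiff, hUpts⟩ := trivial_locus_of_cover w (Or.inr inferInstance) (pullback.snd f t)
    (cov_pullback f t hcov) (fun z => by
      obtain ⟨U, hU, M, inst, -, ⟨e⟩⟩ := hloc ((pullback.fst f t).base z)
      have h : (pullback.fst f t ∣_ U) ≫ U.ι ≫ f = ((pullback.fst f t ⁻¹ᵁ U).ι ≫ pullback.snd f t) ≫ t := by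
        rw [← Category.assoc, morphismRestrict_ι, Category.assoc, Category.assoc, pullback.condition]
      exact ⟨_, hU, M, inst, (SplitPts.ofIso _ e).bc t _ _ h, SplitPts.Inj.bc (SplitPts.ofIso_inj e) t _ _ h⟩)
  refine ⟨U, hU, fun x => (hUiff x).trans ⟨fun h Y g z hz => (hiff g).mp (h Y g z hz),
    fun h Y g z hz => (hiff g).mpr (h Y g z hz)⟩, fun Y g hY => (hiff g).mp (hUpts Y g hY)⟩

end Groth.Agent.DiagRig
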