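import Groth.Agent.DiagRig.CharEnd
import Mathlib.RingTheory.Finiteness.Basic
import Mathlib.GroupTheory.FiniteAbelian.Basic
import Mathlib.GroupTheory.QuotientGroup.Finite
import Mathlib.RingTheory.Noetherian.Basic
import Mathlib.RingTheory.PrincipalIdealDomain

/-! Natural multiplicative families of character maps over a field; residual finiteness. -/

universe u

namespace Groth.Agent.DiagRig

noncomputable section

lemma CharEnd.exists_single {L : Type u} [Field L] {N : Type} [CommGroup N] (E : CharEnd L N) (m : N) :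
    ∃ n, E.F (MonoidAlgebra L N) (MonoidAlgebra.of L N) m = MonoidAlgebra.single n 1 := by
  classical
  have hF1 : E.F L (1 : N →* L) = 1 := by
    have h2 := E.map_mul L (1 : N →* L) 1
    rw [one_mul] at h2
    ext x
    have h3 := DFunLike.congr_fun h2 x
    rw [MonoidHom.mul_apply] at h3
    exact (IsUnit.map (E.F L 1) (Group.isUnit x)).mul_eq_left.mp h3.symm
  obtain ⟨n, hn⟩ : ∃ n, E.c m n ≠ 0 := by
    by_contra h
    push Not at h
    have h1 := E.F_apply L (1 : N →* L) m
    have h0 : E.F (MonoidAlgebra L N) (MonoidAlgebra.of L N) m = 0 := by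
      ext x; simpa [CharEnd.c] using h x
    rw [hF1, h0, map_zero] at h1
    exact one_ne_zero h1
  have hn1 : E.c m n = 1 := mul_eq_left₀ hn |>.mp (by simpa using E.c_mul_c m n n)
  refine ⟨n, ?_⟩
  ext x
  show E.c m x = _
  by_cases hx : x = n
  · subst hx; simpa using hn1
  · have h := E.c_mul_c m n x
    rw [hn1, one_mul, if_neg (Ne.symm hx)] at h
    simp [h, Finsupp.single_apply, Ne.symm hx]

/-- A natural multiplicative family of character maps over a field comes from a homomorphism. -/
theorem exists_hom_of_natural {L : Type u} [Field L] {X Y : Type} [CommGroup X] [CommGroup Y]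
    (F : ∀ (T : Type u) [CommRing T] [Algebra L T], (X →* T) → (Y →* T))
    (hmul : ∀ (T : Type u) [CommRing T] [Algebra L T] (s t : X →* T), F T (s * t) = F T s * F T t)
    (hnat : ∀ (T T' : Type u) [CommRing T] [Algebra L T] [CommRing T'] [Algebra L T'] (k : T →ₐ[L] T')
      (t : X →* T), k.toRingHom.toMonoidHom.comp (F T t) = F T' (k.toRingHom.toMonoidHom.comp t)) :
    ∃ θ : Y →* X, ∀ (T : Type u) [CommRing T] [Algebra L T] (t : X →* T), F T t = t.comp θ := by
  let E : CharEnd L (X × Y) :=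
    { F := fun T _ _ t => (F T (t.comp (MonoidHom.inl X Y))).comp (MonoidHom.snd X Y)
      map_mul := fun T _ _ s t => by rw [MonoidHom.mul_comp, hmul, MonoidHom.mul_comp]
      natural := fun T T' _ _ _ _ k t => by rw [← MonoidHom.comp_assoc, hnat, MonoidHom.comp_assoc] }
  choose n hn using fun y : Y => E.exists_single (1, y)
  have key : ∀ (T : Type u) [CommRing T] [Algebra L T] (t : X →* T) (y : Y), F T t y = t (n y).1 := by
    intro T _ _ t y
    have h := E.F_apply T (t.comp (MonoidHom.fst X Y)) (1, y)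
    rw [hn] at h
    have h1 : (t.comp (MonoidHom.fst X Y)).comp (MonoidHom.inl X Y) = t := by ext; rfl
    simp only [E, h1] at h
    simpa using h
  have inj : ∀ a b : X, MonoidAlgebra.of L X a = MonoidAlgebra.of L X b → a = b := fun a b h =>
    MonoidAlgebra.single_left_injective one_ne_zero h
  refine ⟨{ toFun := fun y => (n y).1, map_one' := ?_, map_mul' := fun a b => ?_ },
    fun T _ _ t => MonoidHom.ext fun y => key T t y⟩
  · apply inj
    rw [← key, map_one, map_one]
  · apply inj
    rw [← key, map_mul, map_mul, key, key]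

/-- A finitely generated abelian group is residually finite. -/
theorem exists_not_mem_pow_range {M : Type} [AddCommGroup M] (hfg : AddGroup.FG M) (m : M) (hm : m ≠ 0) :
    ∃ n : ℕ, n ≠ 0 ∧ ∀ x : M, n • x ≠ m := by
  have : Module.Finite ℤ M := Module.Finite.iff_addGroup_fg.mpr hfg
  obtain ⟨N, hN, hmax⟩ := set_has_maximal_iff_noetherian.mpr (inferInstance : IsNoetherian ℤ M)
    {N : Submodule ℤ M | m ∉ N} ⟨⊥, by simpa using hm⟩
  have key : ∀ x : M, x ∉ N → ∃ k : ℤ, k • x - m ∈ N := by
    intro x hx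
    have h1 : m ∈ N ⊔ Submodule.span ℤ {x} := by
      by_contra h
      exact hmax _ h (left_lt_sup.mpr fun h2 => hx (h2 (Submodule.mem_span_singleton_self x)))
    obtain ⟨a, ha, b, hb, hab⟩ := Submodule.mem_sup.mp h1
    obtain ⟨k, rfl⟩ := Submodule.mem_span_singleton.mp hb
    refine ⟨k, ?_⟩
    rw [← hab, sub_add_cancel_right]
    exact neg_mem ha
  obtain ⟨d, hd, hdm⟩ : ∃ d : ℤ, d ≠ 0 ∧ d • m ∈ N := by
    by_cases h2 : (2 : ℤ) • m ∈ N
    · exact ⟨2, two_ne_zero, h2⟩
    · obtain ⟨k, hk⟩ := key _ h2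
      refine ⟨2 * k - 1, by omega, ?_⟩
      rwa [sub_smul, one_smul, mul_comm, mul_smul]
  have htor : ∀ x : M, ∃ c : ℤ, c ≠ 0 ∧ c • x ∈ N := by
    intro x
    by_cases hx : x ∈ N
    · exact ⟨1, one_ne_zero, by rwa [one_smul]⟩
    · obtain ⟨k, hk⟩ := key x hx
      refine ⟨d * k, mul_ne_zero hd (fun h => ?_), ?_⟩
      · rw [h, zero_smul, zero_sub] at hk
        exact hN (by simpa using neg_mem hk)
      · have := add_mem (N.smul_mem d hk) hdm
        rwa [smul_sub, sub_add_cancel, ← mul_smul] at this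
  have hQ : ∀ q : M ⧸ N, IsOfFinAddOrder q := fun q => by
    obtain ⟨x, rfl⟩ := N.mkQ_surjective q
    obtain ⟨c, hc, hcx⟩ := htor x
    refine isOfFinAddOrder_iff_nsmul_eq_zero.mpr ⟨c.natAbs, Int.natAbs_pos.mpr hc, ?_⟩
    have h0 : c • N.mkQ x = 0 := by rw [← map_zsmul]; exact (Submodule.Quotient.mk_eq_zero N).mpr hcx
    rcases Int.natAbs_eq c with h | h <;> rw [h] at h0 <;> simpa using h0
  have : AddGroup.FG (M ⧸ N) := AddGroup.fg_of_surjective (f := N.mkQ.toAddMonoidHom) N.mkQ_surjective
  have : Finite (M ⧸ N) := AddCommGroup.finite_of_fg_torsion _ hQ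
  refine ⟨Nat.card (M ⧸ N), Nat.card_pos.ne', fun x hx => hN ?_⟩
  rw [← hx, ← Submodule.Quotient.mk_eq_zero]
  exact (Submodule.Quotient.mk_smul N _ x).trans card_nsmul_eq_zero'

end

end Groth.Agent.DiagRig
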