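import Mathlib.Algebra.MonoidAlgebra.Basic
import Mathlib.RingTheory.FiniteType
import Mathlib.RingTheory.Nakayama
import Mathlib.RingTheory.Localization.AtPrime.Basic
import Mathlib.RingTheory.Ideal.Quotient.Operations
import Mathlib.RingTheory.Nilpotent.Basic

/-! An action of a diagonalisable group which is trivial on a fibre is trivial on the local rings of the fibre. -/

universe u

noncomputable section

namespace Groth.Agent.DiagRig

variable {R : Type u} [CommRing R]

/-- A natural additive function of a character map vanishes. -/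
lemma natural_additive_zero {N : Type} [CommMonoid N]
    (F : ∀ (T : Type u) [CommRing T] [Algebra R T], (N →* T) → T)
    (hnat : ∀ (T T' : Type u) [CommRing T] [Algebra R T] [CommRing T'] [Algebra R T'] (k : T →ₐ[R] T') (t : N →* T),
      k (F T t) = F T' (k.toRingHom.toMonoidHom.comp t))
    (hadd : ∀ (T : Type u) [CommRing T] [Algebra R T] (s t : N →* T), F T (s * t) = F T s + F T t)
    (T : Type u) [CommRing T] [Algebra R T] (t : N →* T) : F T t = 0 := by
  classical
  let a := F (MonoidAlgebra R N) (MonoidAlgebra.of R N)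
  have key : ∀ (T : Type u) [CommRing T] [Algebra R T] (t : N →* T),
      F T t = MonoidAlgebra.lift R T N t a := fun T _ _ t => by
    refine Eq.trans ?_ (hnat _ T (MonoidAlgebra.lift R T N t) (MonoidAlgebra.of R N)).symm
    congr 1
    ext n
    simp
  suffices ha : a = 0 by rw [key, ha, map_zero]
  let I := (MonoidAlgebra.of R (N × N)).comp (MonoidHom.inl N N)
  let J := (MonoidAlgebra.of R (N × N)).comp (MonoidHom.inr N N)
  let D : N →* N × N := (MonoidHom.id N).prod (MonoidHom.id N)
  have hIJ : I * J = (MonoidAlgebra.of R (N × N)).comp D := by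
    ext n
    simp [I, J, D, MonoidAlgebra.single_mul_single]
  have h := hadd _ I J
  rw [hIJ, key _ ((MonoidAlgebra.of R (N × N)).comp D), key _ I, key _ J] at h
  have hl : ∀ (ψ : N →* N × N), MonoidAlgebra.lift R (MonoidAlgebra R (N × N)) N
      ((MonoidAlgebra.of R (N × N)).comp ψ) = MonoidAlgebra.mapDomainAlgHom R R ψ := fun ψ => by
    apply MonoidAlgebra.algHom_ext
    · intro n; simp
    · exact Subsingleton.elim _ _
  simp only [I, J, hl] at h
  ext n
  have h2 := congrArg (fun z : MonoidAlgebra R (N × N) => z.coeff (n, n)) h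
  simp at h2
  rw [show (⇑D : N → N × N) = fun m => (m, m) from rfl,
    show (⇑(MonoidHom.inl N N) : N → N × N) = fun m => (m, (1 : N)) from rfl,
    show (⇑(MonoidHom.inr N N) : N → N × N) = fun m => ((1 : N), m) from rfl] at h2
  have e1 : Function.Injective (fun m : N => (m, m)) := fun a b e => congrArg Prod.fst e
  have e2 : Function.Injective (fun m : N => (m, (1 : N))) := fun a b e => congrArg Prod.fst e
  have e3 : Function.Injective (fun m : N => ((1 : N), m)) := fun a b e => congrArg Prod.snd e
  by_cases hn : n = 1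
  · subst hn
    rw [Finsupp.mapDomain_apply e1 _ 1, Finsupp.mapDomain_apply e2 _ 1, Finsupp.mapDomain_apply e3 _ 1] at h2
    simpa using h2
  · rw [Finsupp.mapDomain_apply e1 _ n,
      Finsupp.mapDomain_of_notMem_range _ _ (fun ⟨m, hm⟩ => hn (congrArg Prod.snd hm).symm),
      Finsupp.mapDomain_of_notMem_range _ _ (fun ⟨m, hm⟩ => hn (congrArg Prod.fst hm).symm), add_zero] at h2
    simpa using h2

variable {B K : Type u} [CommRing B] [CommRing K] [Algebra R B] [Algebra R K] [Algebra B K] [IsScalarTower R B K]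
  {N : Type} [CommGroup N] (u : B →ₐ[R] MonoidAlgebra K N)

/-- The point moved by a character map, given by the universal moved point. -/
def mv {T : Type u} [CommRing T] [Algebra R T] (x : K →ₐ[R] T) (t : N →* T) : B →ₐ[R] T :=
  (MonoidAlgebra.liftNCAlgHom x t fun _ _ => Commute.all _ _).comp u

lemma comp_mv {T T' : Type u} [CommRing T] [Algebra R T] [CommRing T'] [Algebra R T'] (k : T →ₐ[R] T')
    (x : K →ₐ[R] T) (t : N →* T) : k.comp (mv u x t) = mv u (k.comp x) (k.toRingHom.toMonoidHom.comp t) := by
  rw [mv, mv, ← AlgHom.comp_assoc]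
  congr 1
  apply MonoidAlgebra.algHom_ext
  · intro n; simp
  · ext b; simp

/-- The deviation of the universal moved point from the universal point. -/
def dEl (b : B) : MonoidAlgebra K N := u b - MonoidAlgebra.single 1 (algebraMap B K b)

lemma mv_sub {T : Type u} [CommRing T] [Algebra R T] (x : K →ₐ[R] T) (t : N →* T) (b : B) :
    mv u x t b - x (algebraMap B K b) = MonoidAlgebra.liftNCAlgHom x t (fun _ _ => Commute.all _ _) (dEl u b) := by
  rw [dEl, map_sub]
  simp [mv]

lemma liftNC_eq_sum {T : Type u} [CommRing T] [Algebra R T] (x : K →ₐ[R] T) (t : N →* T) (z : MonoidAlgebra K N) :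
    MonoidAlgebra.liftNCAlgHom x t (fun _ _ => Commute.all _ _) z = z.coeff.sum fun n c => x c * t n := by
  conv_lhs => rw [← MonoidAlgebra.sum_coeff_single z]
  rw [map_finsuppSum]
  simp

lemma liftNC_of_eq_map (T : Type u) [CommRing T] [Algebra R T] (x : K →ₐ[R] T) (z : MonoidAlgebra K N) :
    MonoidAlgebra.liftNCAlgHom (MonoidAlgebra.singleOneAlgHom.comp x : K →ₐ[R] MonoidAlgebra T N)
      (MonoidAlgebra.of T N) (fun _ _ => Commute.all _ _) z = MonoidAlgebra.mapAlgHom (M := N) x z := by
  induction z using MonoidAlgebra.induction_linear with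
  | zero => simp
  | add a b ha hb => rw [map_add, map_add, ha, hb]
  | single n c => simp [MonoidAlgebra.single_mul_single]

/-- Additivity of the first order deviation. -/
lemma dev_additive (P : Ideal B) [P.IsPrime] [IsLocalization.AtPrime K P]
    (hassoc : ∀ (T : Type u) [CommRing T] [Algebra R T] (s t : N →* T) (x x' : K →ₐ[R] T),
      x'.comp (IsScalarTower.toAlgHom R B K) = mv u x t → mv u x (s * t) = mv u x' s)
    (q : Ideal R) (I : Ideal K) (hID : ∀ n b, (dEl u b).coeff n ∈ I) (hIq : I ≤ q.map (algebraMap R K))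
    (T : Type u) [CommRing T] [Algebra R T] (xe : K →ₐ[R] T)
    (hqI : ∀ z ∈ q.map (algebraMap R K), ∀ w ∈ I.map xe.toRingHom, xe z * w = 0) (s t : N →* T) (b : B) :
    mv u xe (s * t) b - xe (algebraMap B K b) =
      (mv u xe s b - xe (algebraMap B K b)) + (mv u xe t b - xe (algebraMap B K b)) := by
  let J := I.map xe.toRingHom
  have hmem : ∀ c : B, mv u xe t c - xe (algebraMap B K c) ∈ J := by
    intro c
    rw [mv_sub, liftNC_eq_sum]
    exact sum_mem fun n _ => Ideal.mul_mem_right _ _ (Ideal.mem_map_of_mem xe.toRingHom (hID n c))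
  let y := mv u xe t
  have hJJ : ∀ v ∈ J, ∀ w ∈ J, v * w = 0 := by
    intro v hv w hw
    induction hv using Submodule.span_induction with
    | mem v hv =>
      obtain ⟨z, hz, rfl⟩ := hv
      exact hqI z (hIq hz) _ hw
    | zero => simp
    | add a b _ _ ha hb => rw [add_mul, ha, hb, add_zero]
    | smul a b _ hb => rw [smul_eq_mul, mul_assoc, hb, mul_zero]
  have hy : ∀ c : P.primeCompl, IsUnit (y c) := by
    intro c
    rw [← add_sub_cancel (xe (algebraMap B K c)) (y c)]
    refine IsNilpotent.isUnit_add_left_of_commute ⟨2, ?_⟩ ((IsLocalization.map_units K c).map xe) (Commute.all _ _)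
    rw [pow_two]
    exact hJJ _ (hmem c) _ (hmem c)
  let x' : K →ₐ[R] T :=
    { IsLocalization.lift (M := P.primeCompl) (S := K) (g := y.toRingHom) hy with
      commutes' := fun r => by
        show IsLocalization.lift hy (algebraMap R K r) = _
        rw [IsScalarTower.algebraMap_apply R B K, IsLocalization.lift_eq]
        exact y.commutes r }
  have hx' : ∀ c, x' (algebraMap B K c) = y c := fun c => IsLocalization.lift_eq hy c
  have hxJ : ∀ c : K, x' c - xe c ∈ J := by
    have : (Ideal.Quotient.mk J).comp x'.toRingHom = (Ideal.Quotient.mk J).comp xe.toRingHom := by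
      refine IsLocalization.ringHom_ext P.primeCompl (RingHom.ext fun c => ?_)
      show Ideal.Quotient.mk J (x' (algebraMap B K c)) = Ideal.Quotient.mk J (xe (algebraMap B K c))
      rw [Ideal.Quotient.mk_eq_mk_iff_sub_mem, hx']
      exact hmem c
    exact fun c => (Ideal.Quotient.mk_eq_mk_iff_sub_mem _ _).mp (DFunLike.congr_fun this c)
  have hker : ∀ z ∈ q.map (algebraMap R K), x' z = xe z := by
    intro z hz
    induction hz using Submodule.span_induction with
    | mem v hv =>
      obtain ⟨r, -, rfl⟩ := hv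
      rw [x'.commutes, xe.commutes]
    | zero => simp
    | add v w _ _ hv hw => rw [map_add, map_add, hv, hw]
    | smul v w hw' hw =>
      rw [smul_eq_mul, map_mul, map_mul, hw, ← sub_eq_zero, ← sub_mul, mul_comm]
      exact hqI w hw' _ (hxJ v)
  have hs : mv u x' s b - x' (algebraMap B K b) = mv u xe s b - xe (algebraMap B K b) := by
    rw [mv_sub, mv_sub, liftNC_eq_sum, liftNC_eq_sum]
    exact Finsupp.sum_congr fun n _ => congrArg (· * s n) (hker _ (hIq (hID n b)))
  rw [hassoc T s t xe x' (AlgHom.ext hx'), ← hs, show mv u xe t b = x' (algebraMap B K b) from (hx' b).symm]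
  ring

/-- The germ of a fibrewise trivial action is trivial. -/
theorem mv_trivial [Algebra.FiniteType R B] (P : Ideal B) [P.IsPrime] [IsLocalization.AtPrime K P]
    (hassoc : ∀ (T : Type u) [CommRing T] [Algebra R T] (s t : N →* T) (x x' : K →ₐ[R] T),
      x'.comp (IsScalarTower.toAlgHom R B K) = mv u x t → mv u x (s * t) = mv u x' s)
    (hfib : ∀ (T : Type u) [CommRing T] [Algebra R T], (∀ r ∈ P.comap (algebraMap R B), algebraMap R T r = 0) →
      ∀ (x : K →ₐ[R] T) (t : N →* T), mv u x t = x.comp (IsScalarTower.toAlgHom R B K))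
    (T : Type u) [CommRing T] [Algebra R T] (x : K →ₐ[R] T) (t : N →* T) :
    mv u x t = x.comp (IsScalarTower.toAlgHom R B K) := by
  classical
  let gen : B → Finset K := fun b => (dEl u b).coeff.support.image fun n => (dEl u b).coeff n
  obtain ⟨sB, hsB⟩ := (inferInstance : Algebra.FiniteType R B).out
  let I : Ideal K := Ideal.span (sB.biUnion gen : Set K)
  have hd : ∀ b : B, dEl u b = u b - (MonoidAlgebra.singleOneAlgHom : K →ₐ[R] MonoidAlgebra K N) (IsScalarTower.toAlgHom R B K b) := fun b => rfl
  have hID : ∀ n b, (dEl u b).coeff n ∈ I := by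
    have h1 : (MonoidAlgebra.mapAlgHom (M := N) (Ideal.Quotient.mkₐ R I)).comp u =
        (MonoidAlgebra.mapAlgHom (M := N) (Ideal.Quotient.mkₐ R I)).comp
          (MonoidAlgebra.singleOneAlgHom.comp (IsScalarTower.toAlgHom R B K)) := by
      refine AlgHom.ext_of_adjoin_eq_top hsB fun b hb => ?_
      simp only [AlgHom.comp_apply]
      rw [← sub_eq_zero, ← map_sub, ← hd]
      ext n
      show Ideal.Quotient.mkₐ R I ((dEl u b).coeff n) = 0
      rw [Ideal.Quotient.mkₐ_eq_mk, Ideal.Quotient.eq_zero_iff_mem]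
      by_cases hn : n ∈ (dEl u b).coeff.support
      · exact Ideal.subset_span (Finset.mem_biUnion.mpr ⟨b, hb, Finset.mem_image_of_mem _ hn⟩)
      · rw [Finsupp.notMem_support_iff] at hn
        rw [hn]; exact zero_mem I
    intro n b
    have h2 := DFunLike.congr_fun h1 b
    simp only [AlgHom.comp_apply] at h2
    rw [← sub_eq_zero, ← map_sub, ← hd] at h2
    exact Ideal.Quotient.eq_zero_iff_mem.mp (congrArg (fun z : MonoidAlgebra (K ⧸ I) N => z.coeff n) h2)
  let q := P.comap (algebraMap R B)
  let qK : Ideal K := q.map (algebraMap R K)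
  have hIq : I ≤ qK := by
    rw [Ideal.span_le]
    intro z hz
    obtain ⟨b, -, hb⟩ := Finset.mem_biUnion.mp hz
    obtain ⟨n, -, rfl⟩ := Finset.mem_image.mp hb
    let x₀ : K →ₐ[R] MonoidAlgebra (K ⧸ qK) N := MonoidAlgebra.singleOneAlgHom.comp (Ideal.Quotient.mkₐ R qK)
    have h := hfib (MonoidAlgebra (K ⧸ qK) N) (fun r hr => by
      rw [← x₀.commutes r]
      show MonoidAlgebra.single 1 (Ideal.Quotient.mk qK (algebraMap R K r)) = 0
      rw [Ideal.Quotient.eq_zero_iff_mem.mpr (Ideal.mem_map_of_mem _ hr), MonoidAlgebra.single_zero])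
      x₀ (MonoidAlgebra.of _ N)
    have h2 := mv_sub u x₀ (MonoidAlgebra.of _ N) b
    rw [h, liftNC_of_eq_map] at h2
    simp only [AlgHom.comp_apply, IsScalarTower.toAlgHom_apply, sub_self] at h2
    exact Ideal.Quotient.eq_zero_iff_mem.mp (congrArg (fun w : MonoidAlgebra (K ⧸ qK) N => w.coeff n) h2.symm)
  have hI0 : I = ⊥ := by
    have : IsLocalRing K := IsLocalization.AtPrime.isLocalRing K P
    refine Submodule.eq_bot_of_le_smul_of_le_jacobson_bot qK I (Submodule.fg_span (Finset.finite_toSet _)) ?_ ?_
    swap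
    · rw [IsLocalRing.jacobson_eq_maximalIdeal ⊥ bot_ne_top, Ideal.map_le_iff_le_comap]
      intro r hr
      show algebraMap R K r ∈ IsLocalRing.maximalIdeal K
      rw [IsScalarTower.algebraMap_apply R B K]
      exact (IsLocalization.AtPrime.to_map_mem_maximal_iff K P _).mpr hr
    show I ≤ qK * I
    rw [Ideal.span_le]
    intro z hz
    obtain ⟨b, -, hb⟩ := Finset.mem_biUnion.mp hz
    obtain ⟨n, -, rfl⟩ := Finset.mem_image.mp hb
    let T₁ := K ⧸ (qK * I)
    let x₁ : K →ₐ[R] T₁ := Ideal.Quotient.mkₐ R _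
    let ex : ∀ (T' : Type u) [CommRing T'] [Algebra T₁ T'],
        @AlgHom R K T' _ _ _ _ ((algebraMap T₁ T').comp (algebraMap R T₁)).toAlgebra := fun T' _ _ =>
      letI : Algebra R T' := ((algebraMap T₁ T').comp (algebraMap R T₁)).toAlgebra
      haveI : IsScalarTower R T₁ T' := IsScalarTower.of_algebraMap_eq fun _ => rfl
      (IsScalarTower.toAlgHom R T₁ T').comp x₁
    let F : ∀ (T' : Type u) [CommRing T'] [Algebra T₁ T'], (N →* T') → T' := fun T' _ _ t =>
      letI : Algebra R T' := ((algebraMap T₁ T').comp (algebraMap R T₁)).toAlgebra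
      mv u (ex T') t b - ex T' (algebraMap B K b)
    have hF := natural_additive_zero F (fun T' T'' _ _ _ _ k t => by
        let _ : Algebra R T' := ((algebraMap T₁ T').comp (algebraMap R T₁)).toAlgebra
        have : IsScalarTower R T₁ T' := IsScalarTower.of_algebraMap_eq fun _ => rfl
        let _ : Algebra R T'' := ((algebraMap T₁ T'').comp (algebraMap R T₁)).toAlgebra
        have : IsScalarTower R T₁ T'' := IsScalarTower.of_algebraMap_eq fun _ => rfl
        let kR : T' →ₐ[R] T'' := k.restrictScalars R
        have hk : kR.comp (ex T') = ex T'' := AlgHom.ext fun c => k.commutes (x₁ c)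
        show k (mv u (ex T') t b - _) = mv u (ex T'') (k.toRingHom.toMonoidHom.comp t) b - _
        rw [map_sub, ← hk]
        exact congrArg₂ (· - ·) (DFunLike.congr_fun (comp_mv u kR (ex T') t) b) rfl)
      (fun T' _ _ s t => by
        let _ : Algebra R T' := ((algebraMap T₁ T').comp (algebraMap R T₁)).toAlgebra
        refine dev_additive u P hassoc q I hID hIq T' (ex T') (fun z hz w hw => ?_) s t b
        have h1 : (ex T') z * w ∈ (qK * I).map (ex T').toRingHom := by
          rw [Ideal.map_mul]; exact Ideal.mul_mem_mul (Ideal.mem_map_of_mem (ex T').toRingHom hz) hw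
        have h0 : (qK * I).map (ex T').toRingHom = ⊥ := by
          rw [Ideal.map_eq_bot_iff_le_ker]
          intro v hv
          rw [RingHom.mem_ker]
          show algebraMap T₁ T' (Ideal.Quotient.mk _ v) = 0
          rw [Ideal.Quotient.eq_zero_iff_mem.mpr hv, map_zero]
        rwa [h0, Ideal.mem_bot] at h1)
      (MonoidAlgebra T₁ N) (MonoidAlgebra.of T₁ N)
    let _ : Algebra R (MonoidAlgebra T₁ N) :=
      ((algebraMap T₁ (MonoidAlgebra T₁ N)).comp (algebraMap R T₁)).toAlgebra
    change mv u (ex (MonoidAlgebra T₁ N)) (MonoidAlgebra.of T₁ N) b - ex (MonoidAlgebra T₁ N) _ = 0 at hF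
    rw [mv_sub, liftNC_eq_sum] at hF
    have h3 := congrArg (fun w : MonoidAlgebra T₁ N => w.coeff n) hF
    have hex : ∀ c, ex (MonoidAlgebra T₁ N) c = MonoidAlgebra.single 1 (Ideal.Quotient.mk _ c) := fun c => rfl
    simp [hex, MonoidAlgebra.single_mul_single, Finsupp.sum, Finsupp.single_apply] at h3
    by_cases hz0 : (dEl u b).coeff n = 0
    · rw [hz0]; exact zero_mem _
    · exact Ideal.Quotient.eq_zero_iff_mem.mp (h3 hz0)
  ext b
  rw [AlgHom.comp_apply, ← sub_eq_zero]
  refine (mv_sub u x t b).trans ?_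
  have : dEl u b = 0 := by
    ext n
    have h := hID n b
    rw [hI0, Ideal.mem_bot] at h
    exact h
  rw [this, map_zero]

end Groth.Agent.DiagRig
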