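import Groth.Agent.DiagRig.KernelTorsion
import Mathlib.GroupTheory.Torsion
import Mathlib.Algebra.Module.Projective

/-! Characters of finite order separate the points of a subgroup of `Lˣ`. -/

universe u

namespace Groth.Agent.DiagRig

variable {L : Type u} [Field L] [IsAlgClosed L] (Q : Subgroup Lˣ) [Module.Finite ℤ (Additive Q)]

lemma exists_char_ne_one (q : Q) (hq : q ≠ 1) : ∃ χ : Q →* Lˣ, IsOfFinOrder χ ∧ χ q ≠ 1 := by
  let T := Submodule.torsion ℤ (Additive Q)
  let b := Module.Free.chooseBasis ℤ (Additive Q ⧸ T)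
  by_cases hqT : T.mkQ (Additive.ofMul q) = 0
  · -- a retraction to the torsion
    obtain ⟨sec, hsec⟩ := Module.projective_lifting_property T.mkQ LinearMap.id T.mkQ_surjective
    let r : Additive Q →ₗ[ℤ] Additive Q := LinearMap.id - sec.comp T.mkQ
    have hr : ∀ x, r x ∈ T := fun x => by
      rw [← Submodule.Quotient.mk_eq_zero]
      show T.mkQ (x - sec (T.mkQ x)) = 0
      rw [map_sub, show T.mkQ (sec (T.mkQ x)) = T.mkQ x from DFunLike.congr_fun hsec _, sub_self]
    let χ : Q →* Lˣ := Q.subtype.comp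
      (MonoidHom.mk' (fun x => (r (Additive.ofMul x)).toMul) (fun x y => by simp))
    have hval : ∀ x, χ x = ((r (Additive.ofMul x)).toMul : Q) := fun x => rfl
    refine ⟨χ, ?_, ?_⟩
    · classical
      have : Module.Finite ℤ T := inferInstance
      obtain ⟨a, ha⟩ : ∃ a : ℕ, 0 < a ∧ ∀ y ∈ T, a • y = 0 := by
        obtain ⟨s, hs⟩ := (inferInstance : Module.Finite ℤ T).fg_top
        have hfin : ∀ y : T, ∃ n : ℕ, 0 < n ∧ n • y = 0 := by
          rintro ⟨y, c, hc⟩
          refine ⟨(c : ℤ).natAbs, Int.natAbs_pos.mpr (nonZeroDivisors.ne_zero c.2), Subtype.ext ?_⟩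
          rcases Int.natAbs_eq (c : ℤ) with h | h
          · rw [Submonoid.smul_def, h, natCast_zsmul] at hc; exact hc
          · rw [Submonoid.smul_def, h, neg_smul, natCast_zsmul, neg_eq_zero] at hc; exact hc
        choose n hn hn' using hfin
        refine ⟨∏ y ∈ s, n y, Finset.prod_pos fun y _ => hn y, fun y hy => ?_⟩
        have : (∏ y ∈ s, n y) • (⟨y, hy⟩ : T) = 0 := by
          have hmem : (⟨y, hy⟩ : T) ∈ Submodule.span ℤ (s : Set T) := hs ▸ Submodule.mem_top
          generalize (⟨y, hy⟩ : T) = z at hmem ⊢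
          induction hmem using Submodule.span_induction with
          | mem z hz =>
            obtain ⟨c, hc⟩ := Finset.dvd_prod_of_mem n hz
            rw [hc, mul_comm, mul_nsmul', hn' z, nsmul_zero]
          | zero => simp
          | add a b _ _ ha hb => rw [nsmul_add, ha, hb, add_zero]
          | smul c a _ ha => rw [smul_comm, ha, smul_zero]
        exact congrArg Subtype.val this
      refine isOfFinOrder_iff_pow_eq_one.mpr ⟨a, ha.1, MonoidHom.ext fun x => ?_⟩
      rw [MonoidHom.pow_apply, hval, MonoidHom.one_apply, ← SubmonoidClass.coe_pow, ← toMul_nsmul, ha.2 _ (hr _)]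
      rfl
    · rw [hval]
      have : r (Additive.ofMul q) = Additive.ofMul q := by
        show Additive.ofMul q - sec (T.mkQ (Additive.ofMul q)) = _
        rw [hqT, map_zero, sub_zero]
      rw [this]
      intro e
      exact hq (Subtype.ext e)
  · obtain ⟨i, hi⟩ : ∃ i, b.repr (T.mkQ (Additive.ofMul q)) i ≠ 0 := by
      by_contra hall
      simp only [not_exists, not_not] at hall
      exact hqT (b.repr.map_eq_zero_iff.mp (Finsupp.ext hall))
    let a := b.repr (T.mkQ (Additive.ofMul q)) i
    obtain ⟨ℓ, hℓ, hprime⟩ := Nat.exists_infinite_primes (max a.natAbs (ringChar L) + 1)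
    have hℓL : (ℓ : L) ≠ 0 := fun h => by
      have h1 := (ringChar.spec L ℓ).mp h
      rcases (Nat.dvd_prime hprime).mp h1 with h2 | h2
      · exact CharP.ringChar_ne_one h2
      · omega
    have : NeZero (ℓ : L) := ⟨hℓL⟩
    have : NeZero ℓ := ⟨hprime.ne_zero⟩
    obtain ⟨ζ, hζ⟩ := HasEnoughRootsOfUnity.exists_primitiveRoot L ℓ
    let z : Lˣ := (hζ.isUnit hprime.ne_zero).unit
    let χ : Q →* Lˣ := (zpowersHom Lˣ z).comp
      (AddMonoidHom.toMultiplicativeRight (((Finsupp.applyAddHom i).comp b.repr.toLinearMap.toAddMonoidHom).comp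
        T.mkQ.toAddMonoidHom))
    have hval : ∀ x : Q, χ x = z ^ (b.repr (T.mkQ (Additive.ofMul x)) i) := fun x => rfl
    have hz : z ^ ℓ = 1 := Units.ext (by simpa [z] using hζ.pow_eq_one)
    refine ⟨χ, isOfFinOrder_iff_pow_eq_one.mpr ⟨ℓ, hprime.pos, MonoidHom.ext fun x => ?_⟩, fun e => ?_⟩
    · rw [MonoidHom.pow_apply, hval, MonoidHom.one_apply, ← zpow_natCast, ← zpow_mul, mul_comm, zpow_mul,
        zpow_natCast, hz, one_zpow]
    · rw [hval] at e
      have h1 : (ℓ : ℤ) ∣ a := (hζ.zpow_eq_one_iff_dvd a).mp (by simpa [z, a] using congrArg Units.val e)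
      have h2 := Int.natCast_dvd.mp h1
      exact absurd (Nat.le_of_dvd (Int.natAbs_pos.mpr hi) h2) (by omega)

/-- Evaluation at the characters of finite order is injective on `L[Q]`. -/
lemma eval_torsion_injective (x : MonoidAlgebra L Q)
    (h : ∀ χ : Q →* Lˣ, IsOfFinOrder χ → MonoidAlgebra.lift L L Q ((Units.coeHom L).comp χ) x = 0) : x = 0 := by
  classical
  let G := CommMonoid.torsion (Q →* Lˣ)
  let ev : Q → (G →* L) := fun q =>
    { toFun := fun g => (((g : Q →* Lˣ) q : Lˣ) : L)
      map_one' := by simp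
      map_mul' := fun g g' => by simp }
  have hev : Function.Injective ev := by
    intro a b e
    by_contra hab
    obtain ⟨χ, hχ, hne⟩ := exists_char_ne_one Q (a * b⁻¹) (fun h1 => hab (mul_inv_eq_one.mp h1))
    apply hne
    rw [map_mul, map_inv, mul_inv_eq_one]
    exact Units.ext (DFunLike.congr_fun e ⟨χ, hχ⟩)
  have li : LinearIndependent L (fun q : Q => ((ev q : G →* L) : G → L)) :=
    (linearIndependent_monoidHom G L).comp ev hev
  have h0 : Finsupp.linearCombination L (fun q : Q => ((ev q : G →* L) : G → L)) x.coeff = 0 := by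
    funext g
    rw [Pi.zero_apply, ← h g.1 g.2, Finsupp.linearCombination_apply, Finsupp.sum, Finset.sum_apply,
      MonoidAlgebra.lift_apply, Finsupp.sum]
    refine Finset.sum_congr rfl fun q _ => ?_
    simp [ev]
  exact MonoidAlgebra.coeff_injective ((linearIndependent_iff.mp li _ h0).trans MonoidAlgebra.coeff_zero.symm)

end Groth.Agent.DiagRig
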