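import Groth.Agent.DiagRig.Inj
import Groth.Agent.DiagRig.LocCore
import Groth.Agent.DiagRig.LocTorsion
import Mathlib.AlgebraicGeometry.Morphisms.Separated
import Mathlib.GroupTheory.FiniteAbelian.Basic
import Mathlib.RingTheory.Finiteness.Basic
import Mathlib.LinearAlgebra.Finsupp.VectorSpace

/-! An action of a split diagonalisable group trivial on a fibre is trivial on the local rings of the fibre. -/

universe u

open CategoryTheory MonoidalCategory CartesianMonoidalCategory MonObj GrpObj AlgebraicGeometry Limits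
open Groth.Agent.GrpScheme.Basic

noncomputable section

namespace Groth.Agent.DiagRig

variable {S : Scheme.{u}} {H X : Over S} [GrpObj H] (a : AlgGrp.Action H X)

/-- The action is trivial on the fibre at `s`. -/
def FibreTriv (s : S) : Prop :=
  ∀ (Y : Over S) (g : Y ⟶ H) (y : Y ⟶ X) (z : Y.left ⟶ Spec (S.residueField s)),
    z ≫ S.fromSpecResidueField s = Y.hom → smul a g y = y

/-- The action is trivial on the local scheme at `x`. -/
def TrivAt (x : X.left) : Prop :=
  ∀ (Y : Over S) (g : Y ⟶ H) (y : Y ⟶ X) (z : Y.left ⟶ Spec (X.left.presheaf.stalk x)),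
    z ≫ X.left.fromSpecStalk x = y.left → smul a g y = y

/-- Morphisms from an affine scheme to a separated one agreeing along a jointly injective family are equal. -/
lemma hom_ext_of_jointly_injective {Z W : Scheme.{u}} (q : Z ⟶ W) [IsSeparated q] {A : Type u} [CommRing A]
    (f g : Spec (CommRingCat.of A) ⟶ Z) (hfg : f ≫ q = g ≫ q) {J : Type*} (B : J → Type u)
    [∀ j, CommRing (B j)] (ψ : ∀ j, A →+* B j) (hinj : ∀ x, (∀ j, ψ j x = 0) → x = 0)
    (h : ∀ j, Spec.map (CommRingCat.ofHom (ψ j)) ≫ f = Spec.map (CommRingCat.ofHom (ψ j)) ≫ g) : f = g := by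
  let Y : Over W := Over.mk (f ≫ q)
  have : IsSeparated (Over.mk q).hom := ‹IsSeparated q›
  let a' : Y ⟶ Over.mk q := Over.homMk f
  let b' : Y ⟶ Over.mk q := Over.homMk g hfg.symm
  have : IsAffine Y.left := isAffine_Spec _
  have hinj' : Function.Injective (equalizer.ι a' b').left.appTop := by
    rw [injective_iff_map_eq_zero]
    intro x hx
    let e := Scheme.ΓSpecIso (CommRingCat.of A)
    suffices e.hom x = 0 from (ConcreteCategory.bijective_of_isIso e.hom).1 (this.trans (map_zero _).symm)
    refine hinj _ fun j => ?_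
    let Yj : Over W := Over.mk (Spec.map (CommRingCat.ofHom (ψ j)) ≫ f ≫ q)
    let y : Yj ⟶ Y := Over.homMk (Spec.map (CommRingCat.ofHom (ψ j)))
    have hy : y ≫ a' = y ≫ b' := by ext1; exact h j
    have h2 : (Spec.map (CommRingCat.ofHom (ψ j))).appTop x = 0 := by
      rw [show Spec.map (CommRingCat.ofHom (ψ j)) = (equalizer.lift y hy).left ≫ (equalizer.ι a' b').left from
        congr($((equalizer.lift_ι y hy).symm).left), Scheme.Hom.comp_appTop]
      exact (congrArg (equalizer.lift y hy).left.appTop hx).trans (map_zero _)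
    have h3 := congr($(Scheme.ΓSpecIso_naturality (CommRingCat.ofHom (ψ j))) x)
    exact h3.symm.trans ((congrArg (Scheme.ΓSpecIso (CommRingCat.of (B j))).hom h2).trans (map_zero _))
  have : IsIso (equalizer.ι a' b').left := IsClosedImmersion.isIso_of_injective_of_isAffine hinj'
  have : IsIso (equalizer.ι a' b') := by
    have : IsIso ((CategoryTheory.Over.forget _).map (equalizer.ι a' b')) := this
    exact isIso_of_reflects_iso _ (CategoryTheory.Over.forget _)
  exact congr($(eq_of_epi_equalizer (f := a') (g := b')).left)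

variable {R : CommRingCat.{u}} {p : Spec R ⟶ S} {M : Type} [AddCommGroup M] (P : SplitPts p H M)
  {B K : CommRingCat.{u}} [Algebra R B] [Algebra R K] [Algebra B K] [IsScalarTower R B K]
  (w' : Spec B ⟶ pullback X.hom p) [IsOpenImmersion w']
  (hw2 : w' ≫ pullback.snd _ _ = Spec.map (CommRingCat.ofHom (algebraMap R B)))

include hw2 in
lemma w_comp : (w' ≫ pullback.fst _ _) ≫ X.hom = Spec.map (CommRingCat.ofHom (algebraMap R B)) ≫ p := by
  rw [Category.assoc, pullback.condition, ← Category.assoc, hw2]

/-- A point of `X` through the local ring. -/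
def xK {T : Type u} [CommRing T] [Algebra R T] (x : K →ₐ[R] T) :
    (Over.map p).obj (specOver (R := R) T) ⟶ X :=
  xPt p (w' ≫ pullback.fst _ _) (w_comp w' hw2) (x.comp (IsScalarTower.toAlgHom R B K))

/-- A point moved into `X ×_S Spec R`. -/
def movedTo {T : Type u} [CommRing T] [Algebra R T] (y : (Over.map p).obj (specOver (R := R) T) ⟶ X) :
    Spec (CommRingCat.of T) ⟶ pullback X.hom p :=
  pullback.lift y.left (specOver (R := R) T).hom (Over.w y)

lemma movedTo_xPt {T : Type u} [CommRing T] [Algebra R T] (x : B →ₐ[R] T) :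
    movedTo (xPt p (w' ≫ pullback.fst _ _) (w_comp w' hw2) x) = Spec.map (CommRingCat.ofHom x.toRingHom) ≫ w' := by
  apply pullback.hom_ext
  · rw [movedTo, pullback.lift_fst, Category.assoc]; rfl
  · rw [movedTo, pullback.lift_snd, Category.assoc, hw2, ← Spec.map_comp, ← CommRingCat.ofHom_comp]
    exact congrArg (fun f => Spec.map (CommRingCat.ofHom f)) x.comp_algebraMap.symm

lemma testMap_movedTo {T T' : Type u} [CommRing T] [Algebra R T] [CommRing T'] [Algebra R T'] (h : T →ₐ[R] T')
    (y : (Over.map p).obj (specOver (R := R) T) ⟶ X) :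
    Spec.map (CommRingCat.ofHom h.toRingHom) ≫ movedTo y = movedTo ((Over.map p).map (testMap h) ≫ y) := by
  apply pullback.hom_ext
  · simp only [movedTo, Category.assoc, pullback.lift_fst]; rfl
  · simp only [movedTo, Category.assoc, pullback.lift_snd]
    exact Over.w (testMap (R := R) h)

lemma movedTo_injective {T : Type u} [CommRing T] [Algebra R T]
    {y y' : (Over.map p).obj (specOver (R := R) T) ⟶ X} (h : movedTo y = movedTo y') : y = y' := by
  ext1
  have := congrArg (· ≫ pullback.fst X.hom p) h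
  simp only [movedTo, pullback.lift_fst] at this
  exact this

lemma testMap_xK {T T' : Type u} [CommRing T] [Algebra R T] [CommRing T'] [Algebra R T'] (h : T →ₐ[R] T')
    (x : K →ₐ[R] T) : (Over.map p).map (testMap h) ≫ xK w' hw2 x = xK w' hw2 (h.comp x) := by
  rw [xK, testMap_xPt, xK, AlgHom.comp_assoc]

variable (P₀ : Ideal B) [P₀.IsPrime] [IsLocalization.AtPrime K P₀] [Algebra.FiniteType R B]
  (hfib : ∀ (T : Type u) [CommRing T] [Algebra R T] (_ : K →ₐ[R] T),
    (∀ r ∈ P₀.comap (algebraMap R B), algebraMap R T r = 0) →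
    ∀ (g : (Over.map p).obj (specOver (R := R) T) ⟶ H) (y : (Over.map p).obj (specOver (R := R) T) ⟶ X),
      smul a g y = y)

include hfib in
/-- Triviality over the local ring, given that the moved universal point stays in the chart. -/
theorem triv_of_range {N : Type} [CommGroup N] (ρ : Multiplicative M →* N)
    (hr : ∀ Q : Spec (CommRingCat.of (MonoidAlgebra K N)),
      (movedTo (smul a (gPt p P ((MonoidAlgebra.of K N).comp ρ))
        (xK w' hw2 (MonoidAlgebra.singleOneAlgHom : K →ₐ[R] MonoidAlgebra K N)))).base Q ∈ Set.range w'.base)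
    (T : Type u) [CommRing T] [Algebra R T] (t : N →* T) (x : K →ₐ[R] T) :
    smul a (gPt p P (t.comp ρ)) (xK w' hw2 x) = xK w' hw2 x := by
  let one : K →ₐ[R] MonoidAlgebra K N := MonoidAlgebra.singleOneAlgHom
  let m₀ := movedTo (smul a (gPt p P ((MonoidAlgebra.of K N).comp ρ)) (xK w' hw2 one))
  let l := IsOpenImmersion.lift w' m₀ (by rintro _ ⟨Q, rfl⟩; exact hr Q)
  let r : B ⟶ CommRingCat.of (MonoidAlgebra K N) := Spec.preimage l
  have hl : Spec.map r ≫ w' = m₀ := by
    rw [show Spec.map r = l from Spec.map_preimage l]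
    exact IsOpenImmersion.lift_fac _ _ _
  let u : B →ₐ[R] MonoidAlgebra K N :=
    { r.hom with
      commutes' := fun c => by
        have h1 : Spec.map r ≫ Spec.map (CommRingCat.ofHom (algebraMap R B)) =
            Spec.map (CommRingCat.ofHom (algebraMap R (MonoidAlgebra K N))) := by
          rw [← hw2, ← Category.assoc, hl]
          exact pullback.lift_snd _ _ _
        rw [← Spec.map_comp] at h1
        exact congr($(Spec.map_injective h1) c) }
  have key : ∀ (T : Type u) [CommRing T] [Algebra R T] (t : N →* T) (x : K →ₐ[R] T),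
      xPt p (w' ≫ pullback.fst _ _) (w_comp w' hw2) (mv u x t) = smul a (gPt p P (t.comp ρ)) (xK w' hw2 x) := by
    intro T _ _ t x
    refine movedTo_injective ?_
    let L : MonoidAlgebra K N →ₐ[R] T := MonoidAlgebra.liftNCAlgHom x t fun _ _ => Commute.all _ _
    have e : smul a (gPt p P (t.comp ρ)) (xK w' hw2 x) =
        (Over.map p).map (testMap L) ≫ smul a (gPt p P ((MonoidAlgebra.of K N).comp ρ)) (xK w' hw2 one) := by
      rw [comp_smul, testMap_gPt, testMap_xK]
      congr 2
      · ext m; simp [L]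
      · ext c; simp [L, one]
    rw [movedTo_xPt w' hw2, e, ← testMap_movedTo]
    show _ = Spec.map (CommRingCat.ofHom L.toRingHom) ≫ m₀
    rw [← hl, ← Spec.map_comp_assoc]
    rfl
  have hinj : ∀ (T : Type u) [CommRing T] [Algebra R T] (y z : B →ₐ[R] T),
      xPt p (w' ≫ pullback.fst _ _) (w_comp w' hw2) y = xPt p (w' ≫ pullback.fst _ _) (w_comp w' hw2) z →
        y = z := by
    intro T _ _ y z h
    have h1 := congrArg movedTo h
    rw [movedTo_xPt w' hw2, movedTo_xPt w' hw2, cancel_mono] at h1
    exact AlgHom.coe_ringHom_injective (congrArg CommRingCat.Hom.hom (Spec.map_injective h1))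
  have main := mv_trivial u P₀
    (fun T _ _ s t x x' hx' => hinj T _ _ (by
      rw [key, key, MonoidHom.mul_comp, gPt_mul, mul_smul', ← key T t x, ← hx']
      rfl))
    (fun T _ _ hT x t => hinj T _ _ (by
      rw [key, hfib T x hT]
      rfl)) T x t
  rw [← key, main]
  rfl

include hfib in
/-- For a finite quotient the moved universal point stays in the chart. -/
theorem triv_finite {N : Type} [CommGroup N] [Finite N] (ρ : Multiplicative M →* N)
    (T : Type u) [CommRing T] [Algebra R T] (t : N →* T) (x : K →ₐ[R] T) :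
    smul a (gPt p P (t.comp ρ)) (xK w' hw2 x) = xK w' hw2 x := by
  refine triv_of_range a P w' hw2 P₀ hfib ρ (fun Q => ?_) T t x
  obtain ⟨m, hm, hQm⟩ := Ideal.exists_le_maximal (Q : PrimeSpectrum (MonoidAlgebra K N)).asIdeal Q.isPrime.ne_top
  have : Module.Finite K (MonoidAlgebra K N) := Module.Finite.of_basis (MonoidAlgebra.basis N K)
  have hmK : (m.comap (algebraMap K (MonoidAlgebra K N))).IsMaximal :=
    Ideal.isMaximal_comap_of_isIntegral_of_isMaximal m
  have : IsLocalRing K := IsLocalization.AtPrime.isLocalRing K P₀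
  let f := movedTo (smul a (gPt p P ((MonoidAlgebra.of K N).comp ρ))
    (xK w' hw2 (MonoidAlgebra.singleOneAlgHom : K →ₐ[R] MonoidAlgebra K N)))
  let Qm : Spec (CommRingCat.of (MonoidAlgebra K N)) := ⟨m, hm.isPrime⟩
  have hsp : Q ⤳ Qm := (PrimeSpectrum.le_iff_specializes _ _).mp hQm
  suffices hQ : f.base Qm ∈ Set.range w'.base from
    (hsp.map f.continuous).mem_open w'.isOpenEmbedding.isOpen_range hQ
  let L := MonoidAlgebra K N ⧸ m
  let π : MonoidAlgebra K N →ₐ[R] L := Ideal.Quotient.mkₐ R m
  let xL : K →ₐ[R] L := π.comp MonoidAlgebra.singleOneAlgHom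
  have hq : ∀ r ∈ P₀.comap (algebraMap R B), algebraMap R L r = 0 := by
    intro r hr
    rw [← xL.commutes r]
    refine Ideal.Quotient.eq_zero_iff_mem.mpr ?_
    show algebraMap R K r ∈ m.comap (algebraMap K (MonoidAlgebra K N))
    rw [IsLocalRing.eq_maximalIdeal hmK, IsScalarTower.algebraMap_apply R B K]
    exact (IsLocalization.AtPrime.to_map_mem_maximal_iff K P₀ _).mpr hr
  have h1 : Spec.map (CommRingCat.ofHom π.toRingHom) ≫ f =
      Spec.map (CommRingCat.ofHom (xL.comp (IsScalarTower.toAlgHom R B K)).toRingHom) ≫ w' := by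
    rw [testMap_movedTo, comp_smul, testMap_xK, hfib L xL hq]
    exact movedTo_xPt w' hw2 _
  let z : Spec (CommRingCat.of L) := ⟨⊥, Ideal.bot_prime (α := L)⟩
  have hz : (Spec.map (CommRingCat.ofHom π.toRingHom)).base z = Qm := PrimeSpectrum.ext (by
    show Ideal.comap (Ideal.Quotient.mk m) ⊥ = m
    rw [← RingHom.ker_eq_comap_bot, Ideal.mk_ker])
  rw [← hz, ← Scheme.Hom.comp_apply, h1, Scheme.Hom.comp_apply]
  exact ⟨_, rfl⟩

include hfib in
/-- The action is trivial over the local ring. -/
theorem triv_split (hfg : AddGroup.FG M)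
    (hsep : ∀ t : S, IsSeparated (pullback.snd X.hom (S.fromSpecResidueField t)))
    (T : Type u) [CommRing T] [Algebra R T] (t : Multiplicative M →* T) (x : K →ₐ[R] T) :
    smul a (gPt p P t) (xK w' hw2 x) = xK w' hw2 x := by
  refine triv_of_range a P w' hw2 P₀ hfib (MonoidHom.id _) (fun Q => ?_) T t x
  let A := MonoidAlgebra K (Multiplicative M)
  let Q' : PrimeSpectrum A := Q
  have : Q'.asIdeal.IsPrime := Q'.isPrime
  let kQ := Q'.asIdeal.ResidueField
  let L := AlgebraicClosure kQ
  let π : A →ₐ[R] L := (IsScalarTower.toAlgHom R kQ L).comp (IsScalarTower.toAlgHom R A kQ)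
  let xL : K →ₐ[R] L := π.comp MonoidAlgebra.singleOneAlgHom
  let tt : Multiplicative M →* L := π.toRingHom.toMonoidHom.comp (MonoidAlgebra.of K (Multiplicative M))
  let Qs : Subgroup Lˣ := tt.toHomUnits.range
  let ρ : Multiplicative M →* Qs := tt.toHomUnits.rangeRestrict
  have hρ : Function.Surjective ρ := tt.toHomUnits.rangeRestrict_surjective
  have : Module.Finite ℤ M := Module.Finite.iff_addGroup_fg.mpr hfg
  have : Module.Finite ℤ (Additive Qs) :=
    Module.Finite.of_surjective (MonoidHom.toAdditiveRight ρ).toIntLinearMap hρ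
  let AQ := MonoidAlgebra L Qs
  let emb : L →ₐ[R] AQ := IsScalarTower.toAlgHom R L AQ
  let g₁ := smul a (gPt p P ((MonoidAlgebra.of L Qs).comp ρ)) (xK w' hw2 (emb.comp xL))
  let g₀ := xK w' hw2 (emb.comp xL)
  let sL : Spec (CommRingCat.of L) ⟶ S := Spec.map (CommRingCat.ofHom (algebraMap R L)) ≫ p
  let s := sL.base (IsLocalRing.closedPoint L)
  let φ : S.residueField s ⟶ CommRingCat.of L := ((Scheme.SpecToEquivOfField L S) sL).2
  have hφ : Spec.map φ ≫ S.fromSpecResidueField s = sL := (Scheme.SpecToEquivOfField L S).symm_apply_apply sL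
  let str : Spec (CommRingCat.of AQ) ⟶ Spec (S.residueField s) :=
    Spec.map (CommRingCat.ofHom emb.toRingHom) ≫ Spec.map φ
  have hstr : ∀ g : (Over.map p).obj (specOver (R := R) AQ) ⟶ X,
      g.left ≫ X.hom = str ≫ S.fromSpecResidueField s := by
    intro g
    rw [Category.assoc, hφ, Over.w g, ← Category.assoc, ← Spec.map_comp, ← CommRingCat.ofHom_comp]
    exact congrArg (fun f => Spec.map (CommRingCat.ofHom f) ≫ p) emb.comp_algebraMap.symm
  have := hsep s
  have hg : pullback.lift g₁.left str (hstr g₁) = pullback.lift g₀.left str (hstr g₀) := by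
    refine hom_ext_of_jointly_injective (pullback.snd X.hom (S.fromSpecResidueField s)) _ _
      ((pullback.lift_snd _ _ _).trans (pullback.lift_snd _ _ _).symm) (fun _ : {χ : Qs →* Lˣ // IsOfFinOrder χ} => L)
      (fun χ => (MonoidAlgebra.lift L L Qs ((Units.coeHom L).comp χ.1)).toRingHom)
      (fun y hy => eval_torsion_injective Qs y fun χ hχ => hy ⟨χ, hχ⟩) fun χ => ?_
    obtain ⟨n, hn, hχn⟩ := isOfFinOrder_iff_pow_eq_one.mp χ.2
    let k : AQ →ₐ[R] L := (MonoidAlgebra.lift L L Qs ((Units.coeHom L).comp χ.1)).restrictScalars R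
    let Γ := Multiplicative M ⧸ (powMonoidHom n : Multiplicative M →* Multiplicative M).range
    have : Group.FG (Multiplicative M) := Group.fg_iff_monoid_fg.mpr
      (haveI := AddGroup.fg_iff_addMonoid_fg.mp hfg; Monoid.fg_of_addMonoid_fg)
    have : Finite Γ := CommGroup.finite_of_fg_torsion Γ (fun g => by
      obtain ⟨m, rfl⟩ := QuotientGroup.mk_surjective g
      refine isOfFinOrder_iff_pow_eq_one.mpr ⟨n, hn, ?_⟩
      rw [← QuotientGroup.mk_pow, QuotientGroup.eq_one_iff]
      exact ⟨m, rfl⟩)
    let t₀ : Multiplicative M →* L := ((Units.coeHom L).comp χ.1).comp ρ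
    let tΓ : Γ →* L := QuotientGroup.lift _ t₀ (by
      rintro _ ⟨m, rfl⟩
      rw [MonoidHom.mem_ker, powMonoidHom_apply, map_pow]
      show ((χ.1 (ρ m) : Lˣ) : L) ^ n = 1
      rw [← Units.val_pow_eq_pow_val, ← MonoidHom.pow_apply, hχn]
      rfl)
    have hk : (Over.map p).map (testMap k) ≫ g₁ = (Over.map p).map (testMap k) ≫ g₀ := by
      rw [comp_smul, testMap_gPt, testMap_xK]
      have h := triv_finite a P w' hw2 P₀ hfib (QuotientGroup.mk' _) L tΓ
        (k.comp (emb.comp xL))
      convert h using 3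
      ext m
      simp [k, tΓ, t₀]
      rw [MonoidAlgebra.lift_single, one_smul]
      rfl
    have h1 := congr($(hk).left)
    apply pullback.hom_ext
    · simp only [Category.assoc, pullback.lift_fst]; exact h1
    · simp only [Category.assoc, pullback.lift_snd]
  have hg' : g₁ = g₀ := by
    ext1
    have h := congrArg (· ≫ pullback.fst X.hom (S.fromSpecResidueField s)) hg
    simp only [pullback.lift_fst] at h
    exact h
  let kk : AQ →ₐ[R] L := (MonoidAlgebra.lift L L Qs ((Units.coeHom L).comp Qs.subtype)).restrictScalars R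
  have hfin : smul a (gPt p P tt) (xK w' hw2 xL) = xK w' hw2 xL := by
    have h := congrArg ((Over.map p).map (testMap kk) ≫ ·) hg'
    simp only [g₁, g₀, comp_smul, testMap_gPt, testMap_xK] at h
    have e1 : kk.toRingHom.toMonoidHom.comp ((MonoidAlgebra.of L Qs).comp ρ) = tt := by
      ext m
      show MonoidAlgebra.lift L L Qs ((Units.coeHom L).comp Qs.subtype) (MonoidAlgebra.single (ρ (Multiplicative.ofAdd m)) 1) = _
      rw [MonoidAlgebra.lift_single, one_smul]
      rfl
    have e2 : kk.comp (emb.comp xL) = xL := by ext c; simp [kk, emb]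
    rwa [e1, e2] at h
  let f := movedTo (smul a (gPt p P ((MonoidAlgebra.of K (Multiplicative M)).comp (MonoidHom.id _)))
    (xK w' hw2 (MonoidAlgebra.singleOneAlgHom : K →ₐ[R] A)))
  have h1 : Spec.map (CommRingCat.ofHom π.toRingHom) ≫ f =
      Spec.map (CommRingCat.ofHom (xL.comp (IsScalarTower.toAlgHom R B K)).toRingHom) ≫ w' := by
    rw [testMap_movedTo, comp_smul, testMap_xK, testMap_gPt, MonoidHom.comp_id, hfin]
    exact movedTo_xPt w' hw2 _
  let z : Spec (CommRingCat.of L) := IsLocalRing.closedPoint L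
  have hz : (Spec.map (CommRingCat.ofHom π.toRingHom)).base z = Q := PrimeSpectrum.ext (by
    show Ideal.comap ((algebraMap kQ L).comp (algebraMap A kQ)) (IsLocalRing.maximalIdeal L) = _
    rw [IsLocalRing.maximalIdeal_eq_bot, ← Ideal.comap_comap, Ideal.comap_bot_of_injective _ (algebraMap kQ L).injective,
      ← RingHom.ker_eq_comap_bot]
    exact Ideal.ker_algebraMap_residueField _)
  rw [← hz, ← Scheme.Hom.comp_apply, h1, Scheme.Hom.comp_apply]
  exact ⟨_, rfl⟩

end Groth.Agent.DiagRig
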