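import Groth.Agent.DiagRig.AgreeGraph
import Groth.Agent.DiagRig.CharHom
import Groth.Agent.DiagRig.LocSplit

/-! The locus of fibrewise containment of commuting subgroups of multiplicative type is clopen. -/

universe u

open CategoryTheory MonoidalCategory CartesianMonoidalCategory MonObj GrpObj AlgebraicGeometry Limits
open Groth.Agent.RedPts

noncomputable section

namespace Groth.Agent.DiagRig

/-- A function vanishing at every point of an affine pullback, idempotently, vanishes. -/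
lemma map_idempotent_eq_zero {R : CommRingCat.{u}} {Y : Scheme.{u}} (z : Y ⟶ Spec R) (φ : R ⟶ Γ(Y, ⊤))
    (hφ : Y.toSpecΓ ≫ Spec.map φ = z) {e : R} (he : IsIdempotentElem e)
    (h : ∀ y, e ∈ ((z.base y : Spec R) : PrimeSpectrum R).asIdeal) : φ e = 0 := by
  have hbot : Y.basicOpen (φ e) = ⊥ := by
    ext y
    simp only [TopologicalSpace.Opens.coe_bot, Set.mem_empty_iff_false, iff_false, SetLike.mem_coe]
    intro hy
    rw [← Scheme.toSpecΓ_preimage_basicOpen] at hy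
    have h1 : e ∉ ((Spec.map φ).base (Y.toSpecΓ.base y) : PrimeSpectrum R).asIdeal := hy
    rw [← Scheme.Hom.comp_apply, hφ] at h1
    exact h1 (h y)
  have hunit : IsUnit (1 - φ e) := by
    apply Y.toRingedSpace.isUnit_of_isUnit_germ
    intro x hx
    have hnot : ¬ IsUnit (Y.presheaf.germ ⊤ x hx (φ e)) := fun h' => by
      have h1 : x ∈ Y.basicOpen (φ e) := (Scheme.mem_basicOpen_top _ _ _).mpr h'
      rw [hbot] at h1
      exact h1
    rw [map_sub, map_one]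
    exact IsLocalRing.isUnit_one_sub_self_of_mem_nonunits _ hnot
  have h2 : (1 - φ e) * φ e = 0 := by
    rw [sub_mul, _root_.one_mul, ← map_mul, he.eq, sub_self]
  exact hunit.mul_right_eq_zero.mp h2

section Fibre

variable {S : Scheme.{u}} {H₁ H₂ G : Over S} (i₁ : H₁ ⟶ G) (i₂ : H₂ ⟶ G) {R : CommRingCat.{u}} (p : Spec R ⟶ S)

/-- The field point of `S` at a prime of a chart. -/
def resPoint (q : PrimeSpectrum R) : Spec (CommRingCat.of q.asIdeal.ResidueField) ⟶ S :=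
  Spec.map (CommRingCat.ofHom (algebraMap R q.asIdeal.ResidueField)) ≫ p

lemma specMap_resField_closedPoint (q : PrimeSpectrum R) :
    (Spec.map (CommRingCat.ofHom (algebraMap R q.asIdeal.ResidueField))).base
      (IsLocalRing.closedPoint q.asIdeal.ResidueField) = q := by
  apply PrimeSpectrum.ext
  show Ideal.comap (algebraMap R _) (IsLocalRing.maximalIdeal _) = _
  rw [IsLocalRing.maximalIdeal_eq_bot, ← RingHom.ker_eq_comap_bot, Ideal.ker_algebraMap_residueField]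

lemma exists_resPoint_fac (q : PrimeSpectrum R) :
    ∃ φ₀ : Spec (CommRingCat.of q.asIdeal.ResidueField) ⟶ Spec (S.residueField (p.base q)),
      φ₀ ≫ S.fromSpecResidueField (p.base q) = resPoint p q ∧ Flat φ₀ ∧ Surjective φ₀ ∧ QuasiCompact φ₀ := by
  let L := q.asIdeal.ResidueField
  let g₀ : Spec (CommRingCat.of L) ⟶ S := resPoint p q
  have hc : g₀.base (IsLocalRing.closedPoint L) = p.base q := by
    show (Spec.map (CommRingCat.ofHom (algebraMap R L)) ≫ p).base _ = _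
    rw [Scheme.Hom.comp_apply, specMap_resField_closedPoint]
  rw [← hc]
  let ψ : S.residueField (g₀.base (IsLocalRing.closedPoint L)) ⟶ CommRingCat.of L :=
    ((Scheme.SpecToEquivOfField L S) g₀).2
  refine ⟨Spec.map ψ, (Scheme.SpecToEquivOfField L S).symm_apply_apply g₀, ?_, ?_, inferInstance⟩
  · algebraize [ψ.hom]
    exact HasRingHomProperty.Spec_iff.mpr (RingHom.flat_algebraMap_iff.mpr inferInstance)
  · exact ⟨fun x => ⟨IsLocalRing.closedPoint L,
      Subsingleton.elim (α := PrimeSpectrum (S.residueField (g₀.base (IsLocalRing.closedPoint L)))) _ x⟩⟩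

variable [Mono i₂]

lemma le_resPoint_iff (q : PrimeSpectrum R) :
    Le i₁ i₂ (resPoint p q) ↔ Le i₁ i₂ (S.fromSpecResidueField (p.base q)) := by
  obtain ⟨φ₀, hφ, _, _, _⟩ := exists_resPoint_fac p q
  exact ⟨fun h => Le.descend i₁ i₂ φ₀ (h.of_eq i₁ i₂ hφ.symm), fun h => (h.comp i₁ i₂ φ₀).of_eq i₁ i₂ hφ⟩

end Fibre

variable {S : Scheme.{u}} {H₁ H₂ G : Over S} [GrpObj H₁] [GrpObj H₂] [GrpObj G] (i₁ : H₁ ⟶ G) (i₂ : H₂ ⟶ G)
  [IsMonHom i₁] [IsMonHom i₂]
  {R : CommRingCat.{u}} {p : Spec R ⟶ S} {M₁ M₂ : Type} [AddCommGroup M₁] [AddCommGroup M₂]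
  (P₁ : SplitPts p H₁ M₁) (P₂ : SplitPts p H₂ M₂)

lemma EqPt.prod {T : Type u} [CommRing T] [Algebra R T] {J : Type} (F : Finset J)
    (a : J → (Multiplicative M₁ →* T)) (b : J → (Multiplicative M₂ →* T))
    (h : ∀ j, EqPt i₁ i₂ P₁ P₂ (a j) (b j)) : EqPt i₁ i₂ P₁ P₂ (∏ j ∈ F, a j) (∏ j ∈ F, b j) := by
  classical
  induction F using Finset.induction with
  | empty => simpa using EqPt.one i₁ i₂ P₁ P₂
  | insert j F hj ih => rw [Finset.prod_insert hj, Finset.prod_insert hj]; exact EqPt.mul i₁ i₂ P₁ P₂ (h j) ih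

/-- A graph idempotent gives containment over its vanishing locus. -/
lemma le_of_graph (θ : Multiplicative M₂ →* Multiplicative M₁) {e : R} (he : IsIdempotentElem e)
    (he0 : ∀ (T : Type u) [CommRing T] [Algebra R T], algebraMap R T e = 0 →
      ∀ t : Multiplicative M₁ →* T, EqPt i₁ i₂ P₁ P₂ t (t.comp θ))
    {T₀ : Scheme.{u}} (z₀ : T₀ ⟶ Spec R) (hz₀ : ∀ x, e ∈ ((z₀.base x : Spec R) : PrimeSpectrum R).asIdeal) :
    Le i₁ i₂ (z₀ ≫ p) := by
  intro Y x ⟨z, hz⟩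
  let Y₀ : Over (Spec R) := Over.mk (z ≫ z₀)
  let i : (Over.map p).obj Y₀ ≅ Y := Over.isoMk (Iso.refl _) (by
    show 𝟙 _ ≫ Y.hom = (z ≫ z₀) ≫ p
    rw [Category.id_comp, Category.assoc, hz])
  obtain ⟨φ, hφ, qY, t, hg⟩ := eq_gPt_of_toSpecΓ P₁ (i.hom ≫ x)
  letI : Algebra R Γ(Y₀.left, ⊤) := φ.hom.toAlgebra
  have h := he0 Γ(Y₀.left, ⊤) (map_idempotent_eq_zero _ φ hφ he fun y => hz₀ (z.base y)) t
  refine ⟨i.inv ≫ (Over.map p).map qY ≫ gPt p P₂ (t.comp θ), ?_⟩
  rw [← cancel_epi i.hom, Category.assoc, Category.assoc, Iso.hom_inv_id_assoc, ← h, ← Category.assoc, ← hg,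
    Category.assoc]

variable [Mono i₂]

/-- A containment on a fibre is given by a character map. -/
lemma exists_theta (hP₂ : P₂.Inj) (q : PrimeSpectrum R) (hq : Le i₁ i₂ (resPoint p q)) :
    ∃ θ : Multiplicative M₂ →* Multiplicative M₁, ∀ (T : Type u) [CommRing T] [Algebra q.asIdeal.ResidueField T]
      [Algebra R T] [IsScalarTower R q.asIdeal.ResidueField T] (t : Multiplicative M₁ →* T),
      EqPt i₁ i₂ P₁ P₂ t (t.comp θ) := by
  let L := q.asIdeal.ResidueField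
  have ex : ∀ (T : Type u) [CommRing T] [Algebra L T] [Algebra R T] [IsScalarTower R L T]
      (t : Multiplicative M₁ →* T), ∃ b : Multiplicative M₂ →* T, EqPt i₁ i₂ P₁ P₂ t b := by
    intro T _ _ _ _ t
    obtain ⟨y, hy⟩ := hq _ (gPt p P₁ t) ⟨Spec.map (CommRingCat.ofHom (algebraMap L T)), by
      show _ = Spec.map (CommRingCat.ofHom (algebraMap R T)) ≫ p
      rw [resPoint, ← Spec.map_comp_assoc, ← CommRingCat.ofHom_comp, ← IsScalarTower.algebraMap_eq]⟩
    obtain ⟨b, rfl⟩ := gPt_surjective P₂ y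
    exact ⟨b, hy.symm⟩
  have uniq : ∀ (T : Type u) [CommRing T] [Algebra R T] (t : Multiplicative M₁ →* T)
      (b b' : Multiplicative M₂ →* T), EqPt i₁ i₂ P₁ P₂ t b → EqPt i₁ i₂ P₁ P₂ t b' → b = b' :=
    fun T _ _ t b b' h h' => gPt_injective P₂ hP₂ ((cancel_mono i₂).mp (h.symm.trans h'))
  let F : ∀ (T : Type u) [CommRing T] [Algebra L T], (Multiplicative M₁ →* T) → (Multiplicative M₂ →* T) :=
    fun T _ _ t =>
      letI : Algebra R T := ((algebraMap L T).comp (algebraMap R L)).toAlgebra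
      haveI : IsScalarTower R L T := IsScalarTower.of_algebraMap_eq fun _ => rfl
      (ex T t).choose
  have hF : ∀ (T : Type u) [CommRing T] [Algebra L T] [iR : Algebra R T] [IsScalarTower R L T]
      (t : Multiplicative M₁ →* T), EqPt i₁ i₂ P₁ P₂ t (F T t) := by
    intro T _ _ iR _ t
    have he : iR = ((algebraMap L T).comp (algebraMap R L)).toAlgebra :=
      Algebra.algebra_ext _ _ fun r => IsScalarTower.algebraMap_apply R L T r
    subst he
    letI : Algebra R T := ((algebraMap L T).comp (algebraMap R L)).toAlgebra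
    exact (ex T t).choose_spec
  obtain ⟨θ, hθ⟩ := exists_hom_of_natural F
    (fun T _ _ s t => by
      let _ : Algebra R T := ((algebraMap L T).comp (algebraMap R L)).toAlgebra
      have : IsScalarTower R L T := IsScalarTower.of_algebraMap_eq fun _ => rfl
      exact uniq T (s * t) _ _ (hF T (s * t)) (EqPt.mul i₁ i₂ P₁ P₂ (hF T s) (hF T t)))
    (fun T T' _ _ _ _ k t => by
      let _ : Algebra R T := ((algebraMap L T).comp (algebraMap R L)).toAlgebra
      have : IsScalarTower R L T := IsScalarTower.of_algebraMap_eq fun _ => rfl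
      let _ : Algebra R T' := ((algebraMap L T').comp (algebraMap R L)).toAlgebra
      have : IsScalarTower R L T' := IsScalarTower.of_algebraMap_eq fun _ => rfl
      exact uniq T' _ _ _ (EqPt.map i₁ i₂ P₁ P₂ (hF T t) (k.restrictScalars R)) (hF T' _))
  exact ⟨θ, fun T _ _ _ _ t => hθ T t ▸ hF T t⟩

variable [IsSeparated G.hom]

/-- Compatible agreements on all finite quotients give a character map. -/
lemma exists_theta_of_finite (hP₂ : P₂.Inj) (L : Type u) [Field L] [Algebra R L]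
    (N : ℕ → Type) [∀ n, CommGroup (N n)] (ρ : ∀ n, Multiplicative M₁ →* N n)
    (ψ : ∀ n, Multiplicative M₂ →* N n) (hρ : ∀ m, m ≠ 1 → ∃ n, ρ n m ≠ 1)
    (h : ∀ (n : ℕ) (T : Type u) [CommRing T] [Algebra L T] [Algebra R T] [IsScalarTower R L T] (t : N n →* T),
      EqPt i₁ i₂ P₁ P₂ (t.comp (ρ n)) (t.comp (ψ n))) :
    ∃ θ : Multiplicative M₂ →* Multiplicative M₁, ∀ (T : Type u) [CommRing T] [Algebra L T] [Algebra R T]
      [IsScalarTower R L T] (t : Multiplicative M₁ →* T), EqPt i₁ i₂ P₁ P₂ t (t.comp θ) := by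
  classical
  let Φ : Multiplicative M₁ × Multiplicative M₂ →* (∀ n, N n) := MonoidHom.pi fun n => (ρ n).coprod (ψ n)
  let Q := Φ.range
  let ι₁ : Multiplicative M₁ →* Q := Φ.rangeRestrict.comp (MonoidHom.inl _ _)
  let ι₂ : Multiplicative M₂ →* Q := Φ.rangeRestrict.comp (MonoidHom.inr _ _)
  have hι₁ : ∀ n m, ((ι₁ m : Q) : ∀ n, N n) n = ρ n m := fun n m => by simp [ι₁, Φ]
  have hι₂ : ∀ n m, ((ι₂ m : Q) : ∀ n, N n) n = ψ n m := fun n m => by simp [ι₂, Φ]
  let res : ∀ F : Finset ℕ, Q →* (∀ i : F, N i) := fun F => MonoidHom.pi fun i => (Pi.evalMonoidHom N i.1).comp Q.subtype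
  have hF : ∀ (F : Finset ℕ) (T : Type u) [CommRing T] [Algebra L T] [Algebra R T] [IsScalarTower R L T]
      (t : (∀ i : F, N i) →* T),
      EqPt i₁ i₂ P₁ P₂ (t.comp ((res F).comp ι₁)) (t.comp ((res F).comp ι₂)) := by
    intro F T _ _ _ _ t
    have key : ∀ {X : Type} [CommMonoid X] (f : X →* (∀ i : F, N i)),
        t.comp f = ∏ i : F, (t.comp (MonoidHom.mulSingle (fun i : F => N i) i)).comp ((Pi.evalMonoidHom _ i).comp f) := by
      intro X _ f
      ext x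
      rw [MonoidHom.finset_prod_apply]
      conv_lhs => rw [MonoidHom.comp_apply, ← Finset.univ_prod_mulSingle (f x), map_prod]
      rfl
    rw [key, key]
    refine EqPt.prod i₁ i₂ P₁ P₂ Finset.univ _ _ fun i => ?_
    have e₁ : (Pi.evalMonoidHom (fun i : F => N i) i).comp ((res F).comp ι₁) = ρ i.1 := MonoidHom.ext (hι₁ i.1)
    have e₂ : (Pi.evalMonoidHom (fun i : F => N i) i).comp ((res F).comp ι₂) = ψ i.1 := MonoidHom.ext (hι₂ i.1)
    rw [e₁, e₂]
    exact h i.1 T _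
  let A := MonoidAlgebra L Q
  have huniv : EqPt i₁ i₂ P₁ P₂ ((MonoidAlgebra.of L Q).comp ι₁) ((MonoidAlgebra.of L Q).comp ι₂) := by
    let B := fun F : Finset ℕ => MonoidAlgebra L (∀ i : F, N i)
    let k : ∀ F, A →ₐ[R] B F := fun F => (MonoidAlgebra.mapDomainAlgHom L L (res F)).restrictScalars R
    ext1
    refine hom_ext_of_jointly_injective G.hom _ _ ((Over.w _).trans (Over.w _).symm) B
      (fun F => (k F).toRingHom) (fun y hy => ?_) (fun F => ?_)
    · have hch : ∀ a b : Q, a ≠ b → ∃ n, (a : ∀ n, N n) n ≠ (b : ∀ n, N n) n := fun a b hab => by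
        by_contra hc
        push Not at hc
        exact hab (Subtype.ext (funext hc))
      choose g hg using hch
      let F : Finset ℕ := y.coeff.support.biUnion fun a => y.coeff.support.biUnion fun b =>
        if hab : a = b then ∅ else {g a b hab}
      have hinj : Set.InjOn (res F) (y.coeff.support : Set Q) := by
        intro a ha b hb hab
        by_contra hne
        have hmem : g a b hne ∈ F := Finset.mem_biUnion.mpr ⟨a, ha, Finset.mem_biUnion.mpr ⟨b, hb, by simp [hne]⟩⟩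
        exact hg a b hne (congrFun hab ⟨_, hmem⟩)
      have hy0 := hy F
      refine MonoidAlgebra.coeff_injective (Finsupp.ext fun a => ?_)
      by_contra hne
      have ha : a ∈ y.coeff.support := Finsupp.mem_support_iff.mpr hne
      refine hne ?_
      have h1 : Finsupp.mapDomain (res F) y.coeff (res F a) = 0 :=
        congrArg (fun w : B F => w.coeff (res F a)) hy0
      rwa [Finsupp.mapDomain_apply' (y.coeff.support : Set Q) _ (Set.Subset.refl _) hinj ha] at h1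
    · have e₁ := congrArg CommaMorphism.left (testMap_gPt p P₁ (k F) ((MonoidAlgebra.of L Q).comp ι₁))
      have e₂ := congrArg CommaMorphism.left (testMap_gPt p P₂ (k F) ((MonoidAlgebra.of L Q).comp ι₂))
      have hh := congrArg CommaMorphism.left (hF F (B F) (MonoidAlgebra.of L _))
      have f₁ : (k F).toRingHom.toMonoidHom.comp ((MonoidAlgebra.of L Q).comp ι₁) =
          (MonoidAlgebra.of L _).comp ((res F).comp ι₁) := MonoidHom.ext fun m => MonoidAlgebra.mapDomain_single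
      have f₂ : (k F).toRingHom.toMonoidHom.comp ((MonoidAlgebra.of L Q).comp ι₂) =
          (MonoidAlgebra.of L _).comp ((res F).comp ι₂) := MonoidHom.ext fun m => MonoidAlgebra.mapDomain_single
      rw [f₁] at e₁
      rw [f₂] at e₂
      exact (((congrArg (· ≫ i₁.left) e₁).trans hh).trans (congrArg (· ≫ i₂.left) e₂).symm)
  have hQ : ∀ (T : Type u) [CommRing T] [Algebra L T] [Algebra R T] [IsScalarTower R L T] (t : Q →* T),
      EqPt i₁ i₂ P₁ P₂ (t.comp ι₁) (t.comp ι₂) := by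
    intro T _ _ _ _ t
    have h1 := EqPt.map i₁ i₂ P₁ P₂ huniv ((MonoidAlgebra.lift L T Q t).restrictScalars R)
    have f : ∀ {X : Type} [CommMonoid X] (g : X →* Q),
        ((MonoidAlgebra.lift L T Q t).restrictScalars R).toRingHom.toMonoidHom.comp ((MonoidAlgebra.of L Q).comp g) =
          t.comp g := fun g => by ext x; simp
    rwa [f, f] at h1
  have hinj : Function.Injective ι₁ := by
    refine (injective_iff_map_eq_one ι₁).mpr fun m hm => ?_
    by_contra hne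
    obtain ⟨n, hn⟩ := hρ m hne
    exact hn ((hι₁ n m).symm.trans (congrFun (congrArg Subtype.val hm) n))
  have hsurj : Function.Surjective ι₁ := by
    have hι₂r : ∀ m, ι₂ m ∈ ι₁.range := by
      let Qb := Q ⧸ ι₁.range
      let T := MonoidAlgebra L Qb
      let t : Q →* T := (MonoidAlgebra.of L Qb).comp (QuotientGroup.mk' _)
      have h1 := hQ T t
      have ht : t.comp ι₁ = 1 := by
        refine MonoidHom.ext fun m => ?_
        show MonoidAlgebra.of L Qb (QuotientGroup.mk' _ (ι₁ m)) = 1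
        rw [show QuotientGroup.mk' ι₁.range (ι₁ m) = 1 from (QuotientGroup.eq_one_iff _).mpr ⟨m, rfl⟩, map_one]
      rw [ht] at h1
      have h2 : t.comp ι₂ = 1 :=
        gPt_injective P₂ hP₂ ((cancel_mono i₂).mp (h1.symm.trans (EqPt.one i₁ i₂ P₁ P₂)))
      intro m
      refine (QuotientGroup.eq_one_iff _).mp ?_
      exact MonoidAlgebra.single_left_injective (R := L) one_ne_zero (DFunLike.congr_fun h2 m)
    intro q
    obtain ⟨⟨a, b⟩, hab⟩ := Φ.rangeRestrict_surjective q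
    obtain ⟨a', ha'⟩ := hι₂r b
    refine ⟨a * a', ?_⟩
    rw [← hab, map_mul, ha']
    show Φ.rangeRestrict (a, 1) * Φ.rangeRestrict (1, b) = _
    rw [← map_mul]
    simp
  let E := MulEquiv.ofBijective ι₁ ⟨hinj, hsurj⟩
  refine ⟨E.symm.toMonoidHom.comp ι₂, fun T _ _ _ _ t => ?_⟩
  have h1 := hQ T (t.comp E.symm.toMonoidHom)
  have h2 : (t.comp E.symm.toMonoidHom).comp ι₁ = t := by
    ext m
    show t (E.symm (E m)) = t m
    rw [E.symm_apply_apply]
  rw [h2, MonoidHom.comp_assoc] at h1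
  exact h1

include P₁ in
/-- In a split chart, fibrewise containment is clopen and spreads to a neighbourhood. -/
theorem le_chart
    (hcomm : ∀ (Y : Over S) (a : Y ⟶ H₁) (b : Y ⟶ H₂), Commute (a ≫ i₁) (b ≫ i₂))
    (hlfp : LocallyOfFinitePresentation (pullback.fst (((fst H₁ H₂ ≫ i₁) * (snd H₁ H₂ ≫ i₂)⁻¹ : H₁ ⊗ H₂ ⟶ G)).left
      (1 : 𝟙_ (Over S) ⟶ G).left))
    (hP₂ : P₂.Inj) (hfg₁ : AddGroup.FG M₁) (hfg₂ : AddGroup.FG M₂) :
    IsClopen {q : PrimeSpectrum R | Le i₁ i₂ (S.fromSpecResidueField (p.base q))} ∧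
      ∀ q : PrimeSpectrum R, Le i₁ i₂ (S.fromSpecResidueField (p.base q)) →
        ∃ O : (Spec R).Opens, q ∈ O ∧ Le i₁ i₂ (O.ι ≫ p) := by
  classical
  have locus : ∀ θ : Multiplicative M₂ →* Multiplicative M₁, ∃ e : R, IsIdempotentElem e ∧
      (∀ q, e ∈ (q : PrimeSpectrum R).asIdeal → Le i₁ i₂ (S.fromSpecResidueField (p.base q))) ∧
      (∀ q : PrimeSpectrum R, e ∈ q.asIdeal → ∃ O : (Spec R).Opens, q ∈ O ∧ Le i₁ i₂ (O.ι ≫ p)) ∧
      ∀ (q : PrimeSpectrum R), (∀ (T : Type u) [CommRing T] [Algebra q.asIdeal.ResidueField T] [Algebra R T]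
        [IsScalarTower R q.asIdeal.ResidueField T] (t : Multiplicative M₁ →* T),
          EqPt i₁ i₂ P₁ P₂ t (t.comp θ)) → e ∈ q.asIdeal := by
    intro θ
    obtain ⟨e, he, he0, he1⟩ := exists_graph_idempotent i₁ i₂ P₁ P₂ hcomm hlfp (MonoidHom.id _) θ
    have he0' : ∀ (T : Type u) [CommRing T] [Algebra R T], algebraMap R T e = 0 →
        ∀ t : Multiplicative M₁ →* T, EqPt i₁ i₂ P₁ P₂ t (t.comp θ) := fun T _ _ h t => by
      simpa using he0 T h t
    refine ⟨e, he, fun q hq => (le_resPoint_iff i₁ i₂ p q).mp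
      (le_of_graph i₁ i₂ P₁ P₂ θ he he0' _ fun x => ?_), fun q hq => ?_, fun q hq => ?_⟩
    · rw [Subsingleton.elim (α := PrimeSpectrum q.asIdeal.ResidueField) x (IsLocalRing.closedPoint _),
        specMap_resField_closedPoint]
      exact hq
    · have hop : IsOpen (PrimeSpectrum.zeroLocus {e} : Set (PrimeSpectrum R)) := by
        rw [PrimeSpectrum.zeroLocus_eq_basicOpen_of_mul_add e (1 - e)
          (by rw [mul_sub, _root_.mul_one, he.eq, sub_self]) (by ring)]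
        exact (PrimeSpectrum.basicOpen _).isOpen
      let O : (Spec R).Opens := ⟨PrimeSpectrum.zeroLocus {e}, hop⟩
      refine ⟨O, Set.singleton_subset_iff.mpr hq, le_of_graph i₁ i₂ P₁ P₂ θ he he0' O.ι fun x => ?_⟩
      exact Set.singleton_subset_iff.mp ((PrimeSpectrum.mem_zeroLocus _ _).mp x.2)
    · have h1 := hq (MonoidAlgebra q.asIdeal.ResidueField (Multiplicative M₁))
        (MonoidAlgebra.of q.asIdeal.ResidueField _)
      exact Ideal.algebraMap_residueField_eq_zero.mp (he1 q.asIdeal.ResidueField (by simpa using h1))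
  choose e he hle hnhd hmem using locus
  let A := {q : PrimeSpectrum R | Le i₁ i₂ (S.fromSpecResidueField (p.base q))}
  have hA : ∀ q ∈ A, ∃ θ, e θ ∈ q.asIdeal := fun q hq => by
    obtain ⟨θ, hθ⟩ := exists_theta i₁ i₂ P₁ P₂ hP₂ q ((le_resPoint_iff i₁ i₂ p q).mpr hq)
    exact ⟨θ, hmem θ q hθ⟩
  refine ⟨⟨?_, ?_⟩, fun q hq => let ⟨θ, hθ⟩ := hA q hq; hnhd θ q hθ⟩
  swap
  · refine isOpen_iff_forall_mem_open.mpr fun q hq => ?_
    obtain ⟨θ, hθ⟩ := hA q hq
    refine ⟨PrimeSpectrum.zeroLocus {e θ}, fun q' hq' => hle θ q' (Set.singleton_subset_iff.mp hq'), ?_,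
      Set.singleton_subset_iff.mpr hθ⟩
    rw [PrimeSpectrum.zeroLocus_eq_basicOpen_of_mul_add (e θ) (1 - e θ)
      (by rw [mul_sub, _root_.mul_one, (he θ).eq, sub_self]) (by ring)]
    exact (PrimeSpectrum.basicOpen _).isOpen
  refine isClosed_of_closure_subset fun q hq => ?_
  let N : ℕ → Type := fun n => M₁ ⧸ (nsmulAddMonoidHom (n + 1) : M₁ →+ M₁).range
  let ρ : ∀ n, Multiplicative M₁ →* Multiplicative (N n) := fun n =>
    AddMonoidHom.toMultiplicative (QuotientAddGroup.mk' _)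
  have hfin : ∀ n, Finite (Multiplicative M₂ →* Multiplicative (N n)) := fun n => by
    have : AddGroup.FG (N n) := AddGroup.fg_of_surjective (f := QuotientAddGroup.mk' _) (QuotientAddGroup.mk'_surjective _)
    have : Finite (N n) := AddCommGroup.finite_of_fg_torsion _ fun g => by
      obtain ⟨m, rfl⟩ := QuotientAddGroup.mk'_surjective _ g
      refine isOfFinAddOrder_iff_nsmul_eq_zero.mpr ⟨n + 1, Nat.succ_pos n, ?_⟩
      rw [← map_nsmul]
      exact (QuotientAddGroup.eq_zero_iff _).mpr ⟨m, rfl⟩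
    obtain ⟨sg, hsg⟩ := (AddGroup.fg_iff_mul_fg.mp hfg₂).out
    refine Finite.of_injective (fun f (x : sg) => f x.1) fun f g hfgx => ?_
    exact MonoidHom.eq_of_eqOn_dense hsg fun x hx => congrFun hfgx ⟨x, hx⟩
  have hψ : ∀ n, ∃ ψ : Multiplicative M₂ →* Multiplicative (N n), ∀ (T : Type u) [CommRing T]
      [Algebra q.asIdeal.ResidueField T] [Algebra R T] [IsScalarTower R q.asIdeal.ResidueField T]
      (t : Multiplicative (N n) →* T), EqPt i₁ i₂ P₁ P₂ (t.comp (ρ n)) (t.comp ψ) := by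
    intro n
    have := hfin n
    choose f _ hf0 hf1 using fun ψ => exists_graph_idempotent i₁ i₂ P₁ P₂ hcomm hlfp (ρ n) ψ
    have hsub : closure A ⊆ ⋃ ψ, PrimeSpectrum.zeroLocus {f ψ} := by
      refine closure_minimal (fun q' hq' => ?_) (isClosed_iUnion_of_finite fun ψ => PrimeSpectrum.isClosed_zeroLocus _)
      obtain ⟨θ, hθ⟩ := exists_theta i₁ i₂ P₁ P₂ hP₂ q' ((le_resPoint_iff i₁ i₂ p q').mpr hq')
      refine Set.mem_iUnion.mpr ⟨(ρ n).comp θ, Set.singleton_subset_iff.mpr ?_⟩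
      have h1 := hθ (MonoidAlgebra q'.asIdeal.ResidueField (Multiplicative (N n)))
        ((MonoidAlgebra.of q'.asIdeal.ResidueField _).comp (ρ n))
      exact Ideal.algebraMap_residueField_eq_zero.mp (hf1 _ q'.asIdeal.ResidueField (by rwa [MonoidHom.comp_assoc] at h1))
    obtain ⟨ψ, hψ⟩ := Set.mem_iUnion.mp (hsub hq)
    refine ⟨ψ, fun T _ _ _ _ t => hf0 ψ T ?_ t⟩
    rw [IsScalarTower.algebraMap_apply R q.asIdeal.ResidueField T,
      Ideal.algebraMap_residueField_eq_zero.mpr (Set.singleton_subset_iff.mp hψ), map_zero]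
  choose ψ hψ using hψ
  obtain ⟨θ, hθ⟩ := exists_theta_of_finite i₁ i₂ P₁ P₂ hP₂ q.asIdeal.ResidueField _ ρ ψ (fun m hm => by
    obtain ⟨n, hn, hnm⟩ := exists_not_mem_pow_range hfg₁ m.toAdd hm
    refine ⟨n - 1, fun h => ?_⟩
    obtain ⟨x, hx⟩ := (QuotientAddGroup.eq_zero_iff _).mp (congrArg Multiplicative.toAdd h)
    exact hnm x (by rw [← hx, show n - 1 + 1 = n by omega]; rfl)) hψ
  exact hle θ q (hmem θ q hθ)

/-- The locus of fibrewise containment is clopen, with containment over it. -/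
theorem le_locus
    (h₁ : SGA3x.IsMultTypeFT H₁) (h₂ : SGA3x.IsMultTypeFT H₂)
    (hcomm : ∀ (Y : Over S) (a : Y ⟶ H₁) (b : Y ⟶ H₂), Commute (a ≫ i₁) (b ≫ i₂))
    (hlfp : LocallyOfFinitePresentation (pullback.fst (((fst H₁ H₂ ≫ i₁) * (snd H₁ H₂ ≫ i₂)⁻¹ : H₁ ⊗ H₂ ⟶ G)).left
      (1 : 𝟙_ (Over S) ⟶ G).left)) :
    ∃ U : S.Opens, IsClosed (U : Set S) ∧ (∀ s, s ∈ U ↔ Le i₁ i₂ (S.fromSpecResidueField s)) ∧ Le i₁ i₂ U.ι := by
  obtain ⟨S₁, f₁, hf₁, hsurj₁, hcov₁, hloc₁⟩ := h₁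
  obtain ⟨S₂, f₂, hf₂, hsurj₂, hcov₂, hloc₂⟩ := h₂
  let S' := pullback f₁ f₂
  let π₁ : S' ⟶ S₁ := pullback.fst f₁ f₂
  let π₂ : S' ⟶ S₂ := pullback.snd f₁ f₂
  let f : S' ⟶ S := π₁ ≫ f₁
  have hf' : f = π₂ ≫ f₂ := pullback.condition
  let A : Set S := {s | Le i₁ i₂ (S.fromSpecResidueField s)}
  -- charts
  have chart : ∀ s' : S', ∃ (R : CommRingCat.{u}) (j : Spec R ⟶ S') (_ : IsOpenImmersion j),
      s' ∈ Set.range j.base ∧ IsClopen (j.base ⁻¹' (f.base ⁻¹' A)) ∧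
      ∀ q, f.base (j.base q) ∈ A → ∃ O : (Spec R).Opens, q ∈ O ∧ Le i₁ i₂ (O.ι ≫ j ≫ f) := by
    intro s'
    obtain ⟨V₁, hV₁, M₁', _, hfg₁, ⟨eV₁⟩⟩ := hloc₁ (π₁.base s')
    obtain ⟨V₂, hV₂, M₂', _, hfg₂, ⟨eV₂⟩⟩ := hloc₂ (π₂.base s')
    obtain ⟨W', hW', hsW', hsub⟩ := exists_isAffineOpen_mem_and_subset (X := S') (x := s')
      (U := π₁ ⁻¹ᵁ V₁ ⊓ π₂ ⁻¹ᵁ V₂) ⟨hV₁, hV₂⟩
    let j : Spec Γ(S', W') ⟶ S' := hW'.fromSpec
    have hr₁ : Set.range (j ≫ π₁).base ⊆ Set.range V₁.ι.base := by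
      rintro _ ⟨x, rfl⟩
      rw [Scheme.Opens.range_ι]
      exact (hsub (hW'.range_fromSpec.le ⟨x, rfl⟩)).1
    have hr₂ : Set.range (j ≫ π₂).base ⊆ Set.range V₂.ι.base := by
      rintro _ ⟨x, rfl⟩
      rw [Scheme.Opens.range_ι]
      exact (hsub (hW'.range_fromSpec.le ⟨x, rfl⟩)).2
    let l₁ := IsOpenImmersion.lift V₁.ι (j ≫ π₁) hr₁
    let l₂ := IsOpenImmersion.lift V₂.ι (j ≫ π₂) hr₂
    have e₁ : l₁ ≫ V₁.ι ≫ f₁ = j ≫ f := by rw [IsOpenImmersion.lift_fac_assoc, Category.assoc]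
    have e₂ : l₂ ≫ V₂.ι ≫ f₂ = j ≫ f := by rw [IsOpenImmersion.lift_fac_assoc, Category.assoc, hf']
    have main : ∀ (p : Spec Γ(S', W') ⟶ S) (Q₁ : SplitPts p H₁ M₁') (Q₂ : SplitPts p H₂ M₂'), Q₂.Inj →
        IsClopen {q : PrimeSpectrum Γ(S', W') | Le i₁ i₂ (S.fromSpecResidueField (p.base q))} ∧
        ∀ q : PrimeSpectrum Γ(S', W'), Le i₁ i₂ (S.fromSpecResidueField (p.base q)) →
          ∃ O : (Spec Γ(S', W')).Opens, q ∈ O ∧ Le i₁ i₂ (O.ι ≫ p) :=
      fun p Q₁ Q₂ h => le_chart i₁ i₂ Q₁ Q₂ hcomm hlfp h hfg₁ hfg₂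
    have P₁' : SplitPts (j ≫ f) H₁ M₁' := e₁ ▸ (SplitPts.ofIso _ eV₁).restrict l₁
    have P₂' : ∃ Q : SplitPts (j ≫ f) H₂ M₂', Q.Inj :=
      e₂ ▸ ⟨(SplitPts.ofIso _ eV₂).restrict l₂, SplitPts.Inj.restrict (SplitPts.ofIso_inj eV₂) l₂⟩
    obtain ⟨Q₂, hQ₂⟩ := P₂'
    obtain ⟨hc, ho⟩ := main (j ≫ f) P₁' Q₂ hQ₂
    exact ⟨_, j, inferInstance, hW'.range_fromSpec.ge hsW', hc, ho⟩
  choose R j hj hs' hclop hnhd using chart
  have hcl : IsClopen (f.base ⁻¹' A) := by
    constructor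
    · refine isOpen_compl_iff.mp (isOpen_iff_forall_mem_open.mpr fun x hx => ?_)
      obtain ⟨q, hq⟩ := hs' x
      refine ⟨(j x).base '' ((j x).base ⁻¹' (f.base ⁻¹' A))ᶜ, ?_,
        (j x).isOpenEmbedding.isOpenMap _ (hclop x).1.isOpen_compl, ⟨q, fun h => hx (by rw [← hq]; exact h), hq⟩⟩
      rintro _ ⟨q', hq', rfl⟩ h
      exact hq' h
    · refine isOpen_iff_forall_mem_open.mpr fun x hx => ?_
      obtain ⟨q, hq⟩ := hs' x
      refine ⟨(j x).base '' ((j x).base ⁻¹' (f.base ⁻¹' A)), ?_,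
        (j x).isOpenEmbedding.isOpenMap _ (hclop x).2, ⟨q, show f.base ((j x).base q) ∈ A by rw [hq]; exact hx, hq⟩⟩
      rintro _ ⟨q', hq', rfl⟩
      exact hq'
  -- compact pieces covering affine opens
  have cover : ∀ V : S.Opens, IsAffineOpen V → ∃ (W : Scheme.{u}) (w : W ⟶ S') (g : W ⟶ (V : Scheme.{u})),
      Flat g ∧ Surjective g ∧ QuasiCompact g ∧ w ≫ f = g ≫ V.ι := by
    intro V hV
    have : IsAffine V := hV
    have piece : ∀ {Si : Scheme.{u}} (fi : Si ⟶ S) [Flat fi],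
        (∃ W : Si.Opens, IsCompact (W : Set Si) ∧ fi.base '' (W : Set Si) = (V : Set S)) →
        ∃ (W : Si.Opens) (g : (W : Scheme.{u}) ⟶ V), Flat g ∧ Surjective g ∧ QuasiCompact g ∧ g ≫ V.ι = W.ι ≫ fi := by
      rintro Si fi _ ⟨W, hWc, hW⟩
      have hWV : W ≤ fi ⁻¹ᵁ V := fun x hx => hW.le ⟨x, hx, rfl⟩
      let g : (W : Scheme.{u}) ⟶ (V : Scheme.{u}) := fi.resLE V W hWV
      have hg : g ≫ V.ι = W.ι ≫ fi := fi.resLE_comp_ι hWV
      have : CompactSpace W := isCompact_iff_compactSpace.mp hWc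
      refine ⟨W, g, by show Flat (Si.homOfLE hWV ≫ fi ∣_ V); infer_instance, ⟨fun v => ?_⟩, inferInstance, hg⟩
      obtain ⟨x, hx, hxv⟩ := hW.ge v.2
      exact ⟨⟨x, hx⟩, Subtype.ext ((congr(($hg).base ⟨x, hx⟩)).trans hxv)⟩
    obtain ⟨W₁, g₁, _, _, _, hg₁⟩ := piece f₁ (hcov₁ V hV)
    obtain ⟨W₂, g₂, _, _, _, hg₂⟩ := piece f₂ (hcov₂ V hV)
    refine ⟨pullback g₁ g₂, pullback.lift (pullback.fst g₁ g₂ ≫ W₁.ι) (pullback.snd g₁ g₂ ≫ W₂.ι) ?_,
      pullback.fst g₁ g₂ ≫ g₁, inferInstance, inferInstance, inferInstance, ?_⟩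
    · rw [Category.assoc, Category.assoc, ← hg₁, ← hg₂, pullback.condition_assoc]
    · rw [← Category.assoc, pullback.lift_fst, Category.assoc, Category.assoc, hg₁]
  have hA : IsClopen A := by
    have key : ∀ s : S, ∃ V : S.Opens, s ∈ V ∧ IsClopen (((↑) : V → S) ⁻¹' A) := by
      intro s
      obtain ⟨V, hV, hsV, -⟩ := exists_isAffineOpen_mem_and_subset (X := S) (x := s) (U := ⊤) trivial
      obtain ⟨W, w, g, _, _, _, hg⟩ := cover V hV
      have hq := Flat.isQuotientMap_of_surjective g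
      have hpre : g.base ⁻¹' (((↑) : V → S) ⁻¹' A) = w.base ⁻¹' (f.base ⁻¹' A) := by
        ext x
        show V.ι.base (g.base x) ∈ A ↔ f.base (w.base x) ∈ A
        rw [← Scheme.Hom.comp_apply, ← hg, Scheme.Hom.comp_apply]
      exact ⟨V, hsV, hq.isClosed_preimage.mp ((congrArg IsClosed hpre).mpr (hcl.1.preimage w.continuous)),
        hq.isOpen_preimage.mp ((congrArg IsOpen hpre).mpr (hcl.2.preimage w.continuous))⟩
    choose V hsV hVA using key
    have hcov' : TopologicalSpace.IsOpenCover V := TopologicalSpace.Opens.ext (Set.eq_univ_of_forall fun s => by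
      simp only [TopologicalSpace.Opens.coe_iSup, Set.mem_iUnion]
      exact ⟨s, hsV s⟩)
    exact ⟨hcov'.isClosed_iff_coe_preimage.mpr fun s => (hVA s).1,
      hcov'.isOpen_iff_coe_preimage.mpr fun s => (hVA s).2⟩
  let U : S.Opens := ⟨A, hA.2⟩
  refine ⟨U, hA.1, fun s => Iff.rfl, Le.of_local i₁ i₂ fun t => ?_⟩
  obtain ⟨V, hV, htV, hVU⟩ := exists_isAffineOpen_mem_and_subset (X := S) (x := t.1) (U := U) t.2
  obtain ⟨W, w, g, _, _, _, hg⟩ := cover V hV
  refine ⟨U.ι ⁻¹ᵁ V, htV, ?_⟩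
  suffices hV' : Le i₁ i₂ V.ι from
    ((hV'.comp i₁ i₂ (U.ι ∣_ V)).of_eq i₁ i₂ (morphismRestrict_ι U.ι V))
  refine Le.descend i₁ i₂ g ((Le.of_local i₁ i₂ fun x => ?_).of_eq i₁ i₂ hg)
  have hx : f.base (w.base x) ∈ A := by
    rw [← Scheme.Hom.comp_apply, hg]
    exact hVU (g.base x).2
  obtain ⟨q, hq⟩ := hs' (w.base x)
  obtain ⟨O, hqO, hO⟩ := hnhd (w.base x) q (by rw [hq]; exact hx)
  have := hj (w.base x)
  refine ⟨w ⁻¹ᵁ ((j (w.base x)) ''ᵁ O), ⟨q, hqO, hq⟩, ?_⟩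
  refine (hO.comp i₁ i₂ (IsOpenImmersion.lift (O.ι ≫ j (w.base x))
    ((w ⁻¹ᵁ ((j (w.base x)) ''ᵁ O)).ι ≫ w) ?_)).of_eq i₁ i₂ ?_
  · rintro _ ⟨z, rfl⟩
    obtain ⟨a, ha, hav⟩ := z.2
    exact ⟨⟨a, ha⟩, hav⟩
  · rw [← Category.assoc O.ι, IsOpenImmersion.lift_fac_assoc, Category.assoc]

end Groth.Agent.DiagRig
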