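import Groth.Agent.DiagRig.ImmDesc
import Groth.Agent.DiagRig.AgreeLocus
import Groth.Agent.AbVarLib.BcComp
import Groth.Agent.GrpScheme.SubgroupObj

/-! Descent of central subgroups of multiplicative type. -/

universe u

open CategoryTheory MonoidalCategory CartesianMonoidalCategory MonObj GrpObj AlgebraicGeometry Limits

noncomputable section

namespace Groth.Agent.DiagRig

variable {S S' : Scheme.{u}}

/-- Iterated base change as groups. -/
def bcGrpIso {T : Scheme.{u}} (f : S' ⟶ S) (g : T ⟶ S') (h : T ⟶ S) (hc : g ≫ f = h) (H : Over S) [GrpObj H] :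
    Grp.mk (Red.bc g (Red.bc f H)) ≅ Grp.mk (Red.bc h H) :=
  let e : Red.bc g (Red.bc f H) ≅ Red.bc h H := (AbVarLib.BcComp.compIso f g h hc).app H
  have : IsMonHom e.hom := AbVarLib.BcComp.isMonHom_compIso_hom f g h hc H
  Grp.mkIso' e

/-- Base change of an isomorphism of groups. -/
def bcGrpMap {A B : Grp (Over S)} (f : S' ⟶ S) (e : A ≅ B) :
    Grp.mk (Red.bc f A.X) ≅ Grp.mk (Red.bc f B.X) :=
  (Over.pullback f).mapGrp.mapIso e

set_option backward.isDefEq.respectTransparency.types false in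
/-- Multiplicative type of finite type is stable under base change. -/
theorem isMultTypeFT_bc {T : Scheme.{u}} (t : T ⟶ S) {H : Over S} [GrpObj H] (hH : SGA3x.IsMultTypeFT H) :
    SGA3x.IsMultTypeFT (Red.bc t H) := by
  obtain ⟨S'', f, hf, hsurj, hcov, hloc⟩ := hH
  refine ⟨pullback f t, pullback.snd f t, inferInstance, inferInstance, cov_pullback f t hcov, fun z => ?_⟩
  obtain ⟨U, hU, M, inst, hfg, ⟨e⟩⟩ := hloc ((pullback.fst f t).base z)
  let U' := pullback.fst f t ⁻¹ᵁ U
  let a : (U' : Scheme.{u}) ⟶ U := pullback.fst f t ∣_ U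
  let b : (U' : Scheme.{u}) ⟶ T := U'.ι ≫ pullback.snd f t
  have h : a ≫ U.ι ≫ f = b ≫ t := by
    rw [← Category.assoc, morphismRestrict_ι, Category.assoc, Category.assoc, pullback.condition]
  let d : (U : Scheme.{u}) ⟶ _ := Limits.IsTerminal.from specULiftZIsTerminal _
  exact ⟨U', hU, M, inst, hfg, ⟨bcGrpIso t b (b ≫ t) rfl H ≪≫ (bcGrpIso (U.ι ≫ f) a (b ≫ t) h H).symm ≪≫
    bcGrpMap a e ≪≫ bcGrpIso d a _ (specULiftZIsTerminal.hom_ext _ _) (Red.diag (ULift.{u} ℤ) M)⟩⟩

set_option backward.isDefEq.respectTransparency.types false in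
/-- Multiplicative type of finite type descends along fpqc covers. -/
theorem isMultTypeFT_descend (π : S' ⟶ S) [Flat π] [Surjective π]
    (hcov : ∀ V : S.Opens, IsAffineOpen V → ∃ W : S'.Opens, IsCompact (W : Set S') ∧ π.base '' (W : Set S') = (V : Set S))
    {H : Over S} [GrpObj H] {H' : Over S'} [GrpObj H'] (e : Grp.mk (Red.bc π H) ≅ Grp.mk H')
    (hH' : SGA3x.IsMultTypeFT H') : SGA3x.IsMultTypeFT H := by
  obtain ⟨S'', f, hf, hsurj, hcov', hloc⟩ := hH'
  refine ⟨S'', f ≫ π, inferInstance, inferInstance, fun V hV => ?_, fun z => ?_⟩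
  · obtain ⟨W, hWc, hW⟩ := hcov V hV
    have : ∀ w : (W : Set S'), ∃ A : S'.Opens, IsAffineOpen A ∧ w.1 ∈ A ∧ A ≤ W := fun w =>
      exists_isAffineOpen_mem_and_subset w.2
    choose A hA hwA hAW using this
    obtain ⟨F, hF⟩ := hWc.elim_finite_subcover (fun w => (A w : Set S')) (fun w => (A w).2)
      fun x hx => Set.mem_iUnion.mpr ⟨⟨x, hx⟩, hwA ⟨x, hx⟩⟩
    choose W' hW'c hW' using fun w => hcov' (A w) (hA w)
    refine ⟨⨆ w ∈ F, W' w, ?_, ?_⟩
    · simp only [TopologicalSpace.Opens.coe_iSup]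
      exact F.isCompact_biUnion fun v _ => hW'c v
    · simp only [TopologicalSpace.Opens.coe_iSup, Scheme.Hom.comp_base, TopCat.coe_comp, Set.image_comp,
        Set.image_iUnion]
      rw [← hW]
      simp only [← Set.image_iUnion]
      congr 1
      simp only [Set.image_iUnion, hW']
      exact Set.Subset.antisymm (Set.iUnion₂_subset fun w _ => hAW w) hF
  · obtain ⟨U, hU, M, inst, hfg, ⟨i⟩⟩ := hloc z
    exact ⟨U, hU, M, inst, hfg, ⟨(bcGrpIso π (U.ι ≫ f) _ (Category.assoc _ _ _) H).symm ≪≫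
      bcGrpMap (U.ι ≫ f) e ≪≫ i⟩⟩

variable {π : S' ⟶ S} {H' : Over S'} {G : Over S} (j' : H' ⟶ Red.bc π G) {T : Scheme.{u}} {p : T ⟶ S'}
  {t : T ⟶ S} (h : p ≫ π = t)

/-- A subgroup over `S'` as a subgroup over `T`. -/
def subHom : Red.bc p H' ⟶ Red.bc t G :=
  bcUn t ((castIso h _).inv ≫ bcTr π (bcTr p (𝟙 (Red.bc p H')) ≫ j'))

lemma bcTr_comp_subHom {Y : Over T} (x : Y ⟶ Red.bc p H') :
    bcTr t (x ≫ subHom j' h) = (castIso h Y).inv ≫ bcTr π (bcTr p x ≫ j') := by
  rw [bcTr_comp, subHom, bcTr_bcUn, ← Category.assoc, castIso_nat', Category.assoc, ← bcTr_comp,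
    ← Category.assoc, ← bcTr_comp, Category.comp_id]

instance mono_subHom [Mono j'] : Mono (subHom j' h) :=
  ⟨fun x y e => bcTr_injective p (by
    have := congrArg (bcTr t) e
    rw [bcTr_comp_subHom, bcTr_comp_subHom, cancel_epi] at this
    exact (cancel_mono j').mp (bcTr_injective π this))⟩

variable [GrpObj H'] [GrpObj G]

lemma isMonHom_subHom [IsMonHom j'] : IsMonHom (subHom j' h) :=
  isMonHom_of_pts _ fun Y x y => bcTr_injective t (by
    rw [bcTr_mul, bcTr_comp_subHom, bcTr_comp_subHom, bcTr_comp_subHom, bcTr_mul, MonObj.mul_comp, bcTr_mul,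
      MonObj.comp_mul])

omit [GrpObj H'] in
lemma subHom_central (hc : ∀ (X : Over S') (g : X ⟶ Red.bc π G) (x : X ⟶ H'), g * (x ≫ j') = (x ≫ j') * g)
    {Y : Over T} (g : Y ⟶ Red.bc t G) (x : Y ⟶ Red.bc p H') :
    g * (x ≫ subHom j' h) = (x ≫ subHom j' h) * g := bcTr_injective t (by
  rw [bcTr_mul, bcTr_mul, bcTr_comp_subHom, ← cancel_epi (castIso h Y).hom, MonObj.comp_mul,
    MonObj.comp_mul, ← Category.assoc, Iso.hom_inv_id, Category.id_comp,
    ← bcTr_bcUn π ((castIso h Y).hom ≫ bcTr t g), ← bcTr_mul, ← bcTr_mul, hc])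

set_option backward.isDefEq.respectTransparency.types false in
/-- A central subgroup of multiplicative type is stable on `S' ×_S S'`. -/
theorem le_subHom (π : S' ⟶ S) (j' : H' ⟶ Red.bc π G) [IsMonHom j'] [Mono j'] (hH' : SGA3x.IsMultTypeFT H')
    [IsSeparated G.hom] [LocallyOfFinitePresentation G.hom]
    (hconn : ∀ s : S, ConnectedSpace ↥(Limits.pullback π (Red.geomPt s)))
    (hc : ∀ (X : Over S') (g : X ⟶ Red.bc π G) (x : X ⟶ H'), g * (x ≫ j') = (x ≫ j') * g)
    {p q : pullback π π ⟶ S'} (hp : p ≫ π = pullback.fst π π ≫ π) (hq : q ≫ π = pullback.fst π π ≫ π)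
    (hd : pullback.diagonal π ≫ p = pullback.diagonal π ≫ q) :
    Le (subHom j' hp) (subHom j' hq) (𝟙 (pullback π π)) := by
  let T := pullback π π
  let t : T ⟶ S := pullback.fst π π ≫ π
  let i₁ := subHom j' hp
  let i₂ := subHom j' hq
  have := isMonHom_subHom j' hp
  have := isMonHom_subHom j' hq
  have : LocallyOfFinitePresentation (Red.bc t G).hom :=
    MorphismProperty.pullback_snd (P := @LocallyOfFinitePresentation) G.hom t inferInstance
  have : IsSeparated (Red.bc t G).hom :=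
    MorphismProperty.pullback_snd (P := @IsSeparated) G.hom t inferInstance
  have : LocallyOfFinitePresentation ((1 : 𝟙_ (Over T) ⟶ Red.bc t G).left ≫ (Red.bc t G).hom) := by
    rw [Over.w (1 : 𝟙_ (Over T) ⟶ Red.bc t G)]; exact (inferInstance : LocallyOfFinitePresentation (𝟙 T))
  have h1 : LocallyOfFinitePresentation (1 : 𝟙_ (Over T) ⟶ Red.bc t G).left :=
    MorphismProperty.of_postcomp (W' := @LocallyOfFiniteType) @LocallyOfFinitePresentation
      (1 : 𝟙_ (Over T) ⟶ Red.bc t G).left (Red.bc t G).hom (inferInstance : LocallyOfFiniteType (Red.bc t G).hom) this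
  obtain ⟨U, hU, hUiff, hUle⟩ := le_locus i₁ i₂ (isMultTypeFT_bc p hH') (isMultTypeFT_bc q hH')
    (fun Y a b => subHom_central j' hq hc (a ≫ i₁) b)
    (MorphismProperty.pullback_fst _ _ h1)
  have hΔ : Le i₁ i₂ (pullback.diagonal π) := fun Y x ⟨z, hz⟩ => by
    have hY : Y.hom ≫ q = Y.hom ≫ p := by rw [← hz, Category.assoc, Category.assoc, hd]
    let j : (Over.map q).obj Y ≅ (Over.map p).obj Y := Over.isoMk (Iso.refl _) (by simp [hY])
    refine ⟨bcUn q (j.hom ≫ bcTr p x), bcTr_injective t ?_⟩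
    rw [bcTr_comp_subHom, bcTr_comp_subHom, bcTr_bcUn, Category.assoc, bcTr_comp, ← Category.assoc]
    congr 1
  have hdiag : ∀ s', (pullback.diagonal π).base s' ∈ U := fun s' => by
    refine (hUiff _).mpr ?_
    let φ := (pullback.diagonal π).residueFieldMap s'
    have : Flat (Spec.map φ) := flat_specMap_field _ _ φ.hom
    have : Surjective (Spec.map φ) := surjective_specMap_field _ _ φ.hom
    refine Le.descend i₁ i₂ (Spec.map φ) ?_
    exact (hΔ.comp i₁ i₂ (S'.fromSpecResidueField s')).of_eq i₁ i₂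
      (Scheme.Hom.SpecMap_residueFieldMap_fromSpecResidueField _ _).symm
  have hr : Set.range (𝟙 T : T ⟶ T).base ⊆ Set.range U.ι.base := by
    rintro x -
    rw [Scheme.Opens.range_ι]
    exact clopen_eq_top π hconn U hU hdiag x
  exact (hUle.comp i₁ i₂ (IsOpenImmersion.lift U.ι (𝟙 T) hr)).of_eq i₁ i₂ (IsOpenImmersion.lift_fac _ _ _)

set_option backward.isDefEq.respectTransparency.types false in
/-- Lifting to a central subgroup of multiplicative type is stable along the cover. -/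
theorem lift_stable (π : S' ⟶ S) (j' : H' ⟶ Red.bc π G) [IsMonHom j'] [Mono j'] (hH' : SGA3x.IsMultTypeFT H')
    [IsSeparated G.hom] [LocallyOfFinitePresentation G.hom]
    (hconn : ∀ s : S, ConnectedSpace ↥(Limits.pullback π (Red.geomPt s)))
    (hc : ∀ (X : Over S') (g : X ⟶ Red.bc π G) (x : X ⟶ H'), g * (x ≫ j') = (x ≫ j') * g)
    (W : Scheme.{u}) (a b : W ⟶ (Red.bc π G).left) (e : a ≫ pullback.fst G.hom π = b ≫ pullback.fst G.hom π)
    (hy : ∃ y, y ≫ j'.left = a) : ∃ y, y ≫ j'.left = b := by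
  obtain ⟨y, hy⟩ := hy
  let pa : W ⟶ S' := a ≫ pullback.snd G.hom π
  let pb : W ⟶ S' := b ≫ pullback.snd G.hom π
  have hab : pa ≫ π = pb ≫ π := by
    simp only [pa, pb, Category.assoc, ← pullback.condition, reassoc_of% e]
  let Y : Over (pullback π π) := Over.mk (pullback.lift pa pb hab)
  let t : pullback π π ⟶ S := pullback.fst π π ≫ π
  have hp : pullback.fst π π ≫ π = t := rfl
  have hq : pullback.snd π π ≫ π = t := pullback.condition.symm
  let ha : (Over.map (pullback.fst π π)).obj Y ⟶ H' := Over.homMk y (by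
    refine Eq.trans ?_ (pullback.lift_fst pa pb hab).symm
    rw [← Over.w j', ← Category.assoc, hy]; rfl)
  obtain ⟨y₂, hy₂⟩ := le_subHom π j' hH' hconn hc hp hq
    ((pullback.diagonal_fst π).trans (pullback.diagonal_snd π).symm) Y (bcUn (pullback.fst π π) ha)
    ⟨Y.hom, Category.comp_id _⟩
  refine ⟨(bcTr (pullback.snd π π) y₂).left, ?_⟩
  refine pullback.hom_ext ?_ ?_
  · have h1 := congrArg CommaMorphism.left (congrArg (bcTr t) hy₂)
    rw [bcTr_comp_subHom, bcTr_comp_subHom, bcTr_bcUn] at h1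
    simp [castIso, ha, bcTr_left] at h1
    rw [Category.assoc, bcTr_left, ← e, ← hy]
    simpa using h1
  · refine Eq.trans ?_ (pullback.lift_snd pa pb hab)
    rw [Category.assoc]
    exact (congrArg ((bcTr (pullback.snd π π) y₂).left ≫ ·) (Over.w j')).trans (Over.w (bcTr (pullback.snd π π) y₂))

omit [GrpObj G] in
/-- Factorisation through a monomorphism descends along an fpqc cover. -/
lemma exists_lift_of_bc (π : S' ⟶ S) [Flat π] [Surjective π]
    (hcov : ∀ V : S.Opens, IsAffineOpen V → ∃ W : S'.Opens, IsCompact (W : Set S') ∧ π.base '' (W : Set S') = (V : Set S))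
    {H : Over S} (i : H ⟶ G) [Mono i] {Y : Over S} (a : Y ⟶ G)
    (h : ∃ y : (Over.map π).obj (Over.mk (pullback.snd Y.hom π)) ⟶ H,
      y ≫ i = Over.homMk (pullback.fst Y.hom π) pullback.condition ≫ a) :
    ∃ y : Y ⟶ H, y ≫ i = a := by
  obtain ⟨y, hy⟩ := h
  let k : (Over.map π).obj (Over.mk (pullback.snd Y.hom π)) ⟶ Y :=
    Over.homMk (pullback.fst Y.hom π) pullback.condition
  have : EffectiveEpi k.left := effectiveEpi_of_cov (pullback.fst Y.hom π) (cov_fst Y.hom π hcov)
  obtain ⟨y', hy', -⟩ := GrpdLib.GrpOver.existsUnique_desc k y fun X u v e => by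
    rw [← cancel_mono i, Category.assoc, Category.assoc, hy, reassoc_of% e]
  exact ⟨y', GrpdLib.GrpOver.cancel_left k (by rw [← Category.assoc, hy', hy])⟩

end Groth.Agent.DiagRig
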