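import Groth.Agent.RedPts.Basic

/-! Points of groups that are diagonalisable over some base. -/

universe u

open CategoryTheory MonoidalCategory CartesianMonoidalCategory MonObj GrpObj AlgebraicGeometry Limits
open Groth.Agent.RedPts

noncomputable section

namespace Groth.Agent.DiagRig

variable {S U : Scheme.{u}} (p : U ⟶ S)

lemma grpHom_mul {A B : Grp (Over U)} (f : A ⟶ B) {Y : Over U} (x y : Y ⟶ A.X) :
    (x * y) ≫ f.hom.hom = x ≫ f.hom.hom * y ≫ f.hom.hom :=
  MonObj.mul_comp _ _ _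

lemma grpIso_hom_inv {A B : Grp (Over U)} (e : A ≅ B) : e.hom.hom.hom ≫ e.inv.hom.hom = 𝟙 A.X :=
  ((Grp.forget (Over U)).mapIso e).hom_inv_id

/-- Points of a base change as points over the old base. -/
def bcTr {Y : Over U} {G : Over S} (y : Y ⟶ Red.bc p G) : (Over.map p).obj Y ⟶ G :=
  ((Over.mapPullbackAdj p).homEquiv Y G).symm y

/-- The converse. -/
def bcUn {Y : Over U} {G : Over S} (x : (Over.map p).obj Y ⟶ G) : Y ⟶ Red.bc p G :=
  (Over.mapPullbackAdj p).homEquiv Y G x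

lemma bcTr_bcUn {Y : Over U} {G : Over S} (x : (Over.map p).obj Y ⟶ G) : bcTr p (bcUn p x) = x :=
  Equiv.symm_apply_apply _ _

lemma bcUn_bcTr {Y : Over U} {G : Over S} (y : Y ⟶ Red.bc p G) : bcUn p (bcTr p y) = y :=
  Equiv.apply_symm_apply _ _

lemma bcTr_left {Y : Over U} {G : Over S} (y : Y ⟶ Red.bc p G) :
    (bcTr p y).left = y.left ≫ pullback.fst _ _ := by
  simp [bcTr, Adjunction.homEquiv_counit]

lemma bcUn_mul {Y : Over U} {G : Over S} [GrpObj G] (x y : (Over.map p).obj Y ⟶ G) :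
    bcUn p (x * y) = bcUn p x * bcUn p y := by
  simp only [bcUn]
  rw [Adjunction.homEquiv_unit, Functor.map_mul, MonObj.comp_mul,
    ← Adjunction.homEquiv_unit, ← Adjunction.homEquiv_unit]

lemma bcTr_mul {Y : Over U} {G : Over S} [GrpObj G] (x y : Y ⟶ Red.bc p G) :
    bcTr p (x * y) = bcTr p x * bcTr p y := by
  conv_rhs => rw [← bcTr_bcUn p (bcTr p x * bcTr p y), bcUn_mul, bcUn_bcTr, bcUn_bcTr]

lemma bcTr_comp {Y Y' : Over U} {G : Over S} (h : Y' ⟶ Y) (y : Y ⟶ Red.bc p G) :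
    bcTr p (h ≫ y) = (Over.map p).map h ≫ bcTr p y :=
  (Over.mapPullbackAdj p).homEquiv_naturality_left_symm h y

/-- The point of a diagonalisable group given by a character map. -/
def dPt {M : Type} [AddCommGroup M] {Y : Over U} (t : Multiplicative M →* Γ(Y.left, ⊤)) :
    Y ⟶ Red.DS U M :=
  (d_surjective t).choose

lemma dFn_dPt {M : Type} [AddCommGroup M] {Y : Over U} (t : Multiplicative M →* Γ(Y.left, ⊤)) (m : M) :
    dFn (dPt (U := U) t) m = t (Multiplicative.ofAdd m) :=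
  (d_surjective t).choose_spec m

variable {M : Type} [AddCommGroup M] {G : Over S} [GrpObj G]
  (e : Grp.mk (Red.bc p G) ≅ Grp.mk (Red.DS U M))

/-- The point of G attached to a character map. -/
def σ {Y : Over U} (t : Multiplicative M →* Γ(Y.left, ⊤)) : (Over.map p).obj Y ⟶ G :=
  bcTr p (dPt t ≫ e.inv.hom.hom)

lemma σ_mul {Y : Over U} (s t : Multiplicative M →* Γ(Y.left, ⊤)) :
    σ p e (s * t) = σ p e s * σ p e t := by
  rw [σ, σ, σ, ← bcTr_mul]
  congr 1
  refine Eq.trans ?_ (grpHom_mul e.inv _ _)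
  congr 1
  apply d_ext
  intro m
  rw [d_mul, dFn_dPt, dFn_dPt, dFn_dPt]
  rfl

lemma σ_one {Y : Over U} : σ p e (1 : Multiplicative M →* Γ(Y.left, ⊤)) = 1 := by
  have h := σ_mul p e (1 : Multiplicative M →* Γ(Y.left, ⊤)) 1
  rw [_root_.mul_one] at h
  exact mul_eq_left.mp h.symm

lemma σ_comp {Y Y' : Over U} (h : Y' ⟶ Y) (t : Multiplicative M →* Γ(Y.left, ⊤)) :
    (Over.map p).map h ≫ σ p e t = σ p e (h.left.appTop.hom.toMonoidHom.comp t) := by
  rw [σ, σ, ← bcTr_comp, ← Category.assoc]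
  congr 2
  apply d_ext
  intro m
  rw [d_comp, dFn_dPt, dFn_dPt]
  rfl

lemma exists_dPt {Y : Over U} (x : Y ⟶ Red.DS U M) :
    ∃ t : Multiplicative M →* Γ(Y.left, ⊤), dPt t = x := by
  refine ⟨{ toFun := fun m : Multiplicative M => dFn x m.toAdd
            map_one' := d_zero x
            map_mul' := fun a b => d_add x _ _ }, ?_⟩
  apply d_ext
  intro m
  rw [dFn_dPt]
  rfl

lemma σ_surjective {Y : Over U} (g : (Over.map p).obj Y ⟶ G) :
    ∃ t : Multiplicative M →* Γ(Y.left, ⊤), σ p e t = g := by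
  obtain ⟨t, ht⟩ := exists_dPt (U := U) (Y := Y) (M := M) (bcUn p g ≫ e.hom.hom.hom)
  refine ⟨t, ?_⟩
  refine Eq.trans (congrArg (fun z => bcTr p (z ≫ e.inv.hom.hom)) ht) ?_
  refine Eq.trans (congrArg (bcTr p) ?_) (bcTr_bcUn p g)
  exact (Category.assoc _ _ _).trans ((congrArg (bcUn p g ≫ ·) (grpIso_hom_inv e)).trans
    (Category.comp_id _))

/-- Points of `G` over a base `U` over `S` described by character maps. -/
structure SplitPts (p : U ⟶ S) (G : Over S) [GrpObj G] (M : Type) [AddCommGroup M] where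
  σ : ∀ {Y : Over U}, (Multiplicative M →* Γ(Y.left, ⊤)) → ((Over.map p).obj Y ⟶ G)
  σ_mul : ∀ {Y : Over U} (s t : Multiplicative M →* Γ(Y.left, ⊤)), σ (s * t) = σ s * σ t
  σ_comp : ∀ {Y Y' : Over U} (h : Y' ⟶ Y) (t : Multiplicative M →* Γ(Y.left, ⊤)),
    (Over.map p).map h ≫ σ t = σ (h.left.appTop.hom.toMonoidHom.comp t)
  σ_surjective : ∀ {Y : Over U} (g : (Over.map p).obj Y ⟶ G), ∃ t, σ t = g

/-- From an isomorphism with a diagonalisable group. -/
def SplitPts.ofIso : SplitPts p G M where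
  σ t := Groth.Agent.DiagRig.σ p e t
  σ_mul := Groth.Agent.DiagRig.σ_mul p e
  σ_comp := Groth.Agent.DiagRig.σ_comp p e
  σ_surjective := Groth.Agent.DiagRig.σ_surjective p e

namespace SplitPts

variable {p}

lemma σ_one (A : SplitPts p G M) {Y : Over U} : A.σ (1 : Multiplicative M →* Γ(Y.left, ⊤)) = 1 := by
  have h := A.σ_mul (1 : Multiplicative M →* Γ(Y.left, ⊤)) 1
  rw [_root_.mul_one] at h
  exact mul_eq_left.mp h.symm

/-- Restriction to a scheme over `U`. -/
def restrict (A : SplitPts p G M) {V : Scheme.{u}} (j : V ⟶ U) : SplitPts (j ≫ p) G M where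
  σ {Y} t := (Over.isoMk (Iso.refl _) (by simp) :
      (Over.map (j ≫ p)).obj Y ≅ (Over.map p).obj ((Over.map j).obj Y)).hom ≫ A.σ (Y := (Over.map j).obj Y) t
  σ_mul s t := by rw [← MonObj.comp_mul, ← A.σ_mul]
  σ_comp {Y Y'} h t := by
    have := A.σ_comp ((Over.map j).map h) t
    refine Eq.trans ?_ (congrArg (_ ≫ ·) this)
    refine Eq.trans (Category.assoc _ _ _).symm (Eq.trans (congrArg (· ≫ A.σ (Y := (Over.map j).obj Y) t) ?_) (Category.assoc _ _ _))
    ext1
    show h.left ≫ 𝟙 _ = 𝟙 _ ≫ h.left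
    simp
  σ_surjective {Y} g := by
    let i : (Over.map (j ≫ p)).obj Y ≅ (Over.map p).obj ((Over.map j).obj Y) :=
      Over.isoMk (Iso.refl _) (by simp)
    obtain ⟨t, ht⟩ := A.σ_surjective (Y := (Over.map j).obj Y) (i.inv ≫ g)
    exact ⟨t, by show i.hom ≫ A.σ t = g; rw [ht, Iso.hom_inv_id_assoc]⟩

end SplitPts

end Groth.Agent.DiagRig
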