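import Mathlib.AlgebraicGeometry.Morphisms.FiniteType
import Mathlib.AlgebraicGeometry.ResidueField
import Mathlib.RingTheory.Finiteness.Nakayama
import Mathlib.RingTheory.LocalRing.ResidueField.Ideal
import Mathlib.RingTheory.Localization.Ideal

/-! A morphism locally of finite type with a section and monomorphisms as fibres is an isomorphism. -/

universe u

open CategoryTheory AlgebraicGeometry Limits

noncomputable section

namespace Groth.Agent.DiagRig

lemma retraction_eq_id_of_fibres {R A : Type u} [CommRing R] [CommRing A] (φ : R →+* A) (hφ : φ.FiniteType)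
    (ε : A →+* R) (hε : ε.comp φ = RingHom.id R)
    (h : ∀ (q : Ideal R) [q.IsPrime] (B : Type u) [CommRing B] (β : A →+* B) (γ : q.ResidueField →+* B),
      β.comp φ = γ.comp (algebraMap R _) → β = (β.comp φ).comp ε) : φ.comp ε = RingHom.id A := by
  classical
  algebraize [φ]
  have hε' : ∀ r, ε (algebraMap R A r) = r := fun r => DFunLike.congr_fun hε r
  have hfg : (RingHom.ker ε).FG := by
    obtain ⟨s, hs⟩ := (inferInstance : Algebra.FiniteType R A).out
    refine ⟨s.image fun a => a - φ (ε a), le_antisymm ?_ ?_⟩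
    · rw [Ideal.span_le]
      intro x hx
      obtain ⟨a, -, rfl⟩ := Finset.mem_image.mp hx
      simp [RingHom.mem_ker, ← RingHom.algebraMap_toAlgebra φ, hε']
    · intro a ha
      have : a - φ (ε a) ∈ Ideal.span (s.image fun a => a - φ (ε a) : Set A) := by
        have ha' : a ∈ Algebra.adjoin R (s : Set A) := hs ▸ Algebra.mem_top
        clear ha
        induction ha' using Algebra.adjoin_induction with
        | mem x hx => exact Ideal.subset_span (Finset.mem_image_of_mem _ hx)
        | algebraMap r => simp [← RingHom.algebraMap_toAlgebra φ, hε']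
        | add x y _ _ hx hy =>
          rw [map_add, map_add, add_sub_add_comm]; exact add_mem hx hy
        | mul x y _ _ hx hy =>
          rw [map_mul, map_mul, show x * y - φ (ε x) * φ (ε y) = (x - φ (ε x)) * y + φ (ε x) * (y - φ (ε y)) by ring]
          exact add_mem (Ideal.mul_mem_right _ _ hx) (Ideal.mul_mem_left _ _ hy)
      rwa [RingHom.mem_ker.mp ha, map_zero, sub_zero] at this
  have hker : RingHom.ker ε = ⊥ := by
    by_contra hne
    have hann : Submodule.annihilator (RingHom.ker ε) ≠ ⊤ := fun e =>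
      hne (Submodule.annihilator_eq_top_iff.mp e)
    obtain ⟨m, hm, hle⟩ := Ideal.exists_le_maximal _ hann
    let q := m.comap φ
    let M := Algebra.algebraMapSubmonoid A q.primeCompl
    let L := Localization M
    let I := (q.map φ).map (algebraMap A L)
    let β : A →+* L ⧸ I := (Ideal.Quotient.mk I).comp (algebraMap A L)
    have hf₁ : q ≤ RingHom.ker (β.comp φ) := fun r hr =>
      Ideal.Quotient.eq_zero_iff_mem.mpr (Ideal.mem_map_of_mem _ (Ideal.mem_map_of_mem _ hr))
    have hf₂ : q.primeCompl ≤ (IsUnit.submonoid (L ⧸ I)).comap (β.comp φ) := fun r hr =>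
      (IsLocalization.map_units L (⟨φ r, Submonoid.mem_map_of_mem _ hr⟩ : M)).map (Ideal.Quotient.mk I)
    have hβ := h q (L ⧸ I) β (Ideal.ResidueField.lift q (β.comp φ) hf₁ hf₂)
      (RingHom.ext fun r => (Ideal.ResidueField.lift_algebraMap q (β.comp φ) hf₁ hf₂ r).symm)
    have key : RingHom.ker ε ≤ m • RingHom.ker ε := by
      intro a ha
      have h1 : β a = 0 := by
        rw [hβ]; simp [RingHom.mem_ker.mp ha]
      obtain ⟨c, hc, hca⟩ := (IsLocalization.algebraMap_mem_map_algebraMap_iff M L (q.map φ) a).mp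
        (Ideal.Quotient.eq_zero_iff_mem.mp h1)
      obtain ⟨b, hb, rfl⟩ := hc
      have h2 : ∀ x ∈ q.map φ, x - φ (ε x) ∈ m • RingHom.ker ε := by
        intro x hx
        induction hx using Submodule.span_induction with
        | mem x hx =>
          obtain ⟨r, -, rfl⟩ := hx
          simp [← RingHom.algebraMap_toAlgebra φ, hε']
        | zero => simp
        | add x y _ _ hx hy => rw [map_add, map_add, add_sub_add_comm]; exact add_mem hx hy
        | smul z x hx' hx =>
          simp only [smul_eq_mul, map_mul] at hx' ⊢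
          rw [
            show z * x - φ (ε z) * φ (ε x) = x * (z - φ (ε z)) + φ (ε z) * (x - φ (ε x)) by ring]
          refine add_mem (Ideal.mul_mem_mul (Ideal.map_comap_le hx') ?_) (Ideal.mul_mem_left _ _ hx)
          simp [RingHom.mem_ker, ← RingHom.algebraMap_toAlgebra φ, hε']
      have h3 := h2 _ hca
      rw [map_mul, map_mul, RingHom.mem_ker.mp ha, map_zero, mul_zero, sub_zero] at h3
      obtain ⟨y, z, hz, hyz⟩ := hm.exists_inv (show φ b ∉ m from hb)
      rw [← one_mul a, ← hyz, add_mul, mul_assoc]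
      exact add_mem (Ideal.mul_mem_left _ _ h3) (Submodule.smul_mem_smul hz ha)
    obtain ⟨r, hr, hr'⟩ := Submodule.exists_sub_one_mem_and_smul_eq_zero_of_fg_of_le_smul m _ hfg key
    have hrm : r ∈ m := hle (Submodule.mem_annihilator.mpr hr')
    exact hm.ne_top ((Ideal.eq_top_iff_one m).mpr (by simpa using sub_mem hrm hr))
  ext a
  have : a - φ (ε a) ∈ RingHom.ker ε := by simp [RingHom.mem_ker, ← RingHom.algebraMap_toAlgebra φ, hε']
  rw [hker, Ideal.mem_bot, sub_eq_zero] at this
  exact this.symm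

/-- A morphism locally of finite type with a section, whose fibres are monomorphisms, is an isomorphism. -/
theorem comp_section_eq_id_of_fibres {K S : Scheme.{u}} (f : K ⟶ S) [LocallyOfFiniteType f] (e : S ⟶ K)
    (he : e ≫ f = 𝟙 S)
    (hmono : ∀ (L : Type u) [Field L] (g : Spec (CommRingCat.of L) ⟶ S) (X : Scheme.{u}) (x y : X ⟶ K)
      (z : X ⟶ Spec (CommRingCat.of L)), x ≫ f = z ≫ g → y ≫ f = z ≫ g → x = y) :
    f ≫ e = 𝟙 K := by
  have hpt : ∀ k : K, e.base (f.base k) = k := by
    intro k
    have h := hmono _ (S.fromSpecResidueField (f.base k)) _ (K.fromSpecResidueField k)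
      (K.fromSpecResidueField k ≫ f ≫ e) (Spec.map (f.residueFieldMap k))
      (f.SpecMap_residueFieldMap_fromSpecResidueField k).symm
      (by rw [Category.assoc, Category.assoc, he, Category.comp_id]
          exact (f.SpecMap_residueFieldMap_fromSpecResidueField k).symm)
    have h' := congr(($h).base (IsLocalRing.closedPoint (K.residueField k)))
    have e1 := Scheme.fromSpecResidueField_apply k (IsLocalRing.closedPoint (K.residueField k))
    exact ((congrArg (fun y => e.base (f.base y)) e1).symm.trans h'.symm).trans e1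
  refine Scheme.hom_ext_of_forall _ _ fun k => ?_
  obtain ⟨U₀, hU₀, hs₀, -⟩ := exists_isAffineOpen_mem_and_subset (X := S) (x := f.base k) (U := ⊤) trivial
  obtain ⟨V₀, hV₀, hk₀, hV₀U⟩ := exists_isAffineOpen_mem_and_subset (X := K) (x := k) (U := f ⁻¹ᵁ U₀) hs₀
  obtain ⟨g, hgle, hgs⟩ := hU₀.exists_basicOpen_le (V := e ⁻¹ᵁ V₀) ⟨f.base k, by
    show e.base (f.base k) ∈ V₀; rw [hpt]; exact hk₀⟩ hs₀
  let U := S.basicOpen g
  have hU : IsAffineOpen U := hU₀.basicOpen g
  have hpre : f ⁻¹ᵁ U = K.basicOpen (f.appLE U₀ V₀ (show V₀ ≤ f ⁻¹ᵁ U₀ from hV₀U) g) := by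
    rw [Scheme.basicOpen_appLE]
    refine le_antisymm (le_inf ?_ le_rfl) inf_le_right
    intro x hx
    have : e.base (f.base x) ∈ V₀ := hgle hx
    rwa [hpt] at this
  have hV : IsAffineOpen (f ⁻¹ᵁ U) := hpre ▸ hV₀.basicOpen _
  refine ⟨f ⁻¹ᵁ U, hgs, ?_⟩
  let V := f ⁻¹ᵁ U
  let φ := f.appLE U V le_rfl
  have hUe : U ≤ e ⁻¹ᵁ V := fun x hx => by
    show f.base (e.base x) ∈ U
    rw [← Scheme.Hom.comp_apply, he]; exact hx
  let ε := e.appLE V U hUe
  have hf : Spec.map φ ≫ hU.fromSpec = hV.fromSpec ≫ f := hU.SpecMap_appLE_fromSpec f hV le_rfl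
  have hes : Spec.map ε ≫ hV.fromSpec = hU.fromSpec ≫ e := hV.SpecMap_appLE_fromSpec e hU hUe
  have hφε : ε.hom.comp φ.hom = RingHom.id _ := by
    have : Spec.map (φ ≫ ε) ≫ hU.fromSpec = 𝟙 _ ≫ hU.fromSpec := by
      rw [Spec.map_comp, Category.assoc, hf, reassoc_of% hes, he, Category.comp_id, Category.id_comp]
    rw [cancel_mono, ← Spec.map_id] at this
    exact congrArg CommRingCat.Hom.hom (Spec.map_injective this)
  have hmain := retraction_eq_id_of_fibres φ.hom (f.finiteType_appLE hU hV le_rfl) ε.hom hφε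
    (fun q _ B _ β γ hβγ => by
      have h1 : Spec.map (CommRingCat.ofHom β) ≫ hV.fromSpec ≫ f =
          Spec.map (CommRingCat.ofHom γ) ≫ Spec.map (CommRingCat.ofHom (algebraMap _ q.ResidueField)) ≫ hU.fromSpec := by
        rw [← hf, ← Spec.map_comp_assoc, ← Spec.map_comp_assoc]
        exact congrArg (fun r => Spec.map (CommRingCat.ofHom r) ≫ hU.fromSpec) hβγ
      have h2 := hmono q.ResidueField (Spec.map (CommRingCat.ofHom (algebraMap _ q.ResidueField)) ≫ hU.fromSpec) _
        (Spec.map (CommRingCat.ofHom β) ≫ hV.fromSpec)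
        (Spec.map (CommRingCat.ofHom ((β.comp φ.hom).comp ε.hom)) ≫ hV.fromSpec)
        (Spec.map (CommRingCat.ofHom γ)) (by rw [Category.assoc]; exact h1) (by
          rw [← h1]
          show Spec.map (ε ≫ φ ≫ CommRingCat.ofHom β) ≫ hV.fromSpec ≫ f = _
          simp only [Spec.map_comp, Category.assoc, ← hf]
          rw [← Spec.map_comp_assoc φ ε, show φ ≫ ε = 𝟙 _ from CommRingCat.hom_ext hφε, Spec.map_id,
            Category.id_comp])
      rw [cancel_mono] at h2
      exact congrArg CommRingCat.Hom.hom (Spec.map_injective h2))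
  have : hV.fromSpec ≫ f ≫ e = hV.fromSpec := by
    rw [← reassoc_of% hf, ← hes, ← Spec.map_comp_assoc, show ε ≫ φ = 𝟙 _ from CommRingCat.hom_ext hmain,
      Spec.map_id, Category.id_comp]
  rw [← IsAffineOpen.isoSpec_inv_ι, Category.assoc, cancel_epi] at this
  rw [Category.comp_id]
  exact this

end Groth.Agent.DiagRig
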