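import Groth.Agent.DiagRig.MultProp
import Groth.Agent.DiagRig.FibreIso
import Groth.Agent.DiagRig.Inj
import Mathlib.AlgebraicGeometry.Morphisms.UniversallyOpen
import Mathlib.AlgebraicGeometry.Morphisms.Separated

/-! Kernels of homomorphisms of group schemes, and where they are trivial. -/

universe u

open CategoryTheory MonoidalCategory CartesianMonoidalCategory MonObj GrpObj AlgebraicGeometry Limits

noncomputable section

namespace Groth.Agent.DiagRig

variable {S : Scheme.{u}} {H G : Over S} [GrpObj H] [GrpObj G] (u : H ⟶ G) [IsMonHom u]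

/-- The kernel of `u` over `S`. -/
def kerOb : Over S := Over.mk (pullback.fst u.left (1 : 𝟙_ (Over S) ⟶ G).left ≫ H.hom)

/-- Its inclusion. -/
def kerι : kerOb u ⟶ H := Over.homMk (pullback.fst _ _)

omit [IsMonHom u] in
lemma exists_kerLift {Z : Over S} (a : Z ⟶ H) (ha : a ≫ u = 1) : ∃ k : Z ⟶ kerOb u, k ≫ kerι u = a := by
  have h : a.left ≫ u.left = Z.hom ≫ (1 : 𝟙_ (Over S) ⟶ G).left := by
    rw [← Over.comp_left, ha, show (1 : Z ⟶ G) = toUnit Z ≫ 1 from (MonObj.comp_one _).symm, Over.comp_left]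
    rfl
  refine ⟨Over.homMk (pullback.lift a.left Z.hom h) ?_, ?_⟩
  · show _ ≫ pullback.fst _ _ ≫ H.hom = _
    rw [pullback.lift_fst_assoc]
    exact Over.w a
  · ext1
    exact pullback.lift_fst _ _ _

omit [IsMonHom u] in
lemma kerι_comp : kerι u ≫ u = 1 := by
  rw [show (1 : kerOb u ⟶ G) = toUnit _ ≫ 1 from (MonObj.comp_one _).symm]
  ext1
  show pullback.fst _ _ ≫ u.left = (kerOb u).hom ≫ (1 : 𝟙_ (Over S) ⟶ G).left
  rw [pullback.condition]
  congr 1
  show pullback.snd _ _ = pullback.fst _ _ ≫ H.hom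
  have h := congrArg (· ≫ G.hom) (pullback.condition (f := u.left) (g := (1 : 𝟙_ (Over S) ⟶ G).left))
  simp only [Category.assoc, Over.w] at h
  exact (Category.comp_id _).symm.trans h.symm

omit [IsMonHom u] in
lemma kerι_comp' {Z : Over S} (k : Z ⟶ kerOb u) : (k ≫ kerι u) ≫ u = 1 := by
  rw [Category.assoc, kerι_comp, MonObj.comp_one]

instance isImmersion_one_left (G : Over S) [GrpObj G] : IsImmersion (1 : 𝟙_ (Over S) ⟶ G).left :=
  haveI : IsImmersion ((1 : 𝟙_ (Over S) ⟶ G).left ≫ G.hom) := by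
    rw [Over.w (1 : 𝟙_ (Over S) ⟶ G)]; exact (inferInstance : IsImmersion (𝟙 S))
  IsImmersion.of_comp (1 : 𝟙_ (Over S) ⟶ G).left G.hom

instance mono_kerι_left : Mono (kerι u).left :=
  inferInstanceAs (Mono (pullback.fst u.left (1 : 𝟙_ (Over S) ⟶ G).left))

instance lft_kerOb [LocallyOfFiniteType H.hom] : LocallyOfFiniteType (kerOb u).hom :=
  inferInstanceAs (LocallyOfFiniteType (pullback.fst u.left (1 : 𝟙_ (Over S) ⟶ G).left ≫ H.hom))

instance isAffineHom_kerOb [IsAffineHom H.hom] [IsSeparated G.hom] : IsAffineHom (kerOb u).hom := by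
  have : IsClosedImmersion (1 : 𝟙_ (Over S) ⟶ G).left :=
    haveI : IsClosedImmersion ((1 : 𝟙_ (Over S) ⟶ G).left ≫ G.hom) := by
      rw [Over.w (1 : 𝟙_ (Over S) ⟶ G)]; exact (inferInstance : IsClosedImmersion (𝟙 S))
    IsClosedImmersion.of_comp (1 : 𝟙_ (Over S) ⟶ G).left G.hom
  exact inferInstanceAs (IsAffineHom (pullback.fst u.left (1 : 𝟙_ (Over S) ⟶ G).left ≫ H.hom))

/-- The unit section of the kernel. -/
def kerUnit : 𝟙_ (Over S) ⟶ kerOb u := (exists_kerLift u (1 : 𝟙_ (Over S) ⟶ H) (MonObj.one_comp u)).choose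

lemma kerUnit_ι : kerUnit u ≫ kerι u = 1 :=
  (exists_kerLift u (1 : 𝟙_ (Over S) ⟶ H) (MonObj.one_comp u)).choose_spec

lemma kerUnit_w : (kerUnit u).left ≫ (kerOb u).hom = 𝟙 S := Over.w (kerUnit u)

lemma eq_one_of_unit {Z : Over S} (k : Z ⟶ kerOb u) (h : k.left ≫ (kerOb u).hom ≫ (kerUnit u).left = k.left) :
    k ≫ kerι u = 1 := by
  rw [show (1 : Z ⟶ H) = toUnit _ ≫ (kerUnit u ≫ kerι u) by rw [kerUnit_ι, MonObj.comp_one]]
  ext1
  show k.left ≫ _ = Z.hom ≫ (kerUnit u).left ≫ _
  conv_lhs => rw [← h]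
  simp only [Category.assoc]
  rw [← Over.w k, Category.assoc]

lemma kernel_fibre_eq (s : S) (hs : Mono ((Over.pullback (S.fromSpecResidueField s)).map u).left)
    (L : Type u) [Field L] (g : Spec (CommRingCat.of L) ⟶ S) (hg : g.base (IsLocalRing.closedPoint L) = s)
    (X : Scheme.{u}) (x y : X ⟶ (kerOb u).left) (z : X ⟶ Spec (CommRingCat.of L))
    (hx : x ≫ (kerOb u).hom = z ≫ g) (hy : y ≫ (kerOb u).hom = z ≫ g) : x = y := by
  subst hg
  let s := g.base (IsLocalRing.closedPoint L)
  let φ : S.residueField s ⟶ CommRingCat.of L := ((Scheme.SpecToEquivOfField L S) g).2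
  have hφ : Spec.map φ ≫ S.fromSpecResidueField s = g := (Scheme.SpecToEquivOfField L S).symm_apply_apply g
  let Y : Over (Spec (S.residueField s)) := Over.mk (z ≫ Spec.map φ)
  have hw : ∀ (a : X ⟶ (kerOb u).left), a ≫ (kerOb u).hom = z ≫ g →
      a ≫ (kerOb u).hom = ((Over.map (S.fromSpecResidueField s)).obj Y).hom := fun a ha => by
    rw [ha, ← hφ]; exact (Category.assoc _ _ _).symm
  let x' : (Over.map (S.fromSpecResidueField s)).obj Y ⟶ kerOb u := Over.homMk x (hw x hx)
  let y' : (Over.map (S.fromSpecResidueField s)).obj Y ⟶ kerOb u := Over.homMk y (hw y hy)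
  have hxy : x' ≫ kerι u = y' ≫ kerι u := by
    have : Mono ((Over.pullback (S.fromSpecResidueField s)).map u) := haveI := hs; Over.mono_of_mono_left _
    have h1 : bcUn _ (x' ≫ kerι u) ≫ (Over.pullback (S.fromSpecResidueField s)).map u =
        bcUn _ (y' ≫ kerι u) ≫ (Over.pullback (S.fromSpecResidueField s)).map u := by
      simp only [bcUn, ← Adjunction.homEquiv_naturality_right, kerι_comp']
    rw [cancel_mono] at h1
    simpa [bcTr_bcUn] using congrArg (bcTr (S.fromSpecResidueField s)) h1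
  exact (cancel_mono (kerι u).left).mp congr($(hxy).left)

/-- A homomorphism whose kernel is trivial is a monomorphism. -/
lemma mono_of_kernel (h : (kerOb u).hom ≫ (kerUnit u).left = 𝟙 _) : Mono u := by
  refine ⟨fun {Z} a b hab => ?_⟩
  rw [← mul_inv_eq_one]
  obtain ⟨k, hk⟩ := exists_kerLift u (a * b⁻¹) (by rw [MonObj.mul_comp, GrpObj.inv_comp, hab, mul_inv_cancel])
  rw [← hk, eq_one_of_unit u k (by rw [h, Category.comp_id])]

/-- Two points of a separated scheme with the same restrictions along a jointly injective family are equal. -/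
lemma eq_of_jointly_injective {R : CommRingCat.{u}} {p : Spec R ⟶ S} [IsSeparated G.hom] {A : Type u} [CommRing A]
    [Algebra R A] (a b : (Over.map p).obj (specOver (R := R) A) ⟶ G) {J : Type*} (B : J → Type u)
    [∀ j, CommRing (B j)] (ψ : ∀ j, A →+* B j) (hinj : ∀ x, (∀ j, ψ j x = 0) → x = 0)
    (h : ∀ j, Spec.map (CommRingCat.ofHom (ψ j)) ≫ a.left = Spec.map (CommRingCat.ofHom (ψ j)) ≫ b.left) :
    a = b := by
  have : IsAffine ((Over.map p).obj (specOver (R := R) A)).left := isAffine_Spec _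
  have hinj' : Function.Injective (equalizer.ι a b).left.appTop := by
    rw [injective_iff_map_eq_zero]
    intro x hx
    let e := Scheme.ΓSpecIso (CommRingCat.of A)
    suffices e.hom x = 0 from (ConcreteCategory.bijective_of_isIso e.hom).1 (this.trans (map_zero _).symm)
    refine hinj _ fun j => ?_
    let Y : Over S := Over.mk (Spec.map (CommRingCat.ofHom (ψ j)) ≫ ((Over.map p).obj (specOver (R := R) A)).hom)
    let y : Y ⟶ (Over.map p).obj (specOver (R := R) A) := Over.homMk (Spec.map (CommRingCat.ofHom (ψ j)))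
    have hy : y ≫ a = y ≫ b := by ext1; exact h j
    have h2 : (Spec.map (CommRingCat.ofHom (ψ j))).appTop x = 0 := by
      rw [show Spec.map (CommRingCat.ofHom (ψ j)) = (equalizer.lift y hy).left ≫ (equalizer.ι a b).left from
        congr($((equalizer.lift_ι y hy).symm).left), Scheme.Hom.comp_appTop]
      exact (congrArg (equalizer.lift y hy).left.appTop hx).trans (map_zero _)
    have h3 := congr($(Scheme.ΓSpecIso_naturality (CommRingCat.ofHom (ψ j))) x)
    exact h3.symm.trans ((congrArg (Scheme.ΓSpecIso (CommRingCat.of (B j))).hom h2).trans (map_zero _))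
  have : IsIso (equalizer.ι a b).left := IsClosedImmersion.isIso_of_injective_of_isAffine hinj'
  have : IsIso (equalizer.ι a b) := by
    have : IsIso ((CategoryTheory.Over.forget _).map (equalizer.ι a b)) := this
    exact isIso_of_reflects_iso _ (CategoryTheory.Over.forget _)
  exact eq_of_epi_equalizer

end Groth.Agent.DiagRig
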