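import Groth.Agent.DiagRig.DSLocusApps
import Groth.Prelude.Def_SGA3x

/-!
# Basic facts about tori as groups of multiplicative type
-/

universe u

open CategoryTheory MonoidalCategory CartesianMonoidalCategory MonObj GrpObj AlgebraicGeometry Limits MorphismProperty

noncomputable section

namespace Groth.Agent.DiagRig

set_option backward.isDefEq.respectTransparency.types false

variable {S : Scheme.{u}}

/-- A torus is of multiplicative type and finite type. -/
theorem multTypeFT_of_torus {T : Over S} [GrpObj T] (h : Red.IsTorus T) : SGA3x.IsMultTypeFT T := by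
  obtain ⟨S', f, hf, hfs, hfc, hl⟩ := h
  refine ⟨S', f, hf, hfs, hfc, fun s' => ?_⟩
  obtain ⟨U, hU, r, hr⟩ := hl s'
  exact ⟨U, hU, Fin r → ℤ, inferInstance, AddGroup.fg_iff_addMonoid_fg.mpr inferInstance, hr⟩

/-- Over one point, a homomorphism of split groups is `D(φ)`. -/
theorem exists_test_point {G H : Over S} [GrpObj G] [GrpObj H] (u : G ⟶ H) [IsMonHom u] {U : Scheme.{u}}
    [Subsingleton U] [Nonempty U] (k : U ⟶ S) {M N : Type} [AddCommGroup M] [AddCommGroup N] (hN : AddGroup.FG N)
    (e₁ : Grp.mk (Red.bc k G) ≅ Grp.mk (Red.DS U M)) (e₂ : Grp.mk (Red.bc k H) ≅ Grp.mk (Red.DS U N)) :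
    ∃ φ : N →+ M, ∀ (P : MorphismProperty Scheme.{u}) [P.IsStableUnderBaseChange],
      BCProp P u k ↔ P (Red.DSmap U φ).left := by
  let i₁ : Red.bc k G ≅ Red.DS U M := (Grp.forget _).mapIso e₁
  let i₂ : Red.bc k H ≅ Red.DS U N := (Grp.forget _).mapIso e₂
  have : IsMonHom i₁.inv := e₁.inv.hom.isMonHom_hom
  have : IsMonHom i₂.hom := e₂.hom.hom.isMonHom_hom
  obtain ⟨x⟩ := ‹Nonempty U›
  obtain ⟨V, hx, φ, hφ⟩ := exists_test u k i₁ i₂ hN x
  refine ⟨φ, fun P _ => ?_⟩
  rw [← hφ P U (𝟙 U) fun y _ => Subsingleton.elim x y ▸ hx]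
  exact bcProp_congr (Category.id_comp k).symm

/-- A monomorphism of tori of the same rank is an isomorphism. -/
theorem isIso_of_mono_sameRank {T T' : Over S} [GrpObj T] [GrpObj T'] (hT : Red.IsTorus T) (hT' : Red.IsTorus T')
    (f : T ⟶ T') [IsMonHom f] [Mono f]
    (hrk : ∀ s : S, ∃ r : ℕ, Red.IsSplitTorusWith (Fin r → ℤ) (Red.geomFibre s T) ∧
      Red.IsSplitTorusWith (Fin r → ℤ) (Red.geomFibre s T')) : IsIso f := by
  obtain ⟨U, -, hU, hiso⟩ := exists_iso_locus T T' (multTypeFT_of_torus hT) (multTypeFT_of_torus hT') f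
  have hall : ∀ s : S, s ∈ U := by
    intro s
    obtain ⟨r, ⟨e₁⟩, ⟨e₂⟩⟩ := hrk s
    let Ω := AlgebraicClosure (S.residueField s)
    let ψ : CommRingCat.of (S.residueField s) ⟶ CommRingCat.of Ω := CommRingCat.ofHom (algebraMap _ Ω)
    have hsub : Subsingleton ↥(Spec (CommRingCat.of Ω)) := inferInstanceAs (Subsingleton (PrimeSpectrum Ω))
    have hne : Nonempty ↥(Spec (CommRingCat.of Ω)) := inferInstanceAs (Nonempty (PrimeSpectrum Ω))
    obtain ⟨φ, hφ⟩ := exists_test_point f (Red.geomPt s) (AddGroup.fg_iff_addMonoid_fg.mpr inferInstance) e₁ e₂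
    have hmono : BCProp (monomorphisms Scheme.{u}) f (Red.geomPt s) := by
      have : Mono ((Over.pullback (Red.geomPt s)).map f) := inferInstance
      exact (inferInstance : Mono ((Over.pullback (Red.geomPt s)).map f).left)
    have hsurj := DSHom.surjective_of_mono φ ((hφ _).mp hmono)
    have hbij : Function.Bijective φ :=
      ⟨OrzechProperty.injective_of_surjective_endomorphism φ.toIntLinearMap hsurj, hsurj⟩
    have h1 : BCProp (isomorphisms Scheme.{u}) f (Red.geomPt s) := (hφ _).mpr (DSHom.isIso_DSmap φ hbij)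
    have : Flat (Spec.map ψ) := by
      rw [HasRingHomProperty.Spec_iff (P := @Flat)]
      exact RingHom.flat_algebraMap_iff.mpr inferInstance
    have : Surjective (Spec.map ψ) := ⟨fun x => ⟨Classical.arbitrary _,
      (inferInstance : Subsingleton ↥(Spec (CommRingCat.of (S.residueField s)))).elim _ _⟩⟩
    refine (hU s).mpr (BCProp.descend (P := isomorphisms Scheme.{u}) (Spec.map ψ) ?_)
    exact h1
  have hfl : IsIso f.left := by
    have hU' : IsIso U.ι := by
      have : Epi U.ι.base := (TopCat.epi_iff_surjective _).mpr fun x => ⟨⟨x, hall x⟩, rfl⟩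
      exact IsOpenImmersion.isIso U.ι
    have sq := isPullback_bcMap U.ι f
    have h1 : IsIso (pullback.fst T.hom U.ι) := inferInstance
    have h2 : IsIso (pullback.fst T'.hom U.ι) := inferInstance
    have : f.left = inv (pullback.fst T.hom U.ι) ≫ ((Over.pullback U.ι).map f).left ≫ pullback.fst T'.hom U.ι := by
      rw [IsIso.eq_inv_comp, sq.w]
    rw [this]
    infer_instance
  have : IsIso ((CategoryTheory.Over.forget S).map f) := hfl
  exact isIso_of_reflects_iso f (CategoryTheory.Over.forget S)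

end Groth.Agent.DiagRig
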