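import Groth.Agent.DiagRig.TrivialLocus
import Mathlib.AlgebraicGeometry.Morphisms.FlatDescent
import Mathlib.AlgebraicGeometry.Morphisms.Separated

/-! Containments between subgroups: descent and gluing. -/

universe u

open CategoryTheory MonoidalCategory CartesianMonoidalCategory MonObj GrpObj AlgebraicGeometry Limits

noncomputable section

namespace Groth.Agent.DiagRig

variable {S : Scheme.{u}} {H₁ H₂ G : Over S} (i₁ : H₁ ⟶ G) (i₂ : H₂ ⟶ G)

/-- `i₁` factors through `i₂` over `j : T ⟶ S`. -/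
def Le {T : Scheme.{u}} (j : T ⟶ S) : Prop :=
  ∀ (Y : Over S) (x : Y ⟶ H₁), (∃ z : Y.left ⟶ T, z ≫ j = Y.hom) → ∃ y : Y ⟶ H₂, y ≫ i₂ = x ≫ i₁

lemma Le.comp {T T' : Scheme.{u}} {j : T ⟶ S} (h : Le i₁ i₂ j) (g : T' ⟶ T) : Le i₁ i₂ (g ≫ j) :=
  fun Y x ⟨z, hz⟩ => h Y x ⟨z ≫ g, by rw [Category.assoc, hz]⟩

lemma Le.of_eq {T : Scheme.{u}} {j j' : T ⟶ S} (h : Le i₁ i₂ j) (e : j = j') : Le i₁ i₂ j' := e ▸ h

variable [Mono i₂]

lemma exists_lift_iff {Y : Over S} (a : Y ⟶ G) :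
    (∃ y : Y ⟶ H₂, y ≫ i₂ = a) ↔ IsIso (pullback.fst a.left i₂.left) := by
  constructor
  · rintro ⟨y, rfl⟩
    refine ⟨pullback.lift (𝟙 _) y.left ((Category.id_comp _).trans (Over.comp_left ..)), ?_,
      pullback.lift_fst ..⟩
    rw [← cancel_mono (pullback.fst (y ≫ i₂).left i₂.left), Category.assoc, pullback.lift_fst,
      Category.comp_id, Category.id_comp]
  · intro h
    refine ⟨Over.homMk (inv (pullback.fst a.left i₂.left) ≫ pullback.snd _ _) ?_, ?_⟩
    · rw [← Over.w i₂, Category.assoc, ← pullback.condition_assoc, IsIso.inv_hom_id_assoc, Over.w a]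
    · ext1
      show (inv (pullback.fst a.left i₂.left) ≫ pullback.snd _ _) ≫ i₂.left = a.left
      rw [Category.assoc, ← pullback.condition, IsIso.inv_hom_id_assoc]

/-- Existence of a lift descends along fpqc morphisms. -/
lemma exists_lift_of_fpqc {Y : Over S} (a : Y ⟶ G) {Y' : Over S} (π : Y' ⟶ Y)
    [Flat π.left] [Surjective π.left] [QuasiCompact π.left] (h : ∃ y : Y' ⟶ H₂, y ≫ i₂ = π ≫ a) :
    ∃ y : Y ⟶ H₂, y ≫ i₂ = a := by
  obtain ⟨y, hy⟩ := h
  rw [exists_lift_iff]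
  refine MorphismProperty.of_pullback_fst_of_descendsAlong (P := MorphismProperty.isomorphisms Scheme.{u})
    (Q := @Surjective ⊓ @Flat ⊓ @QuasiCompact) (f := π.left) ⟨⟨inferInstance, inferInstance⟩, inferInstance⟩ ?_
  have hm : Mono (pullback.fst a.left i₂.left) := inferInstance
  show IsIso _
  have : IsSplitEpi (pullback.fst π.left (pullback.fst a.left i₂.left)) := by
    refine ⟨⟨pullback.lift (𝟙 _) (pullback.lift π.left y.left ?_) ?_, pullback.lift_fst ..⟩⟩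
    · exact ((Over.comp_left ..).symm.trans (congrArg CommaMorphism.left hy.symm)).trans (Over.comp_left ..)
    · rw [Category.id_comp, pullback.lift_fst]
  exact isIso_of_mono_of_isSplitEpi _

/-- Existence of a lift is local. -/
lemma exists_lift_of_local {Y : Over S} (a : Y ⟶ G)
    (h : ∀ w : Y.left, ∃ (Y' : Over S) (π : Y' ⟶ Y), IsOpenImmersion π.left ∧ w ∈ Set.range π.left.base ∧
      ∃ y : Y' ⟶ H₂, y ≫ i₂ = π ≫ a) :
    ∃ y : Y ⟶ H₂, y ≫ i₂ = a := by
  choose Y' π hπ hw y hy using h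
  rw [exists_lift_iff]
  refine (IsZariskiLocalAtTarget.iff_of_iSup_eq_top (P := MorphismProperty.isomorphisms Scheme.{u})
    (fun w : Y.left => (π w).left.opensRange) (top_le_iff.mp fun w _ =>
      (TopologicalSpace.Opens.mem_iSup (x := w) (s := fun w : Y.left => (π w).left.opensRange)).mpr ⟨w, hw w⟩)).mpr fun w => ?_
  have := hπ w
  show IsIso _
  have : IsSplitEpi (pullback.fst a.left i₂.left ∣_ (π w).left.opensRange) := by
    let i := (π w).left.isoOpensRange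
    refine ⟨⟨IsOpenImmersion.lift (Scheme.Opens.ι _)
      (i.inv ≫ pullback.lift (π w).left (y w).left ?_) ?_, ?_⟩⟩
    · exact ((Over.comp_left ..).symm.trans (congrArg CommaMorphism.left (hy w).symm)).trans (Over.comp_left ..)
    · rintro _ ⟨z, rfl⟩
      rw [Scheme.Opens.range_ι]
      show (pullback.fst a.left i₂.left).base ((i.inv ≫ pullback.lift (π w).left (y w).left _).base z) ∈
        Set.range (π w).left.base
      rw [← Scheme.Hom.comp_apply, Category.assoc, pullback.lift_fst]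
      exact ⟨i.inv.base z, rfl⟩
    · rw [← cancel_mono (π w).left.opensRange.ι, Category.assoc, morphismRestrict_ι,
        IsOpenImmersion.lift_fac_assoc, Category.assoc, pullback.lift_fst, Category.id_comp]
      exact Scheme.Hom.isoOpensRange_inv_comp _
  have : Mono (pullback.fst a.left i₂.left ∣_ (π w).left.opensRange) :=
    (inferInstance : (MorphismProperty.monomorphisms Scheme.{u}).IsStableUnderBaseChange).of_isPullback
      (isPullback_morphismRestrict _ _).flip (show Mono (pullback.fst a.left i₂.left) from inferInstance)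
  exact isIso_of_mono_of_isSplitEpi _

/-- A containment over an fpqc cover descends. -/
lemma Le.descend {T T' : Scheme.{u}} {j : T ⟶ S} (g : T' ⟶ T) [Flat g] [Surjective g] [QuasiCompact g]
    (h : Le i₁ i₂ (g ≫ j)) : Le i₁ i₂ j := by
  intro Y x ⟨z, hz⟩
  let π : Over.mk (pullback.fst z g ≫ Y.hom) ⟶ Y := Over.homMk (pullback.fst z g)
  have : Flat π.left := inferInstanceAs (Flat (pullback.fst z g))
  have : Surjective π.left := inferInstanceAs (Surjective (pullback.fst z g))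
  have : QuasiCompact π.left := inferInstanceAs (QuasiCompact (pullback.fst z g))
  obtain ⟨y, hy⟩ := h _ (π ≫ x) ⟨pullback.snd z g, by
    show _ = pullback.fst z g ≫ Y.hom
    rw [← hz, pullback.condition_assoc]⟩
  exact exists_lift_of_fpqc i₂ (x ≫ i₁) π ⟨y, hy.trans (Category.assoc _ _ _)⟩

/-- A containment which holds near every point holds. -/
lemma Le.of_local {T : Scheme.{u}} {j : T ⟶ S} (h : ∀ t : T, ∃ O : T.Opens, t ∈ O ∧ Le i₁ i₂ (O.ι ≫ j)) :
    Le i₁ i₂ j := by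
  intro Y x ⟨z, hz⟩
  refine exists_lift_of_local i₂ (x ≫ i₁) fun w => ?_
  obtain ⟨O, hO, hle⟩ := h (z.base w)
  let π : Over.mk ((z ⁻¹ᵁ O).ι ≫ Y.hom) ⟶ Y := Over.homMk (z ⁻¹ᵁ O).ι
  obtain ⟨y, hy⟩ := hle _ (π ≫ x) ⟨z ∣_ O, by
    show _ = (z ⁻¹ᵁ O).ι ≫ Y.hom
    rw [morphismRestrict_ι_assoc, hz]⟩
  exact ⟨_, π, inferInstanceAs (IsOpenImmersion (z ⁻¹ᵁ O).ι), ⟨⟨w, hO⟩, rfl⟩, y, hy.trans (Category.assoc _ _ _)⟩

/-- Mutual containment gives an isomorphism of the base changes. -/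
lemma exists_iso_of_le [Mono i₁] {T : Scheme.{u}} {j : T ⟶ S} (h₁ : Le i₁ i₂ j) (h₂ : Le i₂ i₁ j) :
    ∃ ψ : Red.bc j H₁ ≅ Red.bc j H₂, ψ.hom ≫ (Over.pullback j).map i₂ = (Over.pullback j).map i₁ := by
  have nat : ∀ {Y : Over T} {A B : Over S} (x : (Over.map j).obj Y ⟶ A) (f : A ⟶ B),
      bcUn j (x ≫ f) = bcUn j x ≫ (Over.pullback j).map f := fun x f =>
    (Over.mapPullbackAdj j).homEquiv_naturality_right x f
  obtain ⟨a, ha⟩ := h₁ _ (bcTr j (𝟙 (Red.bc j H₁))) ⟨(Red.bc j H₁).hom, rfl⟩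
  obtain ⟨b, hb⟩ := h₂ _ (bcTr j (𝟙 (Red.bc j H₂))) ⟨(Red.bc j H₂).hom, rfl⟩
  have e₁ : bcUn j a ≫ (Over.pullback j).map i₂ = (Over.pullback j).map i₁ := by
    rw [← nat, ha, nat, bcUn_bcTr, Category.id_comp]
  have e₂ : bcUn j b ≫ (Over.pullback j).map i₁ = (Over.pullback j).map i₂ := by
    rw [← nat, hb, nat, bcUn_bcTr, Category.id_comp]
  refine ⟨⟨bcUn j a, bcUn j b, ?_, ?_⟩, e₁⟩
  · rw [← cancel_mono ((Over.pullback j).map i₁), Category.assoc, e₂, e₁, Category.id_comp]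
  · rw [← cancel_mono ((Over.pullback j).map i₂), Category.assoc, e₁, e₂, Category.id_comp]

omit [Mono i₂] in
/-- An isomorphism of base changes gives containment. -/
lemma le_of_iso {T : Scheme.{u}} {j : T ⟶ S} (ψ : Red.bc j H₁ ⟶ Red.bc j H₂)
    (hψ : ψ ≫ (Over.pullback j).map i₂ = (Over.pullback j).map i₁) : Le i₁ i₂ j := by
  intro Y x ⟨z, hz⟩
  let e : (Over.map j).obj (Over.mk z) ≅ Y := Over.isoMk (Iso.refl _) ((Category.id_comp _).trans hz.symm)
  refine ⟨e.inv ≫ bcTr j (bcUn j (e.hom ≫ x) ≫ ψ), ?_⟩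
  rw [Category.assoc, show bcTr j (bcUn j (e.hom ≫ x) ≫ ψ) ≫ i₂ =
      bcTr j ((bcUn j (e.hom ≫ x) ≫ ψ) ≫ (Over.pullback j).map i₂) from
    ((Over.mapPullbackAdj j).homEquiv_naturality_right_symm _ i₂).symm, Category.assoc, hψ,
    show bcTr j (bcUn j (e.hom ≫ x) ≫ (Over.pullback j).map i₁) = bcTr j (bcUn j (e.hom ≫ x)) ≫ i₁ from
    (Over.mapPullbackAdj j).homEquiv_naturality_right_symm _ i₁]
  show e.inv ≫ bcTr j (bcUn j (e.hom ≫ x)) ≫ i₁ = _
  rw [bcTr_bcUn, Category.assoc, Iso.inv_hom_id_assoc]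

end Groth.Agent.DiagRig
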