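import Groth.Agent.DiagRig.MultTorsion

/-!
# Central homomorphisms out of finite smooth groups of multiplicative type lift uniquely along thickenings
-/

universe u

open CategoryTheory MonoidalCategory CartesianMonoidalCategory MonObj GrpObj AlgebraicGeometry Limits

noncomputable section

namespace Groth.Agent.DiagRig

set_option linter.unusedSectionVars false

variable {S S₀ : Scheme.{u}} (q : S₀ ⟶ S) {G X : Over S} [GrpObj G]

/-- Centrality transfers along the adjunction. -/
lemma centralPt_bcTr (v : Red.bc q X ⟶ Red.bc q G)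
    (hc : ∀ (Y : Over S₀) (x : Y ⟶ Red.bc q X) (g : Y ⟶ Red.bc q G), (x ≫ v) * g = g * (x ≫ v)) :
    CentralPt (bcTr q v) := fun Y j g => by
  let Y' : Over S₀ := Over.mk (j.left ≫ (Red.bc q X).hom)
  let i : (Over.map q).obj Y' ≅ Y := Over.isoMk (Iso.refl _) (by
    show 𝟙 _ ≫ Y.hom = (j.left ≫ (Red.bc q X).hom) ≫ q
    rw [Category.id_comp, Category.assoc]
    exact (Over.w j).symm)
  let x : Y' ⟶ Red.bc q X := Over.homMk j.left
  have hx : i.hom ≫ j = (Over.map q).map x := by
    ext1; exact Category.id_comp _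
  rw [← cancel_epi i.hom, MonObj.comp_mul, MonObj.comp_mul, ← Category.assoc, hx, ← bcTr_comp]
  conv_lhs => rw [← bcTr_bcUn q (i.hom ≫ g), ← bcTr_mul, hc]
  rw [bcTr_mul, bcTr_bcUn]

/-- The canonical thickening. -/
abbrev canK (X : Over S) : (Over.map q).obj (Red.bc q X) ⟶ X := bcTr q (𝟙 (Red.bc q X))

lemma canK_comp (a : X ⟶ G) : canK q X ≫ a = bcTr q ((Over.pullback q).map a) := by
  rw [← bcTr_map, Category.id_comp]

lemma canK_left : (canK q X).left = pullback.fst X.hom q := by
  rw [bcTr_left]; exact Category.id_comp _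

set_option backward.isDefEq.respectTransparency.types false in
/-- Torsion points with the same central reduction are equal. -/
theorem eq_of_map [Flat G.hom] [LocallyOfFinitePresentation G.hom] [IsClosedImmersion q] [Surjective q]
    (a b : X ⟶ G) (ha : LocTors a) (hb : LocTors b)
    (h : (Over.pullback q).map a = (Over.pullback q).map b)
    (hc : ∀ (Y : Over S₀) (x : Y ⟶ Red.bc q X) (g : Y ⟶ Red.bc q G),
      (x ≫ (Over.pullback q).map a) * g = g * (x ≫ (Over.pullback q).map a)) : a = b := by
  have : IsClosedImmersion (canK q X).left := by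
    rw [canK_left]; exact MorphismProperty.pullback_fst (P := @IsClosedImmersion) X.hom q inferInstance
  have : Surjective (canK q X).left := by
    rw [canK_left]; exact MorphismProperty.pullback_fst (P := @Surjective) X.hom q inferInstance
  exact locTors_unique (canK q X) _ (centralPt_bcTr q _ hc) a b ha hb (canK_comp q a) ((canK_comp q b).trans (by rw [h]))

set_option backward.isDefEq.respectTransparency.types false in
/-- A conjugate of a torsion point is torsion. -/
lemma LocTors.conj {a g : X ⟶ G} (ha : LocTors a) : LocTors (g * a * g⁻¹) := fun z => by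
  obtain ⟨V, n, hV, hn, he⟩ := ha z
  exact ⟨V, n, hV, hn, by rw [MonObj.comp_mul, MonObj.comp_mul, GrpObj.comp_inv, conj_pow, he]; group⟩

set_option backward.isDefEq.respectTransparency.types false in
/-- A product of commuting torsion points is torsion. -/
lemma LocTors.mul {a b : X ⟶ G} (ha : LocTors a) (hb : LocTors b) (h : Commute a b) : LocTors (a * b) := fun z => by
  obtain ⟨V, n, hV, hn, he⟩ := ha z
  obtain ⟨V', n', hV', hn', he'⟩ := hb z
  let Y : Over S := Over.mk ((V ⊓ V').ι ≫ X.hom)
  let r : Y ⟶ Over.mk (V.ι ≫ X.hom) := Over.homMk (X.left.homOfLE inf_le_left) (by simp [Y])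
  let r' : Y ⟶ Over.mk (V'.ι ≫ X.hom) := Over.homMk (X.left.homOfLE inf_le_right) (by simp [Y])
  let i : Y ⟶ X := Over.homMk (V ⊓ V').ι
  have hr : i = r ≫ Over.homMk V.ι := by ext1; simp [i, r]
  have hr' : i = r' ≫ Over.homMk V'.ι := by ext1; simp [i, r']
  refine ⟨V ⊓ V', n * n', ⟨hV, hV'⟩, (hn.of_hom r).mul (hn'.of_hom r'), ?_⟩
  show (i ≫ (a * b)) ^ (n * n') = 1
  rw [← MonObj.comp_pow, h.mul_pow, pow_mul, Nat.mul_comm n n', pow_mul, MonObj.comp_mul, MonObj.comp_pow,
    MonObj.comp_pow, MonObj.comp_pow, MonObj.comp_pow]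
  conv_lhs => arg 1; rw [hr, Category.assoc, ← MonObj.comp_pow, he, MonObj.comp_one, one_pow]
  rw [hr', Category.assoc, ← MonObj.comp_pow, he', MonObj.comp_one, one_pow, _root_.mul_one]

set_option backward.isDefEq.respectTransparency.types false in
/-- A homomorphism carries torsion points to torsion points. -/
lemma LocTors.comp_hom {H : Over S} [GrpObj H] {a : X ⟶ H} (ha : LocTors a) (u : H ⟶ G) [IsMonHom u] :
    LocTors (a ≫ u) := fun z => by
  obtain ⟨V, n, hV, hn, he⟩ := ha z
  refine ⟨V, n, hV, hn, ?_⟩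
  have e : ∀ {Y : Over S} (y : Y ⟶ H) (m : ℕ), (y ≫ u) ^ m = (y ^ m) ≫ u := fun y m => by
    induction m with
    | zero => rw [pow_zero, pow_zero, Hom.one_def, Hom.one_def, Category.assoc, IsMonHom.one_hom]
    | succ m ih => rw [pow_succ, pow_succ, MonObj.mul_comp, ih]
  rw [← Category.assoc, e, he, Hom.one_def, Hom.one_def, Category.assoc, IsMonHom.one_hom]

set_option backward.isDefEq.respectTransparency.types false in
/-- **Unique central lift.** -/
theorem exists_central_lift [Flat G.hom] [LocallyOfFinitePresentation G.hom] [IsClosedImmersion q] [Surjective q]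
    (H : Over S) [GrpObj H] [Smooth H.hom] [IsFinite H.hom] (hH : SGA3x.IsMultTypeFT H)
    (u₀ : Red.bc q H ⟶ Red.bc q G) [IsMonHom u₀]
    (hc₀ : ∀ (Y : Over S₀) (x : Y ⟶ Red.bc q H) (g : Y ⟶ Red.bc q G), (x ≫ u₀) * g = g * (x ≫ u₀)) :
    ∃ u : H ⟶ G, IsMonHom u ∧ (Over.pullback q).map u = u₀ ∧
      (∀ (Y : Over S) (x : Y ⟶ H) (g : Y ⟶ G), (x ≫ u) * g = g * (x ≫ u)) ∧
      ∀ u' : H ⟶ G, IsMonHom u' → (Over.pullback q).map u' = u₀ → u' = u := by
  have : IsClosedImmersion (canK q H).left := by
    rw [canK_left]; exact MorphismProperty.pullback_fst (P := @IsClosedImmersion) H.hom q inferInstance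
  have : Surjective (canK q H).left := by
    rw [canK_left]; exact MorphismProperty.pullback_fst (P := @Surjective) H.hom q inferInstance
  have hid := locTors_id H hH
  obtain ⟨u, hu, hku⟩ := locTors_exists (canK q H) (bcTr q u₀) (centralPt_bcTr q u₀ hc₀) (fun z => by
    obtain ⟨V, n, hV, hn, he⟩ := hid z
    refine ⟨V, n, hV, hn, ?_⟩
    rw [Category.comp_id] at he
    let h : Over.mk (V.ι ≫ H.hom) ⟶ H := Over.homMk V.ι
    let P := pullP (canK q H) h
    let Y' : Over S₀ := Over.mk (P.left ≫ (Red.bc q H).hom)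
    let i : (Over.map q).obj Y' ≅ pullX (canK q H) h := Over.isoMk (Iso.refl _) (by
      show 𝟙 _ ≫ (pullX (canK q H) h).hom = (P.left ≫ (Red.bc q H).hom) ≫ q
      rw [Category.id_comp, Category.assoc]
      exact (Over.w P).symm)
    let x : Y' ⟶ Red.bc q H := Over.homMk P.left
    have hx : i.hom ≫ P = (Over.map q).map x := by
      ext1; exact Category.id_comp _
    have hx1 : x ^ n = 1 := by
      refine bcTr_injective q ?_
      rw [bcTr_pow, bcTr_one]
      have e : bcTr q x = (i.hom ≫ pullK (canK q H) h) ≫ h := by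
        rw [Category.assoc, pullK_comp, ← Category.assoc, hx, ← bcTr_comp, Category.comp_id]
      rw [e, ← MonObj.comp_pow, he, MonObj.comp_one]
    rw [← cancel_epi i.hom, MonObj.comp_pow, MonObj.comp_one, ← Category.assoc, hx, ← bcTr_comp, ← bcTr_pow]
    have e : ∀ m : ℕ, (x ≫ u₀) ^ m = (x ^ m) ≫ u₀ := fun m => by
      induction m with
      | zero => rw [pow_zero, pow_zero, Hom.one_def, Hom.one_def, Category.assoc, IsMonHom.one_hom]
      | succ m ih => rw [pow_succ, pow_succ, MonObj.mul_comp, ih]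
    rw [e, hx1, Hom.one_def, Category.assoc, IsMonHom.one_hom, ← Hom.one_def, bcTr_one])
  have hmap : (Over.pullback q).map u = u₀ := bcTr_injective q ((canK_comp q u).symm.trans hku)
  have hm : ∀ {Y : Over S} (a b : Y ⟶ G), (Over.pullback q).map (a * b) = (Over.pullback q).map a * (Over.pullback q).map b :=
    fun a b => Functor.map_mul _ a b
  have hcen : ∀ (Y : Over S) (x : Y ⟶ H) (g : Y ⟶ G), (x ≫ u) * g = g * (x ≫ u) := by
    intro Y x g
    have h := eq_of_map q (x ≫ u) (g * (x ≫ u) * g⁻¹) (hu.comp x) (hu.comp x).conj (by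
      refine Eq.trans ?_ ((hm _ _).trans (congrArg (· * _) (hm _ _))).symm
      rw [Functor.map_comp, hmap, ← hc₀, _root_.mul_assoc, ← hm, mul_inv_cancel]
      rw [show (Over.pullback q).map (1 : Y ⟶ G) = 1 from (Over.pullback q).homMonoidHom.map_one, _root_.mul_one])
      (fun Y' y g' => by rw [Functor.map_comp, hmap, ← Category.assoc]; exact hc₀ _ _ _)
    conv_lhs => rw [h]
    rw [inv_mul_cancel_right]
  refine ⟨u, isMonHom_of_pts u fun Y x y => ?_, hmap, hcen, fun u' hu' h' => ?_⟩
  · refine eq_of_map q _ _ (hu.comp (x * y)) ((hu.comp x).mul (hu.comp y) (hcen Y x _)) ?_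
      (fun Y' z g' => by rw [Functor.map_comp, hmap, ← Category.assoc]; exact hc₀ _ _ _)
    rw [Functor.map_comp, hmap, hm, Functor.map_comp, Functor.map_comp, hmap,
      show (Over.pullback q).map (x * y) = (Over.pullback q).map x * (Over.pullback q).map y from
        Functor.map_mul _ x y, MonObj.mul_comp]
  · have : LocTors u' := by simpa using hid.comp_hom u'
    exact eq_of_map q u' u this hu (h'.trans hmap.symm) (fun Y' z g' => by rw [h']; exact hc₀ _ _ _)

end Groth.Agent.DiagRig
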