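import Groth.Agent.DiagRig.BCPts
import Groth.Agent.InfLift.SmoothLift
import Mathlib.AlgebraicGeometry.Morphisms.Smooth

/-! Lifting conjugations along nilpotent ideals. -/

universe u

open CategoryTheory MonoidalCategory CartesianMonoidalCategory MonObj GrpObj AlgebraicGeometry Limits

noncomputable section

namespace Groth.Agent.DiagRig

/-- Smooth morphisms lift sections along nilpotent thickenings of affine schemes. -/
theorem exists_lift_nilpotent {X Y : Scheme.{u}} (f : X ⟶ Y) [Smooth f] (n : ℕ) :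
    ∀ (A : Type u) [CommRing A] (J : Ideal A), J ^ (n + 1) = ⊥ → ∀ (b : Spec (CommRingCat.of A) ⟶ Y)
      (a₀ : Spec (CommRingCat.of (A ⧸ J)) ⟶ X),
      Spec.map (CommRingCat.ofHom (Ideal.Quotient.mk J)) ≫ b = a₀ ≫ f →
      ∃ l : Spec (CommRingCat.of A) ⟶ X,
        Spec.map (CommRingCat.ofHom (Ideal.Quotient.mk J)) ≫ l = a₀ ∧ l ≫ f = b := by
  induction n with
  | zero =>
    intro A _ J hJ b a₀ w
    exact InfLift.SmoothLift.exists_lift (f := f)
      (fun U V hU hV hUV => (Smooth.smooth_appLE f hV hU hUV).toAlgebra.formallySmooth)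
      (by rw [sq]; rw [pow_one] at hJ; simp [hJ]) w
  | succ n ih =>
    intro A _ J hJ b a₀ w
    let I : Ideal A := J ^ (n + 1)
    have hIJ : I ≤ J := Ideal.pow_le_self n.succ_ne_zero
    let A' := A ⧸ I
    let J' : Ideal A' := J.map (Ideal.Quotient.mk I)
    have hJ' : J' ^ (n + 1) = ⊥ := by rw [← Ideal.map_pow, Ideal.map_quotient_self]
    let π : A →+* A' := Ideal.Quotient.mk I
    let e : A ⧸ J →+* A' ⧸ J' := Ideal.quotientMap J' π Ideal.le_comap_map
    let e' : A' ⧸ J' →+* A ⧸ J := Ideal.Quotient.lift J' (Ideal.Quotient.factor hIJ) fun x hx => by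
      obtain ⟨y, hy, rfl⟩ := (Ideal.mem_map_iff_of_surjective _ Ideal.Quotient.mk_surjective).mp hx
      exact Ideal.Quotient.eq_zero_iff_mem.mpr hy
    obtain ⟨l', hl', hl'f⟩ := ih A' J' hJ' (Spec.map (CommRingCat.ofHom π) ≫ b)
      (Spec.map (CommRingCat.ofHom e) ≫ a₀) (by
        rw [Category.assoc, ← w, ← Spec.map_comp_assoc, ← Spec.map_comp_assoc]
        rfl)
    have hI : I ^ 2 = ⊥ := by
      refine le_bot_iff.mp (le_trans ?_ hJ.le)
      rw [← pow_mul]
      exact Ideal.pow_le_pow_right (by omega)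
    obtain ⟨l, hl, hlf⟩ := InfLift.SmoothLift.exists_lift (f := f)
      (fun U V hU hV hUV => (Smooth.smooth_appLE f hV hU hUV).toAlgebra.formallySmooth)
      hI (b := b) (a₀ := l') hl'f.symm
    refine ⟨l, ?_, hlf⟩
    have h1 : Spec.map (CommRingCat.ofHom e') ≫ Spec.map (CommRingCat.ofHom (Ideal.Quotient.mk J')) ≫
        Spec.map (CommRingCat.ofHom π) = Spec.map (CommRingCat.ofHom (Ideal.Quotient.mk J)) := by
      rw [← Spec.map_comp, ← Spec.map_comp]
      rfl
    rw [← h1, Category.assoc, Category.assoc, hl, hl', ← Spec.map_comp_assoc]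
    refine Eq.trans (congrArg (fun z => Spec.map z ≫ a₀) ?_) (by rw [Spec.map_id, Category.id_comp])
    ext x
    rfl

section Conj

variable {S : Scheme.{u}} {H G : Over S} [GrpObj G] (u : H ⟶ G) (g : 𝟙_ (Over S) ⟶ G)

/-- The conjugate of a homomorphism by a section. -/
def conjHom : H ⟶ G := (toUnit H ≫ g) * u * (toUnit H ≫ g)⁻¹

lemma comp_conjHom {X : Over S} (x : X ⟶ H) :
    x ≫ conjHom u g = (toUnit X ≫ g) * (x ≫ u) * (toUnit X ≫ g)⁻¹ := by
  rw [conjHom, MonObj.comp_mul, MonObj.comp_mul, GrpObj.comp_inv, ← Category.assoc, comp_toUnit]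

lemma isMonHom_conjHom [GrpObj H] [IsMonHom u] : IsMonHom (conjHom u g) :=
  isMonHom_of_pts _ fun Y x y => by
    rw [comp_conjHom, comp_conjHom, comp_conjHom, MonObj.mul_comp]
    group

end Conj

/-- Congruent homomorphisms out of a group of multiplicative type into a smooth group are conjugate. -/
theorem exists_conj_of_congr_nilpotent (n : ℕ) :
    ∀ (R : Type u) [CommRing R] (J : Ideal R), J ^ (n + 2) = ⊥ →
      ∀ (H G : Over (Spec (CommRingCat.of R))) [GrpObj H] [GrpObj G], SplitLoc H → Smooth G.hom →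
      ∀ (u v : H ⟶ G) [IsMonHom u] [IsMonHom v],
      (∀ (X : Over (Spec (CommRingCat.of R)))
        (_ : X ⟶ Over.mk (Spec.map (CommRingCat.ofHom (Ideal.Quotient.mk J)))) (h : X ⟶ H), h ≫ u = h ≫ v) →
      ∃ g : 𝟙_ (Over (Spec (CommRingCat.of R))) ⟶ G,
        toUnit (Over.mk (Spec.map (CommRingCat.ofHom (Ideal.Quotient.mk J))) : Over (Spec (CommRingCat.of R))) ≫ g = 1 ∧
          ∀ (X : Over (Spec (CommRingCat.of R))) (h : X ⟶ H), h ≫ v = (toUnit X ≫ g) * (h ≫ u) * (toUnit X ≫ g)⁻¹ := by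
  induction n with
  | zero =>
    intro R _ J hJ H G _ _ ⟨S', f, hf, hsurj, hc, hloc⟩ hG u v _ _ h0
    refine exists_conj_of_congr (G := G) (H := H) f hc hloc (by rw [← pow_two]; exact hJ) u v
      (fun T _ _ hT x => ?_)
    let χ : R ⧸ J →+* T := Ideal.Quotient.lift J (algebraMap R T) hT
    refine h0 _ (Over.homMk (Spec.map (CommRingCat.ofHom χ)) ?_) x
    show Spec.map _ ≫ Spec.map _ = Spec.map _
    rw [← Spec.map_comp]
    rfl
  | succ n ih =>
    intro R _ J hJ H G _ _ hH hG u v _ _ h0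
    let I : Ideal R := J ^ (n + 2)
    have hIJ : I ≤ J := Ideal.pow_le_self (by omega)
    have hII : I * I = ⊥ := by
      refine le_bot_iff.mp (le_trans ?_ hJ.le)
      rw [← pow_add]
      exact Ideal.pow_le_pow_right (by omega)
    let R' := R ⧸ I
    let J' : Ideal R' := J.map (Ideal.Quotient.mk I)
    have hJ' : J' ^ (n + 2) = ⊥ := by rw [← Ideal.map_pow, Ideal.map_quotient_self]
    let q : Spec (CommRingCat.of R') ⟶ Spec (CommRingCat.of R) :=
      Spec.map (CommRingCat.ofHom (Ideal.Quotient.mk I))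
    have : IsClosedImmersion q :=
      IsClosedImmersion.spec_of_surjective _ (by exact Ideal.Quotient.mk_surjective)
    have := isMonHom_bcMap q u
    have := isMonHom_bcMap q v
    have hG' : Smooth (Red.bc q G).hom := have := hG; inferInstanceAs (Smooth (pullback.snd G.hom q))
    let e : R ⧸ J →+* R' ⧸ J' := Ideal.quotientMap J' (Ideal.Quotient.mk I) Ideal.le_comap_map
    let e' : R' ⧸ J' →+* R ⧸ J := Ideal.Quotient.lift J' (Ideal.Quotient.factor hIJ) fun x hx => by
      obtain ⟨y, hy, rfl⟩ := (Ideal.mem_map_iff_of_surjective _ Ideal.Quotient.mk_surjective).mp hx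
      exact Ideal.Quotient.eq_zero_iff_mem.mpr hy
    obtain ⟨g', hg'1, hg'⟩ := ih R' J' hJ' (Red.bc q H) (Red.bc q G) (hH.bc q) hG'
      ((Over.pullback q).map u) ((Over.pullback q).map v) (fun X p h => bcTr_injective q (by
        rw [bcTr_map, bcTr_map]
        refine h0 _ ((Over.map q).map p ≫ Over.homMk (Spec.map (CommRingCat.ofHom e)) ?_) _
        show Spec.map _ ≫ Spec.map _ = Spec.map _ ≫ Spec.map _
        rw [← Spec.map_comp, ← Spec.map_comp]
        rfl))
    -- lift
    obtain ⟨l, hl, hlf⟩ := InfLift.SmoothLift.exists_lift (f := G.hom)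
      (fun U V hU hV hUV => (Smooth.smooth_appLE G.hom hV hU hUV).toAlgebra.formallySmooth)
      (show I ^ 2 = ⊥ by rw [sq]; exact hII) (b := 𝟙 _) (a₀ := (bcTr q g').left)
      (by
        rw [Category.comp_id, Over.w (bcTr q g')]
        exact (Category.id_comp _).symm)
    let g₁ : 𝟙_ (Over (Spec (CommRingCat.of R))) ⟶ G := Over.homMk l hlf
    have key : ∀ (X : Over (Spec (CommRingCat.of R'))),
        (toUnit ((Over.map q).obj X) ≫ g₁) = bcTr q (toUnit X ≫ g') := by
      intro X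
      rw [bcTr_comp]
      ext1
      show (toUnit ((Over.map q).obj X)).left ≫ l = (toUnit X).left ≫ (bcTr q g').left
      rw [← hl]
      show (X.hom ≫ q) ≫ l = X.hom ≫ q ≫ l
      rw [Category.assoc]
    have : IsMonHom (conjHom u g₁) := isMonHom_conjHom u g₁
    have hcong : CongMod (conjHom u g₁) v I := by
      intro T _ _ hT x
      let χ : R' →+* T := Ideal.Quotient.lift I (algebraMap R T) hT
      let X' : Over (Spec (CommRingCat.of R')) := Over.mk (Spec.map (CommRingCat.ofHom χ))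
      let i : (Over.map q).obj X' ≅ specOver (R := CommRingCat.of R) T := Over.isoMk (Iso.refl _) (by
        show 𝟙 _ ≫ Spec.map _ = Spec.map _ ≫ Spec.map _
        rw [← Spec.map_comp, Category.id_comp]
        rfl)
      have h1 := congrArg (bcTr q) (hg' X' (bcUn q (i.hom ≫ x)))
      rw [bcTr_map, bcTr_mul, bcTr_mul, bcTr_map, bcTr_inv, bcTr_bcUn, ← key, ← comp_conjHom] at h1
      rw [Category.assoc, Category.assoc, cancel_epi i.hom] at h1
      exact h1.symm
    obtain ⟨S', f, hf, hsurj, hc, hloc⟩ := hH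
    obtain ⟨g₂, hg₂1, hg₂⟩ := exists_conj_of_congr (G := G) (H := H) f hc hloc hII (conjHom u g₁) v hcong
    refine ⟨g₂ * g₁, ?_, fun X h => ?_⟩
    · let Z : Over (Spec (CommRingCat.of R')) := Over.mk (Spec.map (CommRingCat.ofHom (Ideal.Quotient.mk J')))
      let k : (Over.mk (Spec.map (CommRingCat.ofHom (Ideal.Quotient.mk J))) : Over (Spec (CommRingCat.of R))) ⟶
          (Over.map q).obj Z := Over.homMk (Spec.map (CommRingCat.ofHom e')) (by
        show Spec.map _ ≫ Spec.map _ ≫ Spec.map _ = Spec.map _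
        rw [← Spec.map_comp, ← Spec.map_comp]
        rfl)
      let k₂ : (Over.map q).obj Z ⟶
          (Over.mk (Spec.map (CommRingCat.ofHom (Ideal.Quotient.mk I))) : Over (Spec (CommRingCat.of R))) :=
        Over.homMk Z.hom
      have h2 := congrArg ((k ≫ k₂) ≫ ·) hg₂1
      simp only [← Category.assoc, comp_toUnit, MonObj.comp_one] at h2
      rw [MonObj.comp_mul, h2, _root_.one_mul, ← comp_toUnit k, Category.assoc, key, hg'1]
      rw [bcTr_one, MonObj.comp_one]
    · rw [hg₂, comp_conjHom, MonObj.comp_mul]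
      group

/-- Conjugations lift along nilpotent ideals. -/
theorem exists_conj_lift {R : Type u} [CommRing R] (J : Ideal R) (hJ : IsNilpotent J)
    (H G : Over (Spec (CommRingCat.of R))) [GrpObj H] [GrpObj G] (hH : SplitLoc H) (hG : Smooth G.hom)
    (u v : H ⟶ G) [IsMonHom u] [IsMonHom v]
    (g₀ : (Over.mk (Spec.map (CommRingCat.ofHom (Ideal.Quotient.mk J))) : Over (Spec (CommRingCat.of R))) ⟶ G)
    (h0 : ∀ (X : Over (Spec (CommRingCat.of R))) (p : X ⟶ (Over.mk (Spec.map (CommRingCat.ofHom (Ideal.Quotient.mk J))) : Over (Spec (CommRingCat.of R)))) (h : X ⟶ H), h ≫ v = (p ≫ g₀) * (h ≫ u) * (p ≫ g₀)⁻¹) :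
    ∃ g : 𝟙_ (Over (Spec (CommRingCat.of R))) ⟶ G, toUnit (Over.mk (Spec.map (CommRingCat.ofHom (Ideal.Quotient.mk J))) : Over (Spec (CommRingCat.of R))) ≫ g = g₀ ∧
      ∀ (X : Over (Spec (CommRingCat.of R))) (h : X ⟶ H), h ≫ v = (toUnit X ≫ g) * (h ≫ u) * (toUnit X ≫ g)⁻¹ := by
  obtain ⟨m, hm⟩ := hJ
  have h1 : J ^ (m + 1) = ⊥ := by rw [pow_succ, hm, zero_mul]; rfl
  obtain ⟨l, hl, hlf⟩ := exists_lift_nilpotent G.hom m R J h1 (𝟙 _) g₀.left (by
    rw [Category.comp_id]; exact (Over.w g₀).symm)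
  let g₁ : 𝟙_ (Over (Spec (CommRingCat.of R))) ⟶ G := Over.homMk l hlf
  let S₀ : Over (Spec (CommRingCat.of R)) := Over.mk (Spec.map (CommRingCat.ofHom (Ideal.Quotient.mk J)))
  have hS : toUnit S₀ ≫ g₁ = g₀ := by ext1; exact hl
  have : IsMonHom (conjHom u g₁) := isMonHom_conjHom u g₁
  obtain ⟨g₂, hg₂1, hg₂⟩ := exists_conj_of_congr_nilpotent m R J
    (by rw [pow_succ, h1, Ideal.bot_mul]) H G hH hG (conjHom u g₁) v (fun X p h => by
      rw [h0 X p h, comp_conjHom, ← hS, ← Category.assoc, comp_toUnit])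
  refine ⟨g₂ * g₁, ?_, fun X h => ?_⟩
  · rw [MonObj.comp_mul, hg₂1, hS, _root_.one_mul]
  · rw [hg₂, comp_conjHom, MonObj.comp_mul]
    group

end Groth.Agent.DiagRig
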