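import Groth.Agent.DiagRig.BCLoc
import Groth.Agent.DiagRig.ConjLift
import Groth.Agent.S1488
import Groth.Agent.GrpScheme.SubgroupObj

/-! Transporters between homomorphisms out of groups of multiplicative type. -/

universe u

open CategoryTheory MonoidalCategory CartesianMonoidalCategory MonObj GrpObj AlgebraicGeometry Limits

noncomputable section

namespace Groth.Agent.DiagRig

variable {S : Scheme.{u}} {H G : Over S} [GrpObj H] [GrpObj G] (u₁ u₂ : H ⟶ G)

/-- `g` transports `u₁` into `u₂`. -/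
def Transports {X : Over S} (g : X ⟶ G) : Prop :=
  ∀ (X' : Over S) (x : X' ⟶ X) (h : X' ⟶ H), (x ≫ g) * (h ≫ u₁) * (x ≫ g)⁻¹ = h ≫ u₂

/-- The transporter is a closed subscheme, smooth if `G` is. -/
theorem exists_transporter (hH : SplitFpqc H) [IsMonHom u₁] [IsMonHom u₂] [IsSeparated G.hom] :
    ∃ (T : Over S) (j : T ⟶ G), IsClosedImmersion j.left ∧ (Smooth G.hom → Smooth T.hom) ∧
      ∀ (X : Over S) (g : X ⟶ G), (∃ t : X ⟶ T, t ≫ j = g) ↔ Transports u₁ u₂ g := by
  obtain ⟨T, j, hj, hlfp, hT⟩ := exists_closed_eqLocus (X := G) (H := H) (W := G)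
    (fst G H * (snd G H ≫ u₁) * (fst G H)⁻¹) (snd G H ≫ u₂) hH
  have hiff : ∀ (X : Over S) (g : X ⟶ G), (∃ t : X ⟶ T, t ≫ j = g) ↔ Transports u₁ u₂ g := by
    intro X g
    rw [hT]
    refine forall_congr' fun X' => forall_congr' fun x => forall_congr' fun h => ?_
    rw [MonObj.comp_mul, MonObj.comp_mul, GrpObj.comp_inv, lift_fst, lift_snd_assoc, lift_snd_assoc]
  refine ⟨T, j, hj, fun hG => ?_, hiff⟩
  have := hG
  have hlfp' := hlfp inferInstance
  refine (Groth.Agent.S1488.result T.hom).mpr ⟨?_, fun A _ I hI a b w => ?_⟩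
  · rw [← Over.w j]; infer_instance
  · let q : Spec (CommRingCat.of (A ⧸ I)) ⟶ Spec (CommRingCat.of A) :=
      Spec.map (CommRingCat.ofHom (Ideal.Quotient.mk I))
    let S₀ : Over (Spec (CommRingCat.of A)) := Over.mk q
    let a' : (Over.map b).obj S₀ ⟶ T := Over.homMk a w.symm
    have := isMonHom_bcMap b u₁
    have := isMonHom_bcMap b u₂
    obtain ⟨g, hg₀, hg⟩ := exists_conj_lift I ⟨2, hI⟩ (Red.bc b H) (Red.bc b G) (splitLoc_bc hH b)
      (inferInstanceAs (Smooth (pullback.snd G.hom b))) ((Over.pullback b).map u₁) ((Over.pullback b).map u₂)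
      (bcUn b (a' ≫ j)) fun X p h => bcTr_injective b (by
        rw [bcTr_map, bcTr_mul, bcTr_mul, bcTr_map, bcTr_inv, bcTr_comp, bcTr_bcUn]
        exact ((hiff _ (a' ≫ j)).mp ⟨a', rfl⟩ _ _ _).symm)
    let Y : Over S := (Over.map b).obj (𝟙_ (Over (Spec (CommRingCat.of A))))
    have hY : Transports u₁ u₂ (bcTr b g) := by
      intro X' x h
      let X₀ : Over (Spec (CommRingCat.of A)) := Over.mk x.left
      let e : (Over.map b).obj X₀ ≅ X' := Over.isoMk (Iso.refl _) (by
        show 𝟙 _ ≫ X'.hom = x.left ≫ b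
        rw [Category.id_comp, ← Over.w x]
        show x.left ≫ (𝟙 _ ≫ b) = _
        rw [Category.id_comp])
      have h1 := congrArg (bcTr b) (hg X₀ (bcUn b (e.hom ≫ h)))
      rw [bcTr_map, bcTr_mul, bcTr_mul, bcTr_map, bcTr_inv, bcTr_comp, bcTr_bcUn] at h1
      have ex : (Over.map b).map (toUnit X₀) = e.hom ≫ x := by
        ext1
        show _ = 𝟙 _ ≫ x.left
        rw [Category.id_comp]
        rfl
      rw [ex, Category.assoc, Category.assoc, Category.assoc, ← GrpObj.comp_inv, ← MonObj.comp_mul,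
        ← MonObj.comp_mul, cancel_epi e.hom] at h1
      exact h1.symm
    obtain ⟨t, ht⟩ := (hiff _ _).mpr hY
    refine ⟨t.left, ?_, ?_⟩
    · have h1 : (Over.map b).map (toUnit S₀) ≫ t = a' := by
        have : Mono j := Over.mono_of_mono_left j
        rw [← cancel_mono j, Category.assoc, ht, ← bcTr_comp, hg₀, bcTr_bcUn]
      exact congrArg CommaMorphism.left h1
    · have := Over.w t
      exact this.trans (Category.id_comp b)

end Groth.Agent.DiagRig
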