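import Groth.Agent.DiagRig.HomLift

/-! Homomorphisms from groups of multiplicative type to smooth groups lift along nilpotent ideals. -/

universe u

open CategoryTheory MonoidalCategory CartesianMonoidalCategory MonObj GrpObj AlgebraicGeometry Limits

set_option linter.style.haveILetI false

noncomputable section

namespace Groth.Agent.DiagRig

variable {R : Type u} [CommRing R]

/-- A point killing an ideal comes from the closed subscheme. -/
def killIso {J : Ideal R} {T : Type u} [CommRing T] [Algebra R T] (hT : ∀ r ∈ J, algebraMap R T r = 0) :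
    (Over.map (Spec.map (CommRingCat.ofHom (Ideal.Quotient.mk J)))).obj
      (Over.mk (Spec.map (CommRingCat.ofHom (Ideal.Quotient.lift J (algebraMap R T) hT)))) ≅
    specOver (R := CommRingCat.of R) T :=
  Over.isoMk (Iso.refl _) (by
    show 𝟙 _ ≫ Spec.map _ = Spec.map _ ≫ Spec.map _
    rw [← Spec.map_comp, Category.id_comp]
    rfl)

variable {H G : Over (Spec (CommRingCat.of R))}

set_option maxHeartbeats 800000 in
set_option backward.isDefEq.respectTransparency.types false in
/-- Congruent morphisms have the same restriction. -/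
lemma map_eq_of_congMod [IsAffine H.left] {J : Ideal R} (F F' : H ⟶ G)
    (h : CongMod (R := CommRingCat.of R) F F' J) :
    (Over.pullback (Spec.map (CommRingCat.ofHom (Ideal.Quotient.mk J)))).map F =
      (Over.pullback (Spec.map (CommRingCat.ofHom (Ideal.Quotient.mk J)))).map F' := by
  let q : Spec (CommRingCat.of (R ⧸ J)) ⟶ Spec (CommRingCat.of R) :=
    Spec.map (CommRingCat.ofHom (Ideal.Quotient.mk J))
  refine bcTr_injective q ?_
  have hr : ∀ f : H ⟶ G, bcTr q ((Over.pullback q).map f) = bcTr q (𝟙 (Red.bc q H)) ≫ f := fun f => by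
    rw [← bcTr_map, Category.id_comp]
  rw [hr, hr]
  let W : Over (Spec (CommRingCat.of R)) := (Over.map q).obj (Red.bc q H)
  have : IsAffine W.left := inferInstanceAs (IsAffine (pullback H.hom q))
  letI : Algebra (CommRingCat.of R) Γ(W.left, ⊤) := algΓR (R := R) W
  rw [← cancel_epi (specIso (R := CommRingCat.of R) W).inv, ← Category.assoc, ← Category.assoc]
  refine h Γ(W.left, ⊤) (fun r hr' => ?_) _
  let ψ : CommRingCat.of (R ⧸ J) ⟶ CommRingCat.of Γ(W.left, ⊤) :=
    Spec.preimage ((specIso (R := CommRingCat.of R) W).inv.left ≫ (Red.bc q H).hom)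
  have hw : CommRingCat.ofHom (Ideal.Quotient.mk J) ≫ ψ =
      CommRingCat.ofHom (algebraMap (CommRingCat.of R) Γ(W.left, ⊤)) := by
    apply Spec.map_injective
    rw [Spec.map_comp, Spec.map_preimage, Category.assoc]
    exact Over.w (specIso (R := CommRingCat.of R) W).inv
  refine (congr($hw r)).symm.trans ?_
  show ψ (Ideal.Quotient.mk J r) = 0
  rw [Ideal.Quotient.eq_zero_iff_mem.mpr hr', map_zero]

variable [GrpObj G] [GrpObj H]

/-- A morphism restricting to a homomorphism is a homomorphism modulo the ideal. -/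
lemma congMod_of_map {J : Ideal R} (F : H ⟶ G)
    [IsMonHom (M := Red.bc (Spec.map (CommRingCat.ofHom (Ideal.Quotient.mk J))) H)
      (N := Red.bc (Spec.map (CommRingCat.ofHom (Ideal.Quotient.mk J))) G)
      ((Over.pullback (Spec.map (CommRingCat.ofHom (Ideal.Quotient.mk J)))).map F)] :
    CongMod (R := CommRingCat.of R) (mF (R := CommRingCat.of R) F) (cF (R := CommRingCat.of R) F) J := by
  intro T _ _ hT x
  let q : Spec (CommRingCat.of (R ⧸ J)) ⟶ Spec (CommRingCat.of R) :=
    Spec.map (CommRingCat.ofHom (Ideal.Quotient.mk J))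
  let Y : Over (Spec (CommRingCat.of (R ⧸ J))) :=
    Over.mk (Spec.map (CommRingCat.ofHom (Ideal.Quotient.lift J (algebraMap R T) hT)))
  let i : (Over.map q).obj Y ≅ specOver (R := CommRingCat.of R) T := killIso hT
  rw [← cancel_epi i.hom, mF, cF]
  simp only [← Category.assoc, MonObj.comp_mul]
  generalize (i.hom ≫ x) ≫ fst H H = a, (i.hom ≫ x) ≫ snd H H = b
  have h1 := congrArg (bcTr q) (MonObj.mul_comp (bcUn q a) (bcUn q b)
    (show Red.bc q H ⟶ Red.bc q G from (Over.pullback q).map F))
  rwa [bcTr_mul, bcTr_map, bcTr_map, bcTr_map, bcTr_mul, bcTr_bcUn, bcTr_bcUn] at h1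

set_option backward.isDefEq.respectTransparency.types false in
/-- A morphism which is a homomorphism modulo a nilpotent ideal is congruent to a homomorphism, for smooth targets. -/
theorem exists_hom_of_cong_nilpotent (n : ℕ) :
    ∀ (R : Type u) [CommRing R] (J : Ideal R), J ^ (n + 2) = ⊥ →
      ∀ (H G : Over (Spec (CommRingCat.of R))) [GrpObj H] [GrpObj G] [IsAffine H.left], SplitLoc H → Smooth G.hom →
      ∀ F : H ⟶ G, CongMod (R := CommRingCat.of R) (mF (R := CommRingCat.of R) F) (cF (R := CommRingCat.of R) F) J →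
      ∃ F' : H ⟶ G, IsMonHom F' ∧ CongMod (R := CommRingCat.of R) F' F J := by
  induction n with
  | zero =>
    intro R _ J hJ H G _ _ _ hH _ F h0
    exact exists_hom_of_cong (R := CommRingCat.of R) hH (by rw [← pow_two]; exact hJ) F h0
  | succ n ih =>
    intro R _ J hJ H G _ _ _ hH hG F h0
    let I : Ideal R := J ^ (n + 2)
    have hIJ : I ≤ J := Ideal.pow_le_self (by omega)
    have hII : I * I = ⊥ := by
      refine le_bot_iff.mp (le_trans ?_ hJ.le)
      rw [← pow_add]
      exact Ideal.pow_le_pow_right (by omega)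
    let R' := R ⧸ I
    let J' : Ideal R' := J.map (Ideal.Quotient.mk I)
    have hJ' : J' ^ (n + 2) = ⊥ := by rw [← Ideal.map_pow, Ideal.map_quotient_self]
    let q : Spec (CommRingCat.of R') ⟶ Spec (CommRingCat.of R) :=
      Spec.map (CommRingCat.ofHom (Ideal.Quotient.mk I))
    have : IsClosedImmersion q :=
      IsClosedImmersion.spec_of_surjective _ (by exact Ideal.Quotient.mk_surjective)
    have hG' : Smooth (Red.bc q G).hom := have := hG; inferInstanceAs (Smooth (pullback.snd G.hom q))
    have : IsAffine (Red.bc q H).left := inferInstanceAs (IsAffine (pullback H.hom q))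
    -- points over the quotient
    have tr : ∀ {T : Type u} [CommRing T] [Algebra R' T], (∀ r ∈ J', algebraMap R' T r = 0) →
        ∀ x : (Over.map q).obj (specOver (R := CommRingCat.of R') T) ⟶ H ⊗ H,
          x ≫ mF (R := CommRingCat.of R) F = x ≫ cF (R := CommRingCat.of R) F := by
      intro T _ _ hT x
      letI : Algebra R T := ((algebraMap R' T).comp (Ideal.Quotient.mk I)).toAlgebra
      let i : (Over.map q).obj (specOver (R := CommRingCat.of R') T) ≅ specOver (R := CommRingCat.of R) T :=
        Over.isoMk (Iso.refl _) (by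
          show 𝟙 _ ≫ Spec.map _ = Spec.map _ ≫ Spec.map _
          rw [← Spec.map_comp, Category.id_comp]
          rfl)
      rw [← cancel_epi i.inv, ← Category.assoc, ← Category.assoc]
      exact h0 T (fun r hr => hT _ (Ideal.mem_map_of_mem _ hr)) _
    let Fq : Red.bc q H ⟶ Red.bc q G := (Over.pullback q).map F
    have h0' : CongMod (R := CommRingCat.of R') (mF (R := CommRingCat.of R') Fq) (cF (R := CommRingCat.of R') Fq) J' := by
      intro T _ _ hT x
      refine bcTr_injective q ?_
      have h := tr hT (lift (bcTr q (x ≫ fst _ _)) (bcTr q (x ≫ snd _ _)))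
      rw [mF, cF, MonObj.comp_mul, ← Category.assoc, ← Category.assoc, ← Category.assoc, MonObj.comp_mul,
        lift_fst, lift_snd] at h
      rw [mF, cF, MonObj.comp_mul, ← Category.assoc, ← Category.assoc, ← Category.assoc, MonObj.comp_mul]
      exact ((bcTr_map q _ F).trans (congrArg (· ≫ F) (bcTr_mul q _ _))).trans
        (h.trans ((congrArg₂ (· * ·) (bcTr_map q _ F).symm (bcTr_map q _ F).symm).trans (bcTr_mul q _ _).symm))
    obtain ⟨Fh, hFh, hFc⟩ := ih R' J' hJ' (Red.bc q H) (Red.bc q G) (hH.bc q) hG' Fq h0'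
    obtain ⟨F₁, hF₁⟩ := exists_morphism_lift (R := CommRingCat.of R) (J := I)
      ⟨2, by rw [pow_two]; exact hII⟩ hG (bcTr q Fh)
    have hmap : (Over.pullback q).map F₁ = Fh := bcTr_injective q (by
      have h := bcTr_map q (𝟙 (Red.bc q H)) F₁
      rw [Category.id_comp] at h
      exact h.trans hF₁)
    have : IsMonHom (M := Red.bc q H) (N := Red.bc q G) ((Over.pullback q).map F₁) := by rw [hmap]; exact hFh
    obtain ⟨F', hF', hF'c⟩ := exists_hom_of_cong (R := CommRingCat.of R) hH hII F₁ (congMod_of_map F₁)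
    refine ⟨F', hF', fun T _ _ hT x => ?_⟩
    have hTI : ∀ r ∈ I, algebraMap R T r = 0 := fun r hr => hT r (hIJ hr)
    rw [hF'c T hTI x]
    letI : Algebra R' T := (Ideal.Quotient.lift I (algebraMap R T) hTI).toAlgebra
    let i : (Over.map q).obj (specOver (R := CommRingCat.of R') T) ≅ specOver (R := CommRingCat.of R) T :=
      killIso hTI
    rw [← cancel_epi i.hom, ← Category.assoc, ← Category.assoc, ← bcTr_bcUn q (i.hom ≫ x),
      ← bcTr_map, ← bcTr_map, hmap]
    refine congrArg (bcTr q) (hFc T (fun r hr => ?_) _)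
    obtain ⟨y, hy, rfl⟩ := (Ideal.mem_map_iff_of_surjective _ Ideal.Quotient.mk_surjective).mp hr
    exact hT y hy

set_option backward.isDefEq.respectTransparency.types false in
/-- Homomorphisms from an affine group of multiplicative type to a smooth group lift along nilpotent ideals. -/
theorem exists_hom_lift_smooth (J : Ideal R) (hJ : IsNilpotent J) [IsAffine H.left] (hH : SplitLoc H)
    (hG : Smooth G.hom)
    (u₀ : Red.bc (Spec.map (CommRingCat.ofHom (Ideal.Quotient.mk J))) H ⟶
      Red.bc (Spec.map (CommRingCat.ofHom (Ideal.Quotient.mk J))) G) [IsMonHom u₀] :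
    ∃ u : H ⟶ G, IsMonHom u ∧ (Over.pullback (Spec.map (CommRingCat.ofHom (Ideal.Quotient.mk J)))).map u = u₀ := by
  let q : Spec (CommRingCat.of (R ⧸ J)) ⟶ Spec (CommRingCat.of R) :=
    Spec.map (CommRingCat.ofHom (Ideal.Quotient.mk J))
  obtain ⟨F, hF⟩ := exists_morphism_lift (R := CommRingCat.of R) (J := J) hJ hG (bcTr q u₀)
  have hmap : (Over.pullback q).map F = u₀ := bcTr_injective q (by
    have h := bcTr_map q (𝟙 (Red.bc q H)) F
    rw [Category.id_comp] at h
    exact h.trans hF)
  have : IsMonHom (M := Red.bc q H) (N := Red.bc q G) ((Over.pullback q).map F) := by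
    rw [hmap]; assumption
  obtain ⟨m, hm⟩ := hJ
  obtain ⟨F', hF', hc⟩ := exists_hom_of_cong_nilpotent m R J
    (by rw [pow_add, hm, zero_mul]; rfl) H G hH hG F (congMod_of_map F)
  exact ⟨F', hF', (map_eq_of_congMod F' F hc).trans hmap⟩

end Groth.Agent.DiagRig
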