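import Groth.Agent.DiagRig.MultLift
import Groth.Agent.Thick.Unram
import Groth.Agent.DiagRig.HomLiftNil

/-!
# Immersions along thickenings; lifting sub-groups of multiplicative type of smooth groups
-/

universe u

open CategoryTheory MonoidalCategory CartesianMonoidalCategory MonObj GrpObj AlgebraicGeometry Limits
open scoped TensorProduct

noncomputable section

namespace Groth.Agent.DiagRig

lemma isClosedImmersion_specQuot {R : Type u} [CommRing R] (J : Ideal R) :
    IsClosedImmersion (Spec.map (CommRingCat.ofHom (Ideal.Quotient.mk J))) :=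
  IsClosedImmersion.spec_of_surjective _ Ideal.Quotient.mk_surjective

lemma surjective_specQuot_of_nil {R : Type u} [CommRing R] (J : Ideal R) (hJ : ∀ x ∈ J, IsNilpotent x) :
    Surjective (Spec.map (CommRingCat.ofHom (Ideal.Quotient.mk J))) := by
  refine ⟨fun p => ?_⟩
  refine (show p ∈ Set.range (PrimeSpectrum.comap (Ideal.Quotient.mk J)) from ?_)
  rw [range_comap_of_surjective _ _ Ideal.Quotient.mk_surjective, Ideal.mk_ker]
  exact fun x hx => (hJ x hx).elim fun n hn => p.isPrime.mem_of_pow_mem n (by rw [hn]; exact p.asIdeal.zero_mem)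

lemma locallyOfFiniteType_of_immersion {X Y : Scheme.{u}} (f : X ⟶ Y) [IsImmersion f] : LocallyOfFiniteType f := by
  rw [← f.liftCoborder_ι]
  infer_instance

/-- Immersions pass through thickenings. -/
theorem isImmersion_of_thickening {X X' S S' : Scheme.{u}} (iX : X ⟶ X') (iS : S ⟶ S') (f : X ⟶ S) (f' : X' ⟶ S')
    [IsClosedImmersion iX] [Surjective iX] [IsClosedImmersion iS] [Surjective iS]
    (w : iX ≫ f' = f ≫ iS) [LocallyOfFiniteType f'] [Mono f'] [IsImmersion f] : IsImmersion f' := by
  let V := f.coborderRange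
  have hbij : Function.Bijective iS.base := ⟨iS.isClosedEmbedding.injective, iS.surjective⟩
  let U : S'.Opens := ⟨iS.base '' (V : Set S), by
    rw [← isClosed_compl_iff, ← Set.image_compl_eq hbij]
    exact iS.isClosedEmbedding.isClosedMap _ V.isOpen.isClosed_compl⟩
  have hUV : iS ⁻¹ᵁ U = V := TopologicalSpace.Opens.ext (Set.preimage_image_eq _ hbij.1)
  have hr : Set.range f'.base ⊆ Set.range U.ι.base := by
    rw [Scheme.Opens.range_ι]
    rintro _ ⟨y, rfl⟩
    obtain ⟨x, rfl⟩ := iX.surjective y
    refine ⟨f.base x, subset_coborder ⟨x, rfl⟩, ?_⟩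
    rw [← Scheme.Hom.comp_apply, ← Scheme.Hom.comp_apply, w]
  let f0' : X' ⟶ U := IsOpenImmersion.lift U.ι f' hr
  have h0' : f0' ≫ U.ι = f' := IsOpenImmersion.lift_fac _ _ _
  let f0 : X ⟶ (iS ⁻¹ᵁ U : S.Opens) := f.liftCoborder ≫ (S.isoOfEq hUV.symm).hom
  have w' : iX ≫ f0' = f0 ≫ (iS ∣_ U) := by
    rw [← cancel_mono U.ι, Category.assoc, Category.assoc, h0', w, morphismRestrict_ι,
      ← Category.assoc f0]
    congr 1
    simp [f0, V]
  have : LocallyOfFiniteType (f0' ≫ U.ι) := by rw [h0']; infer_instance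
  have : LocallyOfFiniteType f0' := locallyOfFiniteType_of_comp f0' U.ι
  have : Mono (f0' ≫ U.ι) := by rw [h0']; infer_instance
  have : Mono f0' := mono_of_mono f0' U.ι
  have : IsClosedImmersion f0 := inferInstanceAs (IsClosedImmersion (_ ≫ _))
  have : IsClosedImmersion (iS ∣_ U) := IsZariskiLocalAtTarget.restrict (P := @IsClosedImmersion) inferInstance U
  have : Surjective (iS ∣_ U) := IsZariskiLocalAtTarget.restrict (P := @Surjective) inferInstance U
  have := Groth.Agent.Thick.Unram.isClosedImmersion_of_mono iX (iS ∣_ U) f0 f0' w'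
  rw [← h0']
  infer_instance

variable {S₀ S : Scheme.{u}} (q : S₀ ⟶ S) {H G : Over S}

omit q in
/-- The square expressing the base change of a morphism is cartesian. -/
lemma isPullback_map_left (q : S₀ ⟶ S) (j : H ⟶ G) :
    IsPullback (pullback.fst H.hom q) ((Over.pullback q).map j).left j.left (pullback.fst G.hom q) := by
  have w : pullback.fst H.hom q ≫ j.left = ((Over.pullback q).map j).left ≫ pullback.fst G.hom q := by
    simp [pullback.lift_fst]
  refine IsPullback.of_bot ?_ w (IsPullback.of_hasPullback G.hom q)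
  rw [Over.w j, show ((Over.pullback q).map j).left ≫ pullback.snd G.hom q = pullback.snd H.hom q by
    simp [pullback.lift_snd]]
  exact IsPullback.of_hasPullback H.hom q

omit q in
/-- A morphism that is an immersion after base change to a thickening is an immersion. -/
theorem isImmersion_of_map (q : S₀ ⟶ S) [IsClosedImmersion q] [Surjective q] (j : H ⟶ G)
    [LocallyOfFiniteType H.hom] [IsImmersion ((Over.pullback q).map j).left] : IsImmersion j.left := by
  have hsq := isPullback_map_left q j
  have : LocallyOfFiniteType (j.left ≫ G.hom) := by rw [Over.w j]; infer_instance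
  have : LocallyOfFiniteType j.left := locallyOfFiniteType_of_comp j.left G.hom
  have := Groth.Agent.Thick.Unram.mono_of_locallyOfFiniteType hsq
  exact isImmersion_of_thickening _ _ _ _ hsq.w

lemma locally_of_multTypeFT {H : Over S} [GrpObj H] (hH : SGA3x.IsMultTypeFT H) :
    TwC.Locally S TwC.Topology.fpqc (fun S' f => ∃ (M : Type) (_ : AddCommGroup M),
      Nonempty (Grp.mk (Red.bc f H) ≅ Grp.mk (Red.DS S' M))) := by
  obtain ⟨S', f, hf, hs, hc, hloc⟩ := hH
  exact ⟨S', f, hf, hs, hc, fun s => let ⟨U, hU, M, i, _, e⟩ := hloc s; ⟨U, hU, M, i, e⟩⟩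

set_option backward.isDefEq.respectTransparency.types false in
/-- **Sub-groups of multiplicative type of a smooth group lift along nilpotent ideals.** -/
theorem exists_sub_lift {R : Type u} [CommRing R] (J : Ideal R) (hJ : IsNilpotent J)
    (G : Over (Spec (CommRingCat.of R))) [GrpObj G] (hG : Smooth G.hom)
    (H₀ : Over (Spec (CommRingCat.of (R ⧸ J)))) [GrpObj H₀]
    (hH₀ : TwC.Locally (Spec (CommRingCat.of (R ⧸ J))) TwC.Topology.fpqc (fun S' f => ∃ (M : Type) (_ : AddCommGroup M),
      Nonempty (Grp.mk (Red.bc f H₀) ≅ Grp.mk (Red.DS S' M))))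
    (j₀ : H₀ ⟶ Red.bc (Spec.map (CommRingCat.ofHom (Ideal.Quotient.mk J))) G) [IsMonHom j₀] [IsImmersion j₀.left] :
    ∃ (H : Over (Spec (CommRingCat.of R))) (_ : GrpObj H) (j : H ⟶ G), IsAffine H.left ∧ IsMonHom j ∧
      IsImmersion j.left ∧ SGA3x.IsMultTypeFT H ∧
      ∃ φ : Red.bc (Spec.map (CommRingCat.ofHom (Ideal.Quotient.mk J))) H ≅ H₀, IsMonHom φ.hom ∧
        φ.hom ≫ j₀ = (Over.pullback (Spec.map (CommRingCat.ofHom (Ideal.Quotient.mk J)))).map j := by
  let q := Spec.map (CommRingCat.ofHom (Ideal.Quotient.mk J))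
  have hnil : ∀ x ∈ J, IsNilpotent x := fun x hx => by
    obtain ⟨n, hn⟩ := hJ
    exact ⟨n, by simpa [hn] using Ideal.pow_mem_pow hx n⟩
  have : IsClosedImmersion q := isClosedImmersion_specQuot J
  have : Surjective q := surjective_specQuot_of_nil J hnil
  have := isAffineHom_of_locally H₀ hH₀
  have : IsAffine H₀.left := isAffine_of_isAffineHom H₀.hom
  have : Smooth (Red.bc q G).hom := MorphismProperty.pullback_snd (P := @Smooth) G.hom q hG
  have : LocallyOfFiniteType j₀.left := locallyOfFiniteType_of_immersion j₀.left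
  have : LocallyOfFiniteType H₀.hom := by
    have h : LocallyOfFiniteType (j₀.left ≫ (Red.bc q G).hom) := inferInstance
    exact Over.w j₀ ▸ h
  obtain ⟨H, _, hHaff, hHm, φ, hφ⟩ := exists_mult_lift J hnil H₀ (splitLoc_of_locally hH₀)
  have : IsMonHom φ.hom := hφ
  obtain ⟨j, hj, hjmap⟩ := exists_hom_lift_smooth J hJ (H := H) (G := G)
    (splitLoc_of_locally (locally_of_multTypeFT hHm)) hG (φ.hom ≫ j₀)
  have := multType_locallyOfFiniteType H hHm
  have : IsImmersion ((Over.pullback q).map j).left := by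
    have : IsIso φ.hom.left := (inferInstance : IsIso ((Over.forget _).map φ.hom))
    rw [hjmap]
    exact inferInstanceAs (IsImmersion (φ.hom.left ≫ j₀.left))
  exact ⟨H, inferInstance, j, hHaff, hj, isImmersion_of_map q j, hHm, φ, hφ, hjmap.symm⟩

end Groth.Agent.DiagRig
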