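import Groth.Agent.DiagRig.Diag
import Groth.Agent.DiagRig.Inj
import Groth.Agent.DiagRig.BCPts

/-! `D_R(M)` is split with injective characters. -/

universe u

open CategoryTheory MonoidalCategory CartesianMonoidalCategory MonObj GrpObj AlgebraicGeometry Limits

noncomputable section

namespace Groth.Agent.DiagRig

variable (R : Type u) [CommRing R] (M : Type) [AddCommGroup M]

lemma toSpecΓ_injective {X : Scheme.{u}} {A : CommRingCat.{u}} {f g : A ⟶ Γ(X, ⊤)}
    (h : X.toSpecΓ ≫ Spec.map f = X.toSpecΓ ≫ Spec.map g) : f = g := by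
  have e : ∀ k : A ⟶ Γ(X, ⊤), (X.toSpecΓ ≫ Spec.map k).appTop = (Scheme.ΓSpecIso A).hom ≫ k := fun k => by
    simp [Scheme.toSpecΓ_appTop, Scheme.ΓSpecIso_naturality]
  have h1 := congrArg Scheme.Hom.appTop h
  rw [e, e] at h1
  exact (cancel_epi _).mp h1

lemma SplitPts.diag_inj : (SplitPts.diag R M).Inj := by
  intro Y s t h
  letI := algΓR (R := R) ((Over.map (𝟙 (Spec (CommRingCat.of R)))).obj Y)
  have h1 := congrArg CommaMorphism.left h
  have h2 := toSpecΓ_injective (congrArg (fun z => z) h1)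
  refine MonoidHom.ext fun m => ?_
  have h3 := congr($h2 (MonoidAlgebra.single m 1))
  exact (lift_one (R := R) (A := Γ(((Over.map (𝟙 (Spec (CommRingCat.of R)))).obj Y).left, ⊤)) s m).symm.trans
    (h3.trans (lift_one (R := R) (A := Γ(((Over.map (𝟙 (Spec (CommRingCat.of R)))).obj Y).left, ⊤)) t m))

lemma splitLoc_diag : SplitLoc (Red.diag R M : Over (Spec (CommRingCat.of R))) := by
  refine ⟨Spec (CommRingCat.of R), 𝟙 _, inferInstance, inferInstance, ⟨⊤, ?_, by simp⟩, fun s => ?_⟩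
  · simpa using isCompact_univ
  · obtain ⟨P, hP⟩ : ∃ P : SplitPts ((⊤ : (Spec (CommRingCat.of R)).Opens).ι ≫ 𝟙 _) (Red.diag R M) M, P.Inj :=
      ⟨(SplitPts.diag R M).restrict _, SplitPts.Inj.restrict (SplitPts.diag_inj R M) _⟩
    exact ⟨⊤, trivial, M, inferInstance, P, hP⟩

end Groth.Agent.DiagRig
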