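import Groth.Agent.DiagRig.Rigid
import Groth.Agent.DiagRig.DiagInj
import Groth.Prelude.Def_SGA3b

/-!
# Split charts of affine groups as bialgebra isomorphisms

For an `R`-Hopf algebra `A` and an `R`-algebra `T`, injective split charts of `Spec A` over `Spec T`
with group `M` are the same as bialgebra isomorphisms `T ⊗ A ≅ T[M]`.
-/

universe u

open CategoryTheory MonoidalCategory CartesianMonoidalCategory MonObj GrpObj AlgebraicGeometry Limits
open scoped TensorProduct

noncomputable section

namespace Groth.Agent.DiagRig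

variable {R : Type u} [CommRing R] {A : Type u} [CommRing A] [HopfAlgebra R A]
  {T : Type u} [CommRing T] [Algebra R T] {M : Type} [AddCommGroup M]

/-- `Spec B` over `R` is the composite of `Spec B` over `T` with `Spec T ⟶ Spec R`. -/
def resT (B : Type u) [CommRing B] [Algebra R B] [Algebra T B] [IsScalarTower R T B] :
    (Spec (CommRingCat.of B)).asOver (Spec (CommRingCat.of R)) ≅
      (Over.map (specP (CommRingCat.of R) T)).obj ((Spec (CommRingCat.of B)).asOver (Spec (CommRingCat.of T))) :=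
  Over.isoMk (Iso.refl _) (by
    show 𝟙 _ ≫ Spec.map _ ≫ Spec.map _ = Spec.map _
    rw [Category.id_comp, ← Spec.map_comp, ← CommRingCat.ofHom_comp, ← IsScalarTower.algebraMap_eq R T B])

section Pts

variable (P : SplitPts (specP (CommRingCat.of R) T) ((Spec (CommRingCat.of A)).asOver (Spec (CommRingCat.of R))) M)
  (B : Type u) [CommRing B] [Algebra R B] [Algebra T B] [IsScalarTower R T B]

/-- Character maps as maps to global functions. -/
def gFn (t : Multiplicative M →* B) :
    Multiplicative M →* Γ(((Spec (CommRingCat.of B)).asOver (Spec (CommRingCat.of T))).left, ⊤) :=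
  (Scheme.ΓSpecIso (CommRingCat.of B)).inv.hom.toMonoidHom.comp t

omit [Algebra R T] [Algebra R B] [IsScalarTower R T B] in
lemma gFn_mul (s t : Multiplicative M →* B) : gFn (T := T) B (s * t) = gFn B s * gFn B t := by
  ext m
  exact map_mul (Scheme.ΓSpecIso (CommRingCat.of B)).inv.hom _ _

/-- The algebra point given by a character map. -/
def ptHomOf (t : Multiplicative M →* B) : WithConv (A →ₐ[R] B) :=
  Spec.mapMulEquiv.symm ((resT (R := R) (T := T) B).hom ≫
    P.σ (Y := (Spec (CommRingCat.of B)).asOver (Spec (CommRingCat.of T))) (gFn B t))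

lemma ptHomOf_mul (s t : Multiplicative M →* B) : ptHomOf P B (s * t) = ptHomOf P B s * ptHomOf P B t := by
  rw [ptHomOf, ptHomOf, ptHomOf, gFn_mul, P.σ_mul, MonObj.comp_mul, map_mul]

lemma ptHomOf_bijective (hP : P.Inj) : Function.Bijective (ptHomOf P B) := by
  constructor
  · intro s t h
    have h1 := (cancel_epi (resT (R := R) (T := T) B).hom).mp (Spec.mapMulEquiv.symm.injective h)
    refine MonoidHom.ext fun m => ?_
    exact (Scheme.ΓSpecIso (CommRingCat.of B)).commRingCatIsoToRingEquiv.symm.injective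
      (DFunLike.congr_fun (hP _ _ h1) m)
  · intro f
    obtain ⟨t, ht⟩ := P.σ_surjective (Y := (Spec (CommRingCat.of B)).asOver (Spec (CommRingCat.of T)))
      ((resT (R := R) (T := T) B).inv ≫ Spec.mapMulEquiv f)
    refine ⟨(Scheme.ΓSpecIso (CommRingCat.of B)).hom.hom.toMonoidHom.comp t, ?_⟩
    rw [ptHomOf, MulEquiv.symm_apply_eq]
    refine Eq.trans (congrArg (fun z => _ ≫ P.σ z) (show gFn B _ = t from ?_)) (by rw [ht, Iso.hom_inv_id_assoc])
    ext m
    exact congr($((Scheme.ΓSpecIso (CommRingCat.of B)).hom_inv_id) (t m))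

lemma ptHomOf_comp {B' : Type u} [CommRing B'] [Algebra R B'] [Algebra T B'] [IsScalarTower R T B']
    (φ : B →ₐ[T] B') (t : Multiplicative M →* B) :
    ptHomOf P B' ((φ : B →* B').comp t) = WithConv.toConv ((φ.restrictScalars R).comp (ptHomOf P B t).ofConv) := by
  let Y := (Spec (CommRingCat.of B)).asOver (Spec (CommRingCat.of T))
  let Y' := (Spec (CommRingCat.of B')).asOver (Spec (CommRingCat.of T))
  let h : Y' ⟶ Y := (Spec.map (CommRingCat.ofHom φ.toRingHom)).asOver (Spec (CommRingCat.of T))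
  rw [ptHomOf, MulEquiv.symm_apply_eq]
  have e : (fun m => (Scheme.ΓSpecIso (CommRingCat.of B')).inv (φ (t m))) =
      fun m => h.left.appTop ((Scheme.ΓSpecIso (CommRingCat.of B)).inv (t m)) := funext fun m =>
    congr($(Scheme.ΓSpecIso_inv_naturality (CommRingCat.ofHom φ.toRingHom)) (t m))
  have e' : gFn B' ((φ : B →* B').comp t) = h.left.appTop.hom.toMonoidHom.comp (gFn (T := T) B t) :=
    MonoidHom.ext fun m => congrFun e m
  rw [e', ← P.σ_comp h]
  refine Over.OverMorphism.ext ?_
  have e2 := congrArg CommaMorphism.left (Spec.mapMulEquiv.apply_symm_apply ((resT (R := R) (T := T) B).hom ≫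
    P.σ (Y := Y) (gFn B t)))
  show 𝟙 _ ≫ h.left ≫ _ = Spec.map (CommRingCat.ofHom ((φ.restrictScalars R).comp (ptHomOf P B t).ofConv).toRingHom)
  refine (Category.id_comp _).trans (Eq.trans ?_ (Spec.map_comp (CommRingCat.ofHom (ptHomOf P B t).ofConv.toRingHom) (CommRingCat.ofHom φ.toRingHom)).symm)
  exact congrArg (h.left ≫ ·) ((Category.id_comp _).symm.trans e2.symm)

end Pts

omit [CommRing T] [Algebra R T] in
lemma comul_incl (T : Type u) [CommRing T] [Algebra R T] :
    WithConv.toConv (((Bialgebra.comulAlgHom T (T ⊗[R] A)).restrictScalars R).comp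
        (Algebra.TensorProduct.includeRight : A →ₐ[R] T ⊗[R] A)) =
      WithConv.toConv (((Algebra.TensorProduct.includeLeft : T ⊗[R] A →ₐ[T] (T ⊗[R] A) ⊗[T] (T ⊗[R] A)).restrictScalars R).comp
          Algebra.TensorProduct.includeRight) *
        WithConv.toConv (((Algebra.TensorProduct.includeRight : T ⊗[R] A →ₐ[T] (T ⊗[R] A) ⊗[T] (T ⊗[R] A)).restrictScalars R).comp
          Algebra.TensorProduct.includeRight) := by
  refine WithConv.ofConv_injective (AlgHom.ext fun a => ?_)
  refine (congr($(Bialgebra.comul_includeRight (R := R) (A := T) (B := A)) a)).trans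
    (Eq.trans ?_ (AlgHom.convMul_apply _ _ a).symm)
  simp only [RingHom.coe_comp, Function.comp_apply, RingHom.coe_coe, Bialgebra.comulAlgHom_apply]
  generalize Coalgebra.comul (R := R) a = x
  induction x using TensorProduct.induction_on with
  | zero => simp
  | tmul a b => simp
  | add x y hx hy => simp only [map_add, hx, hy]

/-- **from split points to bialgebras** -/
theorem exists_bialgEquiv_of_splitPts
    (P : SplitPts (specP (CommRingCat.of R) T) ((Spec (CommRingCat.of A)).asOver (Spec (CommRingCat.of R))) M)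
    (hP : P.Inj) : Nonempty (T ⊗[R] A ≃ₐc[T] MonoidAlgebra T (Multiplicative M)) := by
  let g : A →ₐ[R] (MonoidAlgebra T (Multiplicative M)) := (ptHomOf P (MonoidAlgebra T (Multiplicative M)) (MonoidAlgebra.of T (Multiplicative M))).ofConv
  obtain ⟨h, hh⟩ := (ptHomOf_bijective P (T ⊗[R] A) hP).2 (WithConv.toConv Algebra.TensorProduct.includeRight)
  let gh : T ⊗[R] A →ₐ[T] (MonoidAlgebra T (Multiplicative M)) := Algebra.TensorProduct.lift (Algebra.ofId T (MonoidAlgebra T (Multiplicative M))) g fun _ _ => Commute.all _ _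
  let hhat : (MonoidAlgebra T (Multiplicative M)) →ₐ[T] T ⊗[R] A := MonoidAlgebra.lift T (T ⊗[R] A) (Multiplicative M) h
  have hgh : (gh.restrictScalars R).comp Algebra.TensorProduct.includeRight = g :=
    AlgHom.ext fun a => by simp [gh]
  have hhof : (hhat : (MonoidAlgebra T (Multiplicative M)) →* T ⊗[R] A).comp (MonoidAlgebra.of T (Multiplicative M)) = h :=
    MonoidHom.ext fun m => MonoidAlgebra.lift_of h m
  have h1 : (hhat.restrictScalars R).comp g = Algebra.TensorProduct.includeRight := by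
    have e := ptHomOf_comp P (MonoidAlgebra T (Multiplicative M)) hhat (MonoidAlgebra.of T (Multiplicative M))
    rw [hhof, hh] at e
    exact (WithConv.toConv_injective e).symm
  have h2 : (gh : T ⊗[R] A →* (MonoidAlgebra T (Multiplicative M))).comp h = MonoidAlgebra.of T (Multiplicative M) := by
    refine (ptHomOf_bijective P (MonoidAlgebra T (Multiplicative M)) hP).1 ?_
    rw [ptHomOf_comp P (T ⊗[R] A) gh h, hh]
    exact congrArg WithConv.toConv hgh
  have c1 : gh.comp hhat = AlgHom.id T (MonoidAlgebra T (Multiplicative M)) := MonoidAlgebra.algHom_ext (fun m => by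
    simpa [hhat, MonoidAlgebra.of_apply] using DFunLike.congr_fun h2 m) (Subsingleton.elim _ _)
  have c2 : hhat.comp gh = AlgHom.id T (T ⊗[R] A) := Algebra.TensorProduct.ext (Subsingleton.elim _ _)
    (AlgHom.ext fun a => by simpa [gh, ← MonoidAlgebra.one_def] using congr($h1 a))
  have hcu : ∀ m, Coalgebra.counit (R := T) (h m) = 1 := by
    have e := ptHomOf_comp P (T ⊗[R] A) (Bialgebra.counitAlgHom T (T ⊗[R] A)) h
    rw [hh] at e
    have e1 : ptHomOf P T (1 : Multiplicative M →* T) = 1 := by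
      obtain ⟨t, ht⟩ := (ptHomOf_bijective P T hP).2 1
      have := ptHomOf_mul P T 1 t
      rw [_root_.one_mul, ht, _root_.mul_one] at this
      exact this.symm
    have e2 : ((Bialgebra.counitAlgHom T (T ⊗[R] A) : T ⊗[R] A →* T).comp h) = 1 := by
      refine (ptHomOf_bijective P T hP).1 (e.trans ?_)
      rw [e1, AlgHom.convOne_def]
      exact congrArg WithConv.toConv (Bialgebra.counitAlgHom_comp_includeRight (R := R) (A := T) (B := A))
    exact fun m => DFunLike.congr_fun e2 m
  have hcm : ∀ m, Coalgebra.comul (R := T) (h m) = h m ⊗ₜ[T] h m := by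
    let i₁ : T ⊗[R] A →ₐ[T] (T ⊗[R] A) ⊗[T] (T ⊗[R] A) := Algebra.TensorProduct.includeLeft
    let i₂ : T ⊗[R] A →ₐ[T] (T ⊗[R] A) ⊗[T] (T ⊗[R] A) := Algebra.TensorProduct.includeRight
    have e : (Bialgebra.comulAlgHom T (T ⊗[R] A) : _ →* (T ⊗[R] A) ⊗[T] (T ⊗[R] A)).comp h =
        (i₁ : _ →* (T ⊗[R] A) ⊗[T] (T ⊗[R] A)).comp h * (i₂ : _ →* (T ⊗[R] A) ⊗[T] (T ⊗[R] A)).comp h := by
      refine (ptHomOf_bijective P _ hP).1 ?_
      rw [ptHomOf_mul, ptHomOf_comp P (T ⊗[R] A) _ h, ptHomOf_comp P (T ⊗[R] A) i₁ h,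
        ptHomOf_comp P (T ⊗[R] A) i₂ h, hh]
      exact comul_incl T
    intro m
    refine (DFunLike.congr_fun e m).trans ?_
    show (h m ⊗ₜ[T] (1 : T ⊗[R] A)) * ((1 : T ⊗[R] A) ⊗ₜ[T] h m) = h m ⊗ₜ[T] h m
    simp
  refine ⟨(BialgEquiv.ofAlgEquiv (AlgEquiv.ofAlgHom hhat gh c2 c1) ?_ ?_).symm⟩
  · refine MonoidAlgebra.algHom_ext (fun m => ?_) (Subsingleton.elim _ _)
    simp [hhat, hcu]
  · refine MonoidAlgebra.algHom_ext (fun m => ?_) (Subsingleton.elim _ _)
    simp [hhat, hcm]

/-- Maps of Hopf algebras give homomorphisms of group schemes. -/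
lemma isMonHom_spec {B : Type u} [CommRing B] [HopfAlgebra R B] (f : A →ₐc[R] B) :
    IsMonHom ((Spec.map (CommRingCat.ofHom (f : A →ₐ[R] B).toRingHom)).asOver (Spec (CommRingCat.of R))) :=
  ((bialgSpec (CommRingCat.of R)).map (Opposite.op (CommBialgCat.ofHom f))).isMonHom_hom

/-- Isomorphic Hopf algebras give isomorphic group schemes. -/
lemma exists_specIso {B : Type u} [CommRing B] [HopfAlgebra R B] (f : A ≃ₐc[R] B) :
    ∃ e : (Spec (CommRingCat.of B)).asOver (Spec (CommRingCat.of R)) ≅
      (Spec (CommRingCat.of A)).asOver (Spec (CommRingCat.of R)), IsMonHom e.hom := by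
  let m := (Spec.map (CommRingCat.ofHom ((f : A →ₐc[R] B) : A →ₐ[R] B).toRingHom)).asOver (Spec (CommRingCat.of R))
  let n := (Spec.map (CommRingCat.ofHom ((f.symm : B →ₐc[R] A) : B →ₐ[R] A).toRingHom)).asOver
    (Spec (CommRingCat.of R))
  refine ⟨⟨m, n, Over.OverMorphism.ext ?_, Over.OverMorphism.ext ?_⟩, isMonHom_spec _⟩
  · show Spec.map _ ≫ Spec.map _ = 𝟙 _
    rw [← Spec.map_comp, ← Spec.map_id]
    congr 1
    ext b
    exact f.apply_symm_apply b
  · show Spec.map _ ≫ Spec.map _ = 𝟙 _
    rw [← Spec.map_comp, ← Spec.map_id]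
    congr 1
    ext a
    exact f.symm_apply_apply a

/-- Base change of `Spec` of a Hopf algebra. -/
lemma exists_bcSpecIso (R A T : Type u) [CommRing R] [CommRing A] [HopfAlgebra R A] [CommRing T] [Algebra R T] :
    ∃ e : Red.bc (specP (CommRingCat.of R) T) ((Spec (CommRingCat.of A)).asOver (Spec (CommRingCat.of R))) ≅
      (Spec (CommRingCat.of (T ⊗[R] A))).asOver (Spec (CommRingCat.of T)), IsMonHom e.hom := by
  let i := pullbackSymmetry (Spec (CommRingCat.of A) ↘ Spec (CommRingCat.of R))
    (Spec (CommRingCat.of T) ↘ Spec (CommRingCat.of R)) ≪≫ pullbackSpecIso' R T A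
  let m := i.hom.asOver (Spec (CommRingCat.of T))
  exact ⟨Over.isoMk i (Over.w m), (inferInstance : IsMonHom m)⟩

/-- **from bialgebras to split points** -/
theorem exists_splitPts_of_bialgEquiv (e : T ⊗[R] A ≃ₐc[T] MonoidAlgebra T (Multiplicative M)) :
    ∃ P : SplitPts (specP (CommRingCat.of R) T) ((Spec (CommRingCat.of A)).asOver (Spec (CommRingCat.of R))) M,
      P.Inj := by
  obtain ⟨a, ha⟩ := exists_bcSpecIso R A T
  obtain ⟨b, hb⟩ := exists_specIso e
  let p := specP (CommRingCat.of R) T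
  let D := SplitPts.diag T M
  let i : ∀ Y : Over (Spec (CommRingCat.of T)), Y ≅ (Over.map (𝟙 _)).obj Y := fun Y =>
    Over.isoMk (Iso.refl _) (by simp)
  let c : Red.diag T M ≅ Red.bc p ((Spec (CommRingCat.of A)).asOver (Spec (CommRingCat.of R))) := b ≪≫ a.symm
  have hc : IsMonHom c.hom := by
    have : IsMonHom a.inv := inferInstance
    show IsMonHom (b.hom ≫ a.inv)
    infer_instance
  refine ⟨{ σ := fun {Y} t => bcTr p ((i Y).hom ≫ D.σ t ≫ c.hom)
            σ_mul := fun {Y} s t => by
              rw [D.σ_mul, MonObj.mul_comp, MonObj.comp_mul, bcTr_mul]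
            σ_comp := fun {Y Y'} h t => by
              rw [← bcTr_comp, ← D.σ_comp h t, Category.assoc]
              refine congrArg (bcTr p) ?_
              rw [← Category.assoc, ← Category.assoc (i Y').hom]
              congr 1
            σ_surjective := fun {Y} g => by
              obtain ⟨t, ht⟩ := D.σ_surjective ((i Y).inv ≫ bcUn p g ≫ c.inv)
              exact ⟨t, by rw [ht]; simp only [Category.assoc, Iso.hom_inv_id_assoc, Iso.inv_hom_id, Category.comp_id, bcTr_bcUn]⟩ }, ?_⟩
  intro Y s t h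
  exact SplitPts.diag_inj T M s t ((cancel_mono c.hom).mp ((cancel_epi (i Y).hom).mp (bcTr_injective p h)))

end Groth.Agent.DiagRig
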