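import Groth.Agent.DiagRig.HomRepresent
import Groth.Agent.DiagRig.SubDescent
import Groth.Prelude.Def_SGA3x

/-! Common charts for two quasi-isotrivial groups of multiplicative type. -/

universe u

open CategoryTheory MonoidalCategory CartesianMonoidalCategory MonObj GrpObj AlgebraicGeometry Limits

noncomputable section

namespace Groth.Agent.DiagRig.HomRep

set_option backward.isDefEq.respectTransparency.types false

variable {S : Scheme.{u}} {G H : Over S} [GrpObj G] [GrpObj H]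

lemma exists_restrict_splitPts {U V : Scheme.{u}} {f : U ⟶ S} {M : Type} [AddCommGroup M]
    (e : Grp.mk (Red.bc f G) ≅ Grp.mk (Red.DS U M)) (j : V ⟶ U) (q : V ⟶ S) (hq : j ≫ f = q) :
    ∃ P : SplitPts q G M, P.Inj := by
  subst hq
  exact ⟨(SplitPts.ofIso f e).restrict j, SplitPts.Inj.restrict (SplitPts.ofIso_inj e) j⟩

lemma exists_splitPts_Gm {U : Scheme.{u}} (p : U ⟶ S) :
    ∃ P : SplitPts p (Red.Gm S) ℤ, P.Inj := by
  let d := fun W : Scheme.{u} => IsTerminal.from specULiftZIsTerminal W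
  let e : Grp.mk (Red.bc p (Red.DS S ℤ)) ≅ Grp.mk (Red.DS U ℤ) :=
    bcGrpIso (d S) p (d U) (specULiftZIsTerminal.hom_ext _ _) (Red.diag (ULift.{u} ℤ) ℤ)
  exact ⟨SplitPts.ofIso p e, SplitPts.ofIso_inj e⟩

/-- An etale chart around a point on which both groups split. -/
theorem exists_chart
    (hG : TwC.Locally S TwC.Topology.etale (fun S' f => ∃ (M : Type) (_ : AddCommGroup M),
      Nonempty (Grp.mk (Red.bc f G) ≅ Grp.mk (Red.DS S' M))))
    (hH : TwC.Locally S TwC.Topology.etale (fun S' f => ∃ (M : Type) (_ : AddCommGroup M),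
      AddGroup.FG M ∧ Nonempty (Grp.mk (Red.bc f H) ≅ Grp.mk (Red.DS S' M)))) (x : S) :
    ∃ c : Chart G H, Etale c.p ∧ x ∈ Set.range c.p := by
  obtain ⟨S₁, f₁, hf₁, ⟨y₁, hy₁⟩, M, _, ⟨e₁⟩⟩ := hG x
  obtain ⟨S₂, f₂, hf₂, ⟨y₂, hy₂⟩, M', _, hfg, ⟨e₂⟩⟩ := hH x
  obtain ⟨z, hz₁, hz₂⟩ := Scheme.Pullback.exists_preimage_pullback (f := f₁) (g := f₂) y₁ y₂ (hy₁.trans hy₂.symm)
  obtain ⟨(W : (pullback f₁ f₂).Opens), hW, hzW, -⟩ :=
    exists_isAffineOpen_mem_and_subset (X := pullback f₁ f₂) (x := z) (U := ⊤) trivial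
  let R : CommRingCat.{u} := Γ(pullback f₁ f₂, W)
  let j : Spec R ⟶ pullback f₁ f₂ := hW.fromSpec
  let p : Spec R ⟶ S := j ≫ pullback.fst f₁ f₂ ≫ f₁
  obtain ⟨P, hP⟩ := exists_restrict_splitPts e₁ (j ≫ pullback.fst f₁ f₂) p (Category.assoc _ _ _)
  obtain ⟨P', hP'⟩ := exists_restrict_splitPts e₂ (j ≫ pullback.snd f₁ f₂) p
    (by rw [Category.assoc, ← pullback.condition])
  refine ⟨⟨R, p, M, M', P, hP, P', hP', hfg⟩, inferInstanceAs (Etale (j ≫ pullback.fst f₁ f₂ ≫ f₁)), ?_⟩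
  obtain ⟨w, hw⟩ : z ∈ Set.range j := by rw [hW.range_fromSpec]; exact hzW
  exact ⟨w, by show f₁ (pullback.fst f₁ f₂ (j w)) = x; rw [hw, hz₁, hy₁]⟩

/-- An etale chart around a point for homomorphisms to the multiplicative group. -/
theorem exists_chart_Gm
    (hG : TwC.Locally S TwC.Topology.etale (fun S' f => ∃ (M : Type) (_ : AddCommGroup M),
      Nonempty (Grp.mk (Red.bc f G) ≅ Grp.mk (Red.DS S' M)))) (x : S) :
    ∃ c : Chart G (Red.Gm S), Etale c.p ∧ x ∈ Set.range c.p := by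
  obtain ⟨S₁, f₁, hf₁, ⟨y₁, hy₁⟩, M, _, ⟨e₁⟩⟩ := hG x
  obtain ⟨(W : S₁.Opens), hW, hzW, -⟩ :=
    exists_isAffineOpen_mem_and_subset (X := S₁) (x := y₁) (U := ⊤) trivial
  let R : CommRingCat.{u} := Γ(S₁, W)
  let j : Spec R ⟶ S₁ := hW.fromSpec
  obtain ⟨P, hP⟩ := exists_restrict_splitPts e₁ j (j ≫ f₁) rfl
  obtain ⟨P', hP'⟩ := exists_splitPts_Gm (j ≫ f₁)
  refine ⟨⟨R, j ≫ f₁, M, ℤ, P, hP, P', hP', inferInstance⟩, inferInstanceAs (Etale (j ≫ f₁)), ?_⟩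
  obtain ⟨w, hw⟩ : y₁ ∈ Set.range j := by rw [hW.range_fromSpec]; exact hzW
  exact ⟨w, by show f₁ (j w) = x; rw [hw, hy₁]⟩

end Groth.Agent.DiagRig.HomRep
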