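import Groth.Agent.DiagRig.MultLift
import Groth.Agent.DiagRig.HomCharts
import Groth.Agent.DiagRig.BCLoc
import Groth.Agent.DiagRig.HopfBridge

/-!
# Etale charts for groups of multiplicative type and finite type
-/

universe u

open CategoryTheory MonoidalCategory CartesianMonoidalCategory MonObj GrpObj AlgebraicGeometry Limits
open TensorProduct

noncomputable section

namespace Groth.Agent.DiagRig.QiChart

set_option backward.isDefEq.respectTransparency.types false

variable {S S' U : Scheme.{u}} {G : Over S} [GrpObj G] {M : Type} [AddCommGroup M]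

/-- Split points of a base change are split points over the old base. -/
theorem exists_splitPts_comp {p : U ⟶ S'} (q : S' ⟶ S) (P : SplitPts p (Red.bc q G) M) (hP : P.Inj) :
    ∃ P' : SplitPts (p ≫ q) G M, P'.Inj := by
  let i : ∀ Y : Over U, (Over.map (p ≫ q)).obj Y ≅ (Over.map q).obj ((Over.map p).obj Y) := fun Y =>
    CategoryTheory.Over.isoMk (Iso.refl _) (by simp)
  refine ⟨{ σ := fun {Y} t => (i Y).hom ≫ bcTr q (P.σ t)
            σ_mul := fun {Y} s t => by rw [P.σ_mul, bcTr_mul, MonObj.comp_mul]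
            σ_comp := fun {Y Y'} h t => by
              rw [← P.σ_comp h t, bcTr_comp, ← Category.assoc, ← Category.assoc]
              congr 1
            σ_surjective := fun {Y} g => by
              obtain ⟨t, ht⟩ := P.σ_surjective (bcUn q ((i Y).inv ≫ g))
              exact ⟨t, by rw [ht, bcTr_bcUn, Iso.hom_inv_id_assoc]⟩ }, ?_⟩
  intro Y s t h
  exact hP s t (bcTr_injective q ((cancel_epi (i Y).hom).mp h))

theorem exists_chart_pts {T : Over S} [GrpObj T] (hT : SGA3x.IsMultTypeFT T) (x : S) :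
    ∃ (R : CommRingCat.{u}) (p : Spec R ⟶ S) (M : Type) (_ : AddCommGroup M) (P : SplitPts p T M),
      P.Inj ∧ AddGroup.FG M ∧ Etale p ∧ x ∈ Set.range p := by
  obtain ⟨(W : S.Opens), hW, hxW, -⟩ := exists_isAffineOpen_mem_and_subset (X := S) (x := x) (U := ⊤) trivial
  let R : CommRingCat.{u} := Γ(S, W)
  have := multType_isAffineHom T hT
  have := multType_locallyOfFiniteType T hT
  let H₀ : Over (Spec (CommRingCat.of R)) := Red.bc hW.fromSpec T
  have : IsAffineHom H₀.hom := MorphismProperty.pullback_snd (P := @IsAffineHom) T.hom hW.fromSpec inferInstance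
  have : IsAffine H₀.left := isAffine_of_isAffineHom H₀.hom
  have : LocallyOfFiniteType H₀.hom :=
    MorphismProperty.pullback_snd (P := @LocallyOfFiniteType) T.hom hW.fromSpec inferInstance
  obtain ⟨A, _, _, e, he, ⟨s, hs, hqi⟩, hft, -⟩ :=
    exists_qi_model H₀ (splitLoc_bc (splitFpqc_of_multTypeFT T hT) hW.fromSpec)
  obtain ⟨x₀, hx₀⟩ : x ∈ Set.range hW.fromSpec := by rw [hW.range_fromSpec]; exact hxW
  obtain ⟨f, hfs, hfx⟩ : ∃ f ∈ s, f ∉ (x₀ : PrimeSpectrum R).asIdeal := by
    by_contra h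
    push Not at h
    exact (x₀ : PrimeSpectrum R).2.ne_top (top_unique (hs ▸ Ideal.span_le.mpr h))
  obtain ⟨R', _, _, het, hff, N, instN, ⟨ε⟩⟩ := hqi f hfs
  letI : Algebra R R' := ((algebraMap (Localization.Away f) R').comp (algebraMap R (Localization.Away f))).toAlgebra
  haveI : IsScalarTower R (Localization.Away f) R' := IsScalarTower.of_algebraMap_eq' rfl
  let ε' : R' ⊗[R] A ≃ₐc[R'] MonoidAlgebra R' N :=
    (MultType.Split.cancel (R := R) (S := Localization.Away f) (T := R') (A := A)).symm.trans ε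
  obtain ⟨M, _, hM, ⟨δ⟩⟩ := exists_fg_model (fun K _ _ => inferInstance) ε'
  obtain ⟨P₁, hP₁⟩ := exists_splitPts_of_bialgEquiv δ
  let P₂ : SplitPts (specP (CommRingCat.of R) R') H₀ M :=
    { σ := fun {Y} t => P₁.σ t ≫ e.hom
      σ_mul := fun {Y} s t => by rw [P₁.σ_mul, MonObj.mul_comp]
      σ_comp := fun {Y Y'} h t => by rw [← Category.assoc, P₁.σ_comp]
      σ_surjective := fun {Y} g => by
        obtain ⟨t, ht⟩ := P₁.σ_surjective (g ≫ e.inv)
        exact ⟨t, by rw [ht, Category.assoc, Iso.inv_hom_id, Category.comp_id]⟩ }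
  obtain ⟨P, hP⟩ := exists_splitPts_comp hW.fromSpec P₂ fun s t h => hP₁ s t ((cancel_mono e.hom).mp h)
  haveI : Algebra.Etale R (Localization.Away f) := inferInstance
  haveI : Algebra.Etale R R' := Algebra.Etale.comp R (Localization.Away f) R'
  haveI : Etale (specP (CommRingCat.of R) R') :=
    HasRingHomProperty.Spec_iff.mpr (RingHom.etale_algebraMap.mpr inferInstance)
  refine ⟨CommRingCat.of R', specP (CommRingCat.of R) R' ≫ hW.fromSpec, M, inferInstance, P, hP, hM, inferInstance, ?_⟩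
  obtain ⟨y, hy⟩ : (x₀ : PrimeSpectrum R) ∈ Set.range (PrimeSpectrum.comap (algebraMap R R')) := by
    obtain ⟨z, hz⟩ : (x₀ : PrimeSpectrum R) ∈ Set.range (PrimeSpectrum.comap (algebraMap R (Localization.Away f))) := by
      rw [PrimeSpectrum.localization_away_comap_range (Localization.Away f) f]; exact hfx
    obtain ⟨y, rfl⟩ := PrimeSpectrum.comap_surjective_of_faithfullyFlat (B := R') z
    exact ⟨y, by rw [← hz, IsScalarTower.algebraMap_eq R (Localization.Away f) R', PrimeSpectrum.comap_comp]; rfl⟩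
  exact ⟨y, (congrArg hW.fromSpec hy).trans hx₀⟩

/-- Charts for homomorphisms `Gm ⟶ T`. -/
theorem exists_chart_cochar {T : Over S} [GrpObj T] (hT : SGA3x.IsMultTypeFT T) (x : S) :
    ∃ c : HomRep.Chart (Red.Gm S) T, Etale c.p ∧ x ∈ Set.range c.p := by
  obtain ⟨R, p, M, _, P, hP, hM, hp, hx⟩ := exists_chart_pts hT x
  obtain ⟨P', hP'⟩ := HomRep.exists_splitPts_Gm p
  exact ⟨⟨R, p, ℤ, M, P', hP', P, hP, hM⟩, hp, hx⟩

/-- Charts for homomorphisms out of diagonalisable groups. -/
theorem exists_chart_DS {T : Over S} [GrpObj T] (hT : SGA3x.IsMultTypeFT T) (N : Type) [AddCommGroup N]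
    (x : S) : ∃ c : HomRep.Chart (Red.DS S N) T, Etale c.p ∧ x ∈ Set.range c.p := by
  obtain ⟨R, p, M, _, P, hP, hM, hp, hx⟩ := exists_chart_pts hT x
  let d := fun W : Scheme.{u} => IsTerminal.from specULiftZIsTerminal W
  let e : Grp.mk (Red.bc p (Red.DS S N)) ≅ Grp.mk (Red.DS (Spec R) N) :=
    bcGrpIso (d S) p (d (Spec R)) (specULiftZIsTerminal.hom_ext _ _) (Red.diag (ULift.{u} ℤ) N)
  exact ⟨⟨R, p, N, M, SplitPts.ofIso p e, SplitPts.ofIso_inj e, P, hP, hM⟩, hp, hx⟩

end Groth.Agent.DiagRig.QiChart
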