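import Groth.Agent.DiagRig.MTUnip
import Groth.Agent.DiagRig.QiChart
import Groth.Agent.GrpdLib.AffHomogeneous
import Groth.Agent.DiagRig.BCPts

/-!
# Homomorphisms from groups of multiplicative type kill unipotent functions
-/

universe u

open CategoryTheory MonoidalCategory CartesianMonoidalCategory MonObj GrpObj AlgebraicGeometry Limits WithConv
open TensorProduct

noncomputable section

namespace Groth.Agent.DiagRig.MTUnip

set_option backward.isDefEq.respectTransparency.types false

attribute [local instance] UnipLib.algOf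

open GrpdLib.AffHomogeneous Comod

variable {k : Type u} [Field k] {A : Type u} [CommRing A] [HopfAlgebra k A]

omit [Field k] [CommRing A] [HopfAlgebra k A] in
/-- A flat morphism detects vanishing of germs at the points of its image. -/
theorem germ_eq_zero_of_flat {Z W : Scheme.{u}} (g : W ⟶ Z) [Flat g] (s : Γ(Z, ⊤)) (hs : g.appTop s = 0) (y : W) :
    Z.presheaf.germ ⊤ (g y) trivial s = 0 := by
  letI := (g.stalkMap y).hom.toAlgebra
  have : Module.Flat (Z.presheaf.stalk (g y)) (W.presheaf.stalk y) := Flat.stalkMap g y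
  haveI : IsLocalHom (algebraMap (Z.presheaf.stalk (g y)) (W.presheaf.stalk y)) :=
    inferInstanceAs (IsLocalHom (g.stalkMap y).hom)
  have := Module.FaithfullyFlat.of_flat_of_isLocalHom (A := Z.presheaf.stalk (g y)) (B := W.presheaf.stalk y)
  refine FaithfulSMul.algebraMap_injective (Z.presheaf.stalk (g y)) (W.presheaf.stalk y) ?_
  rw [map_zero]
  show (g.stalkMap y).hom _ = 0
  erw [Scheme.Hom.germ_stalkMap_apply]
  exact (congrArg _ hs).trans (map_zero _)

set_option maxHeartbeats 1000000 in
/-- A homomorphism from a group of multiplicative type kills the unipotent filtration. -/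
theorem kills {S' : Scheme.{u}} (f : S' ⟶ Spec (CommRingCat.of k)) {H : Over S'} [GrpObj H]
    (hH : SGA3x.IsMultTypeFT H) (v : H ⟶ Red.bc f (specG (k := k) A)) [IsMonHom v] {n : ℕ} {b : A}
    (hb : b ∈ fil k A A n) :
    ((ptEquiv ((Over.map f).obj H)).symm (bcTr f v)).ofConv b =
      algebraMap k Γ(((Over.map f).obj H).left, ⊤) (Coalgebra.counit b) := by
  let X : Over (Spec (CommRingCat.of k)) := (Over.map f).obj H
  let G := ((ptEquiv X).symm (bcTr f v)).ofConv
  choose R p M inst P hP hM hp hx using fun x : S' => QiChart.exists_chart_pts hH x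
  -- covering of `H`
  let Y : ∀ x, Over (Spec (R x)) := fun x => Red.bc (p x) H
  let c : ∀ x, (Over.map (p x)).obj (Y x) ⟶ H := fun x => bcTr (p x) (𝟙 (Y x))
  have key : ∀ x, gam ((Over.map f).map (c x)) (G b - algebraMap k Γ(X.left, ⊤) (Coalgebra.counit b)) = 0 := by
    intro x
    let Mx := Multiplicative (M x)
    letI algR : Algebra k (R x) := (Spec.preimage (p x ≫ f)).hom.toAlgebra
    let F : ∀ {Z : Over (Spec (R x))}, (Mx →* Γ(Z.left, ⊤)) →
        WithConv (A →ₐ[k] Γ(((Over.map f).obj ((Over.map (p x)).obj Z)).left, ⊤)) := fun {Z} t =>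
      (ptEquiv ((Over.map f).obj ((Over.map (p x)).obj Z))).symm (bcTr f ((P x).σ t ≫ v))
    have Fmul : ∀ {Z : Over (Spec (R x))} (s t : Mx →* Γ(Z.left, ⊤)), F (s * t) = F s * F t := fun {Z} s t => by
      simp only [F, (P x).σ_mul, MonObj.mul_comp, bcTr_mul, map_mul]
    have Fnat : ∀ {Z Z' : Over (Spec (R x))} (q : Z' ⟶ Z) (t : Mx →* Γ(Z.left, ⊤)),
        F (q.left.appTop.hom.toMonoidHom.comp t) =
          toConv ((gam ((Over.map f).map ((Over.map (p x)).map q))).comp (F t).ofConv) := fun {Z Z'} q t => by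
      simp only [F, ← (P x).σ_comp, Category.assoc, bcTr_comp, Functor.map_comp]
      exact comp_ptEquiv (k := k) (A := A) _ _
    -- the universal character
    let Z₁ := (Spec (CommRingCat.of (MonoidAlgebra (R x) Mx))).asOver (Spec (CommRingCat.of (R x)))
    let Z₂ := (Spec (CommRingCat.of (MonoidAlgebra (R x) (Mx × Mx)))).asOver (Spec (CommRingCat.of (R x)))
    let t₁ : Mx →* Γ(Z₁.left, ⊤) :=
      (Scheme.ΓSpecIso (CommRingCat.of (MonoidAlgebra (R x) Mx))).inv.hom.toMonoidHom.comp (MonoidAlgebra.of (R x) Mx)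
    have hk : ∀ (B : Type u) [CommRing B] [Algebra (R x) B] [Algebra k B] [IsScalarTower k (R x) B] (r : k),
        (Scheme.ΓSpecIso (CommRingCat.of B)).hom.hom (algebraMap k
          Γ(((Over.map f).obj ((Over.map (p x)).obj ((Spec (CommRingCat.of B)).asOver (Spec (CommRingCat.of (R x)))))).left, ⊤) r) =
          algebraMap k B r := by
      intro B _ _ _ _ r
      let Q := (Over.map f).obj ((Over.map (p x)).obj ((Spec (CommRingCat.of B)).asOver (Spec (CommRingCat.of (R x)))))
      have hQ : Q.hom = Spec.map (CommRingCat.ofHom (algebraMap k B)) := by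
        rw [IsScalarTower.algebraMap_eq k (R x) B, CommRingCat.ofHom_comp, Spec.map_comp,
          show CommRingCat.ofHom (algebraMap k (R x)) = Spec.preimage (p x ≫ f) from rfl, Spec.map_preimage]
        exact Category.assoc _ _ _
      show (Scheme.ΓSpecIso (CommRingCat.of B)).hom.hom (Q.hom.appTop.hom ((Scheme.ΓSpecIso (CommRingCat.of k)).inv.hom r)) = _
      rw [hQ]
      have h2 := ConcreteCategory.congr_hom (Scheme.ΓSpecIso_naturality (CommRingCat.ofHom (algebraMap k B)))
        ((Scheme.ΓSpecIso (CommRingCat.of k)).inv.hom r)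
      refine h2.trans (congrArg (algebraMap k B) ?_)
      exact (Scheme.ΓSpecIso (CommRingCat.of k)).inv_hom_id_apply r
    let h : A →ₐ[k] MonoidAlgebra (R x) Mx :=
      { (Scheme.ΓSpecIso (CommRingCat.of (MonoidAlgebra (R x) Mx))).hom.hom.comp (F t₁).ofConv.toRingHom with
        commutes' := fun r => by
          show (Scheme.ΓSpecIso _).hom.hom ((F t₁).ofConv (algebraMap k A r)) = _
          rw [(F t₁).ofConv.commutes]
          exact hk _ r }
    let q : (MonoidAlgebra (R x) Mx →ₐ[R x] MonoidAlgebra (R x) (Mx × Mx)) → (Z₂ ⟶ Z₁) := fun φ =>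
      (Spec.map (CommRingCat.ofHom φ.toRingHom)).asOver (Spec (CommRingCat.of (R x)))
    let ι₂ : Γ(Z₂.left, ⊤) →+* MonoidAlgebra (R x) (Mx × Mx) :=
      (Scheme.ΓSpecIso (CommRingCat.of (MonoidAlgebra (R x) (Mx × Mx)))).hom.hom
    have hι₂ : Function.Injective ι₂ :=
      (Scheme.ΓSpecIso (CommRingCat.of (MonoidAlgebra (R x) (Mx × Mx)))).commRingCatIsoToRingEquiv.injective
    have happly : ∀ (φ : MonoidAlgebra (R x) Mx →ₐ[R x] MonoidAlgebra (R x) (Mx × Mx)) (a : A),
        ι₂ ((F ((q φ).left.appTop.hom.toMonoidHom.comp t₁)).ofConv a) = φ (h a) := fun φ a => by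
      rw [Fnat]
      exact ConcreteCategory.congr_hom (Scheme.ΓSpecIso_naturality (CommRingCat.ofHom φ.toRingHom)) ((F t₁).ofConv a)
    have hchar : (q inl).left.appTop.hom.toMonoidHom.comp t₁ * (q inr).left.appTop.hom.toMonoidHom.comp t₁ =
        (q diag).left.appTop.hom.toMonoidHom.comp t₁ := by
      refine MonoidHom.ext fun m => hι₂ ?_
      have hval : ∀ φ : MonoidAlgebra (R x) Mx →ₐ[R x] MonoidAlgebra (R x) (Mx × Mx),
          ι₂ (((q φ).left.appTop.hom.toMonoidHom.comp t₁) m) = φ (MonoidAlgebra.of (R x) Mx m) := fun φ => by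
        refine (ConcreteCategory.congr_hom (Scheme.ΓSpecIso_naturality (CommRingCat.ofHom φ.toRingHom)) (t₁ m)).trans ?_
        exact congrArg φ ((Scheme.ΓSpecIso (CommRingCat.of (MonoidAlgebra (R x) Mx))).inv_hom_id_apply _)
      rw [MonoidHom.mul_apply, map_mul, hval, hval, hval]
      simp [inl, inr, diag]
    have hmul : toConv ((inl.restrictScalars k).comp h) * toConv ((inr.restrictScalars k).comp h) =
        toConv ((diag.restrictScalars k).comp h) := by
      refine WithConv.ext (AlgHom.ext fun a => ?_)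
      show (toConv ((inl.restrictScalars k).comp h) * toConv ((inr.restrictScalars k).comp h)) a = diag (h a)
      rw [← happly diag a, ← hchar, Fmul]
      rw [AlgHom.convMul_apply, AlgHom.convMul_apply]
      generalize Coalgebra.comul (R := k) a = w
      induction w using TensorProduct.induction_on with
      | zero => simp
      | add a₁ a₂ h₁ h₂ => simp only [map_add, h₁, h₂]
      | tmul a₁ a₂ =>
        simp only [Algebra.TensorProduct.lift_tmul, map_mul]
        erw [happly inl a₁, happly inr a₂]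
        rfl
    have hhb := eq_counit_of_mul h hmul n b hb
    -- the general character
    obtain ⟨t, ht⟩ := (P x).σ_surjective (c x)
    let L : MonoidAlgebra (R x) Mx →+* Γ((Y x).left, ⊤) := MonoidAlgebra.liftNCRingHom
      ((Y x).hom.appTop.hom.comp (Scheme.ΓSpecIso (CommRingCat.of (R x))).inv.hom) t (fun _ _ => Commute.all _ _)
    let e : Y x ⟶ Z₁ := CategoryTheory.Over.homMk ((Y x).left.toSpecΓ ≫ Spec.map (CommRingCat.ofHom L)) (by
      show ((Y x).left.toSpecΓ ≫ Spec.map (CommRingCat.ofHom L)) ≫ Spec.map (CommRingCat.ofHom (algebraMap (R x) _)) = _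
      rw [Category.assoc, ← Spec.map_comp, ← CommRingCat.ofHom_comp]
      have hL : L.comp (algebraMap (R x) (MonoidAlgebra (R x) Mx)) =
          (Y x).hom.appTop.hom.comp (Scheme.ΓSpecIso (CommRingCat.of (R x))).inv.hom := RingHom.ext fun r => by
        simp [L, MonoidAlgebra.liftNCRingHom]
      rw [hL, CommRingCat.ofHom_comp]
      simp only [CommRingCat.ofHom_hom, Spec.map_comp]
      rw [← Category.assoc, ← Scheme.toSpecΓ_naturality (Y x).hom]
      rw [Category.assoc, ← SpecMap_ΓSpecIso_hom, ← Spec.map_comp]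
      erw [Iso.inv_hom_id, Spec.map_id, Category.comp_id])
    have het : e.left.appTop.hom.toMonoidHom.comp t₁ = t := by
      refine MonoidHom.ext fun m => ?_
      show ((Y x).left.toSpecΓ ≫ Spec.map (CommRingCat.ofHom L)).appTop.hom
        ((Scheme.ΓSpecIso (CommRingCat.of (MonoidAlgebra (R x) Mx))).inv.hom (MonoidAlgebra.of (R x) Mx m)) = t m
      rw [Scheme.Hom.comp_appTop]
      show (Y x).left.toSpecΓ.appTop.hom ((Spec.map (CommRingCat.ofHom L)).appTop.hom _) = t m
      rw [show (Spec.map (CommRingCat.ofHom L)).appTop.hom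
          ((Scheme.ΓSpecIso (CommRingCat.of (MonoidAlgebra (R x) Mx))).inv.hom (MonoidAlgebra.of (R x) Mx m)) =
          (Scheme.ΓSpecIso Γ((Y x).left, ⊤)).inv.hom (L (MonoidAlgebra.of (R x) Mx m)) from
        (ConcreteCategory.congr_hom (Scheme.ΓSpecIso_inv_naturality (CommRingCat.ofHom L)) _).symm,
        Scheme.toSpecΓ_appTop]
      refine ((Scheme.ΓSpecIso Γ((Y x).left, ⊤)).inv_hom_id_apply _).trans ?_
      simp [L, MonoidAlgebra.liftNCRingHom]
    have hF : gam ((Over.map f).map (c x)) (G b) = (F t).ofConv b := by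
      show ((toConv ((gam ((Over.map f).map (c x))).comp G)) : WithConv _) b = _
      rw [show toConv ((gam ((Over.map f).map (c x))).comp G) =
        (ptEquiv _).symm ((Over.map f).map (c x) ≫ bcTr f v) from (comp_ptEquiv _ _).symm]
      simp only [F, ← ht, bcTr_comp]
    rw [map_sub, hF, AlgHom.commutes, ← het, Fnat, sub_eq_zero]
    show gam ((Over.map f).map ((Over.map (p x)).map e)) ((F t₁).ofConv b) = _
    have hb₁ : (F t₁).ofConv b = algebraMap k _ (Coalgebra.counit b) := by
      refine (Scheme.ΓSpecIso (CommRingCat.of (MonoidAlgebra (R x) Mx))).commRingCatIsoToRingEquiv.injective ?_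
      show h b = _
      rw [hhb]
      exact (hk _ _).symm
    rw [hb₁]
    exact AlgHom.commutes _ _
  rw [← sub_eq_zero]
  -- vanishing on the cover
  suffices ∀ (z : H.left), H.left.presheaf.germ ⊤ z trivial
      (G b - algebraMap k Γ(X.left, ⊤) (Coalgebra.counit b) : Γ(H.left, ⊤)) = 0 from
    TopCat.Presheaf.section_ext H.left.sheaf ⊤ _ _ fun z _ => (this z).trans (map_zero _).symm
  intro z
  obtain ⟨y₀, hy₀⟩ := hx (H.hom z)
  obtain ⟨y, hy, -⟩ := Scheme.Pullback.exists_preimage_pullback (f := H.hom) (g := p (H.hom z)) z y₀ hy₀.symm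
  have hc : (c (H.hom z)).left = pullback.fst H.hom (p (H.hom z)) := by
    simp [c, bcTr, Y, Adjunction.homEquiv_counit, Over.mapPullbackAdj, Red.bc]
  have : Etale (p (H.hom z)) := hp _
  have hflat : Flat (c (H.hom z)).left := by rw [hc]; infer_instance
  have hzy : (c (H.hom z)).left y = z := by rw [hc]; exact hy
  have := germ_eq_zero_of_flat (c (H.hom z)).left
    (G b - algebraMap k Γ(X.left, ⊤) (Coalgebra.counit b) : Γ(H.left, ⊤)) (key _) y
  generalize H.hom z = x at *
  subst hzy
  exact this

end Groth.Agent.DiagRig.MTUnip
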