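import Groth.Agent.DiagRig.EqLocus
import Groth.Agent.GrpScheme.ClosedRep
import Mathlib.AlgebraicGeometry.Morphisms.Etale

/-!
# A condition which satisfies fppf descent and is given by finitely generated ideals on étale charts
is a closed subscheme of finite presentation
-/

universe u

open CategoryTheory Limits AlgebraicGeometry
open scoped TensorProduct

noncomputable section

namespace Groth.Agent.DiagRig.ClosedCond

variable {S : Scheme.{u}} {Φ : ∀ ⦃T : Scheme.{u}⦄, (T ⟶ S) → Prop}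

/-- A condition stable under precomposition and local for fppf families of points. -/
structure IsFppf (Φ : ∀ ⦃T : Scheme.{u}⦄, (T ⟶ S) → Prop) : Prop where
  comp : ∀ {T T' : Scheme.{u}} (c : T' ⟶ T) (x : T ⟶ S), Φ x → Φ (c ≫ x)
  desc : ∀ {T : Scheme.{u}} (x : T ⟶ S), (∀ t : T, ∃ (T' : Scheme.{u}) (c : T' ⟶ T), Flat c ∧
    LocallyOfFinitePresentation c ∧ (∃ t', c t' = t) ∧ Φ (c ≫ x)) → Φ x

/-- An ideal describing the locus over a faithfully flat algebra descends. -/
theorem exists_ideal_descend {A A' : Type u} [CommRing A] [CommRing A'] [Algebra A A'] [Module.FaithfullyFlat A A'] [Algebra.FinitePresentation A A'] (hΦ : IsFppf Φ)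
    (a : Spec (CommRingCat.of A) ⟶ S) (I : Ideal A')
    (hI : ∀ (C : CommRingCat.{u}) (φ : CommRingCat.of A' ⟶ C),
      Φ (Spec.map φ ≫ Spec.map (CommRingCat.ofHom (algebraMap A A')) ≫ a) ↔ I ≤ RingHom.ker φ.hom) :
    ∃ I₀ : Ideal A, (I.FG → I₀.FG) ∧ ∀ (C : CommRingCat.{u}) (φ : CommRingCat.of A ⟶ C),
      Φ (Spec.map φ ≫ a) ↔ I₀ ≤ RingHom.ker φ.hom := by
  classical
  let B : PUnit.{u + 1} → Type u := fun _ => A'
  let D := (A' ⧸ I) ⊗[A] A'
  have compat : ∀ x ∈ I, (1 : A' ⧸ I) ⊗ₜ[A] x = (0 : D) := by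
    intro x hx
    let φr : CommRingCat.of A' ⟶ CommRingCat.of D :=
      CommRingCat.ofHom (Algebra.TensorProduct.includeRight : A' →ₐ[A] D).toRingHom
    let φl : CommRingCat.of A' ⟶ CommRingCat.of D :=
      CommRingCat.ofHom ((Algebra.TensorProduct.includeLeftRingHom : (A' ⧸ I) →+* D).comp (Ideal.Quotient.mk I))
    have hl := (hI _ φl).mpr fun z hz => by
      show Algebra.TensorProduct.includeLeftRingHom (Ideal.Quotient.mk I z) = (0 : D)
      rw [Ideal.Quotient.eq_zero_iff_mem.mpr hz, map_zero]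
    have e : CommRingCat.ofHom (algebraMap A A') ≫ φl = CommRingCat.ofHom (algebraMap A A') ≫ φr := by
      ext r
      show φl (algebraMap A A' r) = Algebra.TensorProduct.includeRight (algebraMap A A' r)
      rw [AlgHom.commutes]
      rfl
    rw [← Spec.map_comp_assoc, e, Spec.map_comp_assoc] at hl
    exact (hI _ φr).mp hl hx
  let I' : Ideal A := ⨅ _ : PUnit.{u + 1}, I.comap (algebraMap A A')
  have hImap : I ≤ I'.map (algebraMap A A') :=
    le_map_of_compatible B (fun _ => I) (fun _ _ => compat) PUnit.unit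
  obtain ⟨I₀, hI₀le, hI₀fg, hI₀map⟩ : ∃ I₀ : Ideal A, I₀ ≤ I' ∧ (I.FG → I₀.FG) ∧ I ≤ I₀.map (algebraMap A A') := by
    by_cases hfg : I.FG
    · obtain ⟨t, ht⟩ := hfg
      have hmem : ∀ x : t, ∃ u : Finset A', (u : Set A') ⊆ algebraMap A A' '' (I' : Set A) ∧
          x.1 ∈ Submodule.span A' (u : Set A') := fun x =>
        Submodule.mem_span_finite_of_mem_span
          (show x.1 ∈ Submodule.span A' (algebraMap A A' '' (I' : Set A)) from hImap (ht ▸ Ideal.subset_span x.2))
      choose u hu hxu using hmem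
      obtain ⟨v, hv, hvu⟩ : ∃ v : Finset A, (v : Set A) ⊆ I' ∧
          ((Finset.univ.biUnion u : Finset A') : Set A') = algebraMap A A' '' (v : Set A) := by
        have : ((Finset.univ.biUnion u : Finset A') : Set A') ⊆ algebraMap A A' '' (I' : Set A) := fun z hz => by
          obtain ⟨x, -, hzx⟩ := Finset.mem_biUnion.mp hz
          exact hu x hzx
        obtain ⟨v, hv, hve⟩ := Finset.subset_set_image_iff.mp this
        exact ⟨v, hv, by rw [← hve, Finset.coe_image]⟩
      refine ⟨Ideal.span v, Ideal.span_le.mpr hv, fun _ => ⟨v, rfl⟩, ?_⟩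
      rw [← ht, Ideal.span_le, Ideal.map_span, ← hvu]
      intro x hx
      exact Submodule.span_mono (fun z hz => Finset.mem_biUnion.mpr ⟨⟨x, hx⟩, Finset.mem_univ _, hz⟩) (hxu ⟨x, hx⟩)
    · exact ⟨I', le_rfl, fun h => absurd h hfg, hImap⟩
  refine ⟨I₀, hI₀fg, fun C φ => ?_⟩
  let _ : Algebra A C := φ.hom.toAlgebra
  let k : CommRingCat.of A' ⟶ CommRingCat.of (C ⊗[A] A') :=
    CommRingCat.ofHom (Algebra.TensorProduct.includeRight : A' →ₐ[A] C ⊗[A] A').toRingHom
  let c : Spec (CommRingCat.of (C ⊗[A] A')) ⟶ Spec C := Spec.map (CommRingCat.ofHom (algebraMap C (C ⊗[A] A')))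
  have ek : Spec.map k ≫ Spec.map (CommRingCat.ofHom (algebraMap A A')) = c ≫ Spec.map φ := by
    rw [← Spec.map_comp, ← Spec.map_comp]
    congr 1
    ext r
    exact ((Algebra.TensorProduct.includeRight : A' →ₐ[A] C ⊗[A] A').commutes r).trans
      (IsScalarTower.algebraMap_apply A C (C ⊗[A] A') r)
  refine ⟨fun h r hr => ?_, fun h => ?_⟩
  · rw [RingHom.mem_ker]
    refine FaithfulSMul.algebraMap_injective C (C ⊗[A] A') ?_
    rw [map_zero]
    have h1 : Φ (Spec.map k ≫ Spec.map (CommRingCat.ofHom (algebraMap A A')) ≫ a) := by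
      rw [reassoc_of% ek]
      exact hΦ.comp c _ h
    have h2 : k (algebraMap A A' r) = 0 :=
      (hI _ k).mp h1 ((Submodule.mem_iInf _).mp (hI₀le hr) PUnit.unit)
    exact (congr(($((IsScalarTower.algebraMap_eq A C (C ⊗[A] A'))) : A → C ⊗[A] A') r)).symm.trans
      (((Algebra.TensorProduct.includeRight : A' →ₐ[A] C ⊗[A] A').commutes r).symm.trans h2)
  · refine hΦ.desc _ fun t => ?_
    obtain ⟨t', ht'⟩ := PrimeSpectrum.comap_surjective_of_faithfullyFlat (A := C) (B := C ⊗[A] A') t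
    refine ⟨_, c, ?_, ?_, ⟨t', ht'⟩, ?_⟩
    · exact (HasRingHomProperty.Spec_iff (P := @Flat)).mpr (RingHom.flat_algebraMap_iff.mpr inferInstance)
    · exact (HasRingHomProperty.Spec_iff (P := @LocallyOfFinitePresentation)).mpr
        (RingHom.finitePresentation_algebraMap.mpr inferInstance)
    · rw [← reassoc_of% ek]
      refine (hI _ k).mpr (hI₀map.trans ?_)
      rw [Ideal.map_le_iff_le_comap]
      intro r hr
      show Algebra.TensorProduct.includeRight (algebraMap A A' r) = (0 : C ⊗[A] A')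
      rw [AlgHom.commutes, IsScalarTower.algebraMap_apply A C (C ⊗[A] A'), show algebraMap A C r = 0 from h hr,
        map_zero]

/-- An étale chart gives an ideal near a point. -/
theorem exists_isRep (hΦ : IsFppf Φ) {R : Type u} [CommRing R] (q : Spec (CommRingCat.of R) ⟶ S) [Etale q] (I : Ideal R)
    (hIfg : I.FG) (hI : ∀ (C : CommRingCat.{u}) (φ : CommRingCat.of R ⟶ C), Φ (Spec.map φ ≫ q) ↔ I ≤ RingHom.ker φ.hom)
    (U : S.affineOpens) (s : S) (hs : s ∈ U.1) (r₀ : ↥(Spec (CommRingCat.of R))) (hr₀ : q r₀ = s)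
    (hqU : Set.range q ⊆ U.1) : ∃ g : Γ(S, U), s ∈ S.basicOpen g ∧ ∃ I₀ : Ideal Γ(S, S.affineBasicOpen g),
      I₀.FG ∧ ∀ (C : CommRingCat.{u}) (φ : Γ(S, S.affineBasicOpen g) ⟶ C),
        Φ (Spec.map φ ≫ (S.affineBasicOpen g).2.fromSpec) ↔ I₀ ≤ RingHom.ker φ.hom := by
  let V : S.Opens := ⟨Set.range q, q.isOpenMap.isOpen_range⟩
  obtain ⟨g, hgV, hsg⟩ := U.2.exists_basicOpen_le (V := V) ⟨s, ⟨r₀, hr₀⟩⟩ hs
  refine ⟨g, hsg, ?_⟩
  let D := S.affineBasicOpen g
  let A : Type u := Γ(S, D)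
  let d : Spec (CommRingCat.of A) ⟶ S := D.2.fromSpec
  -- everything is affine over `U`
  let A₀ : Type u := Γ(S, U)
  have hU' : IsOpenImmersion U.2.fromSpec := IsAffineOpen.isOpenImmersion_fromSpec U.2
  let qU : Spec (CommRingCat.of R) ⟶ Spec (CommRingCat.of A₀) :=
    IsOpenImmersion.lift U.2.fromSpec q (by rw [U.2.range_fromSpec]; exact hqU)
  let _ : Algebra A₀ R := (Spec.preimage qU).hom.toAlgebra
  let _ : Algebra A₀ A := (S.presheaf.map (homOfLE (S.basicOpen_le g)).op).hom.toAlgebra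
  have hdU : Spec.map (CommRingCat.ofHom (algebraMap A₀ A)) ≫ U.2.fromSpec = d :=
    U.2.map_fromSpec D.2 (homOfLE (S.basicOpen_le g)).op
  have hqU' : Spec.map (CommRingCat.ofHom (algebraMap A₀ R)) ≫ U.2.fromSpec = q := by
    rw [show CommRingCat.ofHom (algebraMap A₀ R) = Spec.preimage qU from rfl, Spec.map_preimage]
    exact IsOpenImmersion.lift_fac _ _ _
  let A' := A ⊗[A₀] R
  have hqfp : Algebra.FinitePresentation A₀ R := by
    have h2 : LocallyOfFinitePresentation (Spec.map (CommRingCat.ofHom (algebraMap A₀ R)) ≫ U.2.fromSpec) := by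
      rw [hqU']
      infer_instance
    have h1 : LocallyOfFinitePresentation (Spec.map (CommRingCat.ofHom (algebraMap A₀ R))) :=
      MorphismProperty.of_postcomp (W := @LocallyOfFinitePresentation) (W' := @IsOpenImmersion) _ _ hU' h2
    exact RingHom.finitePresentation_algebraMap.mp ((HasRingHomProperty.Spec_iff (P := @LocallyOfFinitePresentation)).mp h1)
  have hqflat : Module.Flat A₀ R := by
    have : Flat q := inferInstance
    rw [← hqU'] at this
    have h1 : Flat (Spec.map (CommRingCat.ofHom (algebraMap A₀ R))) := by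
      have h2 : Flat (Spec.map (CommRingCat.ofHom (algebraMap A₀ R)) ≫ U.2.fromSpec) := this
      exact MorphismProperty.of_postcomp (W := @Flat) (W' := @IsOpenImmersion) _ _ hU' h2
    exact RingHom.flat_algebraMap_iff.mp ((HasRingHomProperty.Spec_iff (P := @Flat)).mp h1)
  have : Module.FaithfullyFlat A A' := Module.FaithfullyFlat.of_comap_surjective fun c => by
    obtain ⟨r, hr⟩ := hgV (show d c ∈ S.basicOpen g from D.2.range_fromSpec.le ⟨c, rfl⟩)
    obtain ⟨v, hv, -⟩ := Scheme.Pullback.exists_preimage_pullback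
      (f := Spec.map (CommRingCat.ofHom (algebraMap A₀ A))) (g := Spec.map (CommRingCat.ofHom (algebraMap A₀ R))) c r (by
        apply U.2.fromSpec.isOpenEmbedding.injective
        rw [← Scheme.Hom.comp_apply, ← Scheme.Hom.comp_apply, hdU, hqU']
        exact hr.symm)
    refine ⟨(pullbackSpecIso A₀ A R).hom v, ?_⟩
    rw [← hv]
    exact congr($(pullbackSpecIso_hom_fst A₀ A R).base v)
  let incl : CommRingCat.of R ⟶ CommRingCat.of A' :=
    CommRingCat.ofHom (Algebra.TensorProduct.includeRight : R →ₐ[A₀] A').toRingHom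
  have hsq : Spec.map (CommRingCat.ofHom (algebraMap A A')) ≫ d = Spec.map incl ≫ q := by
    rw [← hdU, ← hqU', ← Spec.map_comp_assoc, ← Spec.map_comp_assoc]
    congr 2
    ext z
    exact (IsScalarTower.algebraMap_apply A₀ A A' z).symm.trans
      ((Algebra.TensorProduct.includeRight : R →ₐ[A₀] A').commutes z).symm
  obtain ⟨I₀, hI₀fg, hI₀⟩ := exists_ideal_descend hΦ d (I.map incl.hom) fun C φ => by
    rw [hsq, ← Spec.map_comp_assoc, hI, Ideal.map_le_iff_le_comap]
    rfl
  exact ⟨I₀, hI₀fg (hIfg.map _), hI₀⟩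

/-- The condition is a closed subscheme of finite presentation. -/
theorem exists_closed (hΦ : IsFppf Φ)
    (hchart : ∀ (U : S.affineOpens) (s : S), s ∈ U.1 → ∃ (R : Type u) (_ : CommRing R)
      (q : Spec (CommRingCat.of R) ⟶ S) (_ : Etale q) (I : Ideal R), I.FG ∧ (∀ (C : CommRingCat.{u})
        (φ : CommRingCat.of R ⟶ C), Φ (Spec.map φ ≫ q) ↔ I ≤ RingHom.ker φ.hom) ∧
        (∃ r, q r = s) ∧ Set.range q ⊆ U.1) :
    ∃ (Z : Scheme.{u}) (t : Z ⟶ S), IsClosedImmersion t ∧ LocallyOfFinitePresentation t ∧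
      ∀ (T : Scheme.{u}) (x : T ⟶ S), (∃ z : T ⟶ Z, z ≫ t = x) ↔ Φ x := by
  have hrep : ∀ (U : S.affineOpens) (s : S), s ∈ U.1 → ∃ g : Γ(S, U), s ∈ S.basicOpen g ∧
      ∃ I₀ : Ideal Γ(S, S.affineBasicOpen g), I₀.FG ∧ ∀ (C : CommRingCat.{u}) (φ : Γ(S, S.affineBasicOpen g) ⟶ C),
        Φ (Spec.map φ ≫ (S.affineBasicOpen g).2.fromSpec) ↔ I₀ ≤ RingHom.ker φ.hom := fun U s hs => by
    obtain ⟨R, _, q, hq, I, hIfg, hI, ⟨r, hr⟩, hqU⟩ := hchart U s hs
    exact exists_isRep hΦ q I hIfg hI U s hs r hr hqU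
  have hgood : GrpScheme.ClosedRep.IsGood Φ :=
    { comp := fun c x hx => hΦ.comp c x hx
      glue := fun 𝒰 x hx => hΦ.desc x fun p => by
        obtain ⟨i, z, hz⟩ := 𝒰.exists_eq p
        exact ⟨_, 𝒰.f i, inferInstance, inferInstance, ⟨z, hz⟩, hx i⟩ }
  obtain ⟨Z, t, ht, hZ⟩ := GrpScheme.ClosedRep.exists_closed hgood fun U s hs => by
    obtain ⟨g, hsg, I, -, hI⟩ := hrep U s hs
    exact ⟨g, hsg, I, hI⟩
  refine ⟨Z, t, ht, ?_, fun T x => (hZ T x).symm⟩
  have key : ∀ s : S, ∃ U : S.affineOpens, s ∈ U.1 ∧ LocallyOfFinitePresentation (t ∣_ U.1) := by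
    intro s
    obtain ⟨V, hV, hsV, -⟩ := exists_isAffineOpen_mem_and_subset (X := S) (x := s) (U := ⊤) trivial
    obtain ⟨g, hsg, I, hIfg, hI⟩ := hrep ⟨V, hV⟩ s hsV
    obtain ⟨⟨U, hU⟩, hDU⟩ : ∃ D : S.affineOpens, D = S.affineBasicOpen g := ⟨_, rfl⟩
    refine ⟨⟨U, hU⟩, by rw [hDU]; exact hsg, ?_⟩
    obtain ⟨I, hIfg, hI⟩ : ∃ I : Ideal Γ(S, U), I.FG ∧
        ∀ (C : CommRingCat.{u}) (φ : Γ(S, U) ⟶ C),
          Φ (Spec.map φ ≫ hU.fromSpec) ↔ I ≤ RingHom.ker φ.hom := by
      cases hDU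
      exact ⟨I, hIfg, hI⟩
    obtain ⟨I₁, iso, hiso⟩ := IsClosedImmersion.Spec_iff.mp
      (inferInstance : IsClosedImmersion (pullback.fst hU.fromSpec t))
    have h1 : I₁ = I := GrpScheme.ClosedRep.eq_of_forall_ker (A := Γ(S, U)) fun D ψ => by
      rw [← hI D ψ, hZ]
      refine ⟨fun h => ?_, fun ⟨l, hl⟩ => ?_⟩
      · let k : CommRingCat.of (Γ(S, U) ⧸ I₁) ⟶ D :=
          CommRingCat.ofHom (Ideal.Quotient.lift I₁ ψ.hom fun a ha => h ha)
        refine ⟨Spec.map k ≫ iso.inv ≫ pullback.snd hU.fromSpec t, ?_⟩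
        rw [Category.assoc, Category.assoc, ← pullback.condition, hiso, Category.assoc, Iso.inv_hom_id_assoc,
          ← Spec.map_comp_assoc]
        rfl
      · let m := pullback.lift (Spec.map ψ) l hl.symm ≫ iso.hom
        have hm : m ≫ Spec.map (CommRingCat.ofHom (Ideal.Quotient.mk I₁)) = Spec.map ψ := by
          rw [Category.assoc, ← hiso, pullback.lift_fst]
        rw [← Spec.map_preimage m, ← Spec.map_comp] at hm
        intro a ha
        rw [RingHom.mem_ker, ← Spec.map_injective hm]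
        show (Spec.preimage m).hom (Ideal.Quotient.mk I₁ a) = 0
        rw [Ideal.Quotient.eq_zero_iff_mem.mpr ha, map_zero]
    have h2 : LocallyOfFinitePresentation (Spec.map (CommRingCat.ofHom (Ideal.Quotient.mk I₁))) := by
      refine (HasRingHomProperty.Spec_iff (P := @LocallyOfFinitePresentation)).mpr ?_
      have : Algebra.FinitePresentation Γ(S, U) (Γ(S, U) ⧸ I₁) :=
        .quotient (h1 ▸ hIfg)
      exact RingHom.finitePresentation_algebraMap.mpr this
    have h3 : LocallyOfFinitePresentation (pullback.fst hU.fromSpec t) := by rw [hiso]; infer_instance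
    have h5 : LocallyOfFinitePresentation (pullback.snd t hU.fromSpec) := by
      rw [← pullbackSymmetry_hom_comp_fst]
      infer_instance
    have h6 : ∀ b, b = hU.isoSpec.hom ≫ hU.fromSpec → LocallyOfFinitePresentation (pullback.snd t b) := by
      rintro _ rfl
      rw [← pullbackLeftPullbackSndIso_inv_snd_snd t hU.fromSpec hU.isoSpec.hom]
      infer_instance
    rw [← MorphismProperty.cancel_left_of_respectsIso (P := @LocallyOfFinitePresentation)
      (pullbackRestrictIsoRestrict t U).hom, pullbackRestrictIsoRestrict_hom_morphismRestrict]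
    exact h6 _ hU.isoSpec_hom_fromSpec.symm
  choose U hxU hU using key
  exact IsZariskiLocalAtTarget.of_iSup_eq_top (fun x => (U x).1) (top_le_iff.mp fun x _ =>
    TopologicalSpace.Opens.mem_iSup.mpr ⟨x, hxU x⟩) hU

end Groth.Agent.DiagRig.ClosedCond
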