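import Groth.Agent.DiagRig.Action
import Groth.Prelude.Def_TwC
import Mathlib.AlgebraicGeometry.Morphisms.ClosedImmersion

/-! Rigidity in the form used for fpqc-locally diagonalisable groups. -/

universe u

open CategoryTheory MonoidalCategory CartesianMonoidalCategory MonObj GrpObj AlgebraicGeometry Limits

noncomputable section

namespace Groth.Agent.DiagRig

variable {S S₀ : Scheme.{u}}

lemma exists_lift_of_kills (i₀ : S₀ ⟶ S) [IsClosedImmersion i₀] (U : S.affineOpens) {Y : Scheme.{u}}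
    (q : Y ⟶ (U : S.Opens)) (h : ∀ r ∈ i₀.ker.ideal U, q.appTop ((U : S.Opens).topIso.inv r) = 0) :
    ∃ p : Y ⟶ S₀, p ≫ i₀ = q ≫ (U : S.Opens).ι := by
  have : IsAffine (U : S.Opens).toScheme := U.2
  have hle : (i₀ ∣_ (U : S.Opens)).ker ≤ q.ker := by
    rw [Scheme.Hom.ker, Scheme.Hom.ker, Scheme.IdealSheafData.le_ofIdeals_iff]
    intro V a ha
    change a ∈ (i₀ ∣_ (U : S.Opens)).ker.ideal V at ha
    rw [← Scheme.IdealSheafData.map_ideal (U := V) (V := ⟨⊤, isAffineOpen_top _⟩)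
      (i₀ ∣_ (U : S.Opens)).ker (le_top (a := V.1))] at ha
    have htop : (i₀ ∣_ (U : S.Opens)).ker.ideal ⟨⊤, isAffineOpen_top _⟩ ≤ RingHom.ker q.appTop.hom := by
      intro b hb
      rw [Scheme.ker_morphismRestrict_ideal] at hb
      have hr : S.presheaf.map (homOfLE (U.1.ι_image_top.ge : (U : S.Opens) ≤ U.1.ι ''ᵁ ⊤)).op b ∈ i₀.ker.ideal U := by
        rw [← Scheme.IdealSheafData.map_ideal (U := U)
          (V := ⟨U.1.ι ''ᵁ ⊤, (isAffineOpen_top _).image_of_isOpenImmersion _⟩) i₀.ker U.1.ι_image_top.ge]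
        exact Ideal.mem_map_of_mem _ hb
      have h1 := h _ hr
      rw [RingHom.mem_ker]
      refine Eq.trans (congrArg q.appTop.hom ?_) h1
      symm
      simp only [Scheme.Opens.topIso_inv]
      have e : S.presheaf.map (homOfLE (U.1.ι_image_top.ge : (U : S.Opens) ≤ U.1.ι ''ᵁ ⊤)).op ≫
          S.presheaf.map (eqToHom U.1.ι_image_top).op = 𝟙 _ := by
        rw [← Functor.map_comp, Subsingleton.elim (_ ≫ _) (𝟙 _)]
        exact CategoryTheory.Functor.map_id _ _
      exact congr($e b)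
    induction ha using Submodule.span_induction with
    | mem z hz =>
      obtain ⟨b, hb, rfl⟩ := hz
      rw [RingHom.mem_ker]
      refine (congr($(q.naturality (homOfLE (le_top : V.1 ≤ ⊤)).op) b)).trans ?_
      exact (congrArg (Y.presheaf.map ((TopologicalSpace.Opens.map q.base).map (homOfLE (le_top : V.1 ≤ ⊤)).op.unop).op).hom (htop hb)).trans (map_zero _)
    | zero => exact zero_mem _
    | add _ _ _ _ h₁ h₂ => exact add_mem h₁ h₂
    | smul c _ _ h₁ => exact Ideal.mul_mem_left _ c h₁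
  refine ⟨IsClosedImmersion.lift (i₀ ∣_ (U : S.Opens)) q hle ≫ (i₀ ⁻¹ᵁ (U : S.Opens)).ι, ?_⟩
  rw [Category.assoc, ← morphismRestrict_ι, IsClosedImmersion.lift_fac_assoc]

/-- An action of an fpqc-locally diagonalisable group which is trivial modulo a locally nilpotent ideal is trivial. -/
theorem trivial_of_trivial_mod {G X : Over S} [GrpObj G] (a : AlgGrp.Action G X) (i₀ : S₀ ⟶ S) [IsClosedImmersion i₀]
    (hnil : ∀ x : S, ∃ U : S.affineOpens, x ∈ (U : S.Opens) ∧ IsNilpotent (i₀.ker.ideal U))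
    (hG : TwC.Locally S TwC.Topology.fpqc (fun S' f => ∃ (M : Type) (_ : AddCommGroup M),
      Nonempty (Grp.mk (Red.bc f G) ≅ Grp.mk (Red.DS S' M))))
    (h0 : ∀ (Y : Over S) (_ : Y ⟶ Over.mk i₀) (g : Y ⟶ G) (x : Y ⟶ X), lift g x ≫ a.act = x)
    (Y : Over S) (g : Y ⟶ G) (x : Y ⟶ X) : lift g x ≫ a.act = x := by
  obtain ⟨S', f, _, _, -, hs⟩ := hG
  refine trivial_of_cover a f (fun s' => ?_) (fun z => ?_) Y g x
  · obtain ⟨V, hV, M, _, ⟨e⟩⟩ := hs s'
    exact ⟨V, hV, M, inferInstance, ⟨SplitPts.ofIso _ e⟩⟩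
  · obtain ⟨U, hU, hn⟩ := hnil z
    refine ⟨U, hU, i₀.ker.ideal U, hn, fun Y q hq hk g x => ?_⟩
    obtain ⟨p, hp⟩ := exists_lift_of_kills i₀ U q hk
    exact h0 Y (Over.homMk p (hp.trans hq)) g x

/-- The conjugation action of `G` on `H` through a homomorphism. -/
def conjAction {G H : Over S} [GrpObj G] [GrpObj H] (v : G ⟶ H) [IsMonHom v] : AlgGrp.Action G H where
  act := (fst G H ≫ v) * snd G H * (fst G H ≫ v)⁻¹
  one_act := by
    simp only [MonObj.comp_mul, GrpObj.comp_inv, whiskerRight_fst_assoc, whiskerRight_snd, IsMonHom.one_hom,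
      toUnit_unique (fst (𝟙_ (Over S)) H) (toUnit _), ← Hom.one_def]
    simp [leftUnitor_hom]
  mul_act := by
    simp [mul_eq_mul, MonObj.mul_comp, MonObj.comp_mul, GrpObj.comp_inv, _root_.mul_assoc,
      _root_.mul_inv_rev, associator_hom_fst_assoc]

lemma lift_conjAction {G H : Over S} [GrpObj G] [GrpObj H] (v : G ⟶ H) [IsMonHom v] {Y : Over S}
    (g : Y ⟶ G) (h : Y ⟶ H) : lift g h ≫ (conjAction v).act = (g ≫ v) * h * (g ≫ v)⁻¹ := by
  simp [conjAction, MonObj.comp_mul, GrpObj.comp_inv]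

/-- The translation action through a homomorphism. -/
def transAction {G H : Over S} [GrpObj G] [GrpObj H] (v : G ⟶ H) [IsMonHom v] : AlgGrp.Action G H where
  act := (fst G H ≫ v) * snd G H
  one_act := by
    simp only [MonObj.comp_mul, whiskerRight_fst_assoc, whiskerRight_snd, IsMonHom.one_hom,
      toUnit_unique (fst (𝟙_ (Over S)) H) (toUnit _), ← Hom.one_def]
    simp [leftUnitor_hom]
  mul_act := by
    simp [mul_eq_mul, MonObj.mul_comp, MonObj.comp_mul, _root_.mul_assoc]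

lemma lift_transAction {G H : Over S} [GrpObj G] [GrpObj H] (v : G ⟶ H) [IsMonHom v] {Y : Over S}
    (g : Y ⟶ G) (h : Y ⟶ H) : lift g h ≫ (transAction v).act = (g ≫ v) * h := by
  simp [transAction, MonObj.comp_mul]

end Groth.Agent.DiagRig
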