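import Groth.Agent.DiagRig.Core
import Groth.Agent.DiagRig.Split
import Groth.Agent.GrpScheme.Basic
import Mathlib.AlgebraicGeometry.AffineScheme

/-! Rigidity: an action of a split diagonalisable group which is trivial modulo a nilpotent ideal is trivial. -/

universe u

open CategoryTheory MonoidalCategory CartesianMonoidalCategory MonObj GrpObj AlgebraicGeometry Limits
open Groth.Agent.RedPts Groth.Agent.GrpScheme.Basic

noncomputable section

namespace Groth.Agent.DiagRig

variable {S : Scheme.{u}} {R : CommRingCat.{u}} (p : Spec R ⟶ S)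
  {M : Type} [AddCommGroup M] {G X : Over S} [GrpObj G]
  (e : SplitPts p G M)
  {B : CommRingCat.{u}} [Algebra R B] (w : Spec B ⟶ X.left)
  (hw : w ≫ X.hom = Spec.map (CommRingCat.ofHom (algebraMap R B)) ≫ p)

/-- `Spec T` over `Spec R`. -/
abbrev specOver (T : Type u) [CommRing T] [Algebra R T] : Over (Spec R) :=
  Over.mk (Spec.map (CommRingCat.ofHom (algebraMap R T)))

/-- Functions on `Spec T`. -/
def toΓ {T : Type u} [CommRing T] [Algebra R T] : T →+* Γ((specOver (R := R) T).left, ⊤) :=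
  (Scheme.ΓSpecIso (CommRingCat.of T)).inv.hom

/-- A T-point of X through `w`. -/
def xPt {T : Type u} [CommRing T] [Algebra R T] (x : B →ₐ[R] T) :
    (Over.map p).obj (specOver T) ⟶ X :=
  Over.homMk (Spec.map (CommRingCat.ofHom x.toRingHom) ≫ w) (by
    show (_ ≫ w) ≫ X.hom = _ ≫ p
    rw [Category.assoc, hw, ← Category.assoc, ← Spec.map_comp, ← CommRingCat.ofHom_comp]
    congr 3
    exact x.comp_algebraMap)

/-- A T-point of G from a character map. -/
def gPt {T : Type u} [CommRing T] [Algebra R T] (t : Multiplicative M →* T) :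
    (Over.map p).obj (specOver T) ⟶ G :=
  e.σ (toΓ.toMonoidHom.comp t)

/-- A map of test algebras. -/
def testMap {T T' : Type u} [CommRing T] [Algebra R T] [CommRing T'] [Algebra R T'] (h : T →ₐ[R] T') :
    specOver (R := R) T' ⟶ specOver T :=
  Over.homMk (Spec.map (CommRingCat.ofHom h.toRingHom)) (by
    show _ ≫ Spec.map _ = _
    rw [← Spec.map_comp, ← CommRingCat.ofHom_comp]
    exact congrArg (fun f => Spec.map (CommRingCat.ofHom f)) h.comp_algebraMap)

lemma testMap_gPt {T T' : Type u} [CommRing T] [Algebra R T] [CommRing T'] [Algebra R T'] (h : T →ₐ[R] T')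
    (t : Multiplicative M →* T) :
    (Over.map p).map (testMap h) ≫ gPt p e t = gPt p e (h.toRingHom.toMonoidHom.comp t) := by
  rw [gPt, e.σ_comp]
  congr 1
  ext m
  exact congr($((Scheme.ΓSpecIso_inv_naturality (CommRingCat.ofHom h.toRingHom)).symm) (t m))

lemma testMap_xPt {T T' : Type u} [CommRing T] [Algebra R T] [CommRing T'] [Algebra R T'] (h : T →ₐ[R] T')
    (x : B →ₐ[R] T) : (Over.map p).map (testMap h) ≫ xPt p w hw x = xPt p w hw (h.comp x) := by
  ext1
  show Spec.map _ ≫ Spec.map _ ≫ w = Spec.map _ ≫ w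
  rw [← Category.assoc, ← Spec.map_comp, ← CommRingCat.ofHom_comp]
  rfl

variable (a : AlgGrp.Action G X)
  (w' : Spec B ⟶ pullback X.hom p) [IsOpenImmersion w'] (hw1 : w' ≫ pullback.fst _ _ = w)
  (hw2 : w' ≫ pullback.snd _ _ = Spec.map (CommRingCat.ofHom (algebraMap R B)))
  (J : Ideal R) (hJ : IsNilpotent J)
  (h0 : ∀ (Y : Over (Spec R)), (∀ r ∈ J, Y.hom.appTop ((Scheme.ΓSpecIso R).inv r) = 0) →
    ∀ (g : (Over.map p).obj Y ⟶ G) (x : (Over.map p).obj Y ⟶ X), lift g x ≫ a.act = x)

include hw1 hw2 hJ h0 in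
lemma trivial_affine (T : Type u) [CommRing T] [Algebra R T] (t : Multiplicative M →* T) (x : B →ₐ[R] T) :
    lift (gPt p e t) (xPt p w hw x) ≫ a.act = xPt p w hw x := by
  -- the moved point, in the base change
  let m : ∀ (T : Type u) [CommRing T] [Algebra R T], (Multiplicative M →* T) → (B →ₐ[R] T) →
      (Spec (CommRingCat.of T) ⟶ pullback X.hom p) := fun T _ _ t x =>
    pullback.lift (smul a (gPt p e t) (xPt p w hw x)).left (specOver (R := R) T).hom
      (Over.w (smul a (gPt p e t) (xPt p w hw x)))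
  have hm_triv : ∀ (T : Type u) [CommRing T] [Algebra R T], (∀ r ∈ J, algebraMap R T r = 0) →
      ∀ (t : Multiplicative M →* T) (x : B →ₐ[R] T),
        m T t x = Spec.map (CommRingCat.ofHom x.toRingHom) ≫ w' := by
    intro T _ _ hT t x
    have := h0 (specOver T) (fun r hr => by
      show (Spec.map (CommRingCat.ofHom (algebraMap R T))).appTop _ = 0
      refine (congr($((Scheme.ΓSpecIso_inv_naturality (CommRingCat.ofHom (algebraMap R T))).symm) r)).trans ?_
      show (Scheme.ΓSpecIso (CommRingCat.of T)).inv (algebraMap R T r) = 0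
      rw [hT r hr, map_zero]) (gPt p e t) (xPt p w hw x)
    apply pullback.hom_ext
    · rw [pullback.lift_fst, Category.assoc, hw1]
      exact congr($(this).left)
    · rw [pullback.lift_snd, Category.assoc, hw2, ← Spec.map_comp, ← CommRingCat.ofHom_comp]
      exact congrArg (fun f => Spec.map (CommRingCat.ofHom f)) x.comp_algebraMap.symm
  have hm_nat : ∀ (T T' : Type u) [CommRing T] [Algebra R T] [CommRing T'] [Algebra R T']
      (h : T →ₐ[R] T') (t : Multiplicative M →* T) (x : B →ₐ[R] T),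
      Spec.map (CommRingCat.ofHom h.toRingHom) ≫ m T t x = m T' (h.toRingHom.toMonoidHom.comp t) (h.comp x) := by
    intro T T' _ _ _ _ h t x
    have e1 := comp_smul a ((Over.map p).map (testMap h)) (gPt p e t) (xPt p w hw x)
    rw [testMap_gPt, testMap_xPt] at e1
    apply pullback.hom_ext
    · rw [Category.assoc, pullback.lift_fst, pullback.lift_fst, ← e1]
      rfl
    · rw [Category.assoc, pullback.lift_snd, pullback.lift_snd]
      exact Over.w (testMap (R := R) h)
  have hrange : ∀ (T : Type u) [CommRing T] [Algebra R T] (t : Multiplicative M →* T) (x : B →ₐ[R] T),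
      Set.range (m T t x).base ⊆ Set.range w'.base := by
    intro T _ _ t x
    let J' : Ideal T := J.map (algebraMap R T)
    let q : T →ₐ[R] T ⧸ J' := Ideal.Quotient.mkₐ R J'
    have hq : ∀ r ∈ J, algebraMap R (T ⧸ J') r = 0 := fun r hr => by
      rw [IsScalarTower.algebraMap_apply R T (T ⧸ J')]
      exact Ideal.Quotient.eq_zero_iff_mem.mpr (Ideal.mem_map_of_mem _ hr)
    have e1 := hm_nat T (T ⧸ J') q t x
    rw [hm_triv _ hq] at e1
    rintro _ ⟨z, rfl⟩
    obtain ⟨z', rfl⟩ : z ∈ Set.range (Spec.map (CommRingCat.ofHom q.toRingHom)).base := by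
      show z ∈ Set.range (PrimeSpectrum.comap q.toRingHom)
      rw [range_comap_of_surjective (S := T ⧸ J') _ (show Function.Surjective q.toRingHom from Ideal.Quotient.mk_surjective)]
      have : RingHom.ker q.toRingHom ≤ nilradical T := by
        intro y hy
        obtain ⟨n, hn⟩ := hJ
        have hy' : y ∈ J' := Ideal.Quotient.eq_zero_iff_mem.mp hy
        exact ⟨n, by
          have := Ideal.pow_mem_pow hy' n
          rwa [← Ideal.map_pow, hn, Ideal.zero_eq_bot, Ideal.map_bot, Ideal.mem_bot] at this⟩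
      have hz := z.isPrime
      exact fun y hy => nilradical_le_prime z.asIdeal (this hy)
    refine ⟨(Spec.map (CommRingCat.ofHom (q.comp x).toRingHom)).base z', ?_⟩
    exact (congr(($e1).base z')).symm
  let r : ∀ (T : Type u) [CommRing T] [Algebra R T], (Multiplicative M →* T) → (B →ₐ[R] T) →
      (B ⟶ CommRingCat.of T) := fun T _ _ t x =>
    Spec.preimage (IsOpenImmersion.lift w' (m T t x) (hrange T t x))
  have hr : ∀ (T : Type u) [CommRing T] [Algebra R T] (t : Multiplicative M →* T) (x : B →ₐ[R] T),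
      Spec.map (r T t x) ≫ w' = m T t x := fun T _ _ t x => by
    rw [Spec.map_preimage, IsOpenImmersion.lift_fac]
  let act : ∀ (T : Type u) [CommRing T] [Algebra R T], (Multiplicative M →* T) → (B →ₐ[R] T) → (B →ₐ[R] T) :=
    fun T _ _ t x =>
    { (r T t x).hom with
      commutes' := fun s => by
        have h1 : Spec.map (r T t x) ≫ Spec.map (CommRingCat.ofHom (algebraMap R B)) =
            Spec.map (CommRingCat.ofHom (algebraMap R T)) := by
          rw [← hw2, ← Category.assoc, hr, pullback.lift_snd]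
          rfl
        rw [← Spec.map_comp] at h1
        exact congr($(Spec.map_injective h1) s) }
  have key : ∀ (T : Type u) [CommRing T] [Algebra R T] (t : Multiplicative M →* T) (x : B →ₐ[R] T),
      xPt p w hw (act T t x) = smul a (gPt p e t) (xPt p w hw x) := by
    intro T _ _ t x
    ext1
    refine (congrArg (Spec.map (r T t x) ≫ ·) hw1.symm).trans ?_
    rw [← Category.assoc, hr, pullback.lift_fst]
  have hinj : ∀ (T : Type u) [CommRing T] [Algebra R T] (y z : B →ₐ[R] T),
      xPt p w hw y = xPt p w hw z → y = z := by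
    intro T _ _ y z h
    have h1 : Spec.map (CommRingCat.ofHom y.toRingHom) ≫ w' = Spec.map (CommRingCat.ofHom z.toRingHom) ≫ w' := by
      apply pullback.hom_ext
      · rw [Category.assoc, Category.assoc, hw1]
        exact congr($(h).left)
      · rw [Category.assoc, Category.assoc, hw2, ← Spec.map_comp, ← Spec.map_comp,
          ← CommRingCat.ofHom_comp, ← CommRingCat.ofHom_comp]
        exact congrArg (fun f => Spec.map (CommRingCat.ofHom f)) (y.comp_algebraMap.trans z.comp_algebraMap.symm)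
    rw [cancel_mono] at h1
    exact AlgHom.coe_ringHom_injective (congrArg CommRingCat.Hom.hom (Spec.map_injective h1))
  let A : PtsAction R B M :=
    { act := act
      act_one := fun T _ _ x => hinj T _ _ (by
        rw [key, show gPt p e (1 : Multiplicative M →* T) = 1 from ?_]
        · exact one_smul' a _
        · rw [gPt, MonoidHom.comp_one, e.σ_one])
      act_mul := fun T _ _ s t x => hinj T _ _ (by
        rw [key, key, key, show gPt p e (s * t) = gPt p e s * gPt p e t from ?_]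
        · exact mul_smul' a _ _ _
        · rw [gPt, gPt, gPt, ← e.σ_mul]
          congr 1
          ext z
          exact map_mul toΓ (s z) (t z))
      natural := fun T T' _ _ _ _ h t x => hinj T' _ _ (by
        rw [key, ← testMap_xPt, key, comp_smul, testMap_gPt, testMap_xPt]) }
  classical
  have := A.trivial_of_trivial_mod J hJ (fun T _ _ hT t x => hinj T _ _ (by
    show xPt p w hw (act T t x) = _
    rw [key]
    ext1
    have h2 := congrArg (fun f => f ≫ pullback.fst X.hom p) (hm_triv T hT t x)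
    simp only [Category.assoc, hw1, m] at h2
    rw [pullback.lift_fst] at h2
    exact h2)) T t x
  calc lift (gPt p e t) (xPt p w hw x) ≫ a.act = smul a (gPt p e t) (xPt p w hw x) := rfl
    _ = xPt p w hw (act T t x) := (key T t x).symm
    _ = xPt p w hw x := congrArg _ this

variable {p}

/-- Morphisms agreeing near every point are equal. -/
lemma hom_ext_of_forall {Y Z : Scheme.{u}} (f g : Y ⟶ Z)
    (h : ∀ y : Y, ∃ U : Y.Opens, y ∈ U ∧ U.ι ≫ f = U.ι ≫ g) : f = g := by
  choose U hU hfg using h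
  exact (Scheme.openCoverOfIsOpenCover Y U (TopologicalSpace.Opens.ext (Set.eq_univ_of_forall fun y => by
    simp only [TopologicalSpace.Opens.coe_iSup, Set.mem_iUnion]
    exact ⟨y, hU y⟩))).hom_ext f g hfg

/-- Rigidity for a group split over a cover. -/
theorem trivial_of_cover {S' : Scheme.{u}} (f : S' ⟶ S) [Flat f] [Surjective f]
    (hsplit : ∀ s' : S', ∃ V : S'.Opens, s' ∈ V ∧ ∃ (M : Type) (_ : AddCommGroup M),
      Nonempty (SplitPts (V.ι ≫ f) G M))
    (hnil : ∀ x : S, ∃ U : S.affineOpens, x ∈ (U : S.Opens) ∧ ∃ J : Ideal Γ(S, U), IsNilpotent J ∧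
      ∀ (Y : Over S) (q : Y.left ⟶ (U : S.Opens)), q ≫ (U : S.Opens).ι = Y.hom →
        (∀ r ∈ J, q.appTop ((U : S.Opens).topIso.inv r) = 0) →
        ∀ (g : Y ⟶ G) (x : Y ⟶ X), lift g x ≫ a.act = x)
    (Y : Over S) (g : Y ⟶ G) (x : Y ⟶ X) : lift g x ≫ a.act = x := by
  -- reduce to test objects over `S'`
  suffices key : ∀ (Y : Over S') (g : (Over.map f).obj Y ⟶ G) (x : (Over.map f).obj Y ⟶ X),
      lift g x ≫ a.act = x by
    let π : (Over.map f).obj (Over.mk (pullback.snd Y.hom f)) ⟶ Y :=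
      Over.homMk (pullback.fst Y.hom f) pullback.condition
    have : Epi π.left := Flat.epi_of_flat_of_surjective (pullback.fst Y.hom f)
    have : Epi π := Over.epi_of_epi_left π
    rw [← cancel_epi π]
    refine Eq.trans ?_ (key _ (π ≫ g) (π ≫ x))
    rw [← Category.assoc, comp_lift]
  intro Y g x
  ext1
  refine hom_ext_of_forall _ _ fun y => ?_
  obtain ⟨V, hV, M, _, ⟨P⟩⟩ := hsplit (Y.hom.base y)
  obtain ⟨U, hU, J, hJ, hJ0⟩ := hnil (f.base (Y.hom.base y))
  obtain ⟨W, hW, hyW, hWle⟩ := exists_isAffineOpen_mem_and_subset (x := (⟨Y.hom.base y, hV⟩ : V))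
    (U := V.ι ⁻¹ᵁ (f ⁻¹ᵁ (U : S.Opens))) hU
  let R := Γ(V.toScheme, W)
  let j : Spec R ⟶ V.toScheme := hW.fromSpec
  let p : Spec R ⟶ S := j ≫ V.ι ≫ f
  have hjU : Set.range p.base ⊆ Set.range (U : S.Opens).ι.base := by
    rintro _ ⟨z, rfl⟩
    rw [Scheme.Opens.range_ι]
    exact hWle (hW.range_fromSpec.le ⟨z, rfl⟩)
  let pU : Spec R ⟶ (U : S.Opens) := IsOpenImmersion.lift (U : S.Opens).ι p hjU
  let φ : Γ(S, U) →+* R := ((U : S.Opens).topIso.inv ≫ pU.appTop ≫ (Scheme.ΓSpecIso R).hom).hom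
  -- the point `x` of the base change
  let jS : Spec R ⟶ S' := j ≫ V.ι
  have hjS : IsOpenImmersion jS := inferInstance
  let X' := pullback X.hom p
  let xS : (Y.hom ⁻¹ᵁ jS.opensRange).toScheme ⟶ Spec R :=
    IsOpenImmersion.lift jS ((Y.hom ⁻¹ᵁ jS.opensRange).ι ≫ Y.hom) (by
      rintro _ ⟨z, rfl⟩
      exact z.2)
  have hxS : xS ≫ p = (Y.hom ⁻¹ᵁ jS.opensRange).ι ≫ Y.hom ≫ f := by
    rw [show p = jS ≫ f by simp [p, jS]]
    exact (Category.assoc _ _ _).symm.trans
      ((congrArg (· ≫ f) (IsOpenImmersion.lift_fac _ _ _)).trans (Category.assoc _ _ _))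
  let xX : (Y.hom ⁻¹ᵁ jS.opensRange).toScheme ⟶ X' :=
    pullback.lift ((Y.hom ⁻¹ᵁ jS.opensRange).ι ≫ x.left) xS (by
      rw [hxS, Category.assoc]
      exact congrArg _ (Over.w x))
  have hy : y ∈ Y.hom ⁻¹ᵁ jS.opensRange := by
    obtain ⟨z, hz⟩ : (⟨Y.hom.base y, hV⟩ : V) ∈ Set.range hW.fromSpec.base := by
      rw [hW.range_fromSpec]; exact hyW
    exact ⟨z, congrArg Subtype.val hz⟩
  obtain ⟨A, hA, hyA, -⟩ := exists_isAffineOpen_mem_and_subset (x := xX.base ⟨y, hy⟩) (U := ⊤) trivial
  obtain ⟨C, hC, hyC, hCle⟩ := exists_isAffineOpen_mem_and_subset (x := (⟨y, hy⟩ : (Y.hom ⁻¹ᵁ jS.opensRange)))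
    (U := xX ⁻¹ᵁ A) hyA
  refine ⟨(Y.hom ⁻¹ᵁ jS.opensRange).ι ''ᵁ C, ⟨_, hyC, rfl⟩, ?_⟩
  let B := Γ(X', A)
  let w' : Spec B ⟶ X' := hA.fromSpec
  let φB : R ⟶ B := Spec.preimage (w' ≫ pullback.snd X.hom p)
  letI : Algebra R B := φB.hom.toAlgebra
  have hφB : Spec.map (CommRingCat.ofHom (algebraMap R B)) = w' ≫ pullback.snd X.hom p :=
    Spec.map_preimage _
  let T := Γ((Y.hom ⁻¹ᵁ jS.opensRange).toScheme, C)
  let c : Spec T ⟶ (Y.hom ⁻¹ᵁ jS.opensRange).toScheme := hC.fromSpec
  let φT : R ⟶ T := Spec.preimage (c ≫ xS)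
  letI : Algebra R T := φT.hom.toAlgebra
  have hφT : Spec.map (CommRingCat.ofHom (algebraMap R T)) = c ≫ xS := Spec.map_preimage _
  have hcA : Set.range (c ≫ xX).base ⊆ Set.range w'.base := by
    rintro _ ⟨z, rfl⟩
    rw [hA.range_fromSpec]
    exact hCle (hC.range_fromSpec.le ⟨z, rfl⟩)
  let ψ : B ⟶ T := Spec.preimage (IsOpenImmersion.lift w' (c ≫ xX) hcA)
  have hψ : Spec.map ψ ≫ w' = c ≫ xX := by rw [Spec.map_preimage, IsOpenImmersion.lift_fac]
  let xT : B →ₐ[R] T :=
    { ψ.hom with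
      commutes' := fun r => by
        have h1 : Spec.map ψ ≫ Spec.map (CommRingCat.ofHom (algebraMap R B)) =
            Spec.map (CommRingCat.ofHom (algebraMap R T)) := by
          rw [hφB, hφT, ← Category.assoc, hψ, Category.assoc, pullback.lift_snd]
        rw [← Spec.map_comp] at h1
        exact congr($(Spec.map_injective h1) r) }
  let P' : SplitPts p G M := P.restrict j
  let ρ : (Over.map p).obj (specOver (R := R) T) ⟶ (Over.map f).obj Y :=
    Over.homMk (c ≫ (Y.hom ⁻¹ᵁ jS.opensRange).ι) (by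
      show (c ≫ _) ≫ Y.hom ≫ f = Spec.map _ ≫ p
      rw [hφT, Category.assoc, Category.assoc, hxS])
  obtain ⟨t, ht⟩ := P'.σ_surjective (ρ ≫ g)
  let t' : Multiplicative M →* T := (Scheme.ΓSpecIso T).hom.hom.toMonoidHom.comp t
  have ht' : gPt p P' t' = ρ ≫ g := by
    rw [gPt, ← ht]
    congr 1
    ext z
    exact congr($(Iso.hom_inv_id (Scheme.ΓSpecIso T)) (t z))
  have hw : (w' ≫ pullback.fst X.hom p) ≫ X.hom = Spec.map (CommRingCat.ofHom (algebraMap R B)) ≫ p := by
    rw [hφB, Category.assoc, Category.assoc, pullback.condition]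
  have hx' : xPt p (w' ≫ pullback.fst X.hom p) hw xT = ρ ≫ x := by
    ext1
    show Spec.map ψ ≫ w' ≫ pullback.fst X.hom p = (c ≫ _) ≫ x.left
    rw [← Category.assoc, hψ, Category.assoc, pullback.lift_fst, Category.assoc]
  have main := trivial_affine p P' (w' ≫ pullback.fst X.hom p) hw a w' rfl hφB.symm (J.map φ)
    (by obtain ⟨n, hn⟩ := hJ; exact ⟨n, by rw [← Ideal.map_pow, hn]; exact Ideal.map_bot⟩)
    (fun Y' hY' g' x' => by
      refine hJ0 ((Over.map p).obj Y') (Y'.hom ≫ pU) ?_ ?_ g' x'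
      · show (Y'.hom ≫ pU) ≫ _ = Y'.hom ≫ p
        rw [Category.assoc, IsOpenImmersion.lift_fac]
      · intro r hr
        rw [Scheme.Hom.comp_appTop]
        refine Eq.trans ?_ (hY' (φ r) (Ideal.mem_map_of_mem _ hr))
        show Y'.hom.appTop _ = Y'.hom.appTop _
        refine congrArg _ ?_
        exact congr($((Iso.hom_inv_id (Scheme.ΓSpecIso R)).symm) (pU.appTop ((U : S.Opens).topIso.inv r))))
    T t' xT
  rw [ht', hx', ← comp_lift, Category.assoc] at main
  have e1 := congr($(main).left)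
  simp only [Over.comp_left] at e1
  let c' : Spec T ≅ C.toScheme := hC.isoSpec.symm
  have hc : c = c'.hom ≫ C.ι := rfl
  have e2 : c'.hom ≫ ((C.ι ≫ (Y.hom ⁻¹ᵁ jS.opensRange).ι) ≫ (lift g x ≫ a.act).left) =
      c'.hom ≫ ((C.ι ≫ (Y.hom ⁻¹ᵁ jS.opensRange).ι) ≫ x.left) := by
    simpa [ρ, hc] using e1
  rw [cancel_epi] at e2
  rw [← Scheme.Hom.isoImage_inv_ι (Y.hom ⁻¹ᵁ jS.opensRange).ι C, Category.assoc, Category.assoc]
  simp only [Category.assoc]
  refine congrArg (((Y.hom ⁻¹ᵁ jS.opensRange).ι.isoImage C).inv ≫ ·) ?_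
  simpa only [Category.assoc] using e2

end Groth.Agent.DiagRig
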