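import Groth.Agent.DiagRig.AvgRing
import Groth.Agent.DiagRig.Inj

/-! Averaging a cocycle of congruent homomorphisms out of a split diagonalisable group. -/

universe u

open CategoryTheory MonoidalCategory CartesianMonoidalCategory MonObj GrpObj AlgebraicGeometry Limits

noncomputable section

namespace Groth.Agent.DiagRig

variable {R : CommRingCat.{u}} {G : Over (Spec R)} [GrpObj G]

/-- Restriction of a point along a map of test algebras. -/
def push {T T' : Type u} [CommRing T] [Algebra R T] [CommRing T'] [Algebra R T'] {X : Over (Spec R)} (k : T →ₐ[R] T')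
    (x : specOver (R := R) T ⟶ X) : specOver (R := R) T' ⟶ X :=
  testMap k ≫ x

lemma push_mul {T T' : Type u} [CommRing T] [Algebra R T] [CommRing T'] [Algebra R T'] (k : T →ₐ[R] T')
    (x y : specOver (R := R) T ⟶ G) : push k (x * y) = push k x * push k y :=
  MonObj.comp_mul _ _ _

lemma push_inv {T T' : Type u} [CommRing T] [Algebra R T] [CommRing T'] [Algebra R T'] (k : T →ₐ[R] T')
    (x : specOver (R := R) T ⟶ G) : push k x⁻¹ = (push k x)⁻¹ :=
  GrpObj.comp_inv _ _

lemma push_one {T T' : Type u} [CommRing T] [Algebra R T] [CommRing T'] [Algebra R T'] (k : T →ₐ[R] T') :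
    push k (1 : specOver (R := R) T ⟶ G) = 1 :=
  MonObj.comp_one _

lemma push_push {T T' T'' : Type u} [CommRing T] [Algebra R T] [CommRing T'] [Algebra R T'] [CommRing T'']
    [Algebra R T''] {X : Over (Spec R)} (k : T →ₐ[R] T') (k' : T' →ₐ[R] T'') (x : specOver (R := R) T ⟶ X) :
    push k' (push k x) = push (k'.comp k) x := by
  simp only [push, ← Category.assoc]
  congr 1
  ext1
  show Spec.map _ ≫ Spec.map _ = Spec.map _
  rw [← Spec.map_comp]
  rfl

lemma push_id {T : Type u} [CommRing T] [Algebra R T] {X : Over (Spec R)} (x : specOver (R := R) T ⟶ X) :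
    push (AlgHom.id R T) x = x := by
  ext1
  show Spec.map (𝟙 (CommRingCat.of T)) ≫ x.left = x.left
  rw [Spec.map_id]
  exact Category.id_comp _

lemma push_comp {T T' : Type u} [CommRing T] [Algebra R T] [CommRing T'] [Algebra R T'] {X Y : Over (Spec R)}
    (k : T →ₐ[R] T') (x : specOver (R := R) T ⟶ X) (f : X ⟶ Y) : push k (x ≫ f) = push k x ≫ f :=
  (Category.assoc _ _ _).symm

section Chart

variable (V : G.left.Opens)

omit [GrpObj G] in
lemma eq_of_injective (hV : IsAffineOpen V) {T T' : Type u} [CommRing T] [Algebra R T] [CommRing T'] [Algebra R T']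
    (k : T →ₐ[R] T') (hk : Function.Injective k) (a b : specOver (R := R) T ⟶ G)
    (ha : Set.range a.left.base ⊆ V) (hb : Set.range b.left.base ⊆ V) (h : push k a = push k b) : a = b := by
  have hr : ∀ c : specOver (R := R) T ⟶ G, Set.range c.left.base ⊆ V →
      Set.range c.left.base ⊆ Set.range hV.fromSpec.base := fun c hc => by rw [hV.range_fromSpec]; exact hc
  let la := IsOpenImmersion.lift hV.fromSpec a.left (hr a ha)
  let lb := IsOpenImmersion.lift hV.fromSpec b.left (hr b hb)
  have h1 : Spec.map (CommRingCat.ofHom k.toRingHom) ≫ la = Spec.map (CommRingCat.ofHom k.toRingHom) ≫ lb := by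
    rw [← cancel_mono hV.fromSpec, Category.assoc, Category.assoc, IsOpenImmersion.lift_fac, IsOpenImmersion.lift_fac]
    exact congrArg CommaMorphism.left h
  have h2 : la = lb := by
    rw [← Spec.map_preimage la, ← Spec.map_preimage lb] at h1 ⊢
    rw [← Spec.map_comp, ← Spec.map_comp] at h1
    congr 1
    ext c
    exact hk congr($(Spec.map_injective h1) c)
  ext1
  rw [← IsOpenImmersion.lift_fac hV.fromSpec a.left (hr a ha), ← IsOpenImmersion.lift_fac hV.fromSpec b.left (hr b hb)]
  exact congrArg (· ≫ hV.fromSpec) h2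

lemma range_subset_of_congr {T : Type u} [CommRing T] [Algebra R T] (I : Ideal T) (hI : IsNilpotent I)
    (h1 : Set.range (1 : specOver (R := R) T ⟶ G).left.base ⊆ V) (x : specOver (R := R) T ⟶ G)
    (hx : push (Ideal.Quotient.mkₐ R I) x = 1) : Set.range x.left.base ⊆ V := by
  rw [← push_one (Ideal.Quotient.mkₐ R I)] at hx
  have hx' := congrArg CommaMorphism.left hx
  rintro _ ⟨z, rfl⟩
  obtain ⟨z', rfl⟩ : z ∈ Set.range (Spec.map (CommRingCat.ofHom (Ideal.Quotient.mkₐ R I).toRingHom)).base := by
    show z ∈ Set.range (PrimeSpectrum.comap (Ideal.Quotient.mkₐ R I).toRingHom)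
    rw [range_comap_of_surjective (S := T ⧸ I) _ (show Function.Surjective (Ideal.Quotient.mkₐ R I).toRingHom
      from Ideal.Quotient.mk_surjective)]
    have : RingHom.ker (Ideal.Quotient.mkₐ R I).toRingHom ≤ nilradical T := by
      intro y hy
      obtain ⟨n, hn⟩ := hI
      exact ⟨n, by
        have := Ideal.pow_mem_pow (Ideal.Quotient.eq_zero_iff_mem.mp hy) n
        rwa [hn, Ideal.zero_eq_bot, Ideal.mem_bot] at this⟩
    have hz := z.isPrime
    exact fun y hy => nilradical_le_prime z.asIdeal (this hy)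
  rw [← Scheme.Hom.comp_apply]
  refine h1 ⟨(Spec.map (CommRingCat.ofHom (Ideal.Quotient.mkₐ R I).toRingHom)).base z', ?_⟩
  rw [← Scheme.Hom.comp_apply]
  exact (congr(($hx').base z')).symm

end Chart

variable (J : Ideal R)

/-- The scalar inclusion. -/
def scal (T : Type u) [CommRing T] [Algebra R T] (N : Type) [CommGroup N] : T →ₐ[R] MonoidAlgebra T N :=
  IsScalarTower.toAlgHom R T (MonoidAlgebra T N)

/-- The inclusion of the constant-modulo-`J` subring. -/
def avgVal (T : Type u) [CommRing T] [Algebra R T] (N : Type) [CommGroup N] :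
    avgSub J T N →ₐ[R] MonoidAlgebra T N :=
  (avgSub J T N).val.restrictScalars R

variable {J} (hJ : J * J = ⊥)

/-- The constant term, over the base. -/
def avgCt (T : Type u) [CommRing T] [Algebra R T] (N : Type) [CommGroup N] : avgSub J T N →ₐ[R] T :=
  (avgHom hJ).restrictScalars R

include hJ in
lemma range_avg_subset (V : G.left.Opens) {T : Type u} [CommRing T] [Algebra R T] {N : Type} [CommGroup N]
    (a : specOver (R := R) (avgSub J T N) ⟶ G)
    (h : Set.range (push (avgVal J T N) a).left.base ⊆ V) : Set.range a.left.base ⊆ V := by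
  classical
  rintro _ ⟨z, rfl⟩
  let A := avgSub J T N
  let P : PrimeSpectrum A := z
  let q : Ideal T := P.asIdeal.comap (algebraMap T A)
  have : q.IsPrime := inferInstance
  let aug : MonoidAlgebra T N →ₐ[T] T := MonoidAlgebra.lift T T N 1
  have : (q.comap aug.toRingHom).IsPrime := inferInstance
  let Q : PrimeSpectrum (MonoidAlgebra T N) := ⟨q.comap aug.toRingHom, inferInstance⟩
  have hQ : (Spec.map (CommRingCat.ofHom (avgVal J T N).toRingHom)).base Q = z := by
    refine PrimeSpectrum.ext (Ideal.ext fun x => ?_)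
    show aug x.1 ∈ q ↔ x ∈ P.asIdeal
    have hnil : ∀ c ∈ J.map (algebraMap R T), c ∈ q := fun c hc => by
      have h2 := Ideal.mul_mem_mul hc hc
      rw [← Ideal.map_mul, hJ, Ideal.map_bot, Ideal.mem_bot] at h2
      exact (‹q.IsPrime›.mem_or_mem (h2 ▸ zero_mem q : c * c ∈ q)).elim id id
    have hd : x - algebraMap T A (x.1.coeff 1) ∈ P.asIdeal := by
      refine P.isPrime.mem_of_pow_mem 2 ?_
      have hz : (x - algebraMap T A (x.1.coeff 1)) ^ 2 = 0 := by
        apply Subtype.ext
        show (x.1 - algebraMap T (MonoidAlgebra T N) (x.1.coeff 1)) ^ 2 = 0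
        have hc : ∀ n, (x.1 - algebraMap T (MonoidAlgebra T N) (x.1.coeff 1)).coeff n ∈ J.map (algebraMap R T) := by
          intro n
          by_cases hn : n = 1
          · simp [hn]
          · simpa [Finsupp.single_apply, Ne.symm hn] using x.2 n hn
        rw [pow_two]
        ext n
        rw [MonoidAlgebra.coeff_mul, MonoidAlgebra.coeff_zero, Finsupp.zero_apply]
        refine Finset.sum_eq_zero fun a _ => Finset.sum_eq_zero fun b _ => ?_
        dsimp only
        split_ifs
        · have h2 := Ideal.mul_mem_mul (hc a) (hc b)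
          rwa [← Ideal.map_mul, hJ, Ideal.map_bot, Ideal.mem_bot] at h2
        · rfl
      rw [hz]; exact zero_mem _
    have h1 : aug x.1 - x.1.coeff 1 ∈ q := by
      show MonoidAlgebra.lift T T N 1 x.1 - _ ∈ q
      rw [MonoidAlgebra.lift_apply, Finsupp.sum]
      simp only [MonoidHom.one_apply, smul_eq_mul, _root_.mul_one]
      by_cases h0 : (1 : N) ∈ x.1.coeff.support
      · rw [← Finset.sum_erase_add _ _ h0, add_sub_cancel_right]
        exact sum_mem fun n hn => hnil _ (x.2 n (Finset.ne_of_mem_erase hn))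
      · rw [Finsupp.notMem_support_iff.mp h0, sub_zero]
        exact sum_mem fun n hn => hnil _ (x.2 n fun e => h0 (e ▸ hn))
    have e1 : aug x.1 ∈ q ↔ algebraMap T A (x.1.coeff 1) ∈ P.asIdeal := by
      show _ ↔ x.1.coeff 1 ∈ q
      exact ⟨fun hh => by simpa using sub_mem hh h1, fun hh => by simpa using add_mem h1 hh⟩
    exact e1.trans ⟨fun hh => by simpa using add_mem hd hh, fun hh => by simpa using sub_mem hh hd⟩
  refine h ⟨Q, ?_⟩
  show (Spec.map (CommRingCat.ofHom (avgVal J T N).toRingHom) ≫ a.left).base Q = _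
  rw [Scheme.Hom.comp_apply, hQ]

variable {H : Over (Spec R)} (u v : H ⟶ G) (V : G.left.Opens) (hV : IsAffineOpen V)

/-- Agreement modulo `J`. -/
def CongMod (J : Ideal R) : Prop :=
  ∀ (T : Type u) [CommRing T] [Algebra R T], (∀ r ∈ J, algebraMap R T r = 0) →
    ∀ x : specOver (R := R) T ⟶ H, x ≫ u = x ≫ v

/-- The deviation. -/
def dev {T : Type u} [CommRing T] [Algebra R T] (x : specOver (R := R) T ⟶ H) : specOver (R := R) T ⟶ G :=
  (x ≫ v) * (x ≫ u)⁻¹

lemma push_dev {T T' : Type u} [CommRing T] [Algebra R T] [CommRing T'] [Algebra R T'] (k : T →ₐ[R] T')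
    (x : specOver (R := R) T ⟶ H) : push k (dev u v x) = dev u v (push k x) := by
  rw [dev, push_mul, push_inv, push_comp, push_comp]
  rfl

variable (h0 : CongMod u v J)

include h0 in
lemma push_dev_eq_one {T : Type u} [CommRing T] [Algebra R T] (x : specOver (R := R) T ⟶ H) :
    push (Ideal.Quotient.mkₐ R (J.map (algebraMap R T))) (dev u v x) = 1 := by
  rw [push_dev, dev, h0 (T ⧸ J.map (algebraMap R T)) (fun r hr => by
    rw [IsScalarTower.algebraMap_apply R T (T ⧸ J.map (algebraMap R T))]
    exact Ideal.Quotient.eq_zero_iff_mem.mpr (Ideal.mem_map_of_mem _ hr)), mul_inv_cancel]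

/-- `g` is the average of the deviation along `z`. -/
def IsAvg {T : Type u} [CommRing T] [Algebra R T] {N : Type} [CommGroup N]
    (z : specOver (R := R) (MonoidAlgebra T N) ⟶ H) (g : specOver (R := R) T ⟶ G) : Prop :=
  ∃ a : specOver (R := R) (avgSub J T N) ⟶ G, push (avgVal J T N) a = dev u v z ∧ push (avgCt hJ T N) a = g

omit [GrpObj G] in
lemma coeff_mem_of_mem_map {T : Type u} [CommRing T] [Algebra R T] {N : Type} [CommGroup N]
    {y : MonoidAlgebra T N} (hy : y ∈ J.map (algebraMap R (MonoidAlgebra T N))) (n : N) :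
    y.coeff n ∈ J.map (algebraMap R T) := by
  classical
  induction hy using Submodule.span_induction generalizing n with
  | mem y hy =>
    obtain ⟨r, hr, rfl⟩ := hy
    rw [IsScalarTower.algebraMap_apply R T (MonoidAlgebra T N)]
    by_cases hn : n = 1
    · simpa [hn] using Ideal.mem_map_of_mem (algebraMap R T) hr
    · simp [Finsupp.single_apply, Ne.symm hn]
  | zero => simp
  | add a b _ _ ha hb => rw [MonoidAlgebra.coeff_add, Finsupp.add_apply]; exact add_mem (ha n) (hb n)
  | smul c a _ ha =>
    rw [smul_eq_mul, MonoidAlgebra.coeff_mul]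
    refine sum_mem fun i _ => sum_mem fun j _ => ?_
    dsimp only
    split_ifs
    · exact Ideal.mul_mem_left _ _ (ha j)
    · exact zero_mem _

include hJ in
lemma isNilpotent_map (T : Type u) [CommRing T] [Algebra R T] : IsNilpotent (J.map (algebraMap R T)) :=
  ⟨2, by rw [pow_two, ← Ideal.map_mul, hJ, Ideal.map_bot]; rfl⟩

include hJ hV h0 in
lemma exists_isAvg {T : Type u} [CommRing T] [Algebra R T] {N : Type} [CommGroup N]
    (h1 : Set.range (1 : specOver (R := R) T ⟶ G).left.base ⊆ V)
    (z : specOver (R := R) (MonoidAlgebra T N) ⟶ H) : ∃ g, IsAvg hJ u v z g := by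
  classical
  let U := MonoidAlgebra T N
  let A := avgSub J T N
  let x := dev u v z
  have h1U : Set.range (1 : specOver (R := R) U ⟶ G).left.base ⊆ V := by
    rw [← push_one (scal (R := R) T N)]
    rintro _ ⟨w, rfl⟩
    exact h1 ⟨_, rfl⟩
  have hx := push_dev_eq_one u v h0 z
  have hxV : Set.range x.left.base ⊆ V := range_subset_of_congr V _ (isNilpotent_map hJ U) h1U x hx
  have hr : ∀ {T : Type u} [CommRing T] [Algebra R T] (c : specOver (R := R) T ⟶ G), Set.range c.left.base ⊆ V →
      Set.range c.left.base ⊆ Set.range hV.fromSpec.base := fun c hc => by rw [hV.range_fromSpec]; exact hc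
  let β : Γ(G.left, V) ⟶ CommRingCat.of U := Spec.preimage (IsOpenImmersion.lift hV.fromSpec x.left (hr (T := U) x hxV))
  let ε : Γ(G.left, V) ⟶ CommRingCat.of T :=
    Spec.preimage (IsOpenImmersion.lift hV.fromSpec (1 : specOver (R := R) T ⟶ G).left (hr (T := T) _ h1))
  have hβ : Spec.map β ≫ hV.fromSpec = x.left := by
    rw [show Spec.map β = _ from Spec.map_preimage _]; exact IsOpenImmersion.lift_fac _ _ _
  have hε : Spec.map ε ≫ hV.fromSpec = (1 : specOver (R := R) T ⟶ G).left := by
    rw [show Spec.map ε = _ from Spec.map_preimage _]; exact IsOpenImmersion.lift_fac _ _ _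
  let IU := J.map (algebraMap R U)
  have hmem : ∀ b, β b ∈ A := by
    intro b n hn
    have h2 : β ≫ CommRingCat.ofHom (Ideal.Quotient.mk IU) =
        ε ≫ CommRingCat.ofHom (scal (R := R) T N).toRingHom ≫ CommRingCat.ofHom (Ideal.Quotient.mk IU) := by
      apply Spec.map_injective
      rw [← cancel_mono hV.fromSpec]
      simp only [Spec.map_comp, Category.assoc]
      rw [hβ, hε]
      have e1 := congrArg CommaMorphism.left hx
      rw [← push_one (R := R) (G := G) (Ideal.Quotient.mkₐ R IU), ← push_one (R := R) (G := G) (scal (R := R) T N)] at e1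
      exact e1
    have h3 : β b - scal (R := R) T N (ε b) ∈ IU := Ideal.Quotient.eq.mp (congr($h2 b))
    have h4 := coeff_mem_of_mem_map h3 n
    rw [MonoidAlgebra.coeff_sub, Finsupp.sub_apply] at h4
    simpa [scal, Ne.symm hn] using h4
  let γ : Γ(G.left, V) ⟶ CommRingCat.of A :=
    CommRingCat.ofHom (β.hom.codRestrict A.toSubring hmem)
  have hγ : γ ≫ CommRingCat.ofHom (avgVal J T N).toRingHom = β := rfl
  have hstr : (Spec.map γ ≫ hV.fromSpec) ≫ G.hom = Spec.map (CommRingCat.ofHom (algebraMap R A)) := by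
    have e2 : Spec.map (CommRingCat.ofHom (avgVal J T N).toRingHom) ≫ (Spec.map γ ≫ hV.fromSpec) ≫ G.hom =
        Spec.map (CommRingCat.ofHom (algebraMap R U)) := by
      rw [← Category.assoc, ← Category.assoc, ← Spec.map_comp, hγ, hβ]
      exact Over.w x
    rw [← Spec.map_preimage ((Spec.map γ ≫ hV.fromSpec) ≫ G.hom)] at e2 ⊢
    rw [← Spec.map_comp] at e2
    congr 1
    refine CommRingCat.hom_ext (RingHom.ext fun r => ?_)
    apply Subtype.ext
    exact congr($(Spec.map_injective e2) r)
  let a : specOver (R := R) A ⟶ G := Over.homMk (Spec.map γ ≫ hV.fromSpec) hstr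
  refine ⟨_, a, ?_, rfl⟩
  ext1
  show Spec.map _ ≫ Spec.map γ ≫ hV.fromSpec = x.left
  rw [← Category.assoc, ← Spec.map_comp, hγ, hβ]

include hJ hV h0 in
lemma eq_of_push_avgVal {T : Type u} [CommRing T] [Algebra R T] {N : Type} [CommGroup N]
    (h1 : Set.range (1 : specOver (R := R) T ⟶ G).left.base ⊆ V)
    (z : specOver (R := R) (MonoidAlgebra T N) ⟶ H) {a b : specOver (R := R) (avgSub J T N) ⟶ G}
    (ha : push (avgVal J T N) a = dev u v z) (hb : push (avgVal J T N) b = dev u v z) : a = b := by
  have h1U : Set.range (1 : specOver (R := R) (MonoidAlgebra T N) ⟶ G).left.base ⊆ V := by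
    rw [← push_one (scal (R := R) T N)]
    rintro _ ⟨w, rfl⟩
    exact h1 ⟨_, rfl⟩
  have hx := range_subset_of_congr V _ (isNilpotent_map hJ _) h1U _ (push_dev_eq_one u v h0 z)
  exact eq_of_injective V hV (avgVal J T N) Subtype.val_injective a b
    (range_avg_subset hJ V a (by rw [ha]; exact hx)) (range_avg_subset hJ V b (by rw [hb]; exact hx)) (ha.trans hb.symm)

include hJ hV h0 in
lemma IsAvg.unique {T : Type u} [CommRing T] [Algebra R T] {N : Type} [CommGroup N]
    (h1 : Set.range (1 : specOver (R := R) T ⟶ G).left.base ⊆ V)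
    {z : specOver (R := R) (MonoidAlgebra T N) ⟶ H} {g g' : specOver (R := R) T ⟶ G}
    (hg : IsAvg hJ u v z g) (hg' : IsAvg hJ u v z g') : g = g' := by
  obtain ⟨a, ha, rfl⟩ := hg
  obtain ⟨b, hb, rfl⟩ := hg'
  rw [eq_of_push_avgVal hJ u v V hV h0 h1 z ha hb]

/-- Functoriality of the average. -/
lemma IsAvg.map {T : Type u} [CommRing T] [Algebra R T] {N : Type} [CommGroup N]
    {T' : Type u} [CommRing T'] [Algebra R T'] [Algebra T T'] [IsScalarTower R T T'] {N' : Type} [CommGroup N']
    (τ : N →* MonoidAlgebra T' N') (hτ : ∀ n, n ≠ 1 → (τ n).coeff 1 = 0)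
    {z : specOver (R := R) (MonoidAlgebra T N) ⟶ H} {g : specOver (R := R) T ⟶ G} (hg : IsAvg hJ u v z g) :
    IsAvg hJ u v (push ((MonoidAlgebra.lift T (MonoidAlgebra T' N') N τ).restrictScalars R) z)
      (push (IsScalarTower.toAlgHom R T T') g) := by
  obtain ⟨a, ha, rfl⟩ := hg
  refine ⟨push (avgMap τ : avgSub J T N →ₐ[R] avgSub J T' N') a, ?_, ?_⟩
  · rw [← push_dev, ← ha, push_push, push_push]
    rfl
  · rw [push_push, push_push]
    congr 1
    exact AlgHom.ext fun x => avgHom_avgMap τ hτ hJ x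

include h0 in
lemma IsAvg.congr_one {T : Type u} [CommRing T] [Algebra R T] {N : Type} [CommGroup N]
    {z : specOver (R := R) (MonoidAlgebra T N) ⟶ H} {g : specOver (R := R) T ⟶ G} (hg : IsAvg hJ u v z g) :
    push (Ideal.Quotient.mkₐ R (J.map (algebraMap R T))) g = 1 := by
  classical
  obtain ⟨a, ha, rfl⟩ := hg
  let q := Ideal.Quotient.mkₐ R (J.map (algebraMap R T))
  let aug : MonoidAlgebra T N →ₐ[T] T := MonoidAlgebra.lift T T N 1
  have e : q.comp (avgCt hJ T N) = (q.comp (aug.restrictScalars R)).comp (avgVal J T N) := by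
    ext x
    refine (Ideal.Quotient.eq.mpr ?_)
    show x.1.coeff 1 - MonoidAlgebra.lift T T N 1 x.1 ∈ J.map (algebraMap R T)
    rw [MonoidAlgebra.lift_apply, Finsupp.sum]
    simp only [MonoidHom.one_apply, smul_eq_mul, _root_.mul_one]
    by_cases h : (1 : N) ∈ x.1.coeff.support
    · rw [← Finset.sum_erase_add _ _ h, sub_add_cancel_right]
      exact neg_mem (sum_mem fun n hn => x.2 n (Finset.ne_of_mem_erase hn))
    · rw [Finsupp.notMem_support_iff.mp h, zero_sub]
      exact neg_mem (sum_mem fun n hn => x.2 n fun e => h (e ▸ hn))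
  rw [push_push, e, ← push_push, ha, ← push_push, push_dev, push_dev_eq_one u v h0]

end Groth.Agent.DiagRig
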