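import Groth.Agent.DiagRig.CharEnd
import Mathlib.RingTheory.Ideal.Quotient.Operations
import Mathlib.RingTheory.Nilpotent.Lemmas

/-! The subring of a group algebra of elements constant modulo a square-zero ideal, and its constant term. -/

universe u

namespace Groth.Agent.DiagRig

noncomputable section

variable {R : Type u} [CommRing R] (J : Ideal R) (T : Type u) [CommRing T] [Algebra R T]
  (N : Type) [CommGroup N]

/-- Elements of `T[N]` constant modulo `J`. -/
def avgSub : Subalgebra T (MonoidAlgebra T N) where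
  carrier := {x | ∀ n, n ≠ 1 → x.coeff n ∈ J.map (algebraMap R T)}
  mul_mem' := fun {x y} hx hy n hn => by
    classical
    rw [MonoidAlgebra.coeff_mul]
    refine sum_mem fun a _ => sum_mem fun b _ => ?_
    dsimp only
    split_ifs with h
    · by_cases ha : a = 1
      · exact Ideal.mul_mem_left _ _ (hy b (fun hb => hn (by rw [← h, ha, hb, one_mul])))
      · exact Ideal.mul_mem_right _ _ (hx a ha)
    · exact zero_mem _
  one_mem' := fun n hn => by
    simp [MonoidAlgebra.one_def, Finsupp.single_apply, Ne.symm hn]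
  add_mem' := fun {x y} hx hy n hn => by
    rw [MonoidAlgebra.coeff_add, Finsupp.add_apply]
    exact add_mem (hx n hn) (hy n hn)
  zero_mem' := fun n _ => by simp
  algebraMap_mem' := fun c n hn => by
    simp [Finsupp.single_apply, Ne.symm hn]

variable {J T N}

lemma mem_avgSub {x : MonoidAlgebra T N} :
    x ∈ avgSub J T N ↔ ∀ n, n ≠ 1 → x.coeff n ∈ J.map (algebraMap R T) := Iff.rfl

lemma coeff_one_mul (hJ : J * J = ⊥) {x y : MonoidAlgebra T N} (hx : x ∈ avgSub J T N) (hy : y ∈ avgSub J T N) :
    (x * y).coeff 1 = x.coeff 1 * y.coeff 1 := by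
  classical
  have hJT : ∀ a ∈ J.map (algebraMap R T), ∀ b ∈ J.map (algebraMap R T), a * b = 0 := fun a ha b hb => by
    have h := Ideal.mul_mem_mul ha hb
    rwa [← Ideal.map_mul, hJ, Ideal.map_bot, Ideal.mem_bot] at h
  rw [MonoidAlgebra.coeff_mul, Finsupp.sum]
  simp only [Finsupp.sum]
  rw [Finset.sum_eq_single (1 : N)]
  · rw [Finset.sum_eq_single (1 : N)]
    · simp
    · intro b _ hb; simp [hb]
    · intro h; simp [Finsupp.notMem_support_iff.mp h]
  · intro a _ ha
    refine Finset.sum_eq_zero fun b _ => ?_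
    split_ifs with h
    · exact hJT _ (hx a ha) _ (hy b fun hb => ha (by rwa [hb, mul_one] at h))
    · rfl
  · intro h; simp [Finsupp.notMem_support_iff.mp h]

/-- The constant term. -/
def avgHom (hJ : J * J = ⊥) : avgSub J T N →ₐ[T] T where
  toFun x := x.1.coeff 1
  map_one' := by simp [MonoidAlgebra.one_def]
  map_mul' x y := coeff_one_mul hJ x.2 y.2
  map_zero' := by simp
  map_add' x y := by simp
  commutes' c := by simp

/-- Evaluation of a group algebra element in another. -/
lemma coeff_lift {T' : Type u} [CommRing T'] [Algebra T T'] {N' : Type} [CommGroup N']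
    (τ : N →* MonoidAlgebra T' N') (x : MonoidAlgebra T N) (n' : N') :
    (MonoidAlgebra.lift T (MonoidAlgebra T' N') N τ x).coeff n' =
      x.coeff.sum fun n c => algebraMap T T' c * (τ n).coeff n' := by
  rw [MonoidAlgebra.lift_apply, Finsupp.sum, MonoidAlgebra.coeff_sum, Finset.sum_apply', Finsupp.sum]
  exact Finset.sum_congr rfl fun n _ => by simp [Algebra.smul_def]

section Lift

variable {T' : Type u} [CommRing T'] [Algebra R T'] [Algebra T T'] [IsScalarTower R T T']
  {N' : Type} [CommGroup N'] (τ : N →* MonoidAlgebra T' N') (hτ : ∀ n, n ≠ 1 → (τ n).coeff 1 = 0)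

lemma map_le_map_tower : ∀ c ∈ J.map (algebraMap R T), algebraMap T T' c ∈ J.map (algebraMap R T') := fun c hc => by
  have h := Ideal.mem_map_of_mem (algebraMap T T') hc
  rwa [Ideal.map_map, ← IsScalarTower.algebraMap_eq] at h

lemma lift_mem_avgSub {x : MonoidAlgebra T N} (hx : x ∈ avgSub J T N) :
    MonoidAlgebra.lift T (MonoidAlgebra T' N') N τ x ∈ avgSub J T' N' := by
  classical
  intro n' hn'
  rw [coeff_lift]
  refine sum_mem fun n _ => ?_
  by_cases hn : n = 1
  · simp [hn, MonoidAlgebra.one_def, Finsupp.single_apply, Ne.symm hn']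
  · exact Ideal.mul_mem_right _ _ (map_le_map_tower _ (hx n hn))

include hτ in
lemma coeff_one_lift (x : MonoidAlgebra T N) :
    (MonoidAlgebra.lift T (MonoidAlgebra T' N') N τ x).coeff 1 = algebraMap T T' (x.coeff 1) := by
  classical
  rw [coeff_lift, Finsupp.sum, Finset.sum_eq_single (1 : N)]
  · simp [MonoidAlgebra.one_def]
  · intro n _ hn; rw [hτ n hn, mul_zero]
  · intro h; simp [Finsupp.notMem_support_iff.mp h]

/-- The induced map. -/
def avgMap : avgSub J T N →ₐ[R] avgSub J T' N' where
  toFun x := ⟨MonoidAlgebra.lift T (MonoidAlgebra T' N') N τ x.1, lift_mem_avgSub τ x.2⟩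
  map_one' := Subtype.ext (map_one _)
  map_mul' x y := Subtype.ext (map_mul _ _ _)
  map_zero' := Subtype.ext (map_zero _)
  map_add' x y := Subtype.ext (map_add _ _ _)
  commutes' r := Subtype.ext (by
    show MonoidAlgebra.lift T (MonoidAlgebra T' N') N τ (algebraMap R (MonoidAlgebra T N) r) = _
    rw [IsScalarTower.algebraMap_apply R T (MonoidAlgebra T N), AlgHom.commutes,
      IsScalarTower.algebraMap_apply T T' (MonoidAlgebra T' N'), ← IsScalarTower.algebraMap_apply R T T']
    rfl)

include hτ in
lemma avgHom_avgMap (hJ : J * J = ⊥) (x : avgSub J T N) :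
    avgHom hJ (avgMap τ x : avgSub J T' N') = algebraMap T T' (avgHom hJ x) :=
  coeff_one_lift τ hτ x.1

end Lift

/-- Group-like elements of a bijective family have no constant term away from the unit. -/
lemma coeff_one_eq_zero_of_inverse {M M' : Type} [CommGroup M] [CommGroup M'] (τ : M →* MonoidAlgebra T M')
    (τ' : M' →* MonoidAlgebra T M) (hinv : ∀ m, MonoidAlgebra.lift T _ M' τ' (τ m) = MonoidAlgebra.of T M m)
    (horth : ∀ m n, n ≠ 1 → (τ m).coeff 1 * (τ m).coeff n = 0) (m : M) (hm : m ≠ 1) : (τ m).coeff 1 = 0 := by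
  classical
  let c := (τ m).coeff 1
  have h1 : c • MonoidAlgebra.lift T _ M' τ' (τ m) = (c * c) • (1 : MonoidAlgebra T M) := by
    rw [MonoidAlgebra.lift_apply, Finsupp.smul_sum, Finsupp.sum, Finset.sum_eq_single (1 : M')]
    · rw [smul_smul, τ'.map_one]
    · intro n _ hn; rw [smul_smul, horth m n hn, zero_smul]
    · intro h; simp [c, Finsupp.notMem_support_iff.mp h]
  rw [hinv] at h1
  have h2 := congrArg (fun z : MonoidAlgebra T M => z.coeff m) h1
  simp [MonoidAlgebra.one_def, Finsupp.single_apply, Ne.symm hm] at h2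
  exact h2

/-- A natural multiplicative family of character maps has orthogonal coefficients. -/
lemma orth_of_natural {X Y : Type} [CommGroup X] [CommGroup Y]
    (F : ∀ (T : Type u) [CommRing T] [Algebra R T], (X →* T) → (Y →* T))
    (hmul : ∀ (T : Type u) [CommRing T] [Algebra R T] (s t : X →* T), F T (s * t) = F T s * F T t)
    (hnat : ∀ (T T' : Type u) [CommRing T] [Algebra R T] [CommRing T'] [Algebra R T'] (k : T →ₐ[R] T')
      (t : X →* T), k.toRingHom.toMonoidHom.comp (F T t) = F T' (k.toRingHom.toMonoidHom.comp t))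
    (y : Y) (n : X) (hn : n ≠ 1) :
    (F (MonoidAlgebra R X) (MonoidAlgebra.of R X) y).coeff 1 *
      (F (MonoidAlgebra R X) (MonoidAlgebra.of R X) y).coeff n = 0 := by
  classical
  let E : CharEnd R (X × Y) :=
    { F := fun T _ _ t => (F T (t.comp (MonoidHom.inl X Y))).comp (MonoidHom.snd X Y)
      map_mul := fun T _ _ s t => by rw [MonoidHom.mul_comp, hmul, MonoidHom.mul_comp]
      natural := fun T T' _ _ _ _ k t => by rw [← MonoidHom.comp_assoc, hnat, MonoidHom.comp_assoc] }
  have key : ∀ a : X, E.c (1, y) (a, 1) = (F (MonoidAlgebra R X) (MonoidAlgebra.of R X) y).coeff a := by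
    intro a
    let k : MonoidAlgebra R X →ₐ[R] MonoidAlgebra R (X × Y) := MonoidAlgebra.mapDomainAlgHom R R (MonoidHom.inl X Y)
    have hk : k.toRingHom.toMonoidHom.comp (MonoidAlgebra.of R X) =
        (MonoidAlgebra.of R (X × Y)).comp (MonoidHom.inl X Y) :=
      MonoidHom.ext fun a => MonoidAlgebra.mapDomain_single
    have h := DFunLike.congr_fun (hnat _ _ k (MonoidAlgebra.of R X)) y
    rw [hk] at h
    show (F (MonoidAlgebra R (X × Y)) ((MonoidAlgebra.of R (X × Y)).comp (MonoidHom.inl X Y)) y).coeff (a, 1) = _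
    rw [← h]
    show (Finsupp.mapDomain (MonoidHom.inl X Y) (F _ (MonoidAlgebra.of R X) y).coeff) (a, (1 : Y)) = _
    exact Finsupp.mapDomain_apply (fun a b e => congrArg Prod.fst e) _ a
  have h := E.c_mul_c (1, y) ((1, 1) : X × Y) (n, 1)
  rw [if_neg (fun e => hn (congrArg Prod.fst e).symm), key, key] at h
  exact h

end

end Groth.Agent.DiagRig
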