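import Groth.Agent.DiagRig.RigidConj

/-! Congruent homomorphisms, one of them central over a smaller base, are equal. -/

universe u

open CategoryTheory MonoidalCategory CartesianMonoidalCategory MonObj GrpObj AlgebraicGeometry Limits

noncomputable section

namespace Groth.Agent.DiagRig

variable {R : Type u} [CommRing R]

local notation "SR" => Spec (CommRingCat.of R)

lemma surjective_specQuot (I : Ideal R) (hI : I * I = ⊥) :
    Surjective (Spec.map (CommRingCat.ofHom (Ideal.Quotient.mk I))) := ⟨fun x => by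
  show x ∈ Set.range (PrimeSpectrum.comap (Ideal.Quotient.mk I))
  rw [range_comap_of_surjective (S := R ⧸ I) _ Ideal.Quotient.mk_surjective]
  have hx := x.isPrime
  intro y hy
  rw [SetLike.mem_coe, Ideal.mk_ker] at hy
  exact nilradical_le_prime x.asIdeal ⟨2, by
    rw [pow_two]; show y * y = 0; rw [← Ideal.mem_bot, ← hI]; exact Ideal.mul_mem_mul hy hy⟩⟩

lemma base_eq_of_agree (J : Ideal R) {X Y : Over SR} (a b : X ⟶ Y)
    (hab : ∀ (X' : Over SR) (k : X' ⟶ X), OverJ J X' → k ≫ a = k ≫ b) (x : X.left)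
    (hx : X.hom.base x ∈ Set.range (Spec.map (CommRingCat.ofHom (Ideal.Quotient.mk J))).base) :
    a.left.base x = b.left.base x := by
  obtain ⟨q, hq⟩ := hx
  obtain ⟨w, hw, -⟩ := Scheme.Pullback.exists_preimage_pullback x q hq.symm
  let X₀ : Over SR := Over.mk (pullback.fst X.hom (Spec.map (CommRingCat.ofHom (Ideal.Quotient.mk J))) ≫ X.hom)
  let k : X₀ ⟶ X := Over.homMk (pullback.fst _ _)
  have h := hab X₀ k ⟨pullback.snd _ _, pullback.condition.symm⟩
  have h' : (k.left ≫ a.left).base w = (k.left ≫ b.left).base w := by rw [← Over.comp_left, h]; rfl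
  rw [Scheme.Hom.comp_apply, Scheme.Hom.comp_apply] at h'
  rwa [show k.left.base w = x from hw] at h'

lemma agree_on_chart (J : Ideal R) {X Y : Over SR} (a b : X ⟶ Y)
    (hab : ∀ (X' : Over SR) (k : X' ⟶ X), OverJ J X' → k ≫ a = k ≫ b)
    {B C : CommRingCat.{u}} (φ : CommRingCat.of R ⟶ B) (i : Spec B ⟶ X.left) (hi : i ≫ X.hom = Spec.map φ)
    (j : Spec C ⟶ Y.left) [IsOpenImmersion j] (α β : C ⟶ B) (hα : Spec.map α ≫ j = i ≫ a.left)
    (hβ : Spec.map β ≫ j = i ≫ b.left) (y : C) : β y - α y ∈ J.map φ.hom := by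
  let X₀ : Over SR := Over.mk (Spec.map (CommRingCat.ofHom (Ideal.Quotient.mk (J.map φ.hom))) ≫ i ≫ X.hom)
  let k : X₀ ⟶ X := Over.homMk (Spec.map (CommRingCat.ofHom (Ideal.Quotient.mk (J.map φ.hom))) ≫ i) (Category.assoc _ _ _)
  have h := hab X₀ k ⟨Spec.map (CommRingCat.ofHom (Ideal.quotientMap (J.map φ.hom) φ.hom Ideal.le_comap_map)), by
    show _ = Spec.map _ ≫ i ≫ X.hom
    rw [hi, ← Spec.map_comp, ← Spec.map_comp]
    rfl⟩
  have h' := congrArg CommaMorphism.left h
  simp only [Over.comp_left, k, Over.homMk_left, Category.assoc, ← hα, ← hβ] at h'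
  rw [← Category.assoc, ← Category.assoc, cancel_mono, ← Spec.map_comp, ← Spec.map_comp] at h'
  exact (Ideal.Quotient.eq.mp (congr($(Spec.map_injective h') y)).symm)

lemma overJ_of_away (m I : Ideal R) (hmI : m * I = ⊥) {r : R} (hr : r ∈ m) {X : Over SR}
    (h : Set.range X.hom.base ⊆ (PrimeSpectrum.basicOpen r : Set (PrimeSpectrum R))) : OverJ I X := by
  let L := Localization.Away r
  have hI : ∀ y ∈ I, algebraMap R L y = 0 := fun y hy =>
    (IsLocalization.map_eq_zero_iff (Submonoid.powers r) L y).mpr ⟨⟨r, ⟨1, pow_one r⟩⟩, by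
      have := Ideal.mul_mem_mul hr hy
      rwa [hmI, Ideal.mem_bot] at this⟩
  let i : Spec (CommRingCat.of L) ⟶ SR := Spec.map (CommRingCat.ofHom (algebraMap R L))
  have : IsOpenImmersion i := IsOpenImmersion.of_isLocalization r
  have hr' : Set.range X.hom.base ⊆ Set.range i.base := by
    refine h.trans ?_
    rw [← PrimeSpectrum.localization_away_comap_range L r]
    rfl
  refine ⟨IsOpenImmersion.lift i X.hom hr' ≫ Spec.map (CommRingCat.ofHom (Ideal.Quotient.lift I (algebraMap R L) hI)), ?_⟩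
  rw [Category.assoc, ← Spec.map_comp]
  exact IsOpenImmersion.lift_fac i X.hom hr'

set_option backward.isDefEq.respectTransparency.types false in
/-- Two maps agreeing modulo `m` and on a point `a`, agree on every point congruent to `a` modulo `I`,
if `m * I = 0`. -/
theorem comp_eq_of_agree (m I : Ideal R) (hI : I * I = ⊥) (hmI : m * I = ⊥) {X Y Y' : Over SR}
    (a b : X ⟶ Y) (c d : Y ⟶ Y')
    (hab : ∀ (X' : Over SR) (k : X' ⟶ X), OverJ I X' → k ≫ a = k ≫ b)
    (hcd : ∀ (Y₀ : Over SR) (k : Y₀ ⟶ Y), OverJ m Y₀ → k ≫ c = k ≫ d)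
    (h : a ≫ c = a ≫ d) : b ≫ c = b ≫ d := by
  have hbase : ∀ x, a.left.base x = b.left.base x := fun x =>
    base_eq_of_agree I a b hab x ((surjective_specQuot I hI).surj _)
  suffices hloc : ∀ x : X.left, ∃ (U : Scheme.{u}) (i : U ⟶ X.left), IsOpenImmersion i ∧ x ∈ Set.range i.base ∧
      i ≫ b.left ≫ c.left = i ≫ b.left ≫ d.left by
    choose U i hi hx he using hloc
    let 𝒰 : X.left.OpenCover := Scheme.Cover.mkOfCovers X.left U i (fun x => ⟨x, hx x⟩) hi
    ext1
    rw [Over.comp_left, Over.comp_left]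
    exact Scheme.Cover.hom_ext 𝒰 _ _ he
  intro x
  by_cases hxm : ∃ r ∈ m, X.hom.base x ∈ PrimeSpectrum.basicOpen r
  · obtain ⟨r, hr, hxr⟩ := hxm
    let O : X.left.Opens := X.hom ⁻¹ᵁ PrimeSpectrum.basicOpen r
    let X' : Over SR := Over.mk (O.ι ≫ X.hom)
    let k : X' ⟶ X := Over.homMk O.ι
    have h1 := hab X' k (overJ_of_away m I hmI hr (by
      rintro _ ⟨z, rfl⟩
      show (O.ι ≫ X.hom).base z ∈ _
      rw [Scheme.Hom.comp_apply]
      exact z.2))
    refine ⟨O, O.ι, inferInstance, ⟨⟨x, (hxr : x ∈ O)⟩, rfl⟩, ?_⟩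
    have h2 : k ≫ b ≫ c = k ≫ b ≫ d := by rw [← reassoc_of% h1, ← reassoc_of% h1, h]
    exact congrArg CommaMorphism.left h2
  push Not at hxm
  have hy : c.left.base (b.left.base x) = d.left.base (b.left.base x) := by
    refine base_eq_of_agree m c d hcd _ ?_
    have e : Y.hom.base (b.left.base x) = X.hom.base x := by rw [← Scheme.Hom.comp_apply, Over.w b]
    rw [e]
    show _ ∈ Set.range (PrimeSpectrum.comap (Ideal.Quotient.mk m))
    rw [range_comap_of_surjective (S := R ⧸ m) _ Ideal.Quotient.mk_surjective]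
    intro y hy
    rw [SetLike.mem_coe, Ideal.mk_ker] at hy
    by_contra hy'
    exact hxm y hy hy'
  obtain ⟨V', hV', hyV', -⟩ := exists_isAffineOpen_mem_and_subset (X := Y'.left) (x := c.left.base (b.left.base x))
    (U := ⊤) trivial
  obtain ⟨V, hV, hxV, hVsub⟩ := exists_isAffineOpen_mem_and_subset (X := Y.left) (x := b.left.base x)
    (U := c.left ⁻¹ᵁ V' ⊓ d.left ⁻¹ᵁ V') ⟨hyV', by show d.left.base _ ∈ V'; rw [← hy]; exact hyV'⟩
  obtain ⟨U, hU, hxU, hUsub⟩ := exists_isAffineOpen_mem_and_subset (X := X.left) (x := x)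
    (U := a.left ⁻¹ᵁ V ⊓ b.left ⁻¹ᵁ V) ⟨by show a.left.base x ∈ V; rw [hbase]; exact hxV, hxV⟩
  refine ⟨_, hU.fromSpec, inferInstance, hU.range_fromSpec.ge hxU, ?_⟩
  have hr : ∀ {A B : Scheme.{u}} {W : A.Opens} {W' : B.Opens} (hW : IsAffineOpen W) (hW' : IsAffineOpen W')
      (f : A ⟶ B), W ≤ f ⁻¹ᵁ W' → ∃ α : Γ(B, W') ⟶ Γ(A, W), Spec.map α ≫ hW'.fromSpec = hW.fromSpec ≫ f := by
    intro A B W W' hW hW' f hle
    have hsub : Set.range (hW.fromSpec ≫ f).base ⊆ Set.range hW'.fromSpec.base := by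
      rintro _ ⟨z, rfl⟩
      rw [hW'.range_fromSpec, Scheme.Hom.comp_apply]
      exact hle (hW.range_fromSpec.le ⟨z, rfl⟩)
    exact ⟨Spec.preimage (IsOpenImmersion.lift hW'.fromSpec _ hsub), by
      rw [Spec.map_preimage]; exact IsOpenImmersion.lift_fac _ _ _⟩
  obtain ⟨α, hα⟩ := hr hU hV a.left fun z hz => (hUsub hz).1
  obtain ⟨β, hβ⟩ := hr hU hV b.left fun z hz => (hUsub hz).2
  obtain ⟨γ, hγ⟩ := hr hV hV' c.left fun z hz => (hVsub hz).1
  obtain ⟨δ, hδ⟩ := hr hV hV' d.left fun z hz => (hVsub hz).2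
  let φB : CommRingCat.of R ⟶ Γ(X.left, U) := Spec.preimage (hU.fromSpec ≫ X.hom)
  let φC : CommRingCat.of R ⟶ Γ(Y.left, V) := Spec.preimage (hV.fromSpec ≫ Y.hom)
  have hφB : hU.fromSpec ≫ X.hom = Spec.map φB := (Spec.map_preimage _).symm
  have hφC : hV.fromSpec ≫ Y.hom = Spec.map φC := (Spec.map_preimage _).symm
  have hφ : ∀ (f : X ⟶ Y) (ε : Γ(Y.left, V) ⟶ Γ(X.left, U)), Spec.map ε ≫ hV.fromSpec = hU.fromSpec ≫ f.left →
      φC ≫ ε = φB := fun f ε hε => by
    apply Spec.map_injective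
    rw [Spec.map_comp, ← hφC, reassoc_of% hε, Over.w f, hφB]
  have key : γ ≫ β = δ ≫ β := by
    refine CommRingCat.hom_ext (RingHom.ext fun f => ?_)
    have h1 : δ f - γ f ∈ m.map φC.hom := agree_on_chart m c d hcd φC _ hφC hV'.fromSpec γ δ hγ hδ f
    have h2 : ∀ y, β y - α y ∈ I.map φB.hom := agree_on_chart I a b hab φB _ hφB hV.fromSpec α β hα hβ
    have h3 : α (δ f - γ f) = 0 := by
      have : γ ≫ α = δ ≫ α := by
        apply Spec.map_injective
        rw [← cancel_mono hV'.fromSpec, Spec.map_comp, Spec.map_comp, Category.assoc, Category.assoc, hγ, hδ,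
          reassoc_of% hα, reassoc_of% hα]
        exact congrArg (hU.fromSpec ≫ ·) (congrArg CommaMorphism.left h)
      rw [map_sub, sub_eq_zero]
      exact congr($this f).symm
    have h4 : ∀ z ∈ m.map φC.hom, β z - α z = 0 := by
      intro z hz
      induction hz using Submodule.span_induction with
      | mem z hz =>
        obtain ⟨r, hr, rfl⟩ := hz
        rw [show β (φC r) = φB r from congr($(hφ b β hβ) r), show α (φC r) = φB r from congr($(hφ a α hα) r), sub_self]
      | zero => simp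
      | add p q _ _ hp hq => rw [map_add, map_add, add_sub_add_comm, hp, hq, add_zero]
      | smul y z hz hzz =>
        have hz' : α z ∈ m.map φB.hom := by
          have := Ideal.mem_map_of_mem α.hom (show z ∈ m.map φC.hom from hz)
          rw [Ideal.map_map, show α.hom.comp φC.hom = φB.hom from congrArg CommRingCat.Hom.hom (hφ a α hα)] at this
          exact this
        rw [smul_eq_mul, map_mul, map_mul, sub_eq_zero.mp hzz, ← sub_mul]
        have := Ideal.mul_mem_mul (h2 y) hz'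
        rwa [← Ideal.map_mul, mul_comm I m, hmI, Ideal.map_bot, Ideal.mem_bot] at this
    have h5 := h4 _ h1
    rw [h3, sub_zero, map_sub, sub_eq_zero] at h5
    exact h5.symm
  rw [← reassoc_of% hβ, ← reassoc_of% hβ, ← hγ, ← hδ, ← Spec.map_comp_assoc, ← Spec.map_comp_assoc, key]

set_option backward.isDefEq.respectTransparency.types false in
/-- A homomorphism congruent modulo `I` to one which is central modulo `m` is equal to it, if `m * I = 0`. -/
theorem central_eq_of_congr_mod (m I : Ideal R) (hI : I * I = ⊥) (hmI : m * I = ⊥)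
    (H G : Over SR) [GrpObj H] [GrpObj G] (hH : SplitLoc H) (u v : H ⟶ G) [IsMonHom u] [IsMonHom v]
    (hcen : ∀ (X : Over SR), OverJ m X → ∀ (g : X ⟶ G) (h : X ⟶ H), g * (h ≫ u) = (h ≫ u) * g)
    (h0 : ∀ (X : Over SR), OverJ I X → ∀ h : X ⟶ H, h ≫ u = h ≫ v) : u = v := by
  obtain ⟨S', f, hf, hsurj, hc, hloc⟩ := hH
  obtain ⟨g, hg1, hg⟩ := exists_conj_of_congr (G := G) (H := H) f hc hloc hI u v fun T _ _ hT x => h0 _ (by
    refine ⟨Spec.map (CommRingCat.ofHom (Ideal.Quotient.lift I (algebraMap R T) hT)), ?_⟩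
    rw [← Spec.map_comp]
    rfl) x
  let gH : H ⟶ G := toUnit H ≫ g
  let c : H ⊗ G ⟶ G := (fst H G ≫ u) * snd H G * (fst H G ≫ u)⁻¹
  have hcomm : u * gH * u⁻¹ = gH := by
    have h1 := comp_eq_of_agree m I hI hmI (lift (𝟙 H) (1 : H ⟶ G)) (lift (𝟙 H) gH) c (snd H G)
      (fun X' k ⟨w, hw⟩ => ?_) (fun Y₀ k hY => ?_) ?_
    · simpa [c, gH, MonObj.comp_mul, GrpObj.comp_inv] using h1
    · rw [comp_lift, comp_lift]
      congr 1
      rw [MonObj.comp_one]
      have e : toUnit X' = (Over.homMk w hw : X' ⟶ Over.mk (Spec.map (CommRingCat.ofHom (Ideal.Quotient.mk I)))) ≫ toUnit _ :=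
        toUnit_unique _ _
      rw [← Category.assoc, comp_toUnit, e, Category.assoc, hg1, MonObj.comp_one]
    · simp only [c, MonObj.comp_mul, GrpObj.comp_inv, ← Category.assoc]
      rw [← hcen Y₀ hY (k ≫ snd H G) (k ≫ fst H G), mul_inv_cancel_right]
    · simp [c, MonObj.comp_mul, GrpObj.comp_inv]
  have h2 := hg H (𝟙 H)
  rw [Category.id_comp, Category.id_comp] at h2
  rw [h2]
  show u = gH * u * gH⁻¹
  rw [eq_mul_inv_iff_mul_eq]
  calc u * gH = u * gH * u⁻¹ * u := by simp [_root_.mul_assoc]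
    _ = gH * u := by rw [hcomm]

end Groth.Agent.DiagRig
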