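import Groth.Agent.DiagRig.CentralLift
import Groth.Agent.FlatMor.Thickening
import Mathlib.AlgebraicGeometry.Morphisms.SmoothFiber

/-!
# Central finite smooth sub-groups of multiplicative type lift uniquely along thickenings
-/

universe u

open CategoryTheory MonoidalCategory CartesianMonoidalCategory MonObj GrpObj AlgebraicGeometry Limits

noncomputable section

namespace Groth.Agent.DiagRig

set_option linter.unusedSectionVars false

variable {S S₀ : Scheme.{u}} (q : S₀ ⟶ S) [IsClosedImmersion q] [Surjective q]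

set_option backward.isDefEq.respectTransparency.types false in
/-- Smoothness and finiteness of a flat group ascend along thickenings. -/
lemma smooth_finite_of_bc (H : Over S) [Flat H.hom] [LocallyOfFinitePresentation H.hom]
    (h₁ : Smooth (Red.bc q H).hom) (h₂ : IsFinite (Red.bc q H).hom) : Smooth H.hom ∧ IsFinite H.hom := by
  constructor
  · refine Smooth.of_smooth_fiberToSpecResidueField H.hom fun s => ?_
    let t := S.fromSpecResidueField s
    have : Surjective (pullback.fst t q) := MorphismProperty.pullback_fst (P := @Surjective) t q inferInstance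
    have : IsClosedImmersion (pullback.fst t q) := MorphismProperty.pullback_fst (P := @IsClosedImmersion) t q inferInstance
    have : IsIso (pullback.fst t q) := isIso_of_isClosedImmersion_of_surjective _
    let l : Spec (S.residueField s) ⟶ S₀ := inv (pullback.fst t q) ≫ pullback.snd t q
    have hl : l ≫ q = t := by
      rw [Category.assoc, ← pullback.condition, IsIso.inv_hom_id_assoc]
    have hsq : IsPullback (pullback.fst (pullback.snd H.hom q) l ≫ pullback.fst H.hom q)
        (pullback.snd (pullback.snd H.hom q) l) H.hom t := by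
      rw [← hl]
      exact (IsPullback.of_hasPullback _ _).paste_horiz (IsPullback.of_hasPullback H.hom q)
    show Smooth (pullback.snd H.hom t)
    rw [← hsq.isoPullback_inv_snd]
    have : Smooth (pullback.snd (pullback.snd H.hom q) l) := MorphismProperty.pullback_snd _ _ h₁
    infer_instance
  · have hc : IsPullback (pullback.fst H.hom q) (pullback.snd H.hom q) H.hom q := IsPullback.of_hasPullback _ _
    have : IsFinite (pullback.snd H.hom q) := h₂
    have : IsClosedImmersion (pullback.fst H.hom q) := MorphismProperty.pullback_fst (P := @IsClosedImmersion) _ _ inferInstance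
    have : Surjective (pullback.fst H.hom q) := MorphismProperty.pullback_fst (P := @Surjective) _ _ inferInstance
    have : LocallyOfFiniteType H.hom := inferInstance
    have : UniversallyClosed H.hom :=
      (Thick.Topo.universallyClosed_iff _ q _ H.hom hc.w).mp inferInstance
    have : IsSeparated (pullback.fst H.hom q ≫ H.hom) := hc.w ▸ inferInstance
    have : IsSeparated H.hom := FlatMor.Thickening.isSeparated_of_comp_surjective (pullback.fst H.hom q) H.hom
    have : IsProper H.hom := {}
    have : LocallyQuasiFinite H.hom := (Thick.Topo.locallyQuasiFinite_iff _ q _ H.hom hc.w).mp inferInstance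
    exact IsFinite.of_isProper_of_locallyQuasiFinite H.hom

variable {G : Over S} [GrpObj G] {H₀ : Over S₀} [GrpObj H₀] (j₀ : H₀ ⟶ Red.bc q G) [IsMonHom j₀] [Mono j₀]

/-- An isomorphism compatible with homomorphisms into a group is a homomorphism. -/
lemma isMonHom_of_comp {H : Over S} [GrpObj H] (j : H ⟶ G) [IsMonHom j] (e : Red.bc q H ≅ H₀)
    (he : e.hom ≫ j₀ = (Over.pullback q).map j) : IsMonHom e.hom := by
  have := isMonHom_bcMap (q := q) j
  refine isMonHom_of_pts e.hom fun Y x y => ?_
  rw [← cancel_mono j₀, Category.assoc, he, MonObj.mul_comp, MonObj.mul_comp, Category.assoc, Category.assoc, he]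

set_option backward.isDefEq.respectTransparency.types false in
/-- Uniqueness and comparison: a second lift is isomorphic to the first one over `G`. -/
theorem exists_comparison [Flat G.hom] [LocallyOfFinitePresentation G.hom]
    [Smooth H₀.hom] [IsFinite H₀.hom]
    (hc₀ : ∀ (X : Over S₀) (x : X ⟶ H₀) (g : X ⟶ Red.bc q G), (x ≫ j₀) * g = g * (x ≫ j₀))
    {H : Over S} [GrpObj H] (hH : SGA3x.IsMultTypeFT H) (j : H ⟶ G) [IsMonHom j] (e : Red.bc q H ≅ H₀)
    (he : e.hom ≫ j₀ = (Over.pullback q).map j)
    {H' : Over S} [GrpObj H'] (hH' : SGA3x.IsMultTypeFT H') (j' : H' ⟶ G) [IsMonHom j'] (e' : Red.bc q H' ≅ H₀)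
    (he' : e'.hom ≫ j₀ = (Over.pullback q).map j') :
    ∃ φ : H' ≅ H, φ.hom ≫ j = j' := by
  have hsf : ∀ {K : Over S} [GrpObj K] (_ : SGA3x.IsMultTypeFT K) (_ : Red.bc q K ≅ H₀), Smooth K.hom ∧ IsFinite K.hom := by
    intro K _ hK f
    have := multType_flat K hK
    have := multType_locallyOfFinitePresentation K hK
    have : IsIso f.hom.left := ((Over.forget _).mapIso f).isIso_hom
    refine smooth_finite_of_bc q K ?_ ?_
    · rw [← Over.w f.hom]; infer_instance
    · rw [← Over.w f.hom]; infer_instance
  obtain ⟨_, _⟩ := hsf hH e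
  obtain ⟨_, _⟩ := hsf hH' e'
  have := multType_flat H hH
  have := multType_locallyOfFinitePresentation H hH
  have := multType_flat H' hH'
  have := multType_locallyOfFinitePresentation H' hH'
  have := isMonHom_of_comp q j₀ j e he
  have := isMonHom_of_comp q j₀ j' e' he'
  have comm : ∀ (K : Over S) [GrpObj K] (_ : SGA3x.IsMultTypeFT K) (Y : Over S₀) (a b : Y ⟶ Red.bc q K), a * b = b * a :=
    fun K _ hK Y a b => bcTr_injective q (by
      rw [bcTr_mul, bcTr_mul, mul_comm_of_splitFpqc (splitFpqc_of_multTypeFT K hK)])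
  obtain ⟨φ, hφ, hφm, -, -⟩ := exists_central_lift q H' hH' (e'.hom ≫ e.inv) (fun Y x g => comm H hH Y _ g)
  obtain ⟨ψ, hψ, hψm, -, -⟩ := exists_central_lift q H hH (e.hom ≫ e'.inv) (fun Y x g => comm H' hH' Y _ g)
  have hid : ∀ (K : Over S) [GrpObj K] [Smooth K.hom] [IsFinite K.hom] [Flat K.hom] [LocallyOfFinitePresentation K.hom]
      (_ : SGA3x.IsMultTypeFT K) (f : K ⟶ K), IsMonHom f → (Over.pullback q).map f = 𝟙 _ → f = 𝟙 _ := by
    intro K _ _ _ _ _ hK f hf h
    obtain ⟨u, -, -, -, hu⟩ := exists_central_lift q K hK (𝟙 (Red.bc q K)) (fun Y x g => comm K hK Y _ g)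
    rw [hu f hf h, hu (𝟙 K) inferInstance ((Over.pullback q).map_id K)]
  refine ⟨⟨φ, ψ, hid H' hH' _ inferInstance ?_, hid H hH _ inferInstance ?_⟩, ?_⟩
  · rw [Functor.map_comp, hφm, hψm]; simp
  · rw [Functor.map_comp, hφm, hψm]; simp
  · obtain ⟨u, -, -, -, hu⟩ := exists_central_lift q H' hH' (G := G) ((Over.pullback q).map j')
      (fun Y x g => by rw [← he', ← Category.assoc]; exact hc₀ Y _ g)
    show φ ≫ j = j'
    rw [hu (φ ≫ j) inferInstance (by rw [Functor.map_comp, hφm, ← he, ← he', Category.assoc, Iso.inv_hom_id_assoc]),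
      hu j' inferInstance rfl]

set_option backward.isDefEq.respectTransparency.types false in
/-- Existence over an affine base. -/
theorem exists_central_sub {A : Type u} [CommRing A] (J : Ideal A) (hJ : ∀ x ∈ J, IsNilpotent x)
    (G : Over (Spec (CommRingCat.of A))) [GrpObj G] [Flat G.hom] [LocallyOfFinitePresentation G.hom]
    (H₀ : Over (Spec (CommRingCat.of (A ⧸ J)))) [GrpObj H₀]
    (j₀ : H₀ ⟶ Red.bc (Spec.map (CommRingCat.ofHom (Ideal.Quotient.mk J))) G) [IsMonHom j₀] [Mono j₀]
    [Smooth H₀.hom] [IsFinite H₀.hom] (hm₀ : SGA3x.IsMultTypeFT H₀)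
    (hc₀ : ∀ (X : Over _) (x : X ⟶ H₀) (g : X ⟶ Red.bc (Spec.map (CommRingCat.ofHom (Ideal.Quotient.mk J))) G),
      (x ≫ j₀) * g = g * (x ≫ j₀)) :
    ∃ (H : Over (Spec (CommRingCat.of A))) (_ : GrpObj H) (j : H ⟶ G), IsMonHom j ∧ Mono j ∧ SGA3x.IsMultTypeFT H ∧
      (∃ e : Red.bc (Spec.map (CommRingCat.ofHom (Ideal.Quotient.mk J))) H ≅ H₀,
        e.hom ≫ j₀ = (Over.pullback (Spec.map (CommRingCat.ofHom (Ideal.Quotient.mk J)))).map j) ∧
      ∀ (X : Over _) (x : X ⟶ H) (g : X ⟶ G), (x ≫ j) * g = g * (x ≫ j) := by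
  let q := Spec.map (CommRingCat.ofHom (Ideal.Quotient.mk J))
  have : IsClosedImmersion q := isClosedImmersion_specQuot J
  have : Surjective q := surjective_specQuot_of_nil J hJ
  have : IsAffine H₀.left := isAffine_of_isAffineHom H₀.hom
  obtain ⟨H, _, -, hH, e, he⟩ := exists_mult_lift J hJ H₀ (splitLoc_of_locally (locally_of_multTypeFT hm₀))
  have : IsMonHom e.hom := he
  have := multType_flat H hH
  have := multType_locallyOfFinitePresentation H hH
  have : IsIso e.hom.left := ((Over.forget _).mapIso e).isIso_hom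
  obtain ⟨_, _⟩ := smooth_finite_of_bc q H (by rw [← Over.w e.hom]; infer_instance)
    (by rw [← Over.w e.hom]; infer_instance)
  obtain ⟨j, hj, hjm, hcen, -⟩ := exists_central_lift q H hH (e.hom ≫ j₀)
    (fun Y x g => by rw [← Category.assoc]; exact hc₀ Y _ g)
  have : Mono ((Over.pullback q).map j) := by rw [hjm]; infer_instance
  have : Mono ((Over.pullback q).map j).left := inferInstance
  have hsq := isPullback_map_left q j
  have : LocallyOfFiniteType (j.left ≫ G.hom) := by rw [Over.w j]; infer_instance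
  have : LocallyOfFiniteType j.left := locallyOfFiniteType_of_comp j.left G.hom
  have := Thick.Unram.mono_of_locallyOfFiniteType hsq
  exact ⟨H, inferInstance, j, hj, Over.mono_of_mono_left j, hH, ⟨e, hjm.symm⟩, hcen⟩

end Groth.Agent.DiagRig
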