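import Mathlib.Algebra.MonoidAlgebra.Basic
import Mathlib.RingTheory.Ideal.Quotient.Operations
import Mathlib.RingTheory.Idempotents
import Mathlib.RingTheory.Nilpotent.Lemmas

/-! Lifting grouplike elements of monoid algebras along nilpotent ideals. -/

universe u

namespace Groth.Agent.DiagRig.CharLift

noncomputable section

variable {A : Type u} [CommRing A] {N : Type} [CommGroup N]

/-- A grouplike element of `A[N]`. -/
def GL (d : MonoidAlgebra A N) : Prop :=
  MonoidAlgebra.mapDomainAlgHom A A (MonoidHom.inl N N) d * MonoidAlgebra.mapDomainAlgHom A A (MonoidHom.inr N N) d =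
      MonoidAlgebra.mapDomainAlgHom A A ((MonoidHom.id N).prod (MonoidHom.id N)) d ∧
    MonoidAlgebra.lift A A N 1 d = 1

lemma GL.mul {d e : MonoidAlgebra A N} (hd : GL d) (he : GL e) : GL (d * e) :=
  ⟨by rw [map_mul, map_mul, map_mul, ← hd.1, ← he.1]; exact mul_mul_mul_comm _ _ _ _,
    by rw [map_mul, hd.2, he.2, one_mul]⟩

lemma GL.one : GL (1 : MonoidAlgebra A N) := ⟨by simp, by simp⟩

lemma coeff_inl_inr (f g : MonoidAlgebra A N) (n n' : N) :
    (MonoidAlgebra.mapDomainAlgHom A A (MonoidHom.inl N N) f *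
      MonoidAlgebra.mapDomainAlgHom A A (MonoidHom.inr N N) g).coeff (n, n') = f.coeff n * g.coeff n' := by
  classical
  induction f using MonoidAlgebra.induction_linear with
  | zero => simp
  | add a b ha hb => rw [map_add, add_mul, MonoidAlgebra.coeff_add, Finsupp.add_apply, ha, hb]; simp [add_mul]
  | single x r =>
    induction g using MonoidAlgebra.induction_linear with
    | zero => simp
    | add a b ha hb => rw [map_add, mul_add, MonoidAlgebra.coeff_add, Finsupp.add_apply, ha, hb]; simp [mul_add]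
    | single y s =>
      simp [MonoidAlgebra.single_mul_single, Finsupp.single_apply, ite_and]
      split_ifs <;> simp_all

lemma coeff_diag [DecidableEq N] (f : MonoidAlgebra A N) (n n' : N) :
    (MonoidAlgebra.mapDomainAlgHom A A ((MonoidHom.id N).prod (MonoidHom.id N)) f).coeff (n, n') =
      if n = n' then f.coeff n else 0 := by
  induction f using MonoidAlgebra.induction_linear with
  | zero => simp
  | add a b ha hb => rw [map_add, MonoidAlgebra.coeff_add, Finsupp.add_apply, ha, hb]; split_ifs <;> simp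
  | single x r =>
    by_cases h3 : n = n' <;> by_cases h4 : x = n <;> simp_all [Finsupp.single_apply, eq_comm]

lemma GL.coeff_mul [DecidableEq N] {d : MonoidAlgebra A N} (hd : GL d) (n n' : N) :
    d.coeff n * d.coeff n' = if n = n' then d.coeff n else 0 := by
  rw [← coeff_inl_inr, hd.1, coeff_diag]

lemma GL.idem {d : MonoidAlgebra A N} (hd : GL d) (n : N) : IsIdempotentElem (d.coeff n) := by
  classical
  show _ * _ = _
  rw [hd.coeff_mul, if_pos rfl]

variable (I : Ideal A)

/-- Reduction of coefficients. -/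
def red : MonoidAlgebra A N →ₐ[A] MonoidAlgebra (A ⧸ I) N :=
  MonoidAlgebra.mapAlgHom (M := N) (Ideal.Quotient.mkₐ A I)

lemma coeff_red (f : MonoidAlgebra A N) (n : N) : (red I f).coeff n = Ideal.Quotient.mk I (f.coeff n) := by
  simp [red]

variable {I}

lemma GL.eq_of_red_eq (hI : IsNilpotent I) {d e : MonoidAlgebra A N} (hd : GL d) (he : GL e)
    (h : red I d = red I e) : d = e := by
  ext n
  refine eq_of_isNilpotent_sub_of_isIdempotentElem (hd.idem n) (he.idem n) ?_
  have h1 : d.coeff n - e.coeff n ∈ I := by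
    rw [← Ideal.Quotient.eq, ← coeff_red, ← coeff_red, h]
  obtain ⟨k, hk⟩ := hI
  exact ⟨k, by simpa [hk] using Ideal.pow_mem_pow h1 k⟩

lemma GL.of_coeff {d : MonoidAlgebra A N}
    (h : ∀ n n', n ≠ n' → d.coeff n * d.coeff n' = 0) (h' : ∀ n, IsIdempotentElem (d.coeff n))
    (h1 : MonoidAlgebra.lift A A N 1 d = 1) : GL d := by
  classical
  refine ⟨?_, h1⟩
  ext ⟨n, n'⟩
  rw [coeff_inl_inr, coeff_diag]
  split_ifs with e
  · subst e; exact h' n
  · exact h n n' e

lemma GL.exists_lift (hI : IsNilpotent I) {d₀ : MonoidAlgebra (A ⧸ I) N} (h₀ : GL d₀) :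
    ∃ d : MonoidAlgebra A N, GL d ∧ red I d = d₀ := by
  classical
  obtain ⟨k, hk⟩ := hI
  have hnil : ∀ x ∈ RingHom.ker (Ideal.Quotient.mk I), IsNilpotent x := fun x hx => by
    rw [Ideal.mk_ker] at hx
    exact ⟨k, by simpa [hk] using Ideal.pow_mem_pow hx k⟩
  choose L hL hL' using fun n => (existsUnique_isIdempotentElem_eq_of_ker_isNilpotent (Ideal.Quotient.mk I) hnil
    (d₀.coeff n) (Ideal.Quotient.mk_surjective _) (h₀.idem n)).exists
  let d : MonoidAlgebra A N := ∑ n ∈ d₀.coeff.support, MonoidAlgebra.single n (L n)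
  have hc : ∀ n, d.coeff n = L n := by
    intro n
    simp only [d, MonoidAlgebra.coeff_sum, Finsupp.finsetSum_apply, MonoidAlgebra.coeff_single,
      Finsupp.single_apply, Finset.sum_ite_eq', Finsupp.mem_support_iff, ne_eq]
    split_ifs with h
    · refine (eq_of_isNilpotent_sub_of_isIdempotentElem (hL n) IsIdempotentElem.zero ?_).symm
      rw [sub_zero]
      refine hnil _ ?_
      rw [RingHom.mem_ker, hL']
      exact h
    · rfl
  have hred : red I d = d₀ := by
    ext n
    rw [coeff_red, hc, hL']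
  refine ⟨d, GL.of_coeff (fun n n' e => ?_) (fun n => (hc n).symm ▸ hL n) ?_, hred⟩
  · rw [hc, hc]
    refine eq_of_isNilpotent_sub_of_isIdempotentElem (IsIdempotentElem.mul (hL n) (hL n')) IsIdempotentElem.zero ?_
    rw [sub_zero]
    refine hnil _ ?_
    rw [RingHom.mem_ker, map_mul, hL', hL', h₀.coeff_mul, if_neg e]
  · have hs : MonoidAlgebra.lift A A N 1 d = ∑ n ∈ d₀.coeff.support, L n := by simp [d]
    have ho : OrthogonalIdempotents L := ⟨hL, fun n n' e => by
      refine eq_of_isNilpotent_sub_of_isIdempotentElem (IsIdempotentElem.mul (hL n) (hL n')) IsIdempotentElem.zero ?_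
      rw [sub_zero]
      refine hnil _ ?_
      rw [RingHom.mem_ker, map_mul, hL', hL', h₀.coeff_mul, if_neg e]⟩
    rw [hs]
    refine eq_of_isNilpotent_sub_of_isIdempotentElem ho.isIdempotentElem_sum IsIdempotentElem.one (hnil _ ?_)
    rw [RingHom.mem_ker, map_sub, map_one, sub_eq_zero, map_sum]
    have h2 : MonoidAlgebra.lift (A ⧸ I) (A ⧸ I) N 1 d₀ = ∑ n ∈ d₀.coeff.support, d₀.coeff n := by
      simp [MonoidAlgebra.lift_apply, Finsupp.sum]
    rw [h₀.2] at h2
    simp only [hL']
    exact h2.symm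

section Family

variable {Y : Type} [CommGroup Y]

/-- The elements of a compatible family are multiplicative after lifting. -/
lemma exists_lift_hom (hI : IsNilpotent I) (f₀ : Y →* MonoidAlgebra (A ⧸ I) N) (h₀ : ∀ y, GL (f₀ y)) :
    ∃ f : Y →* MonoidAlgebra A N, (∀ y, GL (f y)) ∧ ∀ y, red I (f y) = f₀ y := by
  choose d hd hd' using fun y => (h₀ y).exists_lift hI
  refine ⟨⟨⟨d, ?_⟩, fun a b => ?_⟩, hd, hd'⟩
  · exact (hd 1).eq_of_red_eq hI GL.one (by rw [hd', map_one, map_one])
  · exact (hd (a * b)).eq_of_red_eq hI ((hd a).mul (hd b)) (by rw [hd', map_mul, map_mul, hd', hd'])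

lemma GL.lift_mul {d : MonoidAlgebra A N} (hd : GL d) {B : Type u} [CommRing B] [Algebra A B] (s t : N →* B) :
    MonoidAlgebra.lift A B N (s * t) d = MonoidAlgebra.lift A B N s d * MonoidAlgebra.lift A B N t d := by
  let w : N × N →* B := s.comp (MonoidHom.fst N N) * t.comp (MonoidHom.snd N N)
  have key : ∀ ψ : N →* N × N, (MonoidAlgebra.lift A B (N × N) w).comp (MonoidAlgebra.mapDomainAlgHom A A ψ) =
      MonoidAlgebra.lift A B N (w.comp ψ) := fun ψ => by
    apply MonoidAlgebra.algHom_ext
    · intro x; simp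
    · exact Subsingleton.elim _ _
  have h := congrArg (MonoidAlgebra.lift A B (N × N) w) hd.1
  rw [map_mul, ← AlgHom.comp_apply, ← AlgHom.comp_apply, ← AlgHom.comp_apply, key, key, key] at h
  have e1 : w.comp (MonoidHom.inl N N) = s := by ext x; simp [w]
  have e2 : w.comp (MonoidHom.inr N N) = t := by ext x; simp [w]
  have e3 : w.comp ((MonoidHom.id N).prod (MonoidHom.id N)) = s * t := by ext x; simp [w]
  rw [e1, e2, e3] at h
  exact h.symm

end Family

end

end Groth.Agent.DiagRig.CharLift
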