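import Groth.Agent.DiagRig.DSQuot
import Mathlib.LinearAlgebra.FreeModule.PID

/-!
# Quotients of tori by subgroups of multiplicative type are tori
-/

universe u

open CategoryTheory MonoidalCategory CartesianMonoidalCategory MonObj GrpObj AlgebraicGeometry Limits
open Groth.Agent.RedPts

noncomputable section

namespace Groth.Agent.DiagRig.TorusQuot

set_option backward.isDefEq.respectTransparency.types false

open DSQuot

variable {S : Scheme.{u}}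

/-- A split group with a subgroup lattice as character group is a split torus of smaller rank. -/
theorem exists_dsIso (V : Scheme.{u}) (r : ℕ) (K : AddSubgroup (Fin r → ℤ)) :
    ∃ r' : ℕ, r' ≤ r ∧ Nonempty (Grp.mk (Red.DS V K) ≅ Grp.mk (Red.DS V (Fin r' → ℤ))) := by
  obtain ⟨r', b⟩ := Submodule.basisOfPid (Pi.basisFun ℤ (Fin r)) (AddSubgroup.toIntSubmodule K)
  have hle : r' ≤ r := by
    have h1 := Submodule.finrank_le (AddSubgroup.toIntSubmodule K)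
    rwa [Module.finrank_eq_card_basis b, Fintype.card_fin, Module.finrank_fin_fun] at h1
  let e : K ≃+ (Fin r' → ℤ) := b.equivFun.toAddEquiv
  let f := Red.DSmap V e.symm.toAddMonoidHom
  have : IsIso f := by
    have : IsIso ((CategoryTheory.Over.forget V).map f) := DSHom.isIso_DSmap _ e.symm.bijective
    exact isIso_of_reflects_iso f (CategoryTheory.Over.forget V)
  have : IsMonHom f := isMonHom_DSmap _
  have : IsMonHom (asIso f).hom := ‹IsMonHom f›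
  exact ⟨r', hle, ⟨Grp.mkIso' (asIso f)⟩⟩

/-- Over an open where `T` is split, the quotient is split near every point. -/
theorem exists_nhd {U : Scheme.{u}} (k : U ⟶ S) {T H Q : Over S} [GrpObj T] [GrpObj H] [GrpObj Q] (r : ℕ)
    (hT : Red.IsSplitTorusWith (Fin r → ℤ) (Red.bc k T)) (i : H ⟶ T) [IsMonHom i] [Mono i]
    (hH : SGA3x.IsMultTypeFT H) (q : T ⟶ Q) [IsMonHom q] (hq : RedSub.IsQuotient i q) (x : U) :
    ∃ V : U.Opens, IsClosed (V : Set U) ∧ x ∈ V ∧ ∃ r' : ℕ, r' ≤ r ∧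
      Red.IsSplitTorusWith (Fin r' → ℤ) (Red.bc (V.ι ≫ k) Q) := by
  obtain ⟨e⟩ := hT
  let e' : Red.bc k T ≅ Red.DS U (Fin r → ℤ) := (Grp.forget _).mapIso e
  have : IsMonHom e'.hom := e.hom.hom.isMonHom_hom
  have : IsMonHom e'.inv := e.inv.hom.isMonHom_hom
  have : IsMonHom ((Over.pullback k).map i) := isMonHom_bcMap k i
  have : IsMonHom ((Over.pullback k).map q) := isMonHom_bcMap k q
  have : IsMonHom ((Over.pullback k).map i ≫ e'.hom) := inferInstance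
  have : IsMonHom (e'.inv ≫ (Over.pullback k).map q) := inferInstance
  obtain ⟨V, hVc, hxV, K, ⟨E⟩⟩ := exists_split_quot (isMultTypeFT_bc k hH)
    (AddGroup.fg_iff_addMonoid_fg.mpr inferInstance) ((Over.pullback k).map i ≫ e'.hom)
    (e'.inv ≫ (Over.pullback k).map q) (((Rel.of_isQuotient hq).bc k).iso e') x
  obtain ⟨r', hle, ⟨F⟩⟩ := exists_dsIso (V : Scheme.{u}) r K
  exact ⟨V, hVc, hxV, r', hle, ⟨(bcGrpIso k V.ι (V.ι ≫ k) rfl Q).symm ≪≫ E ≪≫ F⟩⟩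

theorem isTorus_quot {T H Q : Over S} [GrpObj T] [GrpObj H] [GrpObj Q] (hT : Red.IsTorus T) (i : H ⟶ T) [IsMonHom i]
    [Mono i] (hH : SGA3x.IsMultTypeFT H) (q : T ⟶ Q) [IsMonHom q] (hq : RedSub.IsQuotient i q) : Red.IsTorus Q := by
  obtain ⟨S', f, hf, hfs, hcov, hl⟩ := hT
  refine ⟨S', f, hf, hfs, hcov, fun s' => ?_⟩
  obtain ⟨U, hsU, r, hr⟩ := hl s'
  obtain ⟨V, -, hV, r', -, ⟨E⟩⟩ := exists_nhd (U.ι ≫ f) r hr i hH q hq ⟨s', hsU⟩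
  let W : S'.Opens := U.ι ''ᵁ V
  let a : (W : Scheme.{u}) ≅ (V : Scheme.{u}) := (U.ι.isoImage V).symm
  obtain ⟨d, -⟩ := exists_dsBC a.hom (Fin r' → ℤ)
  have ha : a.hom ≫ V.ι ≫ U.ι ≫ f = W.ι ≫ f := by
    rw [← Scheme.Hom.isoImage_hom_ι_assoc U.ι V]
    simp [a, W]
  exact ⟨W, ⟨⟨s', hsU⟩, hV, rfl⟩, r', ⟨(bcGrpIso (V.ι ≫ U.ι ≫ f) a.hom (W.ι ≫ f) ha Q).symm ≪≫
    bcGrpMap a.hom E ≪≫ d⟩⟩

theorem isLocallySplit_quot {T H Q : Over S} [GrpObj T] [GrpObj H] [GrpObj Q]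
    (hT : ∀ s : ↥S, ∃ U : S.Opens, s ∈ U ∧ ∃ r : ℕ, Red.IsSplitTorusWith (Fin r → ℤ) (Red.bc U.ι T))
    (i : H ⟶ T) [IsMonHom i] [Mono i] (hH : SGA3x.IsMultTypeFT H) (q : T ⟶ Q) [IsMonHom q]
    (hq : RedSub.IsQuotient i q) (s : ↥S) :
    ∃ U : S.Opens, s ∈ U ∧ ∃ r : ℕ, Red.IsSplitTorusWith (Fin r → ℤ) (Red.bc U.ι Q) := by
  obtain ⟨U, hsU, r, hr⟩ := hT s
  obtain ⟨V, -, hV, r', -, ⟨E⟩⟩ := exists_nhd U.ι r hr i hH q hq ⟨s, hsU⟩
  let W : S.Opens := U.ι ''ᵁ V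
  let a : (W : Scheme.{u}) ≅ (V : Scheme.{u}) := (U.ι.isoImage V).symm
  obtain ⟨d, -⟩ := exists_dsBC a.hom (Fin r' → ℤ)
  have ha : a.hom ≫ V.ι ≫ U.ι = W.ι := by
    simp [a, W]
  exact ⟨W, ⟨⟨s, hsU⟩, hV, rfl⟩, r', ⟨(bcGrpIso (V.ι ≫ U.ι) a.hom W.ι ha Q).symm ≪≫ bcGrpMap a.hom E ≪≫ d⟩⟩

/-- Base change along the identity. -/
theorem exists_bcId (Q : Over S) [GrpObj Q] : Nonempty (Grp.mk (Red.bc (𝟙 S) Q) ≅ Grp.mk Q) := by
  let e : Red.bc (𝟙 S) Q ≅ Q :=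
    Over.isoMk (asIso (pullback.fst Q.hom (𝟙 S))) (pullback.condition.trans (Category.comp_id _))
  have he : ∀ (Y : Over S) (x : Y ⟶ Red.bc (𝟙 S) Q),
      x ≫ e.hom = (Over.isoMk (Iso.refl Y.left) (by simp) : Y ≅ (Over.map (𝟙 S)).obj Y).hom ≫ bcTr (𝟙 S) x :=
    fun Y x => Over.OverMorphism.ext (by
      rw [Over.comp_left, Over.comp_left, bcTr_left]
      exact (Category.id_comp _).symm)
  have : IsMonHom e.hom := isMonHom_of_pts _ fun Y x y => by rw [he, he, he, bcTr_mul, MonObj.comp_mul]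
  exact ⟨Grp.mkIso' e⟩

theorem isSplit_quot [ConnectedSpace ↥S] {T H Q : Over S} [GrpObj T] [GrpObj H] [GrpObj Q] (r : ℕ)
    (hT : Red.IsSplitTorusWith (Fin r → ℤ) T) (i : H ⟶ T) [IsMonHom i] [Mono i]
    (hH : SGA3x.IsMultTypeFT H) (q : T ⟶ Q) [IsMonHom q] (hq : RedSub.IsQuotient i q) :
    ∃ r' : ℕ, r' ≤ r ∧ Red.IsSplitTorusWith (Fin r' → ℤ) Q := by
  obtain ⟨e⟩ := hT
  let e' : T ≅ Red.DS S (Fin r → ℤ) := (Grp.forget _).mapIso e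
  have : IsMonHom e'.hom := e.hom.hom.isMonHom_hom
  have : IsMonHom e'.inv := e.inv.hom.isMonHom_hom
  have : IsMonHom (i ≫ e'.hom) := inferInstance
  have : IsMonHom (e'.inv ≫ q) := inferInstance
  obtain ⟨s⟩ := (inferInstance : Nonempty ↥S)
  obtain ⟨V, hVc, hxV, K, ⟨E⟩⟩ := exists_split_quot hH (AddGroup.fg_iff_addMonoid_fg.mpr inferInstance)
    (i ≫ e'.hom) (e'.inv ≫ q) ((Rel.of_isQuotient hq).iso e') s
  have hV : V = ⊤ := TopologicalSpace.Opens.ext (IsClopen.eq_univ ⟨hVc, V.2⟩ ⟨s, hxV⟩)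
  obtain ⟨r', hle, ⟨F⟩⟩ := exists_dsIso S r K
  subst hV
  let j : S ⟶ ((⊤ : S.Opens) : Scheme.{u}) := S.topIso.inv
  have hj : j ≫ (⊤ : S.Opens).ι = 𝟙 S := S.topIso.inv_hom_id
  obtain ⟨d, -⟩ := exists_dsBC j K
  exact ⟨r', hle, ⟨(exists_bcId Q).some.symm ≪≫ (bcGrpIso (⊤ : S.Opens).ι j (𝟙 S) hj Q).symm ≪≫ bcGrpMap j E ≪≫ d ≪≫ F⟩⟩

end Groth.Agent.DiagRig.TorusQuot
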