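import Groth.Agent.DiagRig.PointChar
import Groth.Agent.DiagRig.TorusQuot
import Mathlib.LinearAlgebra.Dual.Lemmas

/-!
# The greatest split subtorus over a connected base
-/

universe u

open CategoryTheory MonoidalCategory CartesianMonoidalCategory MonObj GrpObj AlgebraicGeometry Limits MorphismProperty
open Groth.Agent.RedPts

noncomputable section

namespace Groth.Agent.DiagRig.Cochar

set_option backward.isDefEq.respectTransparency.types false

open DSQuot PointChar

variable {S : Scheme.{u}} {G : Over S} [GrpObj G] (hG : SGA3x.IsMultTypeFT G) (P : SplitPoint G)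

/-- Characters of homomorphisms out of `D(N)`. -/
def charGroup (N : Type) [AddCommGroup N] : AddSubgroup (P.M →+ N) where
  carrier := {φ | ∃ lam : Red.DS S N ⟶ G, IsMonHom lam ∧ HasChar P lam φ}
  zero_mem' := ⟨1, isMonHom_one, HasChar.one P⟩
  add_mem' := fun ⟨l, _, hl⟩ ⟨m, _, hm⟩ => ⟨l * m, isMonHom_mul hG l m, hl.mul P hm⟩
  neg_mem' := fun ⟨l, _, hl⟩ => ⟨l⁻¹, isMonHom_inv hG l, hl.inv P⟩

theorem comp_mem {N N' : Type} [AddCommGroup N] [AddCommGroup N'] {φ : P.M →+ N} (h : φ ∈ charGroup hG P N)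
    (f : N →+ N') : f.comp φ ∈ charGroup hG P N' := by
  obtain ⟨lam, hlam, hφ⟩ := h
  have := isMonHom_DSmap (S := S) f
  exact ⟨Red.DSmap S f ≫ lam, inferInstance, hφ.comp P f⟩

theorem isMonHom_desc {A B C : Over S} [GrpObj A] [GrpObj B] [GrpObj C] {q : A ⟶ B} [IsMonHom q] {l : A ⟶ C}
    [IsMonHom l] {g : B ⟶ C} (hc : AGFQuot.Basic.IsCover q) (hg : q ≫ g = l) : IsMonHom g := by
  have := hc.effectiveEpi
  refine ⟨?_, (hc.tensor hc).cancel ?_⟩
  · rw [← IsMonHom.one_hom (f := q), Category.assoc, hg, IsMonHom.one_hom]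
  · rw [← Category.assoc, ← IsMonHom.mul_hom, Category.assoc, hg, IsMonHom.mul_hom,
      MonoidalCategory.tensorHom_comp_tensorHom_assoc, hg]

variable [ConnectedSpace ↥S]

/-- Characters of cocharacters form a saturated subgroup. -/
theorem saturated (n : ℤ) (hn : n ≠ 0) (ψ : P.M →+ ℤ) (h : n • ψ ∈ charGroup hG P ℤ) : ψ ∈ charGroup hG P ℤ := by
  obtain ⟨lam, hlam, hl⟩ := h
  have hℤ : AddGroup.FG ℤ := AddGroup.fg_iff_addMonoid_fg.mpr inferInstance
  let K : AddSubgroup ℤ := AddSubgroup.zmultiples n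
  let π := QuotientAddGroup.mk' K
  have : IsMonHom (Red.DSmap S π) := isMonHom_DSmap _
  have hπ1 : Red.DSmap S π ≫ lam = 1 := by
    have h0 := hl.comp P π
    have e : π.comp (n • ψ) = 0 := AddMonoidHom.ext fun m => (QuotientAddGroup.eq_zero_iff _).mpr
      ⟨ψ m, by simp [mul_comm]⟩
    rw [e] at h0
    exact eq_one_of_hasChar_zero P hG (AddGroup.fg_of_surjective (hG := hℤ) (QuotientAddGroup.mk'_surjective K)) _ h0
  have hq := rel_ds (S := S) hℤ K (𝟙 (Red.DS S (ℤ ⧸ K)))
  rw [Category.id_comp] at hq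
  have := hq.1.effectiveEpi
  obtain ⟨g, hg, -⟩ := GrpdLib.GrpOver.existsUnique_desc (Red.DSmap S K.subtype) lam fun T a b e => by
    obtain ⟨y, rfl⟩ := (hq.2 T a b).mp e
    rw [MonObj.mul_comp, Category.assoc, hπ1, MonObj.comp_one, _root_.mul_one]
  have hmap : IsMonHom (Red.DSmap S K.subtype) := isMonHom_DSmap _
  have : IsMonHom g := isMonHom_desc hq.1 hg
  obtain ⟨φ, hφ⟩ := exists_hasChar P (fg_subgroup hℤ K).2 g
  have hφn : K.subtype.comp φ = n • ψ := by
    have h2 := hφ.comp P K.subtype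
    rw [hg] at h2
    exact h2.unique P hl
  let δ : K →+ ℤ :=
    { toFun := fun x => x.1 / n
      map_zero' := by simp
      map_add' := fun x y => by
        obtain ⟨a, ha⟩ := AddSubgroup.mem_zmultiples_iff.mp x.2
        exact Int.add_ediv_of_dvd_left ⟨a, by rw [← ha]; simp [mul_comm]⟩ }
  have hmem := comp_mem hG P ⟨g, inferInstance, hφ⟩ δ
  have e : δ.comp φ = ψ := AddMonoidHom.ext fun m => by
    have := DFunLike.congr_fun hφn m
    show (φ m).1 / n = ψ m
    rw [show (φ m).1 = n * ψ m by simpa using this, Int.mul_ediv_cancel_left _ hn]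
  rwa [e] at hmem

/-- A basis of the cocharacters gives a surjection of character groups. -/
theorem exists_surjective :
    ∃ (r : ℕ) (ψ : P.M →+ (Fin r → ℤ)), Function.Surjective ψ ∧ ψ ∈ charGroup hG P (Fin r → ℤ) ∧
      ∀ χ ∈ charGroup hG P ℤ, ∃ f : (Fin r → ℤ) →+ ℤ, f.comp ψ = χ := by
  classical
  have : Module.Finite ℤ P.M := Module.Finite.iff_addGroup_fg.mpr P.fg
  let T := Submodule.torsion ℤ P.M
  let F := P.M ⧸ T
  have : Module.Free ℤ F := Module.free_of_finite_type_torsion_free'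
  let D := Module.Dual ℤ F
  let π : P.M →ₗ[ℤ] F := T.mkQ
  -- cocharacters as functionals on the free quotient
  let A : Submodule ℤ D := AddSubgroup.toIntSubmodule
    ((charGroup hG P ℤ).comap (AddMonoidHom.mk' (fun d : D => (d ∘ₗ π).toAddMonoidHom) fun a b => rfl))
  have : Module.IsTorsionFree ℤ (D ⧸ A) := by
    rw [Module.isTorsionFree_iff_smul_eq_zero]
    intro n x h
    obtain ⟨d, rfl⟩ := A.mkQ_surjective x
    rw [or_iff_not_imp_left]
    intro hn
    rw [← map_smul, Submodule.mkQ_apply, Submodule.Quotient.mk_eq_zero] at h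
    rw [Submodule.mkQ_apply, Submodule.Quotient.mk_eq_zero]
    refine saturated hG P n hn (d ∘ₗ π).toAddMonoidHom ?_
    have e : n • (d ∘ₗ π).toAddMonoidHom = ((n • d) ∘ₗ π).toAddMonoidHom := AddMonoidHom.ext fun m => rfl
    rw [e]
    exact h
  have : Module.Free ℤ (D ⧸ A) := Module.free_of_finite_type_torsion_free'
  obtain ⟨sec, hsec⟩ := Module.projective_lifting_property A.mkQ LinearMap.id A.mkQ_surjective
  let ρ : D →ₗ[ℤ] A := (LinearMap.id - sec ∘ₗ A.mkQ).codRestrict A fun d => by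
    rw [← Submodule.Quotient.mk_eq_zero]
    show A.mkQ (d - sec (A.mkQ d)) = 0
    rw [map_sub, show A.mkQ (sec (A.mkQ d)) = A.mkQ d from LinearMap.congr_fun hsec _, sub_self]
  have hρ : ∀ a : A, ρ a.1 = a := fun a => Subtype.ext (by
    show a.1 - sec (A.mkQ a.1) = a.1
    rw [show A.mkQ a.1 = 0 from (Submodule.Quotient.mk_eq_zero A).mpr a.2, map_zero, sub_zero])
  obtain ⟨r, b⟩ := Submodule.basisOfPid (Module.finBasis ℤ D) A
  let ψ : P.M →+ (Fin r → ℤ) := (LinearMap.pi fun j => (b j).1 ∘ₗ π).toAddMonoidHom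
  refine ⟨r, ψ, ?_, ?_, ?_⟩
  · have hcol : ∀ j, ∃ m, ψ m = Pi.single j 1 := fun j => by
      obtain ⟨x, hx⟩ := (Module.bijective_dual_eval ℤ F).2 (b.coord j ∘ₗ ρ)
      obtain ⟨m, rfl⟩ := T.mkQ_surjective x
      refine ⟨m, funext fun l => ?_⟩
      have h1 := LinearMap.congr_fun hx (b l).1
      show (b l).1 (π m) = _
      rw [show (b l).1 (π m) = Module.Dual.eval ℤ F (π m) (b l).1 from rfl, h1]
      simp [hρ, Pi.single_apply, Finsupp.single_apply, eq_comm]
    intro v
    choose m hm using hcol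
    refine ⟨∑ j, v j • m j, ?_⟩
    rw [map_sum]
    simp only [map_zsmul, hm]
    exact (pi_eq_sum_univ' v).symm
  · have e : ψ = ∑ j, (AddMonoidHom.single (fun _ : Fin r => ℤ) j).comp ((b j).1 ∘ₗ π).toAddMonoidHom := by
      refine AddMonoidHom.ext fun m => funext fun l => ?_
      simp [ψ, Finset.sum_apply, Pi.single_apply]
    rw [e]
    exact sum_mem fun j _ => comp_mem hG P (b j).2 _
  · intro χ hχ
    have hT : T ≤ LinearMap.ker χ.toIntLinearMap := fun x hx => by
      obtain ⟨⟨a, ha⟩, hax⟩ := hx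
      have h := congrArg χ hax
      rw [map_zero, show ((⟨a, ha⟩ : nonZeroDivisors ℤ) • x) = a • x from rfl, map_zsmul, smul_eq_mul] at h
      exact (mul_eq_zero.mp h).resolve_left (nonZeroDivisors.ne_zero ha)
    let d : D := T.liftQ χ.toIntLinearMap hT
    have hd : d ∈ A := by
      show ((d ∘ₗ π).toAddMonoidHom : P.M →+ ℤ) ∈ charGroup hG P ℤ
      convert hχ using 1
      exact AddMonoidHom.ext fun m => rfl
    refine ⟨(∑ j, b.repr ⟨d, hd⟩ j • (LinearMap.proj j : (Fin r → ℤ) →ₗ[ℤ] ℤ)).toAddMonoidHom, AddMonoidHom.ext fun m => ?_⟩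
    have h2 : (∑ j, b.repr ⟨d, hd⟩ j • (b j).1 : D) = d := by
      have := congrArg Subtype.val (b.sum_repr ⟨d, hd⟩)
      simpa only [AddSubmonoidClass.coe_finset_sum, Submodule.coe_smul] using this
    have h3 := LinearMap.congr_fun h2 (π m)
    rw [show χ m = d (π m) from rfl, ← h3]
    simp [ψ]
    erw [LinearMap.sum_apply]
    rfl

include hG in
/-- The greatest split subtorus. -/
theorem exists_greatest :
    ∃ (r : ℕ) (j : Red.DS S (Fin r → ℤ) ⟶ G), IsMonHom j ∧ Mono j ∧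
      ∀ (r' : ℕ) (lam : Red.DS S (Fin r' → ℤ) ⟶ G) [IsMonHom lam],
        ∃ g : Red.DS S (Fin r' → ℤ) ⟶ Red.DS S (Fin r → ℤ), g ≫ j = lam := by
  obtain ⟨s⟩ := (inferInstance : Nonempty ↥S)
  obtain ⟨P, hP⟩ := nonempty_splitPoint hG s
  obtain ⟨r, ψ, hψ, ⟨j, hj, hjψ⟩, huniv⟩ := exists_surjective hG P
  have hr : ∀ n : ℕ, AddGroup.FG (Fin n → ℤ) := fun n => AddGroup.fg_iff_addMonoid_fg.mpr inferInstance
  refine ⟨r, j, hj, ?_, fun r' lam _ => ?_⟩
  · have hDS := isMultTypeFT_DS S (Fin r → ℤ) (hr r)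
    obtain ⟨U, hUc, hUs, hU⟩ := exists_mono_locus (Red.DS S (Fin r → ℤ)) G hDS hG j
    obtain ⟨d, hd⟩ := exists_dsBC P.k (Fin r → ℤ)
    have hbc : BCProp (monomorphisms Scheme.{u}) j P.k := by
      have : IsIso d.hom.hom.hom := ((Grp.forget _).mapIso d).isIso_hom
      have : IsIso P.e.hom.hom.hom := ((Grp.forget _).mapIso P.e).isIso_hom
      have e : (Over.pullback P.k).map j ≫ P.e.hom.hom.hom =
          d.hom.hom.hom ≫ Red.DSmap (Spec (CommRingCat.of P.K)) ψ := d_ext fun m => by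
        have h1 := hjψ _ (𝟙 _) m
        have h2 := hd _ (𝟙 _) (ψ m)
        rw [Category.id_comp] at h1 h2
        rw [DSmap_fn, h1, h2]
      have h1 : Mono (Red.DSmap (Spec (CommRingCat.of P.K)) ψ).left := DSHom.mono_DSmap ψ hψ
      have h2 : Mono (((Over.pullback P.k).map j) ≫ P.e.hom.hom.hom).left := by
        rw [e]
        exact mono_comp _ _
      exact mono_of_mono ((Over.pullback P.k).map j).left P.e.hom.hom.hom.left
    have := descendsAlong_mono.{u}
    have hs : s ∈ U := (hUs s).mpr (descend_point (monomorphisms Scheme.{u}) P.k hP hbc)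
    have hall : ∀ x : S, x ∈ U := fun x => by
      have : (U : Set S) = Set.univ := IsClopen.eq_univ ⟨hUc, U.2⟩ ⟨s, hs⟩
      exact this.ge trivial
    have hUiso : IsIso U.ι := by
      have : Epi U.ι.base := (TopCat.epi_iff_surjective _).mpr fun x => ⟨⟨x, hall x⟩, rfl⟩
      exact IsOpenImmersion.isIso U.ι
    have sq := isPullback_bcMap U.ι j
    have hjl : Mono j.left := by
      have : j.left = inv (pullback.fst (Red.DS S (Fin r → ℤ)).hom U.ι) ≫ ((Over.pullback U.ι).map j).left ≫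
          pullback.fst G.hom U.ι := by rw [IsIso.eq_inv_comp, sq.w]
      rw [this]
      exact mono_comp _ _
    exact Over.mono_of_mono_left j
  · obtain ⟨χ, hχ⟩ := exists_hasChar P (hr r') lam
    choose f hf using fun i : Fin r' => huniv _ (comp_mem hG P ⟨lam, inferInstance, hχ⟩
      (Pi.evalAddMonoidHom (fun _ : Fin r' => ℤ) i))
    let F : (Fin r → ℤ) →+ (Fin r' → ℤ) := AddMonoidHom.pi f
    have hF : F.comp ψ = χ := AddMonoidHom.ext fun m => funext fun i => DFunLike.congr_fun (hf i) m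
    have := isMonHom_DSmap (S := S) F
    exact ⟨Red.DSmap S F, eq_of_hasChar P hG (hr r') _ _ (hjψ.comp P F) (hF ▸ hχ)⟩

end Groth.Agent.DiagRig.Cochar
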