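import Groth.Agent.DiagRig.Kernel
import Groth.Agent.DiagRig.Nil
import Groth.Agent.LimLib.Props
import Mathlib.RingTheory.Ideal.IdempotentFG
import Mathlib.RingTheory.FinitePresentation
import Mathlib.Algebra.MonoidAlgebra.Basic

/-! The locus where a homomorphism out of a split group is trivial is cut out by an idempotent. -/

universe u

open CategoryTheory MonoidalCategory CartesianMonoidalCategory MonObj GrpObj AlgebraicGeometry Limits
open Groth.Agent.GrpScheme.Basic

noncomputable section

namespace Groth.Agent.DiagRig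

variable {S : Scheme.{u}} {H G : Over S} [GrpObj H] [GrpObj G] (u : H ⟶ G) [IsMonHom u]
  {R : CommRingCat.{u}} {p : Spec R ⟶ S} {M : Type} [AddCommGroup M] (P : SplitPts p H M)

omit [GrpObj G] in
lemma eq_gPt_of_toSpecΓ {Y₀ : Over (Spec R)} (g : (Over.map p).obj Y₀ ⟶ H) :
    ∃ (φ : R ⟶ Γ(Y₀.left, ⊤)) (_ : Y₀.left.toSpecΓ ≫ Spec.map φ = Y₀.hom),
      letI : Algebra R Γ(Y₀.left, ⊤) := φ.hom.toAlgebra
      ∃ (q : Y₀ ⟶ specOver (R := R) Γ(Y₀.left, ⊤)) (t : Multiplicative M →* Γ(Y₀.left, ⊤)),
        g = (Over.map p).map q ≫ gPt p P t := by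
  let T := Γ(Y₀.left, ⊤)
  let φ : R ⟶ T := (Scheme.ΓSpecIso R).inv ≫ Y₀.hom.appTop
  have hz : Y₀.left.toSpecΓ ≫ Spec.map φ = Y₀.hom := by
    show Y₀.left.toSpecΓ ≫ Spec.map ((Scheme.ΓSpecIso R).inv ≫ Y₀.hom.appTop) = _
    rw [Spec.map_comp, ← Scheme.toSpecΓ_naturality_assoc]
    exact (congrArg (Y₀.hom ≫ ·) (toSpecΓ_SpecMap_ΓSpecIso_inv _)).trans (Category.comp_id _)
  refine ⟨φ, hz, ?_⟩
  letI : Algebra R T := φ.hom.toAlgebra
  let qY : Y₀ ⟶ specOver (R := R) T := Over.homMk Y₀.left.toSpecΓ hz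
  obtain ⟨t₀, ht₀⟩ := P.σ_surjective g
  refine ⟨qY, t₀, ?_⟩
  rw [gPt, P.σ_comp, ← ht₀]
  congr 1
  ext m
  show t₀ m = (Y₀.left.toSpecΓ.appTop) ((Scheme.ΓSpecIso T).inv (t₀ m))
  rw [Scheme.toSpecΓ_appTop]
  exact (congr($((Scheme.ΓSpecIso T).inv_hom_id) (t₀ m))).symm

lemma restrict_comm {R₁ : CommRingCat.{u}} (j : Spec R₁ ⟶ Spec R) {T : Type u} [CommRing T] [Algebra R₁ T]
    [Algebra R T] (hj : Spec.map (CommRingCat.ofHom (algebraMap R₁ T)) ≫ j = Spec.map (CommRingCat.ofHom (algebraMap R T)))
    (t : Multiplicative M →* T) :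
    (gPt (R := R₁) (T := T) (j ≫ p) (P.restrict j) t).left = (gPt (R := R) (T := T) p P t).left := by
  let q : (Over.map j).obj (specOver (R := R₁) T) ⟶ specOver (R := R) T :=
    Over.homMk (𝟙 _) ((Category.id_comp _).trans hj.symm)
  have h := P.σ_comp q ((toΓ (R := R) (T := T)).toMonoidHom.comp t)
  have e : q.left.appTop.hom.toMonoidHom.comp ((toΓ (R := R) (T := T)).toMonoidHom.comp t) =
      (toΓ (R := R₁) (T := T)).toMonoidHom.comp t := by
    ext m
    show (𝟙 ((Over.map j).obj (specOver (R := R₁) T)).left : _ ⟶ _).appTop _ = _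
    rw [Scheme.Hom.id_appTop]
    rfl
  rw [e] at h
  show 𝟙 _ ≫ (P.σ (Y := (Over.map j).obj (specOver (R := R₁) T))
    ((toΓ (R := R₁) (T := T)).toMonoidHom.comp t)).left = _
  exact (Category.id_comp _).trans ((congr($(h).left)).symm.trans (Category.id_comp _))

variable [IsSeparated G.hom]

omit [IsSeparated G.hom] in
lemma eq_zero_of_away {A : Type u} [CommRing A] {z : A}
    (h : ∀ (q : Ideal A), ∀ [q.IsPrime], ∃ g : A, g ∉ q ∧ algebraMap A (Localization.Away g) z = 0) : z = 0 := by
  by_contra hne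
  have htop : Submodule.annihilator (Ideal.span {z} : Ideal A) ≠ ⊤ := fun e => by
    rw [Submodule.annihilator_eq_top_iff, Ideal.span_singleton_eq_bot] at e
    exact hne e
  obtain ⟨m, hm, hle⟩ := Ideal.exists_le_maximal _ htop
  obtain ⟨g, hg, hz⟩ := h m
  obtain ⟨⟨_, k, rfl⟩, hk⟩ := (IsLocalization.map_eq_zero_iff (Submonoid.powers g) (Localization.Away g) z).mp hz
  refine hg (hm.isPrime.mem_of_pow_mem k (hle ?_))
  rw [Submodule.mem_annihilator_span_singleton]
  exact hk

/-- The trivial locus of `u` is cut out by an idempotent. -/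
theorem exists_idempotent_trivial_locus (hlfp : LocallyOfFinitePresentation (kerι u).left) :
    ∃ e : R, IsIdempotentElem e ∧
      (∀ (T : Type u) [CommRing T] [Algebra R T], algebraMap R T e = 0 →
        ∀ t : Multiplicative M →* T, gPt p P t ≫ u = 1) ∧
      ∀ (T : Type u) [CommRing T] [Algebra R T],
        gPt p P (MonoidAlgebra.of T (Multiplicative M)) ≫ u = 1 → algebraMap R T e = 0 := by
  classical
  let A := MonoidAlgebra R (Multiplicative M)
  let gU := gPt p P (MonoidAlgebra.of R (Multiplicative M))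
  let Zk := pullback gU.left (kerι u).left
  have : IsClosedImmersion (kerι u).left := by
    have : IsClosedImmersion (1 : 𝟙_ (Over S) ⟶ G).left :=
      haveI : IsClosedImmersion ((1 : 𝟙_ (Over S) ⟶ G).left ≫ G.hom) := by
        rw [Over.w (1 : 𝟙_ (Over S) ⟶ G)]; exact (inferInstance : IsClosedImmersion (𝟙 S))
      IsClosedImmersion.of_comp (1 : 𝟙_ (Over S) ⟶ G).left G.hom
    exact inferInstanceAs (IsClosedImmersion (pullback.fst u.left (1 : 𝟙_ (Over S) ⟶ G).left))
  obtain ⟨I, e, he⟩ := IsClosedImmersion.Spec_iff.mp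
    (show IsClosedImmersion (pullback.fst gU.left (kerι u).left : Zk ⟶ Spec (CommRingCat.of A)) from inferInstance)
  have hIfg : I.FG := by
    have h1 : LocallyOfFinitePresentation (Spec.map (CommRingCat.ofHom (Ideal.Quotient.mk I))) := by
      have : Spec.map (CommRingCat.ofHom (Ideal.Quotient.mk I)) = e.inv ≫ pullback.fst gU.left (kerι u).left := by
        rw [he, Iso.inv_hom_id_assoc]
      rw [this]
      infer_instance
    have h2 : (Ideal.Quotient.mk I).FinitePresentation :=
      (HasRingHomProperty.Spec_iff (P := @LocallyOfFinitePresentation)).mp h1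
    have : Algebra.FinitePresentation A (A ⧸ I) := RingHom.finitePresentation_algebraMap.mp h2
    have h3 := Algebra.FinitePresentation.ker_fG_of_surjective (R := A) (Algebra.ofId A (A ⧸ I))
      Ideal.Quotient.mk_surjective
    simpa [Ideal.mk_ker] using h3
  obtain ⟨sI, hsI⟩ := hIfg
  let c : Ideal R := Ideal.span (sI.biUnion fun z => z.coeff.support.image fun n => z.coeff n : Set R)
  have hc : ∀ (T : Type u) [CommRing T] [Algebra R T],
      ((∀ r ∈ c, algebraMap R T r = 0) → ∀ t : Multiplicative M →* T, gPt p P t ≫ u = 1) ∧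
      (gPt p P (MonoidAlgebra.of T (Multiplicative M)) ≫ u = 1 → ∀ r ∈ c, algebraMap R T r = 0) := by
    intro T _ _
    have hiff : ∀ (T : Type u) [CommRing T] [Algebra R T] (t : Multiplicative M →* T),
        gPt p P t ≫ u = 1 ↔ I ≤ RingHom.ker (MonoidAlgebra.lift R T (Multiplicative M) t) := by
      intro T _ _ t
      let l := MonoidAlgebra.lift R T (Multiplicative M) t
      have hl : (Over.map p).map (testMap l) ≫ gU = gPt p P t := by
        rw [testMap_gPt]
        congr 1
        ext m
        simp [l]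
      constructor
      · intro h
        obtain ⟨k, hk⟩ := exists_kerLift u (gPt p P t) h
        let L : Spec (CommRingCat.of T) ⟶ Zk := pullback.lift (Spec.map (CommRingCat.ofHom l.toRingHom)) k.left
          (congr($(hl.trans hk.symm).left))
        have h1 : Spec.map (CommRingCat.ofHom l.toRingHom) =
            (L ≫ e.hom) ≫ Spec.map (CommRingCat.ofHom (Ideal.Quotient.mk I)) := by
          rw [Category.assoc, ← he, pullback.lift_fst]
        intro z hz
        rw [RingHom.mem_ker]
        have h2 : CommRingCat.ofHom l.toRingHom = CommRingCat.ofHom (Ideal.Quotient.mk I) ≫ Spec.preimage (L ≫ e.hom) :=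
          Spec.map_injective (by rw [Spec.map_comp, Spec.map_preimage]; exact h1)
        have h3 : l z = (Spec.preimage (L ≫ e.hom)).hom (Ideal.Quotient.mk I z) := congr($h2 z)
        rw [h3, Ideal.Quotient.eq_zero_iff_mem.mpr hz, map_zero]
      · intro h
        let lI : A ⧸ I →+* T := Ideal.Quotient.lift I l.toRingHom h
        let L : Spec (CommRingCat.of T) ⟶ Zk := Spec.map (CommRingCat.ofHom lI) ≫ e.inv
        have h1 : L ≫ pullback.fst _ _ = Spec.map (CommRingCat.ofHom l.toRingHom) := by
          show (Spec.map (CommRingCat.ofHom lI) ≫ e.inv) ≫ _ = _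
          rw [he, Category.assoc, Iso.inv_hom_id_assoc, ← Spec.map_comp]
          rfl
        have hw : (L ≫ pullback.snd _ _) ≫ (kerι u).left = (gPt p P t).left := by
          rw [Category.assoc, ← pullback.condition, ← Category.assoc, h1, ← hl]
          rfl
        let k : (Over.map p).obj (specOver (R := R) T) ⟶ kerOb u := Over.homMk (L ≫ pullback.snd _ _) (by
          rw [← Over.w (kerι u), ← Category.assoc, hw, Over.w (gPt p P t)])
        have hk : k ≫ kerι u = gPt p P t := by ext1; exact hw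
        rw [← hk, kerι_comp']
    refine ⟨fun h t => ?_, fun h r hr => ?_⟩
    · rw [hiff T t, ← hsI, Ideal.span_le]
      intro z hz
      show MonoidAlgebra.lift R T (Multiplicative M) t z = 0
      rw [MonoidAlgebra.lift_apply]
      refine Finset.sum_eq_zero fun n hn => ?_
      show z.coeff n • t n = 0
      rw [Algebra.smul_def, h _ (Ideal.subset_span (Finset.mem_biUnion.mpr ⟨z, hz, Finset.mem_image_of_mem _ hn⟩)),
        zero_mul]
    · suffices c ≤ RingHom.ker (algebraMap R T) from this hr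
      rw [Ideal.span_le]
      intro x hx
      obtain ⟨z, hz, hzx⟩ := Finset.mem_biUnion.mp hx
      obtain ⟨n, -, rfl⟩ := Finset.mem_image.mp hzx
      have hl : MonoidAlgebra.lift R (MonoidAlgebra T (Multiplicative M)) (Multiplicative M)
          (MonoidAlgebra.of T (Multiplicative M)) =
          MonoidAlgebra.mapAlgHom (M := Multiplicative M) (Algebra.ofId R T) := by
        apply MonoidAlgebra.algHom_ext
        · intro x; simp
        · exact Subsingleton.elim _ _
      have h3 := (hiff _ (MonoidAlgebra.of T (Multiplicative M))).mp h (hsI ▸ Ideal.subset_span hz)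
      rw [RingHom.mem_ker, hl] at h3
      exact congrArg (fun w : MonoidAlgebra T (Multiplicative M) => w.coeff n) h3
  have hcc : c ≤ c * c := by
    let R₁ : CommRingCat.{u} := CommRingCat.of (R ⧸ c * c)
    let j : Spec R₁ ⟶ Spec R := Spec.map (CommRingCat.ofHom (Ideal.Quotient.mk (c * c)))
    let P₁ := P.restrict j
    let J : Ideal R₁ := c.map (Ideal.Quotient.mk (c * c))
    have hJ : IsNilpotent J := ⟨2, by
      rw [pow_two, ← Ideal.map_mul, Ideal.map_quotient_self]; rfl⟩
    have h0 : ∀ (Y : Over (Spec R₁)), (∀ r ∈ J, Y.hom.appTop ((Scheme.ΓSpecIso R₁).inv r) = 0) →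
        ∀ (g : (Over.map (j ≫ p)).obj Y ⟶ H) (x : (Over.map (j ≫ p)).obj Y ⟶ G),
          lift g x ≫ (transAction u).act = x := by
      intro Y hY g x
      rw [lift_transAction]
      let Y₀ : Over (Spec R) := (Over.map j).obj Y
      let e₁ : (Over.map (j ≫ p)).obj Y ≅ (Over.map p).obj Y₀ := Over.isoMk (Iso.refl _) (by simp [Y₀])
      obtain ⟨φ, hφ, q, t, hg⟩ := eq_gPt_of_toSpecΓ P (e₁.inv ≫ g)
      letI : Algebra R Γ(Y₀.left, ⊤) := φ.hom.toAlgebra
      have hkill : ∀ r ∈ c, algebraMap R Γ(Y₀.left, ⊤) r = 0 := by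
        intro r hr
        have h1 := hY _ (Ideal.mem_map_of_mem _ hr)
        have h2 : φ = (Scheme.ΓSpecIso R).inv ≫ Y₀.hom.appTop := by
          have h3 := congrArg (fun f => f.appTop) hφ
          simp only [Scheme.Hom.comp_appTop, Scheme.toSpecΓ_appTop] at h3
          rw [← h3, ← Category.assoc, ← Scheme.ΓSpecIso_inv_naturality, Category.assoc, Iso.inv_hom_id,
            Category.comp_id]
        show φ r = 0
        rw [h2]
        show (Y.hom ≫ j).appTop ((Scheme.ΓSpecIso R).inv r) = 0
        rw [Scheme.Hom.comp_appTop]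
        refine Eq.trans ?_ h1
        exact congrArg Y.hom.appTop.hom (congr($((Scheme.ΓSpecIso_inv_naturality
          (CommRingCat.ofHom (Ideal.Quotient.mk (c * c)))).symm) r))
      have h4 : g ≫ u = 1 := by
        rw [← cancel_epi e₁.inv, ← Category.assoc, hg, Category.assoc, (hc _).1 hkill t,
          MonObj.comp_one, MonObj.comp_one]
      rw [h4, _root_.one_mul]
    -- the unit lands in charts
    intro r hr
    rw [← Ideal.Quotient.eq_zero_iff_mem]
    refine eq_zero_of_away fun q _ => ?_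
    let X' := pullback G.hom (j ≫ p)
    let e1 : Spec R₁ ⟶ X' := pullback.lift ((j ≫ p) ≫ (1 : 𝟙_ (Over S) ⟶ G).left) (𝟙 _) (by
      rw [Category.assoc, Over.w (1 : 𝟙_ (Over S) ⟶ G), Category.id_comp]; exact Category.comp_id _)
    obtain ⟨V, hV, hqV, -⟩ := exists_isAffineOpen_mem_and_subset (X := X')
      (x := e1.base ⟨q, ‹_›⟩) (U := ⊤) trivial
    obtain ⟨_, ⟨g, rfl⟩, hqg, hgV⟩ := PrimeSpectrum.isTopologicalBasis_basic_opens.exists_subset_of_mem_open
      (show (⟨q, ‹_›⟩ : PrimeSpectrum R₁) ∈ (e1 ⁻¹ᵁ V : Set (Spec R₁)) from hqV) (e1 ⁻¹ᵁ V).isOpen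
    refine ⟨g, hqg, ?_⟩
    let Rg := Localization.Away g
    let T := MonoidAlgebra Rg (Multiplicative M)
    letI : Algebra R Rg := ((algebraMap R₁ Rg).comp (Ideal.Quotient.mk (c * c))).toAlgebra
    letI : Algebra R T := ((algebraMap Rg T).comp (algebraMap R Rg)).toAlgebra
    let B := Γ(X', V)
    let φB : R₁ ⟶ B := Spec.preimage (hV.fromSpec ≫ pullback.snd _ _)
    letI : Algebra R₁ B := φB.hom.toAlgebra
    have hw2 : hV.fromSpec ≫ pullback.snd _ _ = Spec.map (CommRingCat.ofHom (algebraMap R₁ B)) :=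
      (Spec.map_preimage _).symm
    let sT : Spec (CommRingCat.of T) ⟶ Spec R₁ := Spec.map (CommRingCat.ofHom (algebraMap R₁ T))
    have hrange : Set.range (sT ≫ e1).base ⊆ Set.range hV.fromSpec.base := by
      rintro _ ⟨w, rfl⟩
      rw [hV.range_fromSpec, Scheme.Hom.comp_apply]
      refine hgV ?_
      show g ∉ Ideal.comap (algebraMap R₁ T) (w : PrimeSpectrum T).asIdeal
      intro hmem
      have hu : IsUnit (algebraMap R₁ T g) := by
        rw [IsScalarTower.algebraMap_apply R₁ Rg T]
        exact (IsLocalization.Away.algebraMap_isUnit g).map _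
      exact (w : PrimeSpectrum T).isPrime.ne_top (Ideal.eq_top_of_isUnit_mem _ hmem hu)
    let xB : B ⟶ CommRingCat.of T := Spec.preimage (IsOpenImmersion.lift hV.fromSpec (sT ≫ e1) hrange)
    have hxB : Spec.map xB ≫ hV.fromSpec = sT ≫ e1 := by
      rw [show Spec.map xB = _ from Spec.map_preimage _]; exact IsOpenImmersion.lift_fac _ _ _
    let x : B →ₐ[R₁] T :=
      { xB.hom with
        commutes' := fun a => by
          have h1 : φB ≫ xB = CommRingCat.ofHom (algebraMap R₁ T) := Spec.map_injective (by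
            rw [Spec.map_comp, show Spec.map φB = _ from Spec.map_preimage _, reassoc_of% hxB,
              pullback.lift_snd, Category.comp_id])
          exact congr($h1 a) }
    have htriv := trivial_affine (j ≫ p) P₁ (hV.fromSpec ≫ pullback.fst _ _) (by
      rw [Category.assoc, pullback.condition, ← Category.assoc, hw2]) (transAction u) hV.fromSpec rfl hw2 J hJ h0 T
      (MonoidAlgebra.of Rg (Multiplicative M)) x
    have hx : (xPt (j ≫ p) (hV.fromSpec ≫ pullback.fst _ _) (by
        rw [Category.assoc, pullback.condition, ← Category.assoc, hw2]) x) = 1 := by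
      rw [show (1 : (Over.map (j ≫ p)).obj (specOver (R := R₁) T) ⟶ G) = toUnit _ ≫ 1 from (MonObj.comp_one _).symm]
      ext1
      show Spec.map xB ≫ hV.fromSpec ≫ pullback.fst _ _ = (sT ≫ j ≫ p) ≫ _
      rw [reassoc_of% hxB, pullback.lift_fst]
      simp only [Category.assoc]
    rw [lift_transAction, hx, _root_.mul_one] at htriv
    have hfin : gPt p P (MonoidAlgebra.of Rg (Multiplicative M)) ≫ u = 1 := by
      have h1 := congr($(htriv).left)
      rw [show (1 : (Over.map (j ≫ p)).obj (specOver (R := R₁) T) ⟶ G) = toUnit _ ≫ 1 from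
        (MonObj.comp_one _).symm] at h1
      rw [show (1 : (Over.map p).obj (specOver (R := R) T) ⟶ G) = toUnit _ ≫ 1 from (MonObj.comp_one _).symm]
      ext1
      have hj : Spec.map (CommRingCat.ofHom (algebraMap R₁ T)) ≫ j = Spec.map (CommRingCat.ofHom (algebraMap R T)) := by
        show _ ≫ Spec.map _ = _
        rw [← Spec.map_comp]
        rfl
      simp only [Over.comp_left] at h1
      refine ((congrArg (· ≫ u.left) (restrict_comm P j hj (MonoidAlgebra.of Rg (Multiplicative M))).symm).trans h1).trans ?_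
      show (sT ≫ j ≫ p) ≫ _ = (Spec.map (CommRingCat.ofHom (algebraMap R T)) ≫ p) ≫ _
      rw [← Category.assoc, hj]
    exact (hc Rg).2 hfin r hr
  obtain ⟨ec, hec, hce⟩ := (Ideal.isIdempotentElem_iff_of_fg c (Submodule.fg_span (Finset.finite_toSet _))).mp
    (le_antisymm Ideal.mul_le_left hcc)
  refine ⟨ec, hec, fun T _ _ h t => (hc T).1 (fun r hr => ?_) t, fun T _ _ h => (hc T).2 h ec ?_⟩
  · rw [hce] at hr
    obtain ⟨a, rfl⟩ := Ideal.mem_span_singleton'.mp hr
    rw [map_mul, h, mul_zero]
  · rw [hce]; exact Ideal.subset_span rfl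

end Groth.Agent.DiagRig
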