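import Groth.Agent.DiagRig.AvgPoint
import Groth.Agent.DiagRig.CoeffIdeal
import Mathlib.AlgebraicGeometry.Pullbacks

/-! Congruent homomorphisms out of a group of multiplicative type are conjugate. -/

universe u

open CategoryTheory MonoidalCategory CartesianMonoidalCategory MonObj GrpObj AlgebraicGeometry Limits
open scoped TensorProduct

noncomputable section


namespace Groth.Agent.DiagRig

variable {R : CommRingCat.{u}} {G H : Over (Spec R)} [GrpObj G] [GrpObj H]

section Split

variable {T : Type u} [CommRing T] [Algebra R T] {M : Type} [AddCommGroup M]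
  (P : SplitPts (Spec.map (CommRingCat.ofHom (algebraMap R T)) : Spec (CommRingCat.of T) ⟶ Spec R) H M)
  {T' : Type u} [CommRing T'] [Algebra R T'] [Algebra T T'] [IsScalarTower R T T']

/-- Points of the chart as points over the base. -/
def baseIso (T T' : Type u) [CommRing T] [Algebra R T] [CommRing T'] [Algebra R T'] [Algebra T T']
    [IsScalarTower R T T'] :
    (Over.map (Spec.map (CommRingCat.ofHom (algebraMap R T)) : Spec (CommRingCat.of T) ⟶ Spec R)).obj
      (specOver (R := CommRingCat.of T) T') ≅ specOver (R := R) T' :=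
  Over.isoMk (Iso.refl _) (by
    show 𝟙 _ ≫ Spec.map _ = Spec.map _ ≫ Spec.map _
    rw [Category.id_comp, ← Spec.map_comp]
    exact congrArg (fun f => Spec.map (CommRingCat.ofHom f)) (IsScalarTower.algebraMap_eq R T T'))

/-- A point of `H` from a character map. -/
def gP (t : Multiplicative M →* T') : specOver (R := R) T' ⟶ H :=
  (baseIso T T').inv ≫ gPt (R := CommRingCat.of T) _ P t

omit [GrpObj G] in
lemma gP_mul (s t : Multiplicative M →* T') : gP P (s * t) = gP P s * gP P t := by
  rw [gP, gP, gP, gPt_mul, MonObj.comp_mul]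

omit [GrpObj G] in
lemma gP_surjective (x : specOver (R := R) T' ⟶ H) : ∃ t : Multiplicative M →* T', gP P t = x := by
  obtain ⟨t, ht⟩ := gPt_surjective P ((baseIso T T').hom ≫ x)
  exact ⟨t, by rw [gP, ht, Iso.inv_hom_id_assoc]⟩

omit [GrpObj G] in
lemma gP_injective (hP : P.Inj) {s t : Multiplicative M →* T'} (h : gP P s = gP P t) : s = t :=
  gPt_injective P hP ((cancel_epi (baseIso (R := R) T T').inv).mp h)

omit [GrpObj G] in
lemma push_gP {T'' : Type u} [CommRing T''] [Algebra R T''] [Algebra T T''] [IsScalarTower R T T'']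
    (k : T' →ₐ[T] T'') (t : Multiplicative M →* T') :
    push (k.restrictScalars R) (gP P t) = gP P (k.toRingHom.toMonoidHom.comp t) := by
  have h := testMap_gPt (R := CommRingCat.of T) (Spec.map (CommRingCat.ofHom (algebraMap R T))) P k t
  rw [gP, gP, push, ← h, ← Category.assoc, ← Category.assoc]
  congr 1

variable {J : Ideal R} (hJ : J * J = ⊥) (u v : H ⟶ G) [IsMonHom u] [IsMonHom v] (h0 : CongMod u v J)
  (V : G.left.Opens) (hV : IsAffineOpen V)

/-- The tautological point of a split chart. -/
def zP : specOver (R := R) (MonoidAlgebra T (Multiplicative M)) ⟶ H :=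
  gP P (MonoidAlgebra.of T (Multiplicative M))

include hJ hV h0 in
/-- The average conjugates one homomorphism into the other. -/
theorem conj_split (h1 : Set.range (1 : specOver (R := R) T ⟶ G).left.base ⊆ V)
    {g : specOver (R := R) T ⟶ G} (hg : IsAvg hJ u v (N := Multiplicative M) (zP P) g) (t : Multiplicative M →* T') :
    gP P t ≫ v = push (IsScalarTower.toAlgHom R T T') g * (gP P t ≫ u) *
      (push (IsScalarTower.toAlgHom R T T') g)⁻¹ := by
  classical
  let U := MonoidAlgebra T' (Multiplicative M)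
  let τk : Multiplicative M →* U :=
    { toFun := fun m => MonoidAlgebra.single m (t m)
      map_one' := by rw [map_one]; rfl
      map_mul' := fun a b => by rw [map_mul, MonoidAlgebra.single_mul_single] }
  let τ0 : Multiplicative M →* U := MonoidAlgebra.of T' (Multiplicative M)
  have hk : ∀ n, n ≠ 1 → (τk n).coeff 1 = 0 := fun n hn => by
    show (MonoidAlgebra.single n (t n)).coeff 1 = 0
    simp [Finsupp.single_apply, hn]
  have h0' : ∀ n, n ≠ 1 → (τ0 n).coeff 1 = 0 := fun n hn => by
    show (MonoidAlgebra.single n (1 : T')).coeff 1 = 0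
    simp [Finsupp.single_apply, hn]
  have hzk : ∀ τ : Multiplicative M →* U, push ((MonoidAlgebra.lift T U (Multiplicative M) τ).restrictScalars R)
      (zP P) = gP P τ := fun τ => by
    rw [zP, push_gP]
    exact congrArg (gP P) (MonoidHom.ext fun m => MonoidAlgebra.lift_of τ m)
  let g₁ := push (IsScalarTower.toAlgHom R T T') g
  have hgk : IsAvg hJ u v (gP P τk) g₁ := hzk τk ▸ IsAvg.map hJ u v τk hk hg
  have hg0 : IsAvg hJ u v (gP P τ0) g₁ := hzk τ0 ▸ IsAvg.map hJ u v τ0 h0' hg
  obtain ⟨ak, hak, hφk⟩ := hgk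
  obtain ⟨a0, ha0, hφ0⟩ := hg0
  let sA : T' →ₐ[R] avgSub J T' (Multiplicative M) :=
    IsScalarTower.toAlgHom R T' (avgSub J T' (Multiplicative M))
  let xu := gP P t ≫ u
  let xv := gP P t ≫ v
  let b := push sA xv * a0 * (push sA xu)⁻¹
  have hs1 : push (scal (R := R) T' (Multiplicative M)) (gP P t) * gP P τ0 = gP P τk := by
    have e1 : push (scal (R := R) T' (Multiplicative M)) (gP P t) =
        gP P ((IsScalarTower.toAlgHom T T' U).toRingHom.toMonoidHom.comp t) := by
      rw [← push_gP]
      rfl
    rw [e1, ← gP_mul]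
    congr 1
    refine MonoidHom.ext fun m => ?_
    show algebraMap T' U (t m) * MonoidAlgebra.single m 1 = MonoidAlgebra.single m (t m)
    rw [← Algebra.smul_def, MonoidAlgebra.smul_single, smul_eq_mul, _root_.mul_one]
  have hb : push (avgVal J T' (Multiplicative M)) b = dev u v (gP P τk) := by
    have es : (avgVal J T' (Multiplicative M)).comp sA = scal (R := R) T' (Multiplicative M) := rfl
    rw [push_mul, push_mul, push_inv, ha0, push_push, push_push, es, ← hs1, push_comp, push_comp, dev, dev,
      MonObj.mul_comp, MonObj.mul_comp, _root_.mul_inv_rev]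
    simp only [_root_.mul_assoc]
  have h1₁ : Set.range (1 : specOver (R := R) T' ⟶ G).left.base ⊆ V := by
    rw [← push_one (R := R) (G := G) (IsScalarTower.toAlgHom R T T')]
    rintro _ ⟨w, rfl⟩
    exact h1 ⟨_, rfl⟩
  have hab : ak = b := eq_of_push_avgVal hJ u v V hV h0 h1₁ _ hak hb
  have hid : (avgCt hJ T' (Multiplicative M)).comp sA = AlgHom.id R T' := AlgHom.ext fun c => by
    show (algebraMap T' (MonoidAlgebra T' (Multiplicative M)) c).coeff 1 = c
    simp
  have key : g₁ = xv * g₁ * xu⁻¹ := by
    conv_lhs => rw [← hφk, hab]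
    rw [push_mul, push_mul, push_inv, hφ0, push_push, push_push, hid, push_id, push_id]
  calc xv = xv * g₁ * xu⁻¹ * xu * g₁⁻¹ := by simp [_root_.mul_assoc]
    _ = g₁ * xu * g₁⁻¹ := by rw [← key]

end Split

section Indep

variable {T T₂ T' : Type u} [CommRing T] [Algebra R T] [CommRing T₂] [Algebra R T₂] [CommRing T'] [Algebra R T']
  [Algebra T T'] [IsScalarTower R T T'] [Algebra T₂ T'] [IsScalarTower R T₂ T']
  {M M₂ : Type} [AddCommGroup M] [AddCommGroup M₂]
  (P : SplitPts (Spec.map (CommRingCat.ofHom (algebraMap R T)) : Spec (CommRingCat.of T) ⟶ Spec R) H M)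
  (P₂ : SplitPts (Spec.map (CommRingCat.ofHom (algebraMap R T₂)) : Spec (CommRingCat.of T₂) ⟶ Spec R) H M₂)
  (hP : P.Inj) (hP₂ : P₂.Inj)
  {J : Ideal R} (hJ : J * J = ⊥) (u v : H ⟶ G) (h0 : CongMod u v J) (V : G.left.Opens) (hV : IsAffineOpen V)

omit [GrpObj G] in
include hP in
/-- The change of splitting over a common test algebra has no constant term away from the unit. -/
theorem exists_trans : ∃ τ : Multiplicative M →* MonoidAlgebra T' (Multiplicative M₂),
    gP P τ = gP P₂ (MonoidAlgebra.of T' (Multiplicative M₂)) ∧ ∀ m, m ≠ 1 → (τ m).coeff 1 = 0 := by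
  classical
  let X := Multiplicative M
  let Y := Multiplicative M₂
  let UX := MonoidAlgebra T' X
  let UY := MonoidAlgebra T' Y
  let zX : specOver (R := R) UX ⟶ H := gP P (MonoidAlgebra.of T' X)
  let zY : specOver (R := R) UY ⟶ H := gP P₂ (MonoidAlgebra.of T' Y)
  obtain ⟨τ, hτ⟩ := gP_surjective P zY
  obtain ⟨τ', hτ'⟩ := gP_surjective P₂ zX
  have hinv : ∀ m, MonoidAlgebra.lift T' UX Y τ' (τ m) = MonoidAlgebra.of T' X m := by
    let l : UY →ₐ[T'] UX := MonoidAlgebra.lift T' UX Y τ'
    have e1 : push (l.restrictScalars R) zY = zX := by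
      have : l.restrictScalars R = (l.restrictScalars T₂).restrictScalars R := rfl
      rw [this, push_gP, ← hτ']
      exact congrArg (gP P₂) (MonoidHom.ext fun m => MonoidAlgebra.lift_of τ' m)
    have e2 : push (l.restrictScalars R) zY = gP P (l.toRingHom.toMonoidHom.comp τ) := by
      rw [← hτ]; exact push_gP P (l.restrictScalars T) τ
    intro m
    exact DFunLike.congr_fun (gP_injective P hP (e2.symm.trans e1)) m
  have exF : ∀ (Z : Type u) [CommRing Z] [Algebra T' Z] [Algebra R Z] [Algebra T Z] [Algebra T₂ Z]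
      [IsScalarTower R T Z] [IsScalarTower R T₂ Z] (t : Y →* Z), ∃ s : X →* Z, gP P s = gP P₂ t :=
    fun Z _ _ _ _ _ _ _ t => gP_surjective P _
  let F : ∀ (Z : Type u) [CommRing Z] [Algebra T' Z], (Y →* Z) → (X →* Z) := fun Z _ _ t =>
    letI : Algebra T Z := ((algebraMap T' Z).comp (algebraMap T T')).toAlgebra
    letI : Algebra T₂ Z := ((algebraMap T' Z).comp (algebraMap T₂ T')).toAlgebra
    letI : Algebra R Z := ((algebraMap T' Z).comp (algebraMap R T')).toAlgebra
    haveI : IsScalarTower R T Z := IsScalarTower.of_algebraMap_eq fun r =>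
      congrArg (algebraMap T' Z) (IsScalarTower.algebraMap_apply R T T' r)
    haveI : IsScalarTower R T₂ Z := IsScalarTower.of_algebraMap_eq fun r =>
      congrArg (algebraMap T' Z) (IsScalarTower.algebraMap_apply R T₂ T' r)
    (exF Z t).choose
  have hF : ∀ (Z : Type u) [CommRing Z] [Algebra T' Z] [iR : Algebra R Z] [iT : Algebra T Z] [iT₂ : Algebra T₂ Z]
      [IsScalarTower R T' Z] [IsScalarTower T T' Z] [IsScalarTower T₂ T' Z] [IsScalarTower R T Z]
      [IsScalarTower R T₂ Z] (t : Y →* Z), gP P (F Z t) = gP P₂ t := by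
    intro Z _ _ iR iT iT₂ _ _ _ _ _ t
    have eR : iR = ((algebraMap T' Z).comp (algebraMap R T')).toAlgebra :=
      Algebra.algebra_ext _ _ fun r => IsScalarTower.algebraMap_apply R T' Z r
    have eT : iT = ((algebraMap T' Z).comp (algebraMap T T')).toAlgebra :=
      Algebra.algebra_ext _ _ fun r => IsScalarTower.algebraMap_apply T T' Z r
    have eT₂ : iT₂ = ((algebraMap T' Z).comp (algebraMap T₂ T')).toAlgebra :=
      Algebra.algebra_ext _ _ fun r => IsScalarTower.algebraMap_apply T₂ T' Z r
    subst eR eT eT₂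
    letI : Algebra T Z := ((algebraMap T' Z).comp (algebraMap T T')).toAlgebra
    letI : Algebra T₂ Z := ((algebraMap T' Z).comp (algebraMap T₂ T')).toAlgebra
    letI : Algebra R Z := ((algebraMap T' Z).comp (algebraMap R T')).toAlgebra
    exact (exF Z t).choose_spec
  have hτF : F UY (MonoidAlgebra.of T' Y) = τ :=
    gP_injective P hP ((hF UY _).trans hτ.symm)
  have hτ0 : ∀ m, m ≠ 1 → (τ m).coeff 1 = 0 := by
    refine coeff_one_eq_zero_of_inverse τ τ' hinv fun m n hn => ?_
    rw [← hτF]
    refine orth_of_natural (R := T') F (fun Z _ _ s t => ?_) (fun Z Z' _ _ _ _ k t => ?_) m n hn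
    all_goals
      let _ : Algebra R Z := ((algebraMap T' Z).comp (algebraMap R T')).toAlgebra
      let _ : Algebra T Z := ((algebraMap T' Z).comp (algebraMap T T')).toAlgebra
      let _ : Algebra T₂ Z := ((algebraMap T' Z).comp (algebraMap T₂ T')).toAlgebra
      have : IsScalarTower R T' Z := IsScalarTower.of_algebraMap_eq fun _ => rfl
      have : IsScalarTower T T' Z := IsScalarTower.of_algebraMap_eq fun _ => rfl
      have : IsScalarTower T₂ T' Z := IsScalarTower.of_algebraMap_eq fun _ => rfl
      have : IsScalarTower R T Z := IsScalarTower.of_algebraMap_eq fun r =>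
        congrArg (algebraMap T' Z) (IsScalarTower.algebraMap_apply R T T' r)
      have : IsScalarTower R T₂ Z := IsScalarTower.of_algebraMap_eq fun r =>
        congrArg (algebraMap T' Z) (IsScalarTower.algebraMap_apply R T₂ T' r)
    · refine gP_injective P hP ?_
      rw [gP_mul, hF, hF, hF, gP_mul]
    · let _ : Algebra R Z' := ((algebraMap T' Z').comp (algebraMap R T')).toAlgebra
      let _ : Algebra T Z' := ((algebraMap T' Z').comp (algebraMap T T')).toAlgebra
      let _ : Algebra T₂ Z' := ((algebraMap T' Z').comp (algebraMap T₂ T')).toAlgebra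
      have : IsScalarTower R T' Z' := IsScalarTower.of_algebraMap_eq fun _ => rfl
      have : IsScalarTower T T' Z' := IsScalarTower.of_algebraMap_eq fun _ => rfl
      have : IsScalarTower T₂ T' Z' := IsScalarTower.of_algebraMap_eq fun _ => rfl
      have : IsScalarTower R T Z' := IsScalarTower.of_algebraMap_eq fun r =>
        congrArg (algebraMap T' Z') (IsScalarTower.algebraMap_apply R T T' r)
      have : IsScalarTower R T₂ Z' := IsScalarTower.of_algebraMap_eq fun r =>
        congrArg (algebraMap T' Z') (IsScalarTower.algebraMap_apply R T₂ T' r)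
      refine gP_injective P hP ?_
      rw [hF]
      have e1 := push_gP P (k.restrictScalars T) (F Z t)
      have e2 := push_gP P₂ (k.restrictScalars T₂) t
      rw [hF] at e1
      exact e1.symm.trans e2
  exact ⟨τ, hτ, hτ0⟩

include hP hP₂ hV h0 in
/-- The average does not depend on the splitting. -/
theorem avg_indep (h1 : Set.range (1 : specOver (R := R) T' ⟶ G).left.base ⊆ V)
    {g : specOver (R := R) T ⟶ G} {g₂ : specOver (R := R) T₂ ⟶ G}
    (hg : IsAvg hJ u v (N := Multiplicative M) (zP P) g) (hg₂ : IsAvg hJ u v (N := Multiplicative M₂) (zP P₂) g₂) :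
    push (IsScalarTower.toAlgHom R T T') g = push (IsScalarTower.toAlgHom R T₂ T') g₂ := by
  classical
  let X := Multiplicative M
  let Y := Multiplicative M₂
  let UX := MonoidAlgebra T' X
  let UY := MonoidAlgebra T' Y
  let zY : specOver (R := R) UY ⟶ H := gP P₂ (MonoidAlgebra.of T' Y)
  obtain ⟨τ, hτ, hτ0⟩ := exists_trans (T' := T') P P₂ hP
  have lift_of : ∀ {W : Type} [CommGroup W] {Z : Type u} [CommRing Z] [Algebra T Z] (s : W →* Z),
      (MonoidAlgebra.lift T Z W s).toRingHom.toMonoidHom.comp (MonoidAlgebra.of T W) = s :=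
    fun s => MonoidHom.ext fun m => MonoidAlgebra.lift_of s m
  have a1 : IsAvg hJ u v zY (push (IsScalarTower.toAlgHom R T T') g) := by
    have e : push ((MonoidAlgebra.lift T UY X τ).restrictScalars R) (zP P) = zY := by
      rw [zP, push_gP, lift_of, hτ]
    exact e ▸ IsAvg.map hJ u v τ hτ0 hg
  have a2 : IsAvg hJ u v zY (push (IsScalarTower.toAlgHom R T₂ T') g₂) := by
    have e : push ((MonoidAlgebra.lift T₂ UY Y (MonoidAlgebra.of T' Y)).restrictScalars R) (zP P₂) = zY := by
      rw [zP, push_gP]
      exact congrArg (gP P₂) (MonoidHom.ext fun m => MonoidAlgebra.lift_of _ m)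
    exact e ▸ IsAvg.map hJ u v (MonoidAlgebra.of T' Y) (fun n hn => by simp [Finsupp.single_apply, hn]) hg₂
  exact a1.unique hJ u v V hV h0 h1 a2

end Indep

end Groth.Agent.DiagRig
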