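import Groth.Agent.DiagRig.Conj
import Mathlib.AlgebraicGeometry.Sites.Fpqc
import Mathlib.AlgebraicGeometry.Limits

/-! Congruent homomorphisms out of a group of multiplicative type are conjugate: gluing. -/

universe u

open CategoryTheory MonoidalCategory CartesianMonoidalCategory MonObj GrpObj AlgebraicGeometry Limits
open scoped TensorProduct

noncomputable section



namespace Groth.Agent.DiagRig

variable {R : CommRingCat.{u}} {G H : Over (Spec R)} [GrpObj G] [GrpObj H]

section Glue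

variable {S' : Scheme.{u}} (f : S' ⟶ Spec R) [Flat f] [Surjective f]
  (hcomp : ∃ W : S'.Opens, IsCompact (W : Set S') ∧ f.base '' (W : Set S') = Set.univ)
  (hloc : ∀ s' : S', ∃ U : S'.Opens, s' ∈ U ∧ ∃ (M : Type) (_ : AddCommGroup M),
    ∃ P : SplitPts (U.ι ≫ f) H M, P.Inj)

/-- A chart: an affine open of `S'` over which `H` splits and the unit of `G` lands in an affine open. -/
structure AvgChart where
  T : Type u
  [inst : CommRing T]
  [alg : Algebra R T]
  j : Spec (CommRingCat.of T) ⟶ S'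
  [openImm : IsOpenImmersion j]
  hj : j ≫ f = Spec.map (CommRingCat.ofHom (algebraMap R T))
  M : Type
  [grp : AddCommGroup M]
  P : SplitPts (Spec.map (CommRingCat.ofHom (algebraMap R T)) : Spec (CommRingCat.of T) ⟶ Spec R) H M
  hP : P.Inj
  V : G.left.Opens
  hV : IsAffineOpen V
  h1 : Set.range (1 : specOver (R := R) T ⟶ G).left.base ⊆ V

attribute [instance] AvgChart.inst AvgChart.alg AvgChart.openImm AvgChart.grp

include hloc in
lemma exists_chart (s' : S') : ∃ c : AvgChart (G := G) (H := H) f, s' ∈ Set.range c.j.base := by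
  obtain ⟨U, hU, M, _, PU, hPU⟩ := hloc s'
  let o : Spec R ⟶ G.left := (1 : 𝟙_ (Over (Spec R)) ⟶ G).left
  obtain ⟨V, hV, hoV, -⟩ := exists_isAffineOpen_mem_and_subset (X := G.left) (x := o.base (f.base s')) (U := ⊤) trivial
  obtain ⟨W', hW', hsW', hsub⟩ := exists_isAffineOpen_mem_and_subset (X := S') (x := s')
    (U := U ⊓ f ⁻¹ᵁ (o ⁻¹ᵁ V)) ⟨hU, hoV⟩
  let φ : R ⟶ Γ(S', W') := Spec.preimage (hW'.fromSpec ≫ f)
  let _ : Algebra R Γ(S', W') := φ.hom.toAlgebra
  have hφ : hW'.fromSpec ≫ f = Spec.map (CommRingCat.ofHom (algebraMap R Γ(S', W'))) := (Spec.map_preimage _).symm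
  have hr : Set.range hW'.fromSpec.base ⊆ Set.range U.ι.base := by
    rw [hW'.range_fromSpec, Scheme.Opens.range_ι]; exact fun x hx => (hsub hx).1
  let l := IsOpenImmersion.lift U.ι hW'.fromSpec hr
  have hl : l ≫ U.ι ≫ f = Spec.map (CommRingCat.ofHom (algebraMap R Γ(S', W'))) := by
    rw [IsOpenImmersion.lift_fac_assoc, hφ]
  obtain ⟨P, hP⟩ : ∃ P : SplitPts (Spec.map (CommRingCat.ofHom (algebraMap R Γ(S', W'))) :
      Spec (CommRingCat.of Γ(S', W')) ⟶ Spec R) H M, P.Inj :=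
    hl ▸ ⟨PU.restrict l, SplitPts.Inj.restrict hPU l⟩
  refine ⟨{ T := Γ(S', W'), j := hW'.fromSpec, hj := hφ, M := M, P := P, hP := hP, V := V, hV := hV, h1 := ?_ },
    hW'.range_fromSpec.ge hsW'⟩
  rintro _ ⟨z, rfl⟩
  rw [show (1 : specOver (R := R) Γ(S', W') ⟶ G) = toUnit _ ≫ 1 from (MonObj.comp_one _).symm]
  show o.base ((Spec.map (CommRingCat.ofHom (algebraMap R Γ(S', W')))).base z) ∈ V
  rw [← hφ, Scheme.Hom.comp_apply]
  exact (hsub (hW'.range_fromSpec.le ⟨z, rfl⟩)).2

variable {J : Ideal R} (hJ : J * J = ⊥) (u v : H ⟶ G) [IsMonHom u] [IsMonHom v] (h0 : CongMod u v J)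

set_option backward.isDefEq.respectTransparency.types false in
include hcomp hloc hJ h0 in
/-- Homomorphisms out of a group of multiplicative type congruent modulo a square-zero ideal are conjugate. -/
theorem exists_conj_of_congr :
    ∃ g : 𝟙_ (Over (Spec R)) ⟶ G,
      toUnit (Over.mk (Spec.map (CommRingCat.ofHom (Ideal.Quotient.mk J))) : Over (Spec R)) ≫ g = 1 ∧
        ∀ (X : Over (Spec R)) (h : X ⟶ H), h ≫ v = (toUnit X ≫ g) * (h ≫ u) * (toUnit X ≫ g)⁻¹ := by
  classical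
  choose c hc using exists_chart (G := G) f hloc
  obtain ⟨W, hWc, hW⟩ := hcomp
  obtain ⟨F, hF⟩ := hWc.elim_finite_subcover (fun s' : S' => Set.range (c s').j.base)
    (fun s' => (c s').j.isOpenEmbedding.isOpen_range) (fun x _ => Set.mem_iUnion.mpr ⟨x, hc x⟩)
  let I₀ := {x // x ∈ F}
  let Z : I₀ → Scheme.{u} := fun i => Spec (CommRingCat.of (c i.1).T)
  let π : (∐ Z) ⟶ Spec R := Sigma.desc fun i => Spec.map (CommRingCat.ofHom (algebraMap R (c i.1).T))
  have hι : ∀ i : I₀, Sigma.ι Z i ≫ π = Spec.map (CommRingCat.ofHom (algebraMap R (c i.1).T)) := fun i =>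
    Sigma.ι_desc _ i
  have hπ : π = Sigma.desc (fun i : I₀ => (c i.1).j) ≫ f :=
    Sigma.hom_ext _ _ fun i => by rw [hι, Sigma.ι_desc_assoc]; exact (c i.1).hj.symm
  have : Flat π := by
    rw [hπ]
    have : Flat (Sigma.desc fun i : I₀ => (c i.1).j) :=
      (IsZariskiLocalAtSource.iff_of_openCover (P := @Flat) (sigmaOpenCover Z)).mpr fun i => by
        show Flat (Sigma.ι Z i ≫ Sigma.desc _)
        rw [Sigma.ι_desc]
        infer_instance
    infer_instance
  have : Surjective π := ⟨fun s => by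
    obtain ⟨x, hx, hxs⟩ := hW.ge (Set.mem_univ s)
    obtain ⟨y, hy⟩ := Set.mem_iUnion₂.mp (hF hx)
    obtain ⟨hyF, z, hz⟩ := hy
    refine ⟨(Sigma.ι Z ⟨y, hyF⟩).base z, ?_⟩
    rw [← Scheme.Hom.comp_apply, hπ, Sigma.ι_desc_assoc, Scheme.Hom.comp_apply, hz, hxs]⟩
  have : CompactSpace (∐ Z : Scheme.{u}) := (sigmaMk Z).compactSpace
  have : QuasiCompact π := inferInstance
  have ex : ∀ i : I₀, ∃ g, IsAvg hJ u v (N := Multiplicative (c i.1).M) (zP (c i.1).P) g := fun i =>
    exists_isAvg hJ u v (c i.1).V (c i.1).hV h0 (c i.1).h1 _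
  choose g hg using ex
  let gY : (∐ Z) ⟶ G.left := Sigma.desc fun i => (g i).left
  -- agreement on overlaps
  have key : ∀ (i j : I₀) (Z' : Scheme.{u}) (a : Z' ⟶ Z i) (b : Z' ⟶ Z j),
      a ≫ Spec.map (CommRingCat.ofHom (algebraMap R (c i.1).T)) =
        b ≫ Spec.map (CommRingCat.ofHom (algebraMap R (c j.1).T)) → a ≫ (g i).left = b ≫ (g j).left := by
    intro i j Z' a b hab
    let T' := (c i.1).T ⊗[R] (c j.1).T
    let _ : Algebra (c j.1).T T' := Algebra.TensorProduct.rightAlgebra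
    have : IsScalarTower R (c j.1).T T' := IsScalarTower.of_algebraMap_eq fun r => by
      show algebraMap R T' r = (Algebra.TensorProduct.includeRight : (c j.1).T →ₐ[R] T') (algebraMap R _ r)
      rw [AlgHom.commutes]
    let l := pullback.lift a b hab ≫ (pullbackSpecIso R (c i.1).T (c j.1).T).hom
    have e1 : l ≫ Spec.map (CommRingCat.ofHom (IsScalarTower.toAlgHom R (c i.1).T T').toRingHom) = a := by
      rw [Category.assoc]
      show pullback.lift a b hab ≫ (pullbackSpecIso R (c i.1).T (c j.1).T).hom ≫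
        Spec.map (CommRingCat.ofHom (Algebra.TensorProduct.includeLeftRingHom : (c i.1).T →+* T')) = a
      rw [pullbackSpecIso_hom_fst]
      exact pullback.lift_fst _ _ _
    have e2 : l ≫ Spec.map (CommRingCat.ofHom (IsScalarTower.toAlgHom R (c j.1).T T').toRingHom) = b := by
      rw [Category.assoc]
      show pullback.lift a b hab ≫ (pullbackSpecIso R (c i.1).T (c j.1).T).hom ≫
        Spec.map (CommRingCat.ofHom (Algebra.TensorProduct.includeRight : (c j.1).T →ₐ[R] T').toRingHom) = b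
      refine (congrArg (pullback.lift a b hab ≫ ·) (pullbackSpecIso_hom_snd R (c i.1).T (c j.1).T)).trans ?_
      exact pullback.lift_snd _ _ _
    have h1' : Set.range (1 : specOver (R := R) T' ⟶ G).left.base ⊆ (c i.1).V := by
      rw [← push_one (R := R) (G := G) (IsScalarTower.toAlgHom R (c i.1).T T')]
      rintro _ ⟨w, rfl⟩
      exact (c i.1).h1 ⟨_, rfl⟩
    have h : (push (IsScalarTower.toAlgHom R (c i.1).T T') (g i)).left =
        (push (IsScalarTower.toAlgHom R (c j.1).T T') (g j)).left :=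
      congr($(avg_indep (T' := T') (c i.1).P (c j.1).P (c i.1).hP (c j.1).hP hJ u v h0
        (c i.1).V (c i.1).hV h1' (hg i) (hg j)).left)
    rw [← e1, ← e2, Category.assoc, Category.assoc]
    exact congrArg (l ≫ ·) h
  have hov : pullback.fst π π ≫ gY = pullback.snd π π ≫ gY := by
    refine hom_ext_of_forall _ _ fun w => ?_
    obtain ⟨(i : I₀), z, hz⟩ := (sigmaOpenCover Z).exists_eq ((pullback.fst π π).base w)
    obtain ⟨(j : I₀), z', hz'⟩ := (sigmaOpenCover Z).exists_eq ((pullback.snd π π).base w)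
    let O : (pullback π π).Opens :=
      pullback.fst π π ⁻¹ᵁ (Sigma.ι Z i).opensRange ⊓ pullback.snd π π ⁻¹ᵁ (Sigma.ι Z j).opensRange
    refine ⟨O, ⟨⟨z, hz⟩, ⟨z', hz'⟩⟩, ?_⟩
    have hra : Set.range (O.ι ≫ pullback.fst π π).base ⊆ Set.range (Sigma.ι Z i).base := by
      rintro _ ⟨y, rfl⟩; exact y.2.1
    have hrb : Set.range (O.ι ≫ pullback.snd π π).base ⊆ Set.range (Sigma.ι Z j).base := by
      rintro _ ⟨y, rfl⟩; exact y.2.2
    let a := IsOpenImmersion.lift (Sigma.ι Z i) (O.ι ≫ pullback.fst π π) hra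
    let b := IsOpenImmersion.lift (Sigma.ι Z j) (O.ι ≫ pullback.snd π π) hrb
    have hab := key i j _ a b (by
      rw [← hι i, ← hι j, IsOpenImmersion.lift_fac_assoc, IsOpenImmersion.lift_fac_assoc, Category.assoc,
        Category.assoc, pullback.condition])
    have ei : Sigma.ι Z i ≫ gY = (g i).left := Sigma.ι_desc _ i
    have ej : Sigma.ι Z j ≫ gY = (g j).left := Sigma.ι_desc _ j
    rw [← ei, ← ej, IsOpenImmersion.lift_fac_assoc, IsOpenImmersion.lift_fac_assoc] at hab
    simpa using hab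
  let gS : Spec R ⟶ G.left := EffectiveEpi.desc π gY (fun {W} a b hab => by
    have h : pullback.lift a b hab ≫ pullback.fst π π ≫ gY = pullback.lift a b hab ≫ pullback.snd π π ≫ gY :=
      congrArg (pullback.lift a b hab ≫ ·) hov
    rwa [pullback.lift_fst_assoc, pullback.lift_snd_assoc] at h)
  have hfac : π ≫ gS = gY := EffectiveEpi.fac ..
  have : Epi π := inferInstance
  have hgS : gS ≫ G.hom = 𝟙 _ := by
    rw [← cancel_epi π, ← Category.assoc, hfac, Category.comp_id]
    refine Sigma.hom_ext _ _ fun i => ?_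
    rw [Sigma.ι_desc_assoc, Sigma.ι_desc]
    exact Over.w (g i)
  let gg : 𝟙_ (Over (Spec R)) ⟶ G := Over.homMk gS hgS
  have hgg : ∀ i : I₀, toUnit (specOver (R := R) (c i.1).T) ≫ gg = g i := fun i => by
    ext1
    show Spec.map (CommRingCat.ofHom (algebraMap R (c i.1).T)) ≫ gS = (g i).left
    rw [show Spec.map (CommRingCat.ofHom (algebraMap R (c i.1).T)) = Sigma.ι Z i ≫ π from
      (hι i).symm, Category.assoc, hfac, Sigma.ι_desc]
  refine ⟨gg, ?_, fun X h => ?_⟩
  · -- congruence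
    let Q : Over (Spec R) := Over.mk (Spec.map (CommRingCat.ofHom (Ideal.Quotient.mk J)))
    let π' : Over.mk (pullback.fst Q.hom π ≫ Q.hom) ⟶ Q := Over.homMk (pullback.fst Q.hom π)
    have : Epi π'.left := Flat.epi_of_flat_of_surjective (pullback.fst Q.hom π)
    have : Epi π' := Over.epi_of_epi_left π'
    rw [← cancel_epi π', MonObj.comp_one, ← Category.assoc, toUnit_unique (π' ≫ toUnit Q) (toUnit _)]
    ext1
    refine hom_ext_of_forall _ _ fun w => ?_
    obtain ⟨(i : I₀), z, hz⟩ := (sigmaOpenCover Z).exists_eq ((pullback.snd Q.hom π).base w)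
    let O : (pullback Q.hom π).Opens := pullback.snd Q.hom π ⁻¹ᵁ (Sigma.ι Z i).opensRange
    refine ⟨O, ⟨z, hz⟩, ?_⟩
    have hr : Set.range (O.ι ≫ pullback.snd Q.hom π).base ⊆ Set.range (Sigma.ι Z i).base := by
      rintro _ ⟨z, rfl⟩; exact z.2
    let y₀ := IsOpenImmersion.lift (Sigma.ι Z i) (O.ι ≫ pullback.snd Q.hom π) hr
    let T := (c i.1).T
    let q : T →ₐ[R] T ⧸ J.map (algebraMap R T) := Ideal.Quotient.mkₐ R _
    have hq : push q (g i) = 1 := IsAvg.congr_one hJ u v h0 (hg i)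
    have hY : y₀ ≫ Spec.map (CommRingCat.ofHom (algebraMap R T)) =
        (O.ι ≫ pullback.fst Q.hom π) ≫ Q.hom := by
      rw [show Spec.map (CommRingCat.ofHom (algebraMap R T)) = Sigma.ι Z i ≫ π from (hι i).symm,
        IsOpenImmersion.lift_fac_assoc, Category.assoc, Category.assoc, pullback.condition]
    -- factor through the quotient
    let k : Γ(Spec (CommRingCat.of T), ⊤) ⟶ Γ(O, ⊤) := y₀.appTop
    let ψ : CommRingCat.of T ⟶ Γ(O, ⊤) := (Scheme.ΓSpecIso _).inv ≫ y₀.appTop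
    have hψ : O.toScheme.toSpecΓ ≫ Spec.map ψ = y₀ := by
      show O.toScheme.toSpecΓ ≫ Spec.map ((Scheme.ΓSpecIso _).inv ≫ y₀.appTop) = _
      rw [Spec.map_comp, ← Scheme.toSpecΓ_naturality_assoc]
      exact (congrArg (y₀ ≫ ·) (toSpecΓ_SpecMap_ΓSpecIso_inv _)).trans (Category.comp_id _)
    have hker : ∀ r ∈ J.map (algebraMap R T), ψ r = 0 := by
      suffices J.map (algebraMap R T) ≤ RingHom.ker ψ.hom from fun r hr => this hr
      rw [Ideal.map_le_iff_le_comap]
      intro r hr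
      show ψ (algebraMap R T r) = 0
      let χ : CommRingCat.of (R ⧸ J) ⟶ Γ(O, ⊤) :=
        (Scheme.ΓSpecIso _).inv ≫ (O.ι ≫ pullback.fst Q.hom π).appTop
      have e : CommRingCat.ofHom (algebraMap R T) ≫ ψ = CommRingCat.ofHom (Ideal.Quotient.mk J) ≫ χ := by
        have h1 := congrArg Scheme.Hom.appTop hY
        simp only [Scheme.Hom.comp_appTop] at h1
        simp only [ψ, χ, Scheme.Hom.comp_appTop, ← Category.assoc]
        rw [Scheme.ΓSpecIso_inv_naturality, Category.assoc, h1]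
        simp only [Q, Over.mk_hom, Category.assoc]
        rw [reassoc_of% Scheme.ΓSpecIso_inv_naturality (CommRingCat.ofHom (Ideal.Quotient.mk J))]
      have e' := congr($e r)
      simp only [CommRingCat.hom_comp, RingHom.comp_apply, CommRingCat.hom_ofHom] at e'
      refine e'.trans ?_
      rw [Ideal.Quotient.eq_zero_iff_mem.mpr hr, map_zero]
    let ψ' : CommRingCat.of (T ⧸ J.map (algebraMap R T)) ⟶ Γ(O, ⊤) :=
      CommRingCat.ofHom (Ideal.Quotient.lift _ ψ.hom hker)
    have hψ' : (O.toScheme.toSpecΓ ≫ Spec.map ψ') ≫ Spec.map (CommRingCat.ofHom q.toRingHom) = y₀ := by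
      rw [Category.assoc, ← Spec.map_comp]; exact hψ
    let a : Over.mk (O.ι ≫ pullback.fst Q.hom π ≫ Q.hom) ⟶ specOver (R := R) (T ⧸ J.map (algebraMap R T)) :=
      Over.homMk (O.toScheme.toSpecΓ ≫ Spec.map ψ') (by
        show (O.toScheme.toSpecΓ ≫ Spec.map ψ') ≫ Spec.map _ = O.ι ≫ pullback.fst Q.hom π ≫ Q.hom
        rw [← Category.assoc O.ι, ← hY, ← hψ', Category.assoc (O.toScheme.toSpecΓ ≫ Spec.map ψ'), ← Spec.map_comp]
        rfl)
    have h2 : (a ≫ push q (g i)).left = (a ≫ (1 : _ ⟶ G)).left := congr($(congrArg (a ≫ ·) hq).left)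
    have h3 : y₀ ≫ (g i).left = (a ≫ push q (g i)).left := by
      show _ = (O.toScheme.toSpecΓ ≫ Spec.map ψ') ≫ Spec.map (CommRingCat.ofHom q.toRingHom) ≫ (g i).left
      rw [← Category.assoc (O.toScheme.toSpecΓ ≫ Spec.map ψ'), hψ']
    rw [MonObj.comp_one] at h2
    rw [← h3] at h2
    show O.ι ≫ (toUnit (Over.mk (pullback.fst Q.hom π ≫ Q.hom)) ≫ gg).left = O.ι ≫ (1 : Over.mk (pullback.fst Q.hom π ≫ Q.hom) ⟶ G).left
    refine Eq.trans ?_ (h2.trans ?_)
    · show O.ι ≫ (pullback.fst Q.hom π ≫ Q.hom) ≫ gS = y₀ ≫ (g i).left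
      rw [← hgg i]
      show _ = y₀ ≫ Spec.map (CommRingCat.ofHom (algebraMap R T)) ≫ gS
      rw [← Category.assoc y₀, hY]
      simp only [Category.assoc]
    · rw [show (1 : Over.mk (pullback.fst Q.hom π ≫ Q.hom) ⟶ G) = toUnit _ ≫ 1 from (MonObj.comp_one _).symm,
        show (1 : Over.mk (O.ι ≫ pullback.fst Q.hom π ≫ Q.hom) ⟶ G) = toUnit _ ≫ 1 from (MonObj.comp_one _).symm]
      show (O.ι ≫ pullback.fst Q.hom π ≫ Q.hom) ≫ _ = O.ι ≫ (pullback.fst Q.hom π ≫ Q.hom) ≫ _
      simp only [Category.assoc]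
  · let π' : Over.mk (pullback.fst X.hom π ≫ X.hom) ⟶ X := Over.homMk (pullback.fst X.hom π)
    have : Epi π'.left := Flat.epi_of_flat_of_surjective (pullback.fst X.hom π)
    have : Epi π' := Over.epi_of_epi_left π'
    rw [← cancel_epi π', MonObj.comp_mul, MonObj.comp_mul, GrpObj.comp_inv, ← Category.assoc, ← Category.assoc,
      ← Category.assoc, toUnit_unique (π' ≫ toUnit X) (toUnit _)]
    ext1
    refine hom_ext_of_forall _ _ fun w => ?_
    obtain ⟨(i : I₀), z, hz⟩ := (sigmaOpenCover Z).exists_eq ((pullback.snd X.hom π).base w)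
    let O : (pullback X.hom π).Opens := pullback.snd X.hom π ⁻¹ᵁ (Sigma.ι Z i).opensRange
    refine ⟨O, ⟨z, hz⟩, ?_⟩
    have hr : Set.range (O.ι ≫ pullback.snd X.hom π).base ⊆ Set.range (Sigma.ι Z i).base := by
      rintro _ ⟨z, rfl⟩; exact z.2
    let y₀ := IsOpenImmersion.lift (Sigma.ι Z i) (O.ι ≫ pullback.snd X.hom π) hr
    let T := (c i.1).T
    have hY : y₀ ≫ Spec.map (CommRingCat.ofHom (algebraMap R T)) = O.ι ≫ pullback.fst X.hom π ≫ X.hom := by
      rw [show Spec.map (CommRingCat.ofHom (algebraMap R T)) = Sigma.ι Z i ≫ π from (hι i).symm,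
        IsOpenImmersion.lift_fac_assoc, Category.assoc, pullback.condition]
    let Y₀ : Over (Spec (CommRingCat.of T)) := Over.mk y₀
    let ηY : (Over.map (Spec.map (CommRingCat.ofHom (algebraMap R T)))).obj Y₀ ⟶
        Over.mk (pullback.fst X.hom π ≫ X.hom) := Over.homMk O.ι (by
      exact hY.symm)
    obtain ⟨φ, hφ, qY, t, ht⟩ := eq_gPt_of_toSpecΓ (c i.1).P (ηY ≫ π' ≫ h)
    let T' := Γ(Y₀.left, ⊤)
    letI : Algebra T T' := φ.hom.toAlgebra
    let _ : Algebra R T' := ((algebraMap T T').comp (algebraMap R T)).toAlgebra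
    have : IsScalarTower R T T' := IsScalarTower.of_algebraMap_eq fun _ => rfl
    let ρ : (Over.map (Spec.map (CommRingCat.ofHom (algebraMap R T)))).obj Y₀ ⟶ specOver (R := R) T' :=
      (Over.map _).map qY ≫ (baseIso T T').hom
    have hx : ρ ≫ gP (c i.1).P t = ηY ≫ π' ≫ h := by
      rw [ht, gP, Category.assoc, Iso.hom_inv_id_assoc]
    have hgi : ρ ≫ push (IsScalarTower.toAlgHom R T T') (g i) = ηY ≫ toUnit _ ≫ gg := by
      rw [← hgg i, push, ← Category.assoc (testMap _), ← Category.assoc ρ, ← Category.assoc ηY]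
      congr 1
      exact toUnit_unique _ _
    have hc' := congrArg (ρ ≫ ·) (conj_split (c i.1).P hJ u v h0 (c i.1).V (c i.1).hV (c i.1).h1 (hg i) t)
    simp only [MonObj.comp_mul, GrpObj.comp_inv, ← Category.assoc] at hc'
    rw [hx, hgi] at hc'
    simp only [Category.assoc] at hc'
    have := congrArg CommaMorphism.left hc'
    refine Eq.trans ?_ (this.trans ?_)
    · show O.ι ≫ ((π' ≫ h) ≫ v).left = (ηY ≫ π' ≫ h ≫ v).left
      simp only [Category.assoc]
      rfl
    · rw [← GrpObj.comp_inv, ← MonObj.comp_mul, ← MonObj.comp_mul]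
      simp only [Category.assoc]
      rfl

end Glue

end Groth.Agent.DiagRig
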