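import Groth.Agent.DiagRig.Cover
import Groth.Prelude.Def_SGA3x
import Mathlib.AlgebraicGeometry.PullbackCarrier

/-! A normal subgroup of multiplicative type of a group with connected fibres is central. -/

universe u

open CategoryTheory MonoidalCategory CartesianMonoidalCategory MonObj GrpObj AlgebraicGeometry Limits

noncomputable section

namespace Groth.Agent.DiagRig

lemma flat_specMap_field (k L : Type u) [Field k] [Field L] (φ : k →+* L) :
    Flat (Spec.map (CommRingCat.ofHom φ)) := by
  algebraize [φ]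
  exact HasRingHomProperty.Spec_iff.mpr (RingHom.flat_algebraMap_iff.mpr inferInstance)

lemma surjective_specMap_field (k L : Type u) [Field k] [Field L] (φ : k →+* L) :
    Surjective (Spec.map (CommRingCat.ofHom φ)) :=
  ⟨fun x => ⟨(default : PrimeSpectrum L), Subsingleton.elim (α := PrimeSpectrum k) _ x⟩⟩

variable {S : Scheme.{u}} {H K : Over S} [GrpObj H] [GrpObj K] (i : H ⟶ K)

/-- The point `k` commutes universally with `H`. -/
def Comm {Y : Over S} (k : Y ⟶ K) : Prop :=
  ∀ (X : Over S) (x : X ⟶ Y) (h : X ⟶ H), (x ≫ k) * (h ≫ i) = (h ≫ i) * (x ≫ k)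

/-- The tautological field point at a point of `K`. -/
def ptAt (z : K.left) : Over.mk (K.left.fromSpecResidueField z ≫ K.hom) ⟶ K :=
  Over.homMk (K.left.fromSpecResidueField z)

lemma comm_field_iff {L : Type u} [Field L] {g : Spec (CommRingCat.of L) ⟶ S} (k : Over.mk g ⟶ K) :
    Comm i k ↔ Comm i (ptAt (k.left.base (IsLocalRing.closedPoint L))) := by
  let z := k.left.base (IsLocalRing.closedPoint L)
  let φ : K.left.residueField z ⟶ CommRingCat.of L := ((Scheme.SpecToEquivOfField L K.left) k.left).2
  have hk : Spec.map φ ≫ K.left.fromSpecResidueField z = k.left :=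
    (Scheme.SpecToEquivOfField L K.left).symm_apply_apply k.left
  let a : Over.mk g ⟶ Over.mk (K.left.fromSpecResidueField z ≫ K.hom) :=
    Over.homMk (Spec.map φ) (by
      show Spec.map φ ≫ K.left.fromSpecResidueField z ≫ K.hom = g
      exact ((Category.assoc _ _ _).symm.trans (congrArg (· ≫ K.hom) hk)).trans (Over.w k))
  have ha : a ≫ ptAt z = k := by ext1; exact hk
  constructor
  · intro hc X x h
    let xl : X.left ⟶ Spec (K.left.residueField z) := x.left
    have : Flat (Spec.map φ) := flat_specMap_field _ _ φ.hom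
    have : Surjective (Spec.map φ) := surjective_specMap_field _ _ φ.hom
    let π : Over.mk (pullback.fst xl (Spec.map φ) ≫ X.hom) ⟶ X := Over.homMk (pullback.fst _ _)
    have : Flat (pullback.fst xl (Spec.map φ)) := inferInstance
    have : Surjective (pullback.fst xl (Spec.map φ)) := inferInstance
    have : Epi π.left := Flat.epi_of_flat_of_surjective (pullback.fst xl (Spec.map φ))
    have : Epi π := Over.epi_of_epi_left π
    let x' : Over.mk (pullback.fst xl (Spec.map φ) ≫ X.hom) ⟶ Over.mk g :=
      Over.homMk (pullback.snd _ _) (by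
        show pullback.snd xl (Spec.map φ) ≫ g = pullback.fst xl (Spec.map φ) ≫ X.hom
        rw [← Over.w x]
        refine Eq.trans ?_ (Category.assoc _ _ _)
        rw [show pullback.fst xl (Spec.map φ) ≫ x.left = pullback.snd _ _ ≫ Spec.map φ from pullback.condition]
        refine Eq.trans ?_ (Category.assoc _ _ _).symm
        exact (congrArg (pullback.snd xl (Spec.map φ) ≫ ·) (Over.w a)).symm)
    have hx' : x' ≫ a = π ≫ x := by ext1; exact pullback.condition.symm
    have h1 := hc _ x' (π ≫ h)
    rw [← ha, ← Category.assoc, hx'] at h1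
    rw [← cancel_epi π]
    simpa only [MonObj.comp_mul, Category.assoc] using h1
  · intro hc X x h
    have := hc X (x ≫ a) h
    rwa [Category.assoc, ha] at this

variable {i}

lemma Comm.comp {Y Y' : Over S} {k : Y ⟶ K} (hk : Comm i k) (y : Y' ⟶ Y) : Comm i (y ≫ k) := fun X x h => by
  rw [← Category.assoc]; exact hk X (x ≫ y) h

lemma comm_of_factor_field {X : Over S} {k : X ⟶ K} (hall : ∀ z : K.left, Comm i (ptAt z))
    {L : Type u} [Field L] {g : Spec (CommRingCat.of L) ⟶ S} (ψ : X ⟶ Over.mk g) (k' : Over.mk g ⟶ K)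
    (he : ψ ≫ k' = k) : Comm i k :=
  he ▸ ((comm_field_iff i k').mpr (hall _)).comp ψ

variable {R : CommRingCat.{u}} {p : Spec R ⟶ S} {M : Type} [AddCommGroup M]
  (P : SplitPts p H M) (hn : AlgGrp.IsNormalHom i) (hP : P.Inj)

/-- A field quotient point. -/
def resPt {T : Type u} [CommRing T] [Algebra R T] (q : Ideal T) [q.IsPrime] :
    (Over.map p).obj (specOver (R := R) q.ResidueField) ⟶ (Over.map p).obj (specOver (R := R) T) :=
  (Over.map p).map (testMap (IsScalarTower.toAlgHom R T q.ResidueField))

variable [IsMonHom i] [Mono i]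

include hn hP in
lemma conjEnd_trivial_at {T : Type u} [CommRing T] [Algebra R T]
    (k : (Over.map p).obj (specOver (R := R) T) ⟶ K) (q : Ideal T) [q.IsPrime]
    (hq : Comm i (resPt q ≫ k))
    (T' : Type u) [CommRing T'] [Algebra q.ResidueField T'] [Algebra T T'] [IsScalarTower T q.ResidueField T']
    (t : Multiplicative M →* T') : (conjEnd P i hn k hP).F T' t = t := by
  let _ : Algebra R T' := ((algebraMap T T').comp (algebraMap R T)).toAlgebra
  have : IsScalarTower R T T' := IsScalarTower.of_algebraMap_eq fun _ => rfl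
  have : IsScalarTower R q.ResidueField T' := IsScalarTower.of_algebraMap_eq fun r => by
    show algebraMap T T' (algebraMap R T r) = _
    rw [IsScalarTower.algebraMap_apply T q.ResidueField T', ← IsScalarTower.algebraMap_apply R T q.ResidueField]
  rw [conjEnd_eq_iff P i hn k hP]
  have e : kPt k T' = (Over.map p).map (testMap (IsScalarTower.toAlgHom R q.ResidueField T')) ≫ resPt q ≫ k := by
    rw [kPt, resPt, ← Category.assoc, ← Functor.map_comp]
    congr 2
    apply Over.OverMorphism.ext
    show Spec.map _ = Spec.map _ ≫ Spec.map _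
    rw [← Spec.map_comp, ← CommRingCat.ofHom_comp]
    exact congrArg (fun g => Spec.map (CommRingCat.ofHom g)) (IsScalarTower.algebraMap_eq T q.ResidueField T')
  rw [e]
  exact hq _ _ _

include hn hP in
lemma commutes_of_all (hall : ∀ z : K.left, Comm i (ptAt z)) {T : Type u} [CommRing T] [Algebra R T]
    (k : (Over.map p).obj (specOver (R := R) T) ⟶ K) (t : Multiplicative M →* T) :
    k * (gPt p P t ≫ i) = (gPt p P t ≫ i) * k := by
  have h := (conjEnd P i hn k hP).eq_id (fun q _ T' _ _ _ _ t' =>
    conjEnd_trivial_at P hn hP k q (comm_of_factor_field hall (𝟙 _) (resPt q ≫ k) (Category.id_comp _)) T' t') T t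
  rw [conjEnd_eq_iff P i hn k hP T t] at h
  have e : kPt k T = k := by
    rw [kPt]
    convert Category.id_comp k
    convert (Over.map p).map_id _
    apply Over.OverMorphism.ext
    show Spec.map _ = 𝟙 _
    exact (congrArg (fun g => Spec.map (CommRingCat.ofHom g)) Algebra.algebraMap_self).trans (Spec.map_id _)
  rwa [e] at h

include hn hP in
lemma comm_of_residue {T : Type u} [CommRing T] [Algebra R T]
    (k : (Over.map p).obj (specOver (R := R) T) ⟶ K) (q : Ideal T) [q.IsPrime]
    (h : ∀ (T' : Type u) [CommRing T'] [Algebra q.ResidueField T'] [Algebra T T'] [IsScalarTower T q.ResidueField T']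
      (t : Multiplicative M →* T'), (conjEnd P i hn k hP).F T' t = t) :
    Comm i (resPt q ≫ k) := by
  let L := q.ResidueField
  intro X x h₀
  let Y : Over (Spec R) := Over.mk (x.left ≫ Spec.map (CommRingCat.ofHom (algebraMap R L)))
  let e : (Over.map p).obj Y ≅ X := Over.isoMk (Iso.refl _) (by
    show 𝟙 _ ≫ X.hom = (x.left ≫ Spec.map _) ≫ p
    rw [Category.id_comp, Category.assoc]
    exact (Over.w x).symm)
  rw [← cancel_epi e.hom]
  let T' := Γ(X.left, ⊤)
  let ψ : CommRingCat.of L ⟶ T' := (Scheme.ΓSpecIso (CommRingCat.of L)).inv ≫ x.left.appTop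
  letI : Algebra L T' := ψ.hom.toAlgebra
  letI : Algebra T T' := ((algebraMap L T').comp (algebraMap T L)).toAlgebra
  letI : Algebra R T' := ((algebraMap T T').comp (algebraMap R T)).toAlgebra
  have : IsScalarTower R T T' := IsScalarTower.of_algebraMap_eq fun _ => rfl
  have : IsScalarTower T L T' := IsScalarTower.of_algebraMap_eq fun _ => rfl
  have hx : X.left.toSpecΓ ≫ Spec.map ψ = x.left := by
    show X.left.toSpecΓ ≫ Spec.map ((Scheme.ΓSpecIso (CommRingCat.of L)).inv ≫ x.left.appTop) = _
    rw [Spec.map_comp, ← Scheme.toSpecΓ_naturality_assoc]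
    exact (congrArg (x.left ≫ ·) (toSpecΓ_SpecMap_ΓSpecIso_inv _)).trans (Category.comp_id _)
  have hRT : CommRingCat.ofHom (algebraMap R T') = CommRingCat.ofHom (algebraMap R L) ≫ ψ := by
    ext r
    show algebraMap L T' (algebraMap T L (algebraMap R T r)) = algebraMap L T' (algebraMap R L r)
    rw [← IsScalarTower.algebraMap_apply R T L]
  let qY : Y ⟶ specOver (R := R) T' := Over.homMk X.left.toSpecΓ (by
    show X.left.toSpecΓ ≫ Spec.map (CommRingCat.ofHom (algebraMap R T')) = x.left ≫ _
    rw [hRT, Spec.map_comp, ← Category.assoc, hx])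
  have hk : e.hom ≫ x ≫ resPt q ≫ k = (Over.map p).map qY ≫ kPt k T' := by
    rw [kPt, resPt, ← Category.assoc ((Over.map p).map qY), ← Functor.map_comp, ← Category.assoc e.hom,
      ← Category.assoc (e.hom ≫ x)]
    congr 1
    ext1
    show (𝟙 _ ≫ x.left) ≫ Spec.map _ = X.left.toSpecΓ ≫ Spec.map _
    rw [Category.id_comp, ← hx, Category.assoc, ← Spec.map_comp]
    rfl
  obtain ⟨t₀, ht₀⟩ := P.σ_surjective (e.hom ≫ h₀)
  let t : Multiplicative M →* T' := t₀
  have hh : e.hom ≫ h₀ = (Over.map p).map qY ≫ gPt p P t := by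
    rw [gPt, P.σ_comp, ← ht₀]
    congr 1
    ext m
    show t₀ m = (X.left.toSpecΓ.appTop) ((Scheme.ΓSpecIso T').inv (t₀ m))
    rw [Scheme.toSpecΓ_appTop]
    exact (congr($((Scheme.ΓSpecIso T').inv_hom_id) (t₀ m))).symm
  simp only [MonObj.comp_mul, hk]
  rw [← Category.assoc e.hom h₀ i, hh, Category.assoc, ← MonObj.comp_mul, ← MonObj.comp_mul]
  exact congrArg (_ ≫ ·) ((conjEnd_eq_iff P i hn k hP T' t).mp (h T' t))

include hn hP in
lemma isClopen_comm_affine (hfg : AddGroup.FG M) {T : Type u} [CommRing T] [Algebra R T]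
    (k : (Over.map p).obj (specOver (R := R) T) ⟶ K) :
    IsClopen {q : PrimeSpectrum T | Comm i (ptAt (k.left.base q))} := by
  classical
  let E := conjEnd P i hn k hP
  obtain ⟨Sg, hSg⟩ := (AddGroup.fg_iff_mul_fg.mp hfg).out
  let F := fun m : Multiplicative M => PrimeSpectrum.basicOpen (E.c m m)
  have heq : {q : PrimeSpectrum T | Comm i (ptAt (k.left.base q))} = ⋂ m ∈ Sg, (F m : Set (PrimeSpectrum T)) := by
    ext q
    have hpt : (resPt (p := p) q.asIdeal ≫ k).left.base (IsLocalRing.closedPoint q.asIdeal.ResidueField) = k.left.base q := by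
      show k.left.base ((Spec.map (CommRingCat.ofHom (algebraMap T q.asIdeal.ResidueField))).base _) = _
      congr 1
      apply PrimeSpectrum.ext
      show Ideal.comap (algebraMap T q.asIdeal.ResidueField) (IsLocalRing.maximalIdeal _) = _
      rw [IsLocalRing.maximalIdeal_eq_bot, ← RingHom.ker_eq_comap_bot, Ideal.ker_algebraMap_residueField]
    have hiff : Comm i (ptAt (k.left.base q)) ↔ Comm i (resPt (p := p) q.asIdeal ≫ k) := by
      rw [← hpt]
      exact (comm_field_iff (g := Spec.map _ ≫ p) i (resPt q.asIdeal ≫ k)).symm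
    simp only [Set.mem_iInter, Set.mem_setOf_eq, hiff]
    let L := q.asIdeal.ResidueField
    constructor
    · intro hc m _ hmem
      have h1 := DFunLike.congr_fun (conjEnd_trivial_at P hn hP k q.asIdeal hc (MonoidAlgebra L (Multiplicative M))
        (MonoidAlgebra.of L (Multiplicative M))) m
      rw [E.F_apply] at h1
      have hl : MonoidAlgebra.lift T (MonoidAlgebra L (Multiplicative M)) (Multiplicative M)
          (MonoidAlgebra.of L (Multiplicative M)) =
          MonoidAlgebra.mapAlgHom (M := Multiplicative M) (IsScalarTower.toAlgHom T T L) := by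
        apply MonoidAlgebra.algHom_ext
        · intro x; simp
        · exact Subsingleton.elim _ _
      rw [hl] at h1
      have h2 := congrArg (fun z : MonoidAlgebra L (Multiplicative M) => z.coeff m) h1
      simp at h2
      exact one_ne_zero (h2.symm.trans (Ideal.algebraMap_residueField_eq_zero.mpr hmem))
    · intro hm
      refine comm_of_residue P hn hP k q.asIdeal fun T' _ _ _ _ t => ?_
      have hgen : ∀ m ∈ Sg, E.F T' t m = t m := by
        intro m hmS
        rw [E.F_apply]
        have hl : MonoidAlgebra.lift T T' (Multiplicative M) t =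
            ((MonoidAlgebra.lift L T' (Multiplicative M) t).restrictScalars T).comp
              (MonoidAlgebra.mapAlgHom (M := Multiplicative M) (IsScalarTower.toAlgHom T T L)) := by
          apply MonoidAlgebra.algHom_ext
          · intro x; simp
          · exact Subsingleton.elim _ _
        have hu : MonoidAlgebra.mapAlgHom (M := Multiplicative M) (IsScalarTower.toAlgHom T T L)
            (E.F (MonoidAlgebra T (Multiplicative M)) (MonoidAlgebra.of T (Multiplicative M)) m) =
            MonoidAlgebra.single m (1 : L) := by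
          ext n
          have hne : algebraMap T L (E.c m m) ≠ 0 := fun e =>
            hm m hmS (Ideal.algebraMap_residueField_eq_zero.mp e)
          have hmul := congrArg (algebraMap T L) (E.c_mul_c m n m)
          by_cases hnm : n = m
          · subst hnm
            simp only [if_true, map_mul, mul_eq_right₀ hne] at hmul
            simpa [CharEnd.c] using hmul
          · simp only [if_neg hnm, map_mul, map_zero, mul_eq_zero, or_iff_left hne] at hmul
            simpa [CharEnd.c, Finsupp.single_apply, Ne.symm hnm] using hmul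
        rw [hl, AlgHom.comp_apply, hu]
        simp
      have hu : (E.F T' t).toHomUnits = t.toHomUnits :=
        MonoidHom.eq_of_eqOn_dense hSg fun m hmS => Units.ext (hgen m hmS)
      ext m
      exact congrArg Units.val (DFunLike.congr_fun hu m)
  rw [heq]
  refine ⟨isClosed_biInter fun m hm => ?_, isOpen_biInter_finset fun m _ => (F m).isOpen⟩
  refine (PrimeSpectrum.isClopen_iff.mpr ⟨E.c m m, ?_, rfl⟩).1
  show _ * _ = _
  simpa using E.c_mul_c m m m

/-- The points commuting with `H` form a clopen set of every fibre. -/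
lemma isClopen_comm_open {W : Scheme.{u}} (w₀ : W ⟶ K.left) (g : W ⟶ Spec R) (hg : g ≫ p = w₀ ≫ K.hom)
    (hfg : AddGroup.FG M) (hn : AlgGrp.IsNormalHom i) (hP : P.Inj) :
    IsClopen {w : W | Comm i (ptAt (w₀.base w))} := by
  have key : ∀ w : W, ∃ (U : Set W), IsOpen U ∧ w ∈ U ∧ IsOpen (U ∩ {w | Comm i (ptAt (w₀.base w))}) ∧
      IsOpen (U ∩ {w | ¬ Comm i (ptAt (w₀.base w))}) := by
    intro w
    obtain ⟨O, hO, hw, -⟩ := exists_isAffineOpen_mem_and_subset (X := W) (x := w) (U := ⊤) trivial
    let T := Γ(W, O)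
    let φ : R ⟶ T := Spec.preimage (hO.fromSpec ≫ g)
    letI : Algebra R T := φ.hom.toAlgebra
    let k : (Over.map p).obj (specOver (R := R) T) ⟶ K := Over.homMk (hO.fromSpec ≫ w₀) (by
      show (hO.fromSpec ≫ w₀) ≫ K.hom = Spec.map φ ≫ p
      rw [Spec.map_preimage, Category.assoc, Category.assoc, hg])
    have hc := isClopen_comm_affine P hn hP hfg k
    refine ⟨O, O.isOpen, hw, ?_, ?_⟩
    · convert hO.fromSpec.isOpenEmbedding.isOpenMap _ hc.2 using 1
      ext x
      constructor
      · rintro ⟨hx, hx'⟩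
        obtain ⟨y, rfl⟩ := hO.range_fromSpec.ge hx
        exact ⟨y, hx', rfl⟩
      · rintro ⟨y, hy, rfl⟩
        exact ⟨hO.range_fromSpec.le ⟨y, rfl⟩, hy⟩
    · convert hO.fromSpec.isOpenEmbedding.isOpenMap _ hc.1.isOpen_compl using 1
      ext x
      constructor
      · rintro ⟨hx, hx'⟩
        obtain ⟨y, rfl⟩ := hO.range_fromSpec.ge hx
        exact ⟨y, hx', rfl⟩
      · rintro ⟨y, hy, rfl⟩
        exact ⟨hO.range_fromSpec.le ⟨y, rfl⟩, hy⟩
  constructor
  · refine isOpen_compl_iff.mp (isOpen_iff_forall_mem_open.mpr fun w hw => ?_)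
    obtain ⟨U, -, hwU, -, hU⟩ := key w
    exact ⟨_, Set.inter_subset_right, hU, hwU, hw⟩
  · refine isOpen_iff_forall_mem_open.mpr fun w hw => ?_
    obtain ⟨U, -, hwU, hU, -⟩ := key w
    exact ⟨_, Set.inter_subset_right, hU, hwU, hw⟩

omit [IsMonHom i] [Mono i] in
lemma comm_one {Y : Over S} : Comm i (1 : Y ⟶ K) := fun X x h => by simp

theorem comm_all {S' : Scheme.{u}} (f : S' ⟶ S) [Surjective f]
    (hsplit : ∀ s' : S', ∃ V : S'.Opens, s' ∈ V ∧ ∃ (M : Type) (_ : AddCommGroup M),
      AddGroup.FG M ∧ ∃ P : SplitPts (V.ι ≫ f) H M, P.Inj)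
    (hconn : ∀ s : S, ConnectedSpace ↥(pullback K.hom (S.fromSpecResidueField s)))
    (hn : AlgGrp.IsNormalHom i) (z : K.left) : Comm i (ptAt z) := by
  obtain ⟨s', hs'⟩ := f.surjective (K.hom.base z)
  obtain ⟨V, hV, M, _, hfg, P, hP⟩ := hsplit s'
  let v : V.toScheme := ⟨s', hV⟩
  let L := V.toScheme.residueField v
  let j : Spec L ⟶ V.toScheme := V.toScheme.fromSpecResidueField v
  let g : Spec L ⟶ S := j ≫ V.ι ≫ f
  let s := g.base (IsLocalRing.closedPoint L)
  have hs : K.hom.base z = s := by
    show _ = f.base (V.ι.base (j.base _))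
    exact hs'.symm.trans (congrArg (fun y => f.base (V.ι.base y)) (Scheme.fromSpecResidueField_apply v _).symm)
  let φ : S.residueField s ⟶ CommRingCat.of L := ((Scheme.SpecToEquivOfField L S) g).2
  have hφ : Spec.map φ ≫ S.fromSpecResidueField s = g :=
    (Scheme.SpecToEquivOfField L S).symm_apply_apply g
  let Ks := pullback K.hom (S.fromSpecResidueField s)
  let KL := pullback (pullback.snd K.hom (S.fromSpecResidueField s)) (Spec.map φ)
  let π : KL ⟶ Ks := pullback.fst _ _
  have : Flat (Spec.map φ) := flat_specMap_field _ _ φ.hom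
  have : Surjective (Spec.map φ) := surjective_specMap_field _ _ φ.hom
  have hπ : Topology.IsQuotientMap π.base := Flat.isQuotientMap_of_surjective π
  let Zs : Set Ks := {w | Comm i (ptAt ((pullback.fst K.hom (S.fromSpecResidueField s)).base w))}
  have hL : IsClopen (π.base ⁻¹' Zs) :=
    isClopen_comm_open (p := g) (P.restrict j) (π ≫ pullback.fst _ _) (pullback.snd _ _) (by
      rw [← hφ, ← Category.assoc, ← pullback.condition, Category.assoc, Category.assoc]
      exact congrArg (π ≫ ·) pullback.condition.symm) hfg hn (hP.restrict j)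
  have hZ : IsClopen Zs := ⟨hπ.isClosed_preimage.mp hL.1, hπ.isOpen_preimage.mp hL.2⟩
  let e : Over.mk (S.fromSpecResidueField s) ⟶ K := 1
  let es : Spec (S.residueField s) ⟶ Ks := pullback.lift e.left (𝟙 _) (by
    rw [Category.id_comp]; exact Over.w e)
  have he : es.base (IsLocalRing.closedPoint (S.residueField s)) ∈ Zs := by
    show Comm i (ptAt ((es ≫ pullback.fst _ _).base _))
    rw [pullback.lift_fst]
    exact (comm_field_iff i e).mp comm_one
  have huniv : Zs = Set.univ := by
    have := hconn s
    exact (isClopen_iff.mp hZ).resolve_left (fun h => (Set.eq_empty_iff_forall_notMem.mp h) _ he)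
  obtain ⟨w, hw, -⟩ := Scheme.Pullback.exists_preimage_pullback (f := K.hom) (g := S.fromSpecResidueField s)
    z (IsLocalRing.closedPoint (S.residueField s)) (hs.trans (Scheme.fromSpecResidueField_apply s _).symm)
  exact hw ▸ (huniv.ge (Set.mem_univ w) : w ∈ Zs)

/-- A normal subgroup of multiplicative type of a group with connected fibres is central. -/
theorem central {S' : Scheme.{u}} (f : S' ⟶ S) [Flat f] [Surjective f]
    (hsplit : ∀ s' : S', ∃ V : S'.Opens, s' ∈ V ∧ ∃ (M : Type) (_ : AddCommGroup M),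
      AddGroup.FG M ∧ ∃ P : SplitPts (V.ι ≫ f) H M, P.Inj)
    (hconn : ∀ s : S, ConnectedSpace ↥(pullback K.hom (S.fromSpecResidueField s)))
    (hn : AlgGrp.IsNormalHom i) (X : Over S) (k : X ⟶ K) (h : X ⟶ H) :
    k * (h ≫ i) = (h ≫ i) * k := by
  refine eq_of_split_points f (fun s' => ?_) h _ _ fun R p M _ P hP T _ _ t ρ hρ => ?_
  · obtain ⟨V, hV, M, _, -, P, hP⟩ := hsplit s'
    exact ⟨V, hV, M, inferInstance, P, hP⟩
  · rw [MonObj.comp_mul, MonObj.comp_mul, ← Category.assoc, ← hρ]
    exact commutes_of_all P hn hP (comm_all f hsplit hconn hn) (ρ ≫ k) t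

end Groth.Agent.DiagRig
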