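import Groth.Agent.DiagRig.HomDual
import Groth.Prelude.Def_TwC

/-! Characters of a group which is constant over a chart. -/

universe u

open CategoryTheory MonoidalCategory CartesianMonoidalCategory MonObj GrpObj AlgebraicGeometry Limits
open Groth.Agent.RedPts

noncomputable section

namespace Groth.Agent.DiagRig.ConstDual

set_option backward.isDefEq.respectTransparency.types false

variable {S : Scheme.{u}} (R : Over S) [GrpObj R]

/-- A chart over which `R` is the constant group on `A`. -/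
structure CChart where
  U : Scheme.{u}
  q : U ⟶ S
  A : Type
  [addA : AddCommGroup A]
  sec : Multiplicative A → (Over.mk q ⟶ R)
  sec_mul : ∀ m n, sec (m * n) = sec m * sec n
  openImm : ∀ m, IsOpenImmersion (lift (sec m) (𝟙 (Over.mk q))).left
  disj : ∀ m n, ∀ x y : U, (lift (sec m) (𝟙 (Over.mk q))).left x = (lift (sec n) (𝟙 (Over.mk q))).left y → m = n
  cover : ∀ z : (R ⊗ Over.mk q).left, ∃ m, z ∈ Set.range (lift (sec m) (𝟙 (Over.mk q))).left

attribute [instance] CChart.addA

variable {R} (c : CChart R) {T : Over S} (t : T ⟶ Over.mk c.q)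

/-- The copy of `T` of index `m` inside `R ⊗ T`. -/
def copy (m : Multiplicative c.A) : T ⟶ R ⊗ T :=
  lift (t ≫ c.sec m) (𝟙 T)

lemma isPullback_copy (m : Multiplicative c.A) :
    IsPullback (copy c t m) t (R ◁ t) (lift (c.sec m) (𝟙 (Over.mk c.q))) := by
  refine IsPullback.of_isLimit' ⟨?_⟩ (PullbackCone.IsLimit.mk _ (fun z => z.fst ≫ snd R T) (fun z => ?_) (fun z => ?_)
    (fun z l h₁ _ => ?_))
  · rw [copy, lift_whiskerLeft, comp_lift, Category.comp_id, Category.id_comp]
  · have h1 := congrArg (· ≫ fst R (Over.mk c.q)) z.condition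
    have h2 := congrArg (· ≫ snd R (Over.mk c.q)) z.condition
    simp only [Category.assoc, whiskerLeft_fst, lift_fst, whiskerLeft_snd, lift_snd] at h1 h2
    rw [Category.comp_id] at h2
    rw [copy, comp_lift, Category.comp_id]
    refine CartesianMonoidalCategory.hom_ext _ _ ?_ ?_
    · rw [lift_fst, Category.assoc, reassoc_of% h2, ← h1]
    · rw [lift_snd]
  · have h2 := congrArg (· ≫ snd R (Over.mk c.q)) z.condition
    simp only [Category.assoc, whiskerLeft_snd, lift_snd] at h2
    rw [Category.comp_id] at h2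
    rw [Category.assoc]
    exact h2
  · rw [← h₁, Category.assoc, copy, lift_snd, Category.comp_id]

lemma isPullback_copy_left (m : Multiplicative c.A) :
    IsPullback (copy c t m).left t.left (R ◁ t).left (lift (c.sec m) (𝟙 (Over.mk c.q))).left :=
  (isPullback_copy c t m).map (Over.forget S)

lemma openImm_copy (m : Multiplicative c.A) : IsOpenImmersion (copy c t m).left :=
  MorphismProperty.of_isPullback (isPullback_copy_left c t m).flip (c.openImm m)

lemma disj_copy (m n : Multiplicative c.A) (x y : T.left) (h : (copy c t m).left x = (copy c t n).left y) : m = n := by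
  refine c.disj m n (t.left x) (t.left y) ?_
  rw [← Scheme.Hom.comp_apply, ← Scheme.Hom.comp_apply, ← (isPullback_copy_left c t m).w,
    ← (isPullback_copy_left c t n).w, Scheme.Hom.comp_apply, Scheme.Hom.comp_apply, h]

lemma cover_copy (z : (R ⊗ T).left) : ∃ m, z ∈ Set.range (copy c t m).left := by
  obtain ⟨m, y, hy⟩ := c.cover ((R ◁ t).left z)
  obtain ⟨x, hx, -⟩ := Scheme.exists_preimage_of_isPullback (isPullback_copy_left c t m) z y hy.symm
  exact ⟨m, x, hx⟩

/-- The copies form a coproduct decomposition. -/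
def decomp : (∐ fun _ : Multiplicative c.A => T.left) ⟶ (R ⊗ T).left :=
  Sigma.desc fun m => (copy c t m).left

lemma isIso_decomp : IsIso (decomp c t) := by
  have := fun m => openImm_copy c t m
  have : IsOpenImmersion (decomp c t) := isOpenImmersion_sigmaDesc _ _ fun m n hmn => by
    refine Set.disjoint_iff_forall_ne.mpr ?_
    rintro _ ⟨x, rfl⟩ _ ⟨y, rfl⟩ h
    exact hmn (disj_copy c t m n x y h)
  refine isIso_of_isOpenImmersion_of_opensRange_eq_top _ (eq_top_iff.mpr fun z _ => ?_)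
  obtain ⟨m, x, hx⟩ := cover_copy c t z
  refine ⟨(Sigma.ι (fun _ : Multiplicative c.A => T.left) m) x, ?_⟩
  rw [← Scheme.Hom.comp_apply, decomp, Sigma.ι_desc]
  exact hx

/-- Maps out of `R ⊗ T` are determined on the copies. -/
lemma hom_ext_copy {Z : Over S} {φ ψ : R ⊗ T ⟶ Z} (h : ∀ m, copy c t m ≫ φ = copy c t m ≫ ψ) : φ = ψ := by
  have := isIso_decomp c t
  refine Over.OverMorphism.ext ((cancel_epi (decomp c t)).1 (Sigma.hom_ext _ _ fun m => ?_))
  rw [decomp, Sigma.ι_desc_assoc, Sigma.ι_desc_assoc]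
  exact congrArg CommaMorphism.left (h m)

lemma exists_glue {Z : Over S} (f : Multiplicative c.A → (T ⟶ Z)) :
    ∃ φ : R ⊗ T ⟶ Z, ∀ m, copy c t m ≫ φ = f m := by
  have := isIso_decomp c t
  let g : (∐ fun _ : Multiplicative c.A => T.left) ⟶ Z.left := Sigma.desc fun m => (f m).left
  have hw : (inv (decomp c t) ≫ g) ≫ Z.hom = (R ⊗ T).hom := by
    rw [Category.assoc, IsIso.inv_comp_eq]
    refine Sigma.hom_ext _ _ fun m => ?_
    simp only [g, decomp, Sigma.ι_desc_assoc]
    exact (Over.w (f m)).trans (Over.w (copy c t m)).symm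
  refine ⟨Over.homMk (inv (decomp c t) ≫ g) hw, fun m => Over.OverMorphism.ext ?_⟩
  show (copy c t m).left ≫ inv (decomp c t) ≫ g = (f m).left
  have e : Sigma.ι (fun _ : Multiplicative c.A => T.left) m ≫ decomp c t = (copy c t m).left := Sigma.ι_desc _ _
  rw [← e, Category.assoc, IsIso.hom_inv_id_assoc]
  exact Sigma.ι_desc _ _

lemma comp_copy {T' : Over S} (k : T' ⟶ T) (m : Multiplicative c.A) :
    copy c (k ≫ t) m ≫ (R ◁ k) = k ≫ copy c t m := by
  simp [copy]

lemma lift_eq_copy {X : Over S} (r : X ⟶ T) (m : Multiplicative c.A) :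
    lift (r ≫ t ≫ c.sec m) r = r ≫ copy c t m := by
  simp [copy]

/-- The point of the multiplicative group attached to a unit. -/
def gmPt {T : Over S} (u : (Γ(T.left, ⊤))ˣ) : T ⟶ Red.Gm S :=
  dPt (U := S) (Y := T) ((Units.coeHom _).comp (zpowersHom _ u))

lemma dFn_gmPt {T : Over S} (u : (Γ(T.left, ⊤))ˣ) : dFn (gmPt u) (1 : ℤ) = (u : Γ(T.left, ⊤)) := by
  rw [gmPt, dFn_dPt]
  simp

lemma gm_ext {T : Over S} {a b : T ⟶ Red.Gm S} (h : dFn a (1 : ℤ) = dFn b (1 : ℤ)) : a = b := by
  obtain ⟨s, rfl⟩ := exists_dPt (U := S) a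
  obtain ⟨s', rfl⟩ := exists_dPt (U := S) b
  rw [dFn_dPt, dFn_dPt] at h
  congr 1
  exact MonoidHom.ext_mint h

/-- The character family with given values on the copies. -/
theorem exists_fam (χ : Multiplicative c.A →* Γ(T.left, ⊤)) :
    ∃ φ : R ⊗ T ⟶ Red.Gm S, AutFam.IsHomFamily R (Red.Gm S) φ ∧
      ∀ m, dFn (copy c t m ≫ φ) (1 : ℤ) = χ m := by
  obtain ⟨φ, hφ⟩ := exists_glue c t (fun m => gmPt (χ.toHomUnits m))
  have hval : ∀ m, dFn (copy c t m ≫ φ) (1 : ℤ) = χ m := fun m => by
    rw [hφ, dFn_gmPt, MonoidHom.coe_toHomUnits]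
  refine ⟨φ, ?_, hval⟩
  intro X g₁ g₂ r
  have loc : ∀ x : X.left, ∃ (W : Over S) (j : W ⟶ X) (m n : Multiplicative c.A), IsOpenImmersion j.left ∧
      x ∈ Set.range j.left ∧ lift (j ≫ g₁) (j ≫ r) = (j ≫ r) ≫ copy c t m ∧
      lift (j ≫ g₂) (j ≫ r) = (j ≫ r) ≫ copy c t n := by
    intro x
    obtain ⟨m, hm⟩ := cover_copy c t ((lift g₁ r).left x)
    obtain ⟨n, hn⟩ := cover_copy c t ((lift g₂ r).left x)
    have hom := openImm_copy c t m
    have hon := openImm_copy c t n
    let W₀ : X.left.Opens := (lift g₁ r).left ⁻¹ᵁ (copy c t m).left.opensRange ⊓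
      (lift g₂ r).left ⁻¹ᵁ (copy c t n).left.opensRange
    let W : Over S := Over.mk (W₀.ι ≫ X.hom)
    let j : W ⟶ X := Over.homMk W₀.ι rfl
    have key : ∀ (g : X ⟶ R) (k : Multiplicative c.A),
        Set.range (j ≫ lift g r).left ⊆ Set.range (copy c t k).left →
        lift (j ≫ g) (j ≫ r) = (j ≫ r) ≫ copy c t k := by
      intro g k hk
      have := openImm_copy c t k
      let l : W ⟶ T := Over.homMk (IsOpenImmersion.lift (copy c t k).left (j ≫ lift g r).left hk) (by
        rw [← Over.w (copy c t k), IsOpenImmersion.lift_fac_assoc, Over.w])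
      have hl : l ≫ copy c t k = j ≫ lift g r := Over.OverMorphism.ext (IsOpenImmersion.lift_fac _ _ _)
      have hl2 : l = j ≫ r := by
        have := congrArg (· ≫ snd R T) hl
        simpa [copy] using this
      rw [← hl2, hl, comp_lift, hl2]
    refine ⟨W, j, m, n, inferInstanceAs (IsOpenImmersion W₀.ι), ⟨⟨x, hm, hn⟩, rfl⟩, key g₁ m ?_, key g₂ n ?_⟩
    · rintro _ ⟨w, rfl⟩; exact w.2.1
    · rintro _ ⟨w, rfl⟩; exact w.2.2
  choose W j m n hj hx h₁ h₂ using loc
  have he : ∀ x, j x ≫ lift (g₁ * g₂) r ≫ φ = j x ≫ ((lift g₁ r ≫ φ) * (lift g₂ r ≫ φ)) := by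
    intro x
    have em : ∀ g k, lift (j x ≫ g) (j x ≫ r) = (j x ≫ r) ≫ copy c t k →
        j x ≫ g = ((j x ≫ r) ≫ t) ≫ c.sec k := fun g k h => by
      have := congrArg (· ≫ fst R T) h
      simpa [copy] using this
    have h₃ : lift (j x ≫ (g₁ * g₂)) (j x ≫ r) = (j x ≫ r) ≫ copy c t (m x * n x) := by
      rw [MonObj.comp_mul, em _ _ (h₁ x), em _ _ (h₂ x), ← MonObj.comp_mul, ← c.sec_mul, Category.assoc,
        lift_eq_copy]
    rw [MonObj.comp_mul, comp_lift_assoc, comp_lift_assoc, comp_lift_assoc, h₁, h₂, h₃]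
    simp only [Category.assoc]
    rw [← MonObj.comp_mul, ← MonObj.comp_mul]
    congr 2
    refine gm_ext ?_
    rw [hval, d_mul, hval, hval, map_mul]
  refine Over.OverMorphism.ext (Scheme.Cover.hom_ext
    (Scheme.Cover.mkOfCovers (P := @IsOpenImmersion) (X.left : Type u) (fun x => (W x).left) (fun x => (j x).left)
      (fun x => ⟨x, hx x⟩) hj) _ _ fun x => congrArg CommaMorphism.left (he x))

/-- The values of a character family on the copies form a character. -/
theorem exists_char {φ : R ⊗ T ⟶ Red.Gm S} (hφ : AutFam.IsHomFamily R (Red.Gm S) φ) :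
    ∃ χ : Multiplicative c.A →* Γ(T.left, ⊤), ∀ m, dFn (copy c t m ≫ φ) (1 : ℤ) = χ m := by
  have hmul : ∀ a b, copy c t (a * b) ≫ φ = (copy c t a ≫ φ) * (copy c t b ≫ φ) := fun a b => by
    rw [copy, copy, copy, c.sec_mul, MonObj.comp_mul]
    exact hφ T _ _ _
  refine ⟨{ toFun := fun m => dFn (copy c t m ≫ φ) (1 : ℤ), map_one' := ?_, map_mul' := fun a b => ?_ },
    fun m => rfl⟩
  · have h := hmul 1 1
    rw [_root_.one_mul] at h
    have h' := congrArg (fun z => dFn z (1 : ℤ)) h
    simp only [d_mul] at h'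
    exact (d_isUnit _ _).mul_eq_left.mp h'.symm
  · rw [hmul, d_mul]

end Groth.Agent.DiagRig.ConstDual
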