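import Groth.Agent.DiagRig.ConstDualRep

/-! The dual of a twisted constant commutative group is of multiplicative type. -/

universe u

open CategoryTheory MonoidalCategory CartesianMonoidalCategory MonObj GrpObj AlgebraicGeometry Limits
open Groth.Agent.RedPts

noncomputable section

namespace Groth.Agent.DiagRig.ConstDual

set_option backward.isDefEq.respectTransparency.types false

variable {S : Scheme.{u}} {R : Over S} [GrpObj R]

lemma pt_ext {D : Over S} {υ : R ⊗ D ⟶ Red.Gm S} (hυ : AutFam.RepresentsHom R (Red.Gm S) D υ) (c : CChart R)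
    {T : Over S} (t : T ⟶ Over.mk c.q) {a b : T ⟶ D}
    (h : ∀ m, dFn (copy c t m ≫ (R ◁ a) ≫ υ) (1 : ℤ) = dFn (copy c t m ≫ (R ◁ b) ≫ υ) (1 : ℤ)) : a = b :=
  (hυ.2 T _ (HomSheaf.isHomFamily_whisker R (Red.Gm S) a hυ.1)).unique rfl
    (hom_ext_copy c t fun m => gm_ext (h m)).symm

lemma exists_pt {D : Over S} {υ : R ⊗ D ⟶ Red.Gm S} (hυ : AutFam.RepresentsHom R (Red.Gm S) D υ) (c : CChart R)
    {T : Over S} (t : T ⟶ Over.mk c.q) (χ : Multiplicative c.A →* Γ(T.left, ⊤)) :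
    ∃ a : T ⟶ D, ∀ m, dFn (copy c t m ≫ (R ◁ a) ≫ υ) (1 : ℤ) = χ m := by
  obtain ⟨φ, hφ, hval⟩ := exists_fam c t χ
  obtain ⟨a, ha, -⟩ := hυ.2 T φ hφ
  exact ⟨a, fun m => by rw [ha]; exact hval m⟩

/-- The structure map of a scheme over the chart. -/
abbrev strOver (c : CChart R) (Y : Over c.U) : (Over.map c.q).obj Y ⟶ Over.mk c.q :=
  Over.homMk Y.hom rfl

/-- The scheme of characters is diagonalisable over a chart. -/
theorem exists_grpIso {D : Over S} [GrpObj D] {υ : R ⊗ D ⟶ Red.Gm S} (hυ : AutFam.RepresentsHom R (Red.Gm S) D υ)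
    (hmul : ∀ (T : Over S) (a b : T ⟶ D), (R ◁ (a * b)) ≫ υ = ((R ◁ a) ≫ υ) * ((R ◁ b) ≫ υ)) (c : CChart R) :
    Nonempty (Grp.mk (Red.bc c.q D) ≅ Grp.mk (Red.DS c.U c.A)) := by
  have key : ∀ (Y : Over c.U) (χ : Multiplicative c.A →* Γ(Y.left, ⊤)),
      ∃ a : (Over.map c.q).obj Y ⟶ D, ∀ m, dFn (copy c (strOver c Y) m ≫ (R ◁ a) ≫ υ) (1 : ℤ) = χ m := fun Y χ =>
    exists_pt hυ c (strOver c Y) χ
  choose σ hσ using key
  let P : SplitPts c.q D c.A :=
    { σ := fun {Y} χ => σ Y χ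
      σ_mul := fun {Y} s t => pt_ext hυ c (strOver c Y) fun m => by
        rw [hσ, hmul, MonObj.comp_mul, d_mul, hσ, hσ]
        rfl
      σ_comp := fun {Y Y'} h χ => pt_ext hυ c (strOver c Y') fun m => by
        have e : strOver c Y' = (Over.map c.q).map h ≫ strOver c Y := Over.OverMorphism.ext (Over.w h).symm
        rw [hσ, MonoidalCategory.whiskerLeft_comp, Category.assoc, e, ← Category.assoc (copy c _ m), comp_copy,
          Category.assoc, d_comp, hσ]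
        rfl
      σ_surjective := fun {Y} g => by
        obtain ⟨χ, hχ⟩ := exists_char c (strOver c Y) (HomSheaf.isHomFamily_whisker R (Red.Gm S) g hυ.1)
        exact ⟨χ, pt_ext hυ c (strOver c Y) fun m => (hσ Y χ m).trans (hχ m).symm⟩ }
  refine exists_grpIso_of_splitPts P fun {Y} s t h => MonoidHom.ext fun m => ?_
  rw [← hσ Y s m, ← hσ Y t m]
  exact congrArg (fun a => dFn (copy c (strOver c Y) m ≫ (R ◁ a) ≫ υ) (1 : ℤ)) h

/-- The dual of a twisted constant commutative group is representable by a group of multiplicative type. -/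
theorem exists_dual_multType
    (hR : TwC.Locally S TwC.Topology.fpqc (fun S' f => ∃ (M : Type) (_ : Group M) (e : Red.bc f R ≅ TwC.const S' M),
      TwC.IsConstGrp M (Red.bc f R) e))
    (hcomm : ∀ (X : Over S) (a b : X ⟶ R), a * b = b * a) :
    ∃ (D : Over S) (_ : GrpObj D) (υ : R ⊗ D ⟶ Red.Gm S), AutFam.RepresentsHom R (Red.Gm S) D υ ∧
      (∀ (X : Over S) (r : X ⟶ R) (a b : X ⟶ D), lift r (a * b) ≫ υ = (lift r a ≫ υ) * (lift r b ≫ υ)) ∧
      TwC.Locally S TwC.Topology.fpqc (fun S' f => ∃ (M : Type) (_ : AddCommGroup M),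
        Nonempty (Grp.mk (Red.bc f D) ≅ Grp.mk (Red.DS S' M))) := by
  obtain ⟨S', f, hflat, hsurj, hqc, hloc⟩ := hR
  choose U hU hpiece using hloc
  have hc : ∀ s', ∃ c : CChart R, ∃ h : (U s' : Scheme.{u}) ⟶ c.U, h ≫ c.q = (U s').ι ≫ f := by
    intro s'
    obtain ⟨M, _, e, he⟩ := hpiece s'
    have : Nonempty (U s' : Scheme.{u}) := ⟨⟨s', hU s'⟩⟩
    obtain ⟨c, h, -, hh⟩ := exists_cchart _ e he hcomm
    exact ⟨c, h, hh⟩
  choose c₀ h₀ hh₀ using hc
  let c : S' → CChart R := fun s' => (c₀ s').restrict ((U s').ι ≫ f) (Over.homMk (h₀ s') (hh₀ s'))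
  have hrep : ∀ V : S.Opens, IsAffineOpen V → ∃ (κ : Type u) (_ : Finite κ) (cc : κ → CChart R)
      (p : ∀ k, (cc k).U ⟶ (V : Scheme.{u})), (∀ k, IsAffine (cc k).U) ∧ (∀ k, p k ≫ V.ι = (cc k).q) ∧
        (∀ k, Flat (p k)) ∧ ∀ z, ∃ k, z ∈ Set.range (p k) := by
    intro V hV
    obtain ⟨W, hWc, hW⟩ := hqc V hV
    have : ∀ w : (W : Set S'), ∃ A : S'.Opens, IsAffineOpen A ∧ w.1 ∈ A ∧ A ≤ W ⊓ U w.1 := fun w =>
      exists_isAffineOpen_mem_and_subset (show w.1 ∈ W ⊓ U w.1 from ⟨w.2, hU w.1⟩)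
    choose A hA hwA hAW using this
    obtain ⟨F, hF⟩ := hWc.elim_finite_subcover (fun w => (A w : Set S')) (fun w => (A w).2)
      fun x hx => Set.mem_iUnion.mpr ⟨⟨x, hx⟩, hwA ⟨x, hx⟩⟩
    let t : ∀ k : F, Over.mk ((A k.1).ι ≫ f) ⟶ Over.mk (c k.1.1).q := fun k =>
      Over.homMk (S'.homOfLE ((hAW k.1).trans inf_le_right)) (by
        show S'.homOfLE _ ≫ (U k.1.1).ι ≫ f = (A k.1).ι ≫ f
        rw [Scheme.homOfLE_ι_assoc])
    let cc : F → CChart R := fun k => (c k.1.1).restrict ((A k.1).ι ≫ f) (t k)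
    have hr : ∀ k : F, Set.range ((A k.1).ι ≫ f) ⊆ Set.range V.ι := fun k => by
      rw [Scheme.Opens.range_ι, ← hW]
      rintro _ ⟨y, rfl⟩
      exact ⟨_, (hAW k.1 y.2).1, rfl⟩
    let p : ∀ k : F, (cc k).U ⟶ (V : Scheme.{u}) := fun k => IsOpenImmersion.lift V.ι ((A k.1).ι ≫ f) (hr k)
    have hp : ∀ k, p k ≫ V.ι = (A k.1).ι ≫ f := fun k => IsOpenImmersion.lift_fac _ _ _
    refine ⟨F, inferInstance, cc, p, fun k => hA k.1, hp, fun k => ?_, fun z => ?_⟩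
    · refine MorphismProperty.of_postcomp @Flat (W' := @IsOpenImmersion) (p k) V.ι inferInstance ?_
      rw [hp]
      exact inferInstanceAs (Flat ((A k.1).ι ≫ f))
    · obtain ⟨w, hw, hwz⟩ := hW.ge z.2
      obtain ⟨k, hk, hwk⟩ := Set.mem_iUnion₂.mp (hF hw)
      refine ⟨⟨k, hk⟩, ⟨w, hwk⟩, V.ι.isOpenEmbedding.injective ?_⟩
      rw [← Scheme.Hom.comp_apply, hp]
      exact hwz
  obtain ⟨D, ⟨e⟩⟩ := exists_rep hrep
  have hυ := HomRep.representsHom_of_iso e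
  obtain ⟨inst, hmul⟩ := HomDual.exists_grpObj hυ
  refine ⟨D, inst, _, hυ, fun X r a b => ?_, S', f, hflat, hsurj, hqc, fun s' => ⟨U s', hU s', ?_⟩⟩
  · have := congrArg (lift r (𝟙 X) ≫ ·) (hmul X a b)
    simpa [MonObj.comp_mul] using this
  · exact ⟨_, inferInstance, exists_grpIso hυ hmul (c s')⟩

end Groth.Agent.DiagRig.ConstDual
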