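import Groth.Agent.DiagRig.HopfBridge
import Groth.Agent.DiagRig.MultProp
import Groth.Agent.DiagRig.AgreeGraph
import Groth.Agent.DiagRig.SubDescent
import Groth.Agent.AffGrp.Bridge
import Groth.Agent.MultType.LiftApps
import Groth.Agent.MultType.KerPow
import Groth.Agent.MultType.QIGlobal

/-!
# Lifting groups of multiplicative type along nilpotent thickenings of affine schemes

The scheme-theoretic form of `MultType.LiftApps.exists_qi_lift`.
-/

universe u

open CategoryTheory MonoidalCategory CartesianMonoidalCategory MonObj GrpObj AlgebraicGeometry Limits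
open scoped TensorProduct

noncomputable section

namespace Groth.Agent.DiagRig

set_option linter.style.haveILetI false

/-- Change of the character group along an isomorphism. -/
lemma exists_mapDomain_equiv {T : Type u} [CommRing T] {G : Type*} {H : Type*} [CommGroup G] [CommGroup H] (f : G ≃* H) :
    Nonempty (MonoidAlgebra T G ≃ₐc[T] MonoidAlgebra T H) := by
  refine ⟨BialgEquiv.ofBijective (MonoidAlgebra.mapDomainBialgHom T (f : G →* H)) ?_⟩
  refine Function.bijective_iff_has_inverse.mpr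
    ⟨MonoidAlgebra.mapDomainBialgHom T (f.symm : H →* G), fun x => ?_, fun x => ?_⟩
  · rw [MonoidAlgebra.mapDomainBialgHom_mapDomainBialgHom,
      show (f.symm : H →* G).comp (f : G →* H) = .id G from MonoidHom.ext f.symm_apply_apply,
      MonoidAlgebra.mapDomainBialgHom_id]
    rfl
  · rw [MonoidAlgebra.mapDomainBialgHom_mapDomainBialgHom,
      show (f : G →* H).comp (f.symm : H →* G) = .id H from MonoidHom.ext f.apply_symm_apply,
      MonoidAlgebra.mapDomainBialgHom_id]
    rfl

variable {R : Type u} [CommRing R] {A : Type u} [CommRing A] [HopfAlgebra R A]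

/-- If the fibres are of finite type, the character group of a chart can be taken finitely generated and small. -/
theorem exists_fg_model (hK : ∀ (K : Type u) [Field K] [Algebra R K], Algebra.FiniteType K (K ⊗[R] A))
    {T : Type u} [CommRing T] [Algebra R T] {M : Type u} [CommGroup M]
    (e : T ⊗[R] A ≃ₐc[T] MonoidAlgebra T M) :
    ∃ (N : Type) (_ : AddCommGroup N), AddGroup.FG N ∧
      Nonempty (T ⊗[R] A ≃ₐc[T] MonoidAlgebra T (Multiplicative N)) := by
  rcases subsingleton_or_nontrivial T with hT | hT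
  · haveI : Subsingleton (MonoidAlgebra T (Multiplicative PUnit.{1})) :=
      Module.subsingleton T _
    haveI : Subsingleton (MonoidAlgebra T M) := Module.subsingleton T _
    refine ⟨PUnit, inferInstance, inferInstance, ⟨e.trans (BialgEquiv.ofBijective
      (MonoidAlgebra.mapDomainBialgHom T (1 : M →* Multiplicative PUnit.{1}))
      ⟨fun a b _ => Subsingleton.elim a b, fun b => ⟨0, Subsingleton.elim _ _⟩⟩)⟩⟩
  obtain ⟨m, hm⟩ := Ideal.exists_maximal T
  letI : Field (T ⧸ m) := Ideal.Quotient.field m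
  haveI := hK (T ⧸ m)
  haveI : Group.FG M := MultType.Diag.group_fg_of_finiteType
    (MultType.GLLift.extend e (Ideal.Quotient.mkₐ R m)).toAlgEquiv
  haveI : Module.Finite ℤ (Additive M) := Module.Finite.iff_addGroup_fg.mpr inferInstance
  obtain ⟨n, q, hq⟩ := Module.Finite.exists_fin' ℤ (Additive M)
  let N := (Fin n → ℤ) ⧸ LinearMap.ker q
  let eN : N ≃+ Additive M := (q.quotKerEquivOfSurjective hq).toAddEquiv
  haveI : Module.Finite ℤ N := inferInstance
  obtain ⟨f⟩ := exists_mapDomain_equiv (T := T) (AddEquiv.toMultiplicativeLeft eN).symm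
  exact ⟨N, inferInstance, Module.Finite.iff_addGroup_fg.mp inferInstance, ⟨e.trans f⟩⟩

/-- An injective split chart is an isomorphism with the diagonalisable group. -/
theorem exists_grpIso_of_splitPts {S U : Scheme.{u}} {p : U ⟶ S} {G : Over S} [GrpObj G] {M : Type}
    [AddCommGroup M] (P : SplitPts p G M) (hP : P.Inj) :
    Nonempty (Grp.mk (Red.bc p G) ≅ Grp.mk (Red.DS U M)) := by
  obtain ⟨-, v, hv, hvt, -⟩ := exists_pts_hom p (fun {Y} t => P.σ t) P.σ_mul P.σ_comp
  obtain ⟨t₁, ht₁⟩ := P.σ_surjective (bcTr p (𝟙 (Red.bc p G)))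
  obtain ⟨t₀, ht₀⟩ := exists_dPt (U := U) (𝟙 (Red.DS U M))
  have h1 : dPt t₁ ≫ v = 𝟙 _ := by rw [hvt, ht₁, bcUn_bcTr]
  have h2 : v ≫ dPt t₁ = 𝟙 _ := by
    rw [dPt_comp]
    have e := congrArg (bcTr p) ((hvt t₀).symm.trans (by rw [ht₀, Category.id_comp] : dPt t₀ ≫ v = v))
    rw [bcTr_bcUn] at e
    have e' : P.σ (v.left.appTop.hom.toMonoidHom.comp t₁) = P.σ t₀ := by
      rw [e, ← P.σ_comp v t₁, ht₁, ← bcTr_comp, Category.comp_id]
    exact (congrArg dPt (hP _ _ e')).trans ht₀
  exact ⟨(haveI : IsMonHom (Iso.mk v (dPt t₁) h2 h1).hom := hv; Grp.mkIso' (Iso.mk v (dPt t₁) h2 h1)).symm⟩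

set_option backward.isDefEq.respectTransparency.types false in
/-- A Hopf algebra split by a finite covering family gives a group of multiplicative type of finite type. -/
theorem isMultTypeFT_spec_of_family {ι₀ : Type u} [Finite ι₀] (T : ι₀ → Type u) [∀ i, CommRing (T i)]
    [∀ i, Algebra R (T i)] [∀ i, Module.Flat R (T i)]
    (hsurj : ∀ p : PrimeSpectrum R, ∃ i q, PrimeSpectrum.comap (algebraMap R (T i)) q = p)
    (hc : ∀ i, ∃ (M : Type) (_ : AddCommGroup M), AddGroup.FG M ∧
      Nonempty (T i ⊗[R] A ≃ₐc[T i] MonoidAlgebra (T i) (Multiplicative M))) :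
    SGA3x.IsMultTypeFT ((Spec (CommRingCat.of A)).asOver (Spec (CommRingCat.of R))) := by
  let X : ι₀ → Scheme.{u} := fun i => Spec (CommRingCat.of (T i))
  haveI : ∀ i, IsAffine (X i) := fun i => isAffine_Spec _
  let f : (∐ X) ⟶ Spec (CommRingCat.of R) := Sigma.desc fun i => specP (CommRingCat.of R) (T i)
  haveI hfl : ∀ i, Flat (specP (CommRingCat.of R) (T i)) := fun i =>
    HasRingHomProperty.Spec_iff.mpr (RingHom.flat_algebraMap_iff.mpr inferInstance)
  haveI : Flat f := IsZariskiLocalAtSource.sigmaDesc hfl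
  haveI : IsAffine (∐ X) := inferInstance
  haveI : QuasiCompact f := inferInstance
  have hs : Surjective f := ⟨fun p => by
    obtain ⟨i, q, hq⟩ := hsurj p
    refine ⟨(Sigma.ι X i).base q, ?_⟩
    rw [← Scheme.Hom.comp_apply, Sigma.ι_desc]
    exact hq⟩
  refine ⟨∐ X, f, inferInstance, hs, fun V hV => ⟨f ⁻¹ᵁ V, f.isCompact_preimage hV.isCompact, ?_⟩, fun z => ?_⟩
  · exact Set.image_preimage_eq _ f.surjective
  · obtain ⟨i, q, hq⟩ := (sigmaOpenCover X).exists_eq z
    obtain ⟨M, _, hfg, ⟨e⟩⟩ := hc i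
    obtain ⟨P, hP⟩ := exists_splitPts_of_bialgEquiv e
    refine ⟨(Sigma.ι X i).opensRange, ⟨q, hq⟩, M, inferInstance, hfg, ?_⟩
    obtain ⟨P', hP'⟩ := P.exists_restrict hP (Sigma.ι X i).isoOpensRange.inv
      ((Sigma.ι X i).opensRange.ι ≫ f) (by
        rw [← Sigma.ι_desc (fun i => specP (CommRingCat.of R) (T i)) i, ← Category.assoc,
          Scheme.Hom.isoOpensRange_inv_comp])
    exact exists_grpIso_of_splitPts P' hP'

/-- Groups of multiplicative type over rings: the Hopf algebra is quasi-isotrivial, and the group is of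
multiplicative type of finite type. -/
theorem exists_qi_model (H₀ : Over (Spec (CommRingCat.of R))) [GrpObj H₀] [IsAffine H₀.left]
    [LocallyOfFiniteType H₀.hom] (hH : SplitLoc H₀) :
    ∃ (A : Type u) (_ : CommRing A) (_ : HopfAlgebra R A)
      (e : (Spec (CommRingCat.of A)).asOver (Spec (CommRingCat.of R)) ≅ H₀),
      IsMonHom e.hom ∧ SGA3b.IsQuasiIsotrivial R A ∧ Algebra.FiniteType R A ∧
        SGA3x.IsMultTypeFT ((Spec (CommRingCat.of A)).asOver (Spec (CommRingCat.of R))) := by
  classical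
  obtain ⟨A, _, e, he⟩ := AffGrp.Bridge.exists_iso H₀
  haveI : IsMonHom e.hom := he
  haveI : IsMonHom e.inv := inferInstance
  let G₀ := (Spec (CommRingCat.of A)).asOver (Spec (CommRingCat.of R))
  have hlft : LocallyOfFiniteType G₀.hom := by
    haveI : IsIso e.hom.left := (inferInstance : IsIso ((Over.forget _).map e.hom))
    have h : LocallyOfFiniteType (e.hom.left ≫ H₀.hom) := inferInstance
    exact Over.w e.hom ▸ h
  have hft : Algebra.FiniteType R A := RingHom.finiteType_algebraMap.mp (HasRingHomProperty.Spec_iff.mp hlft)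
  obtain ⟨ι₀, hι, T, _, _, hflat, hsurj, hc⟩ := hH.exists_charts
  haveI : ∀ i, Module.Flat R (T i) := fun i =>
    RingHom.flat_algebraMap_iff.mp (HasRingHomProperty.Spec_iff.mp (hflat i))
  have hc' : ∀ i, ∃ (M : Type) (_ : AddCommGroup M), AddGroup.FG M ∧
      Nonempty (T i ⊗[R] A ≃ₐc[T i] MonoidAlgebra (T i) (Multiplicative M)) := fun i => by
    obtain ⟨M, _, P, hP⟩ := hc i
    let P' : SplitPts (specP (CommRingCat.of R) (T i)) G₀ M :=
      { σ := fun {Y} t => P.σ t ≫ e.inv
        σ_mul := fun {Y} s t => by rw [P.σ_mul, MonObj.mul_comp]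
        σ_comp := fun {Y Y'} h t => by rw [← Category.assoc, P.σ_comp]
        σ_surjective := fun {Y} g => by
          obtain ⟨t, ht⟩ := P.σ_surjective (g ≫ e.hom)
          exact ⟨t, by rw [ht, Category.assoc, Iso.hom_inv_id, Category.comp_id]⟩ }
    obtain ⟨ε⟩ := exists_bialgEquiv_of_splitPts P' fun s t h => hP s t ((cancel_mono e.inv).mp h)
    obtain ⟨δ⟩ := exists_mapDomain_equiv (T := T i) (MulEquiv.ulift : ULift.{u} (Multiplicative M) ≃* Multiplicative M).symm
    exact exists_fg_model (fun K _ _ => inferInstance) (ε.trans δ)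
  have hmt := isMultTypeFT_spec_of_family (A := A) T hsurj hc'
  have hfp : Algebra.FinitePresentation R A := RingHom.finitePresentation_algebraMap.mp
    (HasRingHomProperty.Spec_iff.mp (multType_locallyOfFinitePresentation G₀ hmt))
  haveI : Fintype ι₀ := Fintype.ofFinite ι₀
  have hff : Module.FaithfullyFlat R (∀ i, T i) := by
    haveI : Module.Flat R (Π₀ i, T i) := inferInstance
    haveI : Module.Flat R (∀ i, T i) := Module.Flat.of_linearEquiv DFinsupp.linearEquivFunOnFintype.symm
    refine Module.FaithfullyFlat.of_comap_surjective fun p => ?_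
    obtain ⟨i, q, hq⟩ := hsurj p
    exact ⟨PrimeSpectrum.comap (Pi.evalRingHom (fun i => T i) i) q, (PrimeSpectrum.ext rfl : _ = _).trans hq⟩
  have hdiag : ∀ i, SGA3b.IsDiag (T i) (T i ⊗[R] A) := fun i => by
    obtain ⟨M, _, -, ⟨ε⟩⟩ := hc' i
    obtain ⟨δ⟩ := exists_mapDomain_equiv (T := T i) (MulEquiv.ulift : ULift.{u} (Multiplicative M) ≃* Multiplicative M).symm
    exact ⟨_, inferInstance, ⟨ε.trans δ⟩⟩
  exact ⟨A, inferInstance, inferInstance, e, he, MultType.QIGlobal.isQuasiIsotrivial_of_local hfp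
    (fun p _ => MultType.KerPow.isMultType_family_local T hff hdiag (Localization.AtPrime p)), hft, hmt⟩

set_option backward.isDefEq.respectTransparency.types false in
/-- **Groups of multiplicative type lift along nil thickenings.** -/
theorem exists_mult_lift (J : Ideal R) (hJ : ∀ x ∈ J, IsNilpotent x)
    (H₀ : Over (Spec (CommRingCat.of (R ⧸ J)))) [GrpObj H₀] [IsAffine H₀.left]
    [LocallyOfFiniteType H₀.hom] (hH : SplitLoc H₀) :
    ∃ (H : Over (Spec (CommRingCat.of R))) (_ : GrpObj H), IsAffine H.left ∧ SGA3x.IsMultTypeFT H ∧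
      ∃ e : Red.bc (Spec.map (CommRingCat.ofHom (Ideal.Quotient.mk J))) H ≅ H₀, IsMonHom e.hom := by
  classical
  obtain ⟨A₀, _, _, e₀, he₀, hqi, hft₀, -⟩ := exists_qi_model H₀ hH
  haveI := hft₀
  obtain ⟨A, _, _, hQI, ⟨ε⟩⟩ := MultType.LiftApps.exists_qi_lift (R := R) (R₀ := R ⧸ J)
    Ideal.Quotient.mk_surjective
    (fun x hx => hJ x (Ideal.Quotient.eq_zero_iff_mem.mp hx)) hqi
  haveI : Algebra.FiniteType (R ⧸ J) ((R ⧸ J) ⊗[R] A) :=
    Algebra.FiniteType.equiv hft₀ ε.symm.toAlgEquiv
  have hK : ∀ (K : Type u) [Field K] [Algebra R K], Algebra.FiniteType K (K ⊗[R] A) := fun K _ _ => by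
    have hz : ∀ x ∈ J, algebraMap R K x = 0 := fun x hx => ((hJ x hx).map (algebraMap R K)).eq_zero
    letI : Algebra (R ⧸ J) K := (Ideal.Quotient.lift J (algebraMap R K) hz).toAlgebra
    haveI : IsScalarTower R (R ⧸ J) K := IsScalarTower.of_algebraMap_eq fun r => rfl
    exact Algebra.FiniteType.equiv (inferInstance : Algebra.FiniteType K (K ⊗[R ⧸ J] ((R ⧸ J) ⊗[R] A)))
      (Algebra.TensorProduct.cancelBaseChange R (R ⧸ J) K K A)
  obtain ⟨s, hs, hloc⟩ := hQI
  obtain ⟨t, hts, ht⟩ := (Ideal.span_eq_top_iff_finite s).mp hs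
  choose T instT algT het hff M instM he using fun f : t => hloc f (hts f.2)
  letI algR : ∀ f : t, Algebra R (T f) := fun f =>
    ((algebraMap (Localization.Away (f : R)) (T f)).comp (algebraMap R _)).toAlgebra
  haveI : ∀ f : t, IsScalarTower R (Localization.Away (f : R)) (T f) := fun f =>
    IsScalarTower.of_algebraMap_eq fun r => rfl
  haveI : ∀ f : t, Module.Flat R (T f) := fun f => by
    haveI := hff f
    haveI : Module.Flat R (Localization.Away (f : R)) := IsLocalization.flat _ (Submonoid.powers (f : R))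
    exact Module.Flat.trans R (Localization.Away (f : R)) (T f)
  have hc : ∀ f : t, ∃ (N : Type) (_ : AddCommGroup N), AddGroup.FG N ∧
      Nonempty (T f ⊗[R] A ≃ₐc[T f] MonoidAlgebra (T f) (Multiplicative N)) := fun f => by
    obtain ⟨ε'⟩ := he f
    exact exists_fg_model hK ((MultType.Split.cancel (R := R) (S := Localization.Away (f : R)) (T := T f) (A := A)).symm.trans ε')
  have hsurj : ∀ p : PrimeSpectrum R, ∃ f : t, ∃ q, PrimeSpectrum.comap (algebraMap R (T f)) q = p := fun p => by
    obtain ⟨f, hfp⟩ : ∃ f : t, (f : R) ∉ p.asIdeal := by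
      by_contra h
      push Not at h
      exact p.isPrime.ne_top (top_le_iff.mp (ht ▸ Ideal.span_le.mpr fun x hx => h ⟨x, hx⟩))
    obtain ⟨q₁, hq₁⟩ : p ∈ Set.range (PrimeSpectrum.comap (algebraMap R (Localization.Away (f : R)))) := by
      rw [PrimeSpectrum.localization_away_comap_range (Localization.Away (f : R)) (f : R)]
      exact hfp
    haveI := hff f
    obtain ⟨q, hq⟩ := PrimeSpectrum.comap_surjective_of_faithfullyFlat (A := Localization.Away (f : R))
      (B := T f) q₁
    exact ⟨f, q, by rw [← hq₁, ← hq]; rfl⟩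
  let H : Over (Spec (CommRingCat.of R)) := (Spec (CommRingCat.of A)).asOver (Spec (CommRingCat.of R))
  obtain ⟨a, ha⟩ := exists_bcSpecIso R A (R ⧸ J)
  obtain ⟨b, hb⟩ := exists_specIso ε.symm
  haveI : IsMonHom a.hom := ha
  haveI : IsMonHom b.hom := hb
  haveI : IsMonHom e₀.hom := he₀
  refine ⟨H, inferInstance, isAffine_Spec _, isMultTypeFT_spec_of_family T hsurj hc,
    ⟨a ≪≫ b ≪≫ e₀, ?_⟩⟩
  show IsMonHom (a.hom ≫ b.hom ≫ e₀.hom)
  infer_instance

end Groth.Agent.DiagRig
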