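import Groth.Agent.DiagRig.ConstDual
import Groth.Agent.DiagRig.MultLift
import Groth.Agent.AlgSpCov.AffineDescent
import Groth.Agent.GrpScheme.Basic

/-! The character group of a twisted constant commutative group is of multiplicative type. -/

universe u

open CategoryTheory MonoidalCategory CartesianMonoidalCategory MonObj GrpObj AlgebraicGeometry Limits
open Groth.Agent.RedPts

noncomputable section

namespace Groth.Agent.DiagRig.ConstDual

set_option backward.isDefEq.respectTransparency.types false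

variable {S : Scheme.{u}} {R : Over S} [GrpObj R]

/-- A chart from a piece over which `R` is constant. -/
theorem exists_cchart {U : Scheme.{u}} (q : U ⟶ S) [Nonempty U] {M : Type} [Group M]
    (e : Red.bc q R ≅ TwC.const U M) (he : TwC.IsConstGrp M (Red.bc q R) e)
    (hcomm : ∀ (X : Over S) (a b : X ⟶ R), a * b = b * a) :
    ∃ c : CChart R, ∃ h : U ⟶ c.U, IsIso h ∧ h ≫ c.q = q := by
  let j : Over.mk q ⟶ (Over.map q).obj (𝟙_ (Over U)) := Over.homMk (𝟙 U) (by
    show 𝟙 _ ≫ 𝟙 _ ≫ q = q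
    rw [Category.id_comp, Category.id_comp])
  let sec : M → (Over.mk q ⟶ R) := fun m => j ≫ bcTr q (TwC.pt U M m ≫ e.inv)
  have hmul : ∀ m n, sec (m * n) = sec m * sec n := fun m n => by
    show j ≫ _ = (j ≫ _) * (j ≫ _)
    rw [← MonObj.comp_mul, ← bcTr_mul, he]
  have hleft : ∀ m, (lift (sec m) (𝟙 (Over.mk q))).left = Sigma.ι (fun _ : M => U) m ≫ e.inv.left := fun m => by
    apply pullback.hom_ext
    · have h1 : (lift (sec m) (𝟙 (Over.mk q))).left ≫ pullback.fst R.hom q = (sec m).left :=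
        congrArg CommaMorphism.left (lift_fst (sec m) (𝟙 (Over.mk q)))
      refine h1.trans ?_
      show 𝟙 U ≫ (bcTr q (TwC.pt U M m ≫ e.inv)).left = _
      rw [bcTr_left]
      exact (Category.id_comp _).trans rfl
    · have h1 : (lift (sec m) (𝟙 (Over.mk q))).left ≫ pullback.snd R.hom q = 𝟙 U :=
        congrArg CommaMorphism.left (lift_snd (sec m) (𝟙 (Over.mk q)))
      refine h1.trans ?_
      rw [Category.assoc]
      have h2 : e.inv.left ≫ pullback.snd R.hom q = (TwC.const U M).hom := Over.w e.inv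
      exact ((congrArg (fun z => Sigma.ι (fun _ : M => U) m ≫ z) h2).trans (Sigma.ι_desc _ _)).symm
  have : IsIso e.inv.left := inferInstanceAs (IsIso ((Over.forget U).map e.inv))
  have hopen : ∀ m, IsOpenImmersion (lift (sec m) (𝟙 (Over.mk q))).left := fun m => by
    rw [hleft]
    have : IsOpenImmersion (Sigma.ι (fun _ : M => U) m) := (sigmaOpenCover fun _ : M => U).map_prop m
    exact IsOpenImmersion.comp _ _
  have hdisj : ∀ (m n : M) (x y : U), (lift (sec m) (𝟙 (Over.mk q))).left x = (lift (sec n) (𝟙 (Over.mk q))).left y →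
      m = n := fun m n x y h => by
    rw [hleft, hleft] at h
    exact congrArg Sigma.fst ((sigmaι_eq_iff (g := fun _ : M => U) _ _ _ _).mp
      (e.inv.left.homeomorph.injective h))
  have hcover : ∀ z : (R ⊗ Over.mk q).left, ∃ m, z ∈ Set.range (lift (sec m) (𝟙 (Over.mk q))).left := fun z => by
    obtain ⟨y, hy⟩ := e.inv.left.homeomorph.surjective z
    obtain ⟨m, x, hx⟩ : ∃ m x, (Sigma.ι (fun _ : M => U) m) x = y :=
      ⟨_, (sigmaOpenCover fun _ : M => U).covers y⟩
    exact ⟨m, x, by rw [hleft]; exact (congrArg e.inv.left hx).trans hy⟩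
  have hc : ∀ m n : M, m * n = n * m := fun m n => by
    obtain ⟨x⟩ := ‹Nonempty U›
    refine hdisj _ _ x x ?_
    rw [hmul, hmul, hcomm _ (sec m) (sec n)]
  let instM : CommGroup M := { ‹Group M› with mul_comm := hc }
  let A := Additive M
  exact ⟨{ U := U, q := q, A := A, sec := fun m => sec (Additive.toMul m.toAdd), sec_mul := fun m n => hmul _ _,
           openImm := fun m => hopen _, disj := fun m n x y h => hdisj _ _ x y h,
           cover := fun z => hcover z }, 𝟙 U, inferInstance, Category.id_comp _⟩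

/-- Restriction of a chart. -/
def CChart.restrict (c : CChart R) {V : Scheme.{u}} (p : V ⟶ S) (t : Over.mk p ⟶ Over.mk c.q) : CChart R where
  U := V
  q := p
  A := c.A
  sec m := t ≫ c.sec m
  sec_mul m n := by rw [c.sec_mul, MonObj.comp_mul]
  openImm m := openImm_copy c t m
  disj m n x y h := disj_copy c t m n x y h
  cover z := cover_copy c t z

/-- The scheme of characters of a chart. -/
abbrev space (c : CChart R) : Over S := (Over.map c.q).obj (Red.DS c.U c.A)

/-- Its projection to the chart. -/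
def proj (c : CChart R) : space c ⟶ Over.mk c.q := Over.homMk (Red.DS c.U c.A).hom rfl

/-- The point of `D(A)` under a point of `space c`. -/
def toDS (c : CChart R) {T : Over S} (a : T ⟶ space c) :
    Over.mk (a ≫ proj c).left ⟶ Red.DS c.U c.A :=
  Over.homMk a.left rfl

/-- The tautological family, described on points. -/
theorem exists_taut (c : CChart R) :
    ∃ (φ₀ : R ⊗ space c ⟶ Red.Gm S), AutFam.IsHomFamily R (Red.Gm S) φ₀ ∧
      ∀ (T : Over S) (a : T ⟶ space c) (m : Multiplicative c.A),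
        dFn (copy c (a ≫ proj c) m ≫ (R ◁ a) ≫ φ₀) (1 : ℤ) = dFn (toDS c a) m.toAdd := by
  obtain ⟨t₀, ht₀⟩ := exists_dPt (U := c.U) (𝟙 (Red.DS c.U c.A))
  obtain ⟨φ₀, hφ₀, hval⟩ := exists_fam c (proj c) (T := space c) t₀
  refine ⟨φ₀, hφ₀, fun T a m => ?_⟩
  rw [← Category.assoc, comp_copy, Category.assoc, d_comp, hval]
  conv_rhs => rw [← Category.comp_id (toDS c a), d_comp, ← ht₀, dFn_dPt]
  rfl

/-- A point of `space c` from a character. -/
def ofChar (c : CChart R) {T : Over S} (t : T ⟶ Over.mk c.q) (χ : Multiplicative c.A →* Γ(T.left, ⊤)) :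
    T ⟶ space c :=
  Over.homMk (dPt (U := c.U) (Y := Over.mk t.left) χ).left (by
    show (dPt (U := c.U) (Y := Over.mk t.left) χ).left ≫ (Red.DS c.U c.A).hom ≫ c.q = T.hom
    rw [← Category.assoc, Over.w (dPt (U := c.U) (Y := Over.mk t.left) χ)]
    exact Over.w t)

lemma ofChar_proj (c : CChart R) {T : Over S} (t : T ⟶ Over.mk c.q) (χ : Multiplicative c.A →* Γ(T.left, ⊤)) :
    ofChar c t χ ≫ proj c = t :=
  Over.OverMorphism.ext (Over.w (dPt (U := c.U) (Y := Over.mk t.left) χ))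

lemma dFn_congr {U : Scheme.{u}} {A : Type} [AddCommGroup A] {X : Scheme.{u}} (g g' : X ⟶ U) (hg : g = g')
    (y : Over.mk g ⟶ Red.DS U A) (y' : Over.mk g' ⟶ Red.DS U A) (h : y.left = y'.left) (m : A) :
    dFn y m = dFn y' m := by
  subst hg
  rw [Over.OverMorphism.ext h]

lemma left_congr {U : Scheme.{u}} {A : Type} [AddCommGroup A] {X : Scheme.{u}} (g g' : X ⟶ U) (hg : g = g')
    (y : Over.mk g ⟶ Red.DS U A) (y' : Over.mk g' ⟶ Red.DS U A) (h : ∀ m, dFn y m = dFn y' m) :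
    y.left = y'.left := by
  subst hg
  rw [d_ext h]

set_option maxHeartbeats 100000 in
/-- Families over a chart are points of `space c`. -/
theorem existsUnique_pt (c : CChart R) {φ₀ : R ⊗ space c ⟶ Red.Gm S}
    (h₀ : ∀ (T : Over S) (a : T ⟶ space c) (m : Multiplicative c.A),
        dFn (copy c (a ≫ proj c) m ≫ (R ◁ a) ≫ φ₀) (1 : ℤ) = dFn (toDS c a) m.toAdd)
    {T : Over S} (t : T ⟶ Over.mk c.q) {φ : R ⊗ T ⟶ Red.Gm S} (hφ : AutFam.IsHomFamily R (Red.Gm S) φ) :
    ∃! a : T ⟶ space c, a ≫ proj c = t ∧ (R ◁ a) ≫ φ₀ = φ := by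
  obtain ⟨χ, hχ⟩ := exists_char c t hφ
  have key : ∀ a : T ⟶ space c, a ≫ proj c = t → ∀ m : Multiplicative c.A,
      dFn (copy c t m ≫ (R ◁ a) ≫ φ₀) (1 : ℤ) = dFn (toDS c a) m.toAdd := fun a ha m => by
    rw [← h₀ T a m, ha]
  have hof : ∀ m : Multiplicative c.A, dFn (toDS c (ofChar c t χ)) m.toAdd = χ m := fun m =>
    (dFn_congr ((ofChar c t χ) ≫ proj c).left t.left (congrArg CommaMorphism.left (ofChar_proj c t χ))
      (toDS c (ofChar c t χ)) (dPt (U := c.U) (Y := Over.mk t.left) χ) rfl m.toAdd).trans (dFn_dPt (U := c.U) (Y := Over.mk t.left) χ m.toAdd)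
  refine ⟨ofChar c t χ, ⟨ofChar_proj c t χ, hom_ext_copy c t fun m => gm_ext ?_⟩, fun b hb => ?_⟩
  · rw [key _ (ofChar_proj c t χ), hof, hχ]
  · refine Over.OverMorphism.ext ?_
    refine left_congr (b ≫ proj c).left t.left (congrArg CommaMorphism.left hb.1) (toDS c b)
      (dPt (U := c.U) (Y := Over.mk t.left) χ) fun m => ?_
    refine ((key b hb.1 (Multiplicative.ofAdd m)).symm.trans ?_).trans (dFn_dPt (U := c.U) (Y := Over.mk t.left) χ m).symm
    rw [hb.2, hχ]

/-- Over a chart the sheaf of characters is diagonalisable. -/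
theorem exists_square (c : CChart R) {E : AlgSp.Sp S} (hE : IsTerminal E) :
    ∃ (φ₀ : R ⊗ space c ⟶ Red.Gm S) (hφ₀ : AutFam.IsHomFamily R (Red.Gm S) φ₀),
      IsPullback (HomSheaf.sec R (Red.Gm S) φ₀ hφ₀) ((AlgSp.yon S).map (proj c))
        (hE.from (HomSheaf.sheaf R (Red.Gm S))) (hE.from ((AlgSp.yon S).obj (Over.mk c.q))) ∧
      ∀ (T : Over S) (a : T ⟶ space c) (m : Multiplicative c.A),
        dFn (copy c (a ≫ proj c) m ≫ (R ◁ a) ≫ φ₀) (1 : ℤ) = dFn (toDS c a) m.toAdd := by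
  obtain ⟨φ₀, hφ₀, h₀⟩ := exists_taut c
  refine ⟨φ₀, hφ₀, ?_, h₀⟩
  let P := pullback (hE.from (HomSheaf.sheaf R (Red.Gm S))) (hE.from ((AlgSp.yon S).obj (Over.mk c.q)))
  let l : (AlgSp.yon S).obj (space c) ⟶ P :=
    pullback.lift (HomSheaf.sec R (Red.Gm S) φ₀ hφ₀) ((AlgSp.yon S).map (proj c)) (hE.hom_ext _ _)
  have hlf : l ≫ pullback.fst _ _ = HomSheaf.sec R (Red.Gm S) φ₀ hφ₀ := pullback.lift_fst _ _ _
  have hls : l ≫ pullback.snd _ _ = (AlgSp.yon S).map (proj c) := pullback.lift_snd _ _ _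
  have : IsIso l := Groth.Agent.AlgSp.isIso_of_yon l fun T x => by
    obtain ⟨t, ht⟩ := (AlgSp.yon S).map_surjective (x ≫ pullback.snd _ _)
    obtain ⟨a, ⟨ha, ha'⟩, hau⟩ :=
      existsUnique_pt c h₀ t (HomSheaf.isHomFamily_famOf R (Red.Gm S) (x ≫ pullback.fst _ _))
    refine ⟨a, pullback.hom_ext ?_ ?_, fun b hb => hau b ⟨?_, ?_⟩⟩
    · rw [Category.assoc, hlf]
      refine HomSheaf.hom_ext ?_
      rw [HomSheaf.famOf_map, HomSheaf.famOf_sec, ha']
    · rw [Category.assoc, hls, ← Functor.map_comp, ha, ht]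
    · exact (AlgSp.yon S).map_injective (by rw [Functor.map_comp, ht, ← hb, Category.assoc, hls])
    · rw [← hb, Category.assoc, hlf, HomSheaf.famOf_map, HomSheaf.famOf_sec]
  exact IsPullback.of_iso_pullback ⟨hE.hom_ext _ _⟩ (asIso l) hlf hls

/-- Families of homomorphisms descend along faithfully flat quasi-compact maps. -/
theorem exists_desc_fam {G : Over S} [GrpObj G] {T T' : Over S} (c : T' ⟶ T) [Flat c.left] [Surjective c.left]
    [QuasiCompact c.left] {φ' : R ⊗ T' ⟶ G} (hφ' : AutFam.IsHomFamily R G φ')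
    (h : ∀ (Z : Over S) (a₁ a₂ : Z ⟶ T'), a₁ ≫ c = a₂ ≫ c → (R ◁ a₁) ≫ φ' = (R ◁ a₂) ≫ φ') :
    ∃ φ : R ⊗ T ⟶ G, AutFam.IsHomFamily R G φ ∧ (R ◁ c) ≫ φ = φ' := by
  have : Flat (R ◁ c).left := GrpScheme.Basic.whiskerLeft_mem @Flat c R inferInstance
  have : Surjective (R ◁ c).left := GrpScheme.Basic.whiskerLeft_mem @Surjective c R inferInstance
  have : QuasiCompact (R ◁ c).left := GrpScheme.Basic.whiskerLeft_mem @QuasiCompact c R inferInstance
  have hh : ∀ {Z : Scheme.{u}} (g₁ g₂ : Z ⟶ (R ⊗ T').left), g₁ ≫ (R ◁ c).left = g₂ ≫ (R ◁ c).left →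
      g₁ ≫ φ'.left = g₂ ≫ φ'.left := by
    intro Z g₁ g₂ e
    let Z' : Over S := Over.mk (g₁ ≫ (R ⊗ T').hom)
    let b₁ : Z' ⟶ R ⊗ T' := Over.homMk g₁ rfl
    let b₂ : Z' ⟶ R ⊗ T' := Over.homMk g₂ (by
      show g₂ ≫ _ = g₁ ≫ _
      rw [← Over.w (R ◁ c), reassoc_of% e])
    have e' : b₁ ≫ (R ◁ c) = b₂ ≫ (R ◁ c) := Over.OverMorphism.ext e
    have e₁ : b₁ ≫ fst R T' = b₂ ≫ fst R T' := by
      have := congrArg (· ≫ fst R T) e'
      simpa using this
    have e₂ : (b₁ ≫ snd R T') ≫ c = (b₂ ≫ snd R T') ≫ c := by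
      have := congrArg (· ≫ snd R T) e'
      simpa using this
    have key : ∀ b : Z' ⟶ R ⊗ T', b ≫ φ' = lift (b ≫ fst R T') (𝟙 Z') ≫ (R ◁ (b ≫ snd R T')) ≫ φ' := fun b => by
      rw [lift_whiskerLeft_assoc, Category.id_comp, ← comp_lift, lift_fst_snd, Category.comp_id]
    have := key b₁
    rw [h _ _ _ e₂, e₁, ← key b₂] at this
    exact congrArg CommaMorphism.left this
  let ψ₀ := EffectiveEpi.desc (R ◁ c).left φ'.left hh
  have hψ₀ : (R ◁ c).left ≫ ψ₀ = φ'.left := EffectiveEpi.fac _ _ _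
  let φ : R ⊗ T ⟶ G := Over.homMk ψ₀ (by
    rw [← cancel_epi (R ◁ c).left, reassoc_of% hψ₀, Over.w, Over.w])
  have hφ : (R ◁ c) ≫ φ = φ' := Over.OverMorphism.ext hψ₀
  refine ⟨φ, fun X g₁ g₂ t => ?_, hφ⟩
  have s' := AlgSpCov.isPullback_over_left (IsPullback.of_hasPullback t c).flip
  have : Flat (pullback.fst t c).left := MorphismProperty.of_isPullback s' ‹Flat c.left›
  have : Surjective (pullback.fst t c).left := MorphismProperty.of_isPullback s' ‹Surjective c.left›
  have : QuasiCompact (pullback.fst t c).left := MorphismProperty.of_isPullback s' ‹QuasiCompact c.left›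
  refine AlgSpCov.eq_of_fpqc (pullback.fst t c) ?_
  rw [MonObj.comp_mul, comp_lift_assoc, comp_lift_assoc, comp_lift_assoc, MonObj.comp_mul, pullback.condition,
    ← hφ'' φ hφ, ← hφ'' φ hφ, ← hφ'' φ hφ]
  exact hφ' _ _ _ _
where
  hφ'' {G : Over S} [GrpObj G] {T T' X : Over S} {c : T' ⟶ T} {φ' : R ⊗ T' ⟶ G} (φ : R ⊗ T ⟶ G)
      (hφ : (R ◁ c) ≫ φ = φ') {g : X ⟶ R} {t : X ⟶ T'} : lift g t ≫ φ' = lift g (t ≫ c) ≫ φ := by
    rw [← hφ, lift_whiskerLeft_assoc]

/-- Equal families after a faithfully flat quasi-compact map are equal. -/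
theorem fam_eq_of_fpqc {G : Over S} {T T' : Over S} (c : T' ⟶ T) [Flat c.left] [Surjective c.left]
    [QuasiCompact c.left] {φ ψ : R ⊗ T ⟶ G} (h : (R ◁ c) ≫ φ = (R ◁ c) ≫ ψ) : φ = ψ := by
  have : Flat (R ◁ c).left := GrpScheme.Basic.whiskerLeft_mem @Flat c R inferInstance
  have : Surjective (R ◁ c).left := GrpScheme.Basic.whiskerLeft_mem @Surjective c R inferInstance
  have : QuasiCompact (R ◁ c).left := GrpScheme.Basic.whiskerLeft_mem @QuasiCompact c R inferInstance
  exact AlgSpCov.eq_of_fpqc (R ◁ c) h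

/-- Descent to an affine open covered by finitely many affine charts. -/
theorem exists_affine_square {E : AlgSp.Sp S} (hE : IsTerminal E) {U : Over S} [IsAffine U.left]
    {κ : Type u} [Finite κ] (c : κ → CChart R) [∀ k, IsAffine (c k).U] (p : ∀ k, Over.mk (c k).q ⟶ U)
    (hflat : ∀ k, Flat (p k).left) (hcov : ∀ z : U.left, ∃ k, z ∈ Set.range (p k).left) :
    ∃ (B : Over S) (π : (AlgSp.yon S).obj B ⟶ HomSheaf.sheaf R (Red.Gm S)) (u₀ : B ⟶ U),
      IsPullback π ((AlgSp.yon S).map u₀) (hE.from (HomSheaf.sheaf R (Red.Gm S))) (hE.from ((AlgSp.yon S).obj U)) := by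
  choose φ₀ hφ₀ hsqc _h₀ using fun k => exists_square (c k) hE
  let Y : κ → Scheme.{u} := fun k => (c k).U
  let V : Over S := Over.mk (Sigma.desc (fun k => (c k).q) : (∐ Y) ⟶ S)
  have : IsAffine V.left := inferInstanceAs (IsAffine (∐ Y))
  let pV : V ⟶ U := Over.homMk (Sigma.desc (fun k => (p k).left) : (∐ Y) ⟶ U.left)
    (Sigma.hom_ext _ _ fun k => by simpa [Y, V] using Over.w (p k))
  let e : ∀ k, Over.mk (c k).q ⟶ V := fun k => Over.homMk (Sigma.ι Y k) (Sigma.ι_desc _ _)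
  have he : ∀ k, IsOpenImmersion (e k).left := fun k => (sigmaOpenCover Y).map_prop k
  have hecov : ∀ v : V.left, ∃ k, v ∈ Set.range (e k).left := fun v => ⟨_, (sigmaOpenCover Y).covers v⟩
  have hedisj : ∀ j k, j ≠ k → Disjoint (Set.range (e j).left) (Set.range (e k).left) := fun j k hjk => by
    refine Set.disjoint_iff_forall_ne.mpr ?_
    rintro _ ⟨x, rfl⟩ _ ⟨y, rfl⟩ h
    exact hjk (congrArg Sigma.fst ((sigmaι_eq_iff _ _ _ _ _).mp h))
  have : Flat pV.left := IsZariskiLocalAtSource.sigmaDesc hflat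
  have : Surjective pV.left := ⟨fun z => by
    obtain ⟨k, y, hy⟩ := hcov z
    refine ⟨Sigma.ι Y k y, ?_⟩
    rw [← Scheme.Hom.comp_apply]
    show (Sigma.ι Y k ≫ Sigma.desc (fun k => (p k).left)) y = z
    rw [Sigma.ι_desc]
    exact hy⟩
  let F := HomSheaf.sheaf R (Red.Gm S)
  let FU := pullback (hE.from F) (hE.from ((AlgSp.yon S).obj U))
  let a : FU ⟶ (AlgSp.yon S).obj U := pullback.snd _ _
  let FV := pullback a ((AlgSp.yon S).map pV)
  let aV : FV ⟶ (AlgSp.yon S).obj V := pullback.snd _ _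
  have big : IsPullback (pullback.fst a ((AlgSp.yon S).map pV) ≫ pullback.fst _ _) aV (hE.from F)
      (hE.from ((AlgSp.yon S).obj V)) := by
    have h := (IsPullback.of_hasPullback a ((AlgSp.yon S).map pV)).paste_horiz
      (IsPullback.of_hasPullback (hE.from F) (hE.from ((AlgSp.yon S).obj U)))
    rwa [hE.hom_ext (hE.from ((AlgSp.yon S).obj V)) ((AlgSp.yon S).map pV ≫ hE.from _)]
  have hπ : ∀ k, ∃ πk : (AlgSp.yon S).obj (space (c k)) ⟶ FV,
      IsPullback πk ((AlgSp.yon S).map (proj (c k))) aV ((AlgSp.yon S).map (e k)) := fun k => by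
    obtain ⟨l, hl₁, hl₂⟩ := big.exists_lift (HomSheaf.sec R (Red.Gm S) (φ₀ k) (hφ₀ k))
      ((AlgSp.yon S).map (proj (c k)) ≫ (AlgSp.yon S).map (e k)) (hE.hom_ext _ _)
    refine ⟨l, IsPullback.of_right ?_ hl₂ big⟩
    rw [hl₁, hE.hom_ext ((AlgSp.yon S).map (e k) ≫ hE.from ((AlgSp.yon S).obj V)) (hE.from _)]
    exact hsqc k
  choose πk sqk using hπ
  obtain ⟨W, w, Φ, haff, -, sqW⟩ := AlgSpCov.exists_iso_of_sigma e he hecov hedisj aV
    (fun k => space (c k)) (fun k => proj (c k)) πk sqk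
  have : IsAffine W.left := haff (fun k => by
    have : IsAffine (Red.diag (ULift.{u} ℤ) (c k).A).left := isAffine_Spec _
    have : IsAffineHom (Red.diag (ULift.{u} ℤ) (c k).A).hom := isAffineHom_of_isAffine _
    have : IsAffineHom (Red.DS (c k).U (c k).A).hom :=
      inferInstanceAs (IsAffineHom (pullback.snd (Red.diag (ULift.{u} ℤ) (c k).A).hom
        (IsTerminal.from specULiftZIsTerminal (c k).U)))
    exact isAffine_of_isAffineHom (Red.DS (c k).U (c k).A).hom) inferInstance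
  have sq : IsPullback (Φ ≫ pullback.fst a ((AlgSp.yon S).map pV)) ((AlgSp.yon S).map w) a
      ((AlgSp.yon S).map pV) := by
    have h := sqW.paste_horiz (IsPullback.of_hasPullback a ((AlgSp.yon S).map pV))
    rwa [Category.id_comp] at h
  obtain ⟨B, q, u₀, hB, hsq, hq⟩ := AlgSpCov.exists_pullback_of_fpqc_affine pV a _ w sq
  obtain ⟨⟨φ, hφ⟩, huniq⟩ := AlgSpCov.exists_desc_fpqc pV a _ w sq q hq
  have hφu : φ ≫ (AlgSp.yon S).map u₀ = a := by
    obtain ⟨-, hu⟩ := AlgSpCov.exists_desc_fpqc pV a _ w sq (w ≫ pV) fun Z z₁ z₂ h => (AlgSp.yon S).map_injective (by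
      rw [Functor.map_comp, Functor.map_comp, Functor.map_comp, ← sq.w, ← Category.assoc, h, Category.assoc, sq.w, Functor.map_comp])
    exact hu _ _ (by rw [← Category.assoc (Φ ≫ _), hφ, sq.w, ← Functor.map_comp, ← Functor.map_comp, hsq.w])
  have inj : ∀ {T : Over S} (x x' : (AlgSp.yon S).obj T ⟶ FU), x ≫ φ = x' ≫ φ → x = x' := by
    intro T x x' h
    have ha : x ≫ a = x' ≫ a := by rw [← hφu, reassoc_of% h]
    obtain ⟨g, hg⟩ := (AlgSp.yon S).map_surjective (x ≫ a)
    have s' := AlgSpCov.isPullback_over_left (IsPullback.of_hasPullback g pV).flip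
    have : Flat (pullback.fst g pV).left := MorphismProperty.of_isPullback s' ‹Flat pV.left›
    have : Surjective (pullback.fst g pV).left := MorphismProperty.of_isPullback s' ‹Surjective pV.left›
    have : QuasiCompact (pullback.fst g pV).left :=
      MorphismProperty.of_isPullback s' (inferInstanceAs (QuasiCompact pV.left))
    have el : ∀ y : (AlgSp.yon S).obj T ⟶ FU, y ≫ a = (AlgSp.yon S).map g → ∃ l : pullback g pV ⟶ W,
        (AlgSp.yon S).map l ≫ (Φ ≫ pullback.fst a _) = (AlgSp.yon S).map (pullback.fst g pV) ≫ y ∧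
          l ≫ w = pullback.snd g pV := by
      intro y hy
      have e : ((AlgSp.yon S).map (pullback.fst g pV) ≫ y) ≫ a =
          (AlgSp.yon S).map (pullback.snd g pV) ≫ (AlgSp.yon S).map pV := by
        rw [Category.assoc, hy, ← Functor.map_comp, ← Functor.map_comp, pullback.condition]
      obtain ⟨l, hl⟩ := (AlgSp.yon S).map_surjective (sq.lift _ _ e)
      exact ⟨l, by rw [hl, sq.lift_fst], (AlgSp.yon S).map_injective (by rw [Functor.map_comp, hl, sq.lift_snd])⟩
    obtain ⟨l, hl, hlw⟩ := el x hg.symm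
    obtain ⟨l', hl', hlw'⟩ := el x' (by rw [← ha, hg])
    have ell : l = l' := hsq.hom_ext (hlw.trans hlw'.symm) ((AlgSp.yon S).map_injective (by
      rw [Functor.map_comp, Functor.map_comp, ← hφ, ← Category.assoc _ _ φ, hl, ← Category.assoc ((AlgSp.yon S).map l') _ φ, hl', Category.assoc, Category.assoc, h]))
    refine pullback.hom_ext ?_ ha
    refine HomSheaf.hom_ext (fam_eq_of_fpqc (pullback.fst g pV) ?_)
    rw [← HomSheaf.famOf_map, ← HomSheaf.famOf_map, ← reassoc_of% hl, ← reassoc_of% hl', ell]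
  have sB := AlgSpCov.isPullback_over_left hsq
  have : Flat q.left := MorphismProperty.of_isPullback sB ‹Flat pV.left›
  have : Surjective q.left := MorphismProperty.of_isPullback sB ‹Surjective pV.left›
  have : QuasiCompact q.left := MorphismProperty.of_isPullback sB (inferInstanceAs (QuasiCompact pV.left))
  let π' := Φ ≫ pullback.fst a ((AlgSp.yon S).map pV) ≫ pullback.fst _ _
  obtain ⟨ψ, hψ, hψq⟩ := exists_desc_fam q (HomSheaf.isHomFamily_famOf R (Red.Gm S) π') fun Z z₁ z₂ hz => by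
    rw [← HomSheaf.famOf_map, ← HomSheaf.famOf_map]
    have e := inj ((AlgSp.yon S).map z₁ ≫ Φ ≫ pullback.fst a _) ((AlgSp.yon S).map z₂ ≫ Φ ≫ pullback.fst a _)
      (by simp only [Category.assoc] at hφ ⊢; rw [hφ, ← Functor.map_comp, ← Functor.map_comp, hz])
    have e' := congrArg (fun k => HomSheaf.famOf R (Red.Gm S) (k ≫ pullback.fst _ _)) e
    simpa [π'] using e'
  let L : (AlgSp.yon S).obj B ⟶ FU :=
    pullback.lift (HomSheaf.sec R (Red.Gm S) ψ hψ) ((AlgSp.yon S).map u₀) (hE.hom_ext _ _)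
  have hLf : L ≫ pullback.fst _ _ = HomSheaf.sec R (Red.Gm S) ψ hψ := pullback.lift_fst _ _ _
  have hLa : L ≫ a = (AlgSp.yon S).map u₀ := pullback.lift_snd _ _ _
  have hqL : (AlgSp.yon S).map q ≫ L = Φ ≫ pullback.fst a _ := by
    apply pullback.hom_ext
    · rw [Category.assoc, hLf]
      refine HomSheaf.hom_ext ?_
      rw [HomSheaf.famOf_map, HomSheaf.famOf_sec, hψq, Category.assoc]
    · rw [Category.assoc]
      show (AlgSp.yon S).map q ≫ L ≫ a = _
      rw [hLa, ← Functor.map_comp, ← hsq.w, Functor.map_comp]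
      exact sq.w.symm
  have hLφ : L ≫ φ = 𝟙 _ := by
    obtain ⟨r, hr⟩ := (AlgSp.yon S).map_surjective (L ≫ φ)
    rw [← hr]
    have : r = 𝟙 B := AlgSpCov.eq_of_fpqc q ((AlgSp.yon S).map_injective (by
      rw [Functor.map_comp, hr, reassoc_of% hqL, Category.comp_id]
      exact (Category.assoc _ _ _).symm.trans hφ))
    rw [this, CategoryTheory.Functor.map_id]
  have : IsIso L := Groth.Agent.AlgSp.isIso_of_yon L fun T x => by
    obtain ⟨y, hy⟩ := (AlgSp.yon S).map_surjective (x ≫ φ)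
    refine ⟨y, inj _ _ (by rw [Category.assoc, hLφ, Category.comp_id, hy]), fun y' hy' => ?_⟩
    refine (AlgSp.yon S).map_injective ?_
    rw [hy, ← hy', Category.assoc, hLφ, Category.comp_id]
  exact ⟨B, _, u₀, IsPullback.of_iso_pullback ⟨hE.hom_ext _ _⟩ (asIso L) hLf hLa⟩

/-- The sheaf of characters of a twisted constant commutative group is representable. -/
theorem exists_rep (hcov : ∀ V : S.Opens, IsAffineOpen V → ∃ (κ : Type u) (_ : Finite κ) (c : κ → CChart R)
    (p : ∀ k, (c k).U ⟶ (V : Scheme.{u})), (∀ k, IsAffine (c k).U) ∧ (∀ k, p k ≫ V.ι = (c k).q) ∧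
      (∀ k, Flat (p k)) ∧ ∀ z, ∃ k, z ∈ Set.range (p k)) :
    ∃ D : Over S, Nonempty ((AlgSp.yon S).obj D ≅ HomSheaf.sheaf R (Red.Gm S)) := by
  let hT : IsTerminal (Over.mk (𝟙 S)) := Over.mkIdTerminal
  let hE := hT.isTerminalObj (AlgSp.yon S)
  refine Groth.Agent.AlgSp.exists_iso_of_affineOpens (hE.from (HomSheaf.sheaf R (Red.Gm S))) fun V => ?_
  obtain ⟨κ, _, c, p, haff, hp, hflat, hcov'⟩ := hcov V.1 V.2
  have : IsAffine (Groth.Agent.AlgSp.openOver (Over.mk (𝟙 S)) V.1).left := V.2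
  obtain ⟨B, π, u₀, sq⟩ := exists_affine_square hE (U := Groth.Agent.AlgSp.openOver (Over.mk (𝟙 S)) V.1) c
    (fun k => Over.homMk (p k) (by
      show p k ≫ V.1.ι ≫ 𝟙 S = (c k).q
      exact (congrArg (p k ≫ ·) (Category.comp_id V.1.ι)).trans (hp k))) hflat hcov'
  exact ⟨B, π, u₀, by rwa [hE.hom_ext ((AlgSp.yon S).map _) (hE.from _)]⟩

end Groth.Agent.DiagRig.ConstDual
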