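import Groth.Agent.TwCLib.Etale
import Groth.Agent.AlgSpB.Bootstrap2
import Groth.Agent.SchPoints.Basic
import Mathlib.AlgebraicGeometry.Morphisms.Proper

/-! Pieces of twisted constant schemes over small opens of an etale cover. -/

universe u

open CategoryTheory AlgebraicGeometry Limits

noncomputable section

namespace Groth.Agent.DiagRig

set_option backward.isDefEq.respectTransparency.types false in
/-- A quasi-compact closed subscheme of a disjoint union of copies of an affine scheme is finite over it. -/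
theorem finite_const (V : Scheme.{u}) [IsAffine V] (I : Type u) {Z P : Scheme.{u}} (p : P ⟶ V)
    (e : I → (V ⟶ P)) [∀ i, IsOpenImmersion (e i)] (hsec : ∀ i, e i ≫ p = 𝟙 V)
    (hdisj : ∀ i k x y, (e i).base x = (e k).base y → i = k) (hcov : ∀ x, ∃ i, x ∈ Set.range (e i).base)
    (z : Z ⟶ P) [IsClosedImmersion z] [QuasiCompact (z ≫ p)] :
    IsFinite (z ≫ p) := by
  classical
  have : CompactSpace Z := QuasiCompact.compactSpace_of_compactSpace (z ≫ p)
  obtain ⟨F, hF⟩ := isCompact_univ.elim_finite_subcover (fun i : I => z.base ⁻¹' Set.range (e i).base)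
    (fun i => (e i).isOpenEmbedding.isOpen_range.preimage z.base.hom.continuous)
    (fun x _ => Set.mem_iUnion.mpr (by
      exact hcov (z.base x)))
  let j : (∐ fun i : F => V : Scheme.{u}) ⟶ P :=
    Limits.Sigma.desc fun i : F => e i.1
  let w : (∐ fun i : F => V : Scheme.{u}) ⟶ V := Limits.Sigma.desc fun _ : F => 𝟙 V
  have hjw : j ≫ p = w := Limits.Sigma.hom_ext _ _ fun i => by simp [j, w, hsec]
  have : IsOpenImmersion j := by
    refine isOpenImmersion_sigmaDesc _ _ fun a b hab => ?_
    show Disjoint (Set.range (e a.1).base) (Set.range (e b.1).base)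
    rw [Set.disjoint_iff_forall_ne]
    rintro _ ⟨x, rfl⟩ _ ⟨y, rfl⟩ h
    exact hab (Subtype.ext (hdisj _ _ _ _ h))
  have hr : Set.range z.base ⊆ Set.range j.base := by
    rintro _ ⟨x, rfl⟩
    obtain ⟨i, hi, s, hs⟩ := Set.mem_iUnion₂.mp (hF (Set.mem_univ x))
    refine ⟨(Limits.Sigma.ι (fun _ : F => V) ⟨i, hi⟩).base s, ?_⟩
    rw [← Scheme.Hom.comp_apply, Limits.Sigma.ι_desc]
    exact hs
  have hfac := IsOpenImmersion.lift_fac j z hr
  set l := IsOpenImmersion.lift j z hr
  have : IsClosedImmersion (l ≫ j) := hfac ▸ inferInstance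
  have : IsClosedImmersion l := IsClosedImmersion.of_comp l j
  have : IsFinite w := by
    have := TwCLib.isSeparated_constHom V F
    have := TwCLib.etale_constHom V F
    have : IsAffineHom w := isAffineHom_of_isAffine w
    have : UniversallyClosed w := TwCLib.universallyClosed_of_jointlySurjective
      (fun i : F => Limits.Sigma.ι (fun _ : F => V) i) w
      (fun x => let ⟨i, s, hs⟩ := TwCLib.exists_ι_eq V F x; ⟨i, s, hs⟩)
      (fun i => by simp [w]; infer_instance)
    have : IsProper w := {}
    exact IsFinite.iff_isProper_and_isAffineHom.mpr ⟨inferInstance, inferInstance⟩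
  rw [← hfac, Category.assoc, hjw]
  infer_instance

/-- A constant scheme restricts to an open immersion as a disjoint union of sections. -/
theorem exists_sections {S U V : Scheme.{u}} (R : Over S) (g₁ : U ⟶ S) {I : Type u}
    (e : Red.bc g₁ R ≅ TwC.const U I) (h : V ⟶ U) [IsOpenImmersion h] (g : V ⟶ S) (hg : h ≫ g₁ = g) :
    ∃ s : I → (V ⟶ pullback R.hom g), (∀ i, IsOpenImmersion (s i)) ∧
      (∀ i, s i ≫ pullback.snd R.hom g = 𝟙 V) ∧ (∀ i k x y, (s i).base x = (s k).base y → i = k) ∧
      ∀ x, ∃ i, x ∈ Set.range (s i).base := by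
  let m : pullback R.hom g ⟶ pullback R.hom g₁ :=
    pullback.lift (pullback.fst _ _) (pullback.snd _ _ ≫ h) (by rw [Category.assoc, hg]; exact pullback.condition)
  have hm : IsPullback m (pullback.snd R.hom g) (pullback.snd R.hom g₁) h :=
    IsPullback.of_right (by
      rw [hg, show m ≫ pullback.fst R.hom g₁ = pullback.fst R.hom g from pullback.lift_fst _ _ _]
      exact IsPullback.of_hasPullback R.hom g) (pullback.lift_snd _ _ _) (IsPullback.of_hasPullback _ _)
  have : IsOpenImmersion m := MorphismProperty.of_isPullback hm.flip (inferInstanceAs (IsOpenImmersion h))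
  let ei : I → (V ⟶ pullback R.hom g₁) := fun i =>
    h ≫ Limits.Sigma.ι (fun _ : I => U) i ≫ e.inv.left
  have hei : ∀ i, ei i ≫ pullback.snd R.hom g₁ = 𝟙 _ ≫ h := fun i => by
    have h1 : e.inv.left ≫ pullback.snd R.hom g₁ = (TwC.const U I).hom :=
      CategoryTheory.Over.w e.inv
    simp [ei, h1]
  let s : I → (V ⟶ pullback R.hom g) := fun i => hm.lift (ei i) (𝟙 _) (hei i)
  have hsm : ∀ i, s i ≫ m = ei i := fun i => hm.lift_fst _ _ _
  have : ∀ i, IsOpenImmersion (s i) := fun i => by
    have : IsIso e.inv.left := inferInstance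
    have : IsOpenImmersion (s i ≫ m) := by rw [hsm]; infer_instance
    exact IsOpenImmersion.of_comp (s i) m
  have hinj : Function.Injective e.inv.left.base :=
    (CategoryTheory.asIso e.inv.left).schemeIsoToHomeo.injective
  refine ⟨s, inferInstance, fun i => hm.lift_snd _ _ _, ?_, ?_⟩
  · intro i k x y hxy
    have h1 : (ei i).base x = (ei k).base y := by
      rw [← hsm, ← hsm, Scheme.Hom.comp_apply, Scheme.Hom.comp_apply, hxy]
    simp only [ei, Scheme.Hom.comp_apply] at h1
    exact congrArg Sigma.fst ((sigmaι_eq_iff _ _ _ _ _).mp (hinj h1))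
  · intro x
    obtain ⟨i, a, ha⟩ := TwCLib.exists_ι_eq U I (e.hom.left.base (m.base x))
    refine ⟨i, (pullback.snd R.hom g).base x, m.isOpenEmbedding.injective ?_⟩
    rw [← Scheme.Hom.comp_apply, hsm]
    have h2 : a = h.base ((pullback.snd R.hom g).base x) := by
      have h3 := congrArg (TwC.const U I).hom.base ha
      have h4 : e.hom.left ≫ (TwC.const U I).hom = pullback.snd R.hom g₁ :=
        CategoryTheory.Over.w e.hom
      rw [← Scheme.Hom.comp_apply, ← Scheme.Hom.comp_apply, ← Scheme.Hom.comp_apply] at h3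
      rw [show Limits.Sigma.ι (fun _ : I => U) i ≫ (TwC.const U I).hom = 𝟙 _ from
        Limits.Sigma.ι_desc _ _, h4, hm.w] at h3
      exact h3
    simp only [ei, Scheme.Hom.comp_apply, ← h2, ha]
    rw [← Scheme.Hom.comp_apply, ← Over.comp_left, e.hom_inv_id]
    rfl

end Groth.Agent.DiagRig
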