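import Mathlib.Algebra.MonoidAlgebra.Basic
import Mathlib.RingTheory.Ideal.Operations
import Mathlib.RingTheory.Ideal.Quotient.Operations
import Mathlib.RingTheory.Nilpotent.Basic

/-! Rigidity of actions of diagonalisable groups on affine schemes, on points. -/

universe u

namespace Groth.Agent.DiagRig

variable {R : Type u} [CommRing R] {B : Type u} [CommRing B] [Algebra R B] {M : Type} [AddCommGroup M]

/-- An action of `D_R(M)` on `Spec B`, on points. -/
structure PtsAction (R B : Type u) [CommRing R] [CommRing B] [Algebra R B] (M : Type) [AddCommGroup M] where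
  act : ∀ (T : Type u) [CommRing T] [Algebra R T], (Multiplicative M →* T) → (B →ₐ[R] T) → (B →ₐ[R] T)
  act_one : ∀ (T : Type u) [CommRing T] [Algebra R T] (x : B →ₐ[R] T), act T 1 x = x
  act_mul : ∀ (T : Type u) [CommRing T] [Algebra R T] (s t : Multiplicative M →* T) (x : B →ₐ[R] T),
    act T (s * t) x = act T s (act T t x)
  natural : ∀ (T T' : Type u) [CommRing T] [Algebra R T] [CommRing T'] [Algebra R T'] (h : T →ₐ[R] T')
    (t : Multiplicative M →* T) (x : B →ₐ[R] T),
    h.comp (act T t x) = act T' (h.toRingHom.toMonoidHom.comp t) (h.comp x)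

lemma sOne {N : Type} [Monoid N] {C : Type u} [CommRing C] [Algebra R C] (b : C) :
    (MonoidAlgebra.singleOneAlgHom : C →ₐ[R] MonoidAlgebra C N) b = MonoidAlgebra.single 1 b := rfl

namespace PtsAction

variable (A : PtsAction R B M)

noncomputable section

/-- The coaction. -/
def φ : B →ₐ[R] MonoidAlgebra B (Multiplicative M) :=
  A.act (MonoidAlgebra B (Multiplicative M)) (MonoidAlgebra.of B (Multiplicative M))
    MonoidAlgebra.singleOneAlgHom

lemma act_eq (T : Type u) [CommRing T] [Algebra R T] (t : Multiplicative M →* T) (x : B →ₐ[R] T) :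
    A.act T t x = (MonoidAlgebra.liftNCAlgHom x t fun _ _ => Commute.all _ _).comp A.φ := by
  rw [φ, A.natural]
  congr 1
  · ext m; simp
  · ext b; simp

/-- The graded components. -/
def π (m : Multiplicative M) (b : B) : B := (A.φ b).coeff m

variable [DecidableEq M]

lemma π_π (m : Multiplicative M) (b : B) : A.π m (A.π m b) = A.π m b := by
  let s : (Multiplicative M) →* (MonoidAlgebra B (Multiplicative M × Multiplicative M)) := (MonoidAlgebra.of B ((Multiplicative M) × (Multiplicative M))).comp (MonoidHom.inl (Multiplicative M) (Multiplicative M))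
  let t : (Multiplicative M) →* (MonoidAlgebra B (Multiplicative M × Multiplicative M)) := (MonoidAlgebra.of B ((Multiplicative M) × (Multiplicative M))).comp (MonoidHom.inr (Multiplicative M) (Multiplicative M))
  let x : B →ₐ[R] (MonoidAlgebra B (Multiplicative M × Multiplicative M)) := MonoidAlgebra.singleOneAlgHom
  have h := DFunLike.congr_fun (A.act_mul (MonoidAlgebra B (Multiplicative M × Multiplicative M)) s t x) b
  have hx : ∀ c, x c = MonoidAlgebra.single 1 c := fun c => rfl
  have hb : A.φ b = (A.φ b).coeff.sum fun n c => MonoidAlgebra.single n c :=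
    (MonoidAlgebra.sum_coeff_single (A.φ b)).symm
  have hl : A.act (MonoidAlgebra B (Multiplicative M × Multiplicative M)) (s * t) x b =
      (A.φ b).coeff.sum fun n c => MonoidAlgebra.single ((n, n) : (Multiplicative M) × (Multiplicative M)) c := by
    rw [A.act_eq, AlgHom.comp_apply]
    conv_lhs => rw [hb]
    rw [map_finsuppSum]
    simp [s, t, hx, MonoidAlgebra.single_mul_single]
  have hr : ∀ c : B, A.act (MonoidAlgebra B (Multiplicative M × Multiplicative M)) t x c =
      (A.φ c).coeff.sum fun n d => MonoidAlgebra.single ((1, n) : (Multiplicative M) × (Multiplicative M)) d := by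
    intro c
    rw [A.act_eq, AlgHom.comp_apply]
    conv_lhs => rw [show A.φ c = (A.φ c).coeff.sum fun n d => MonoidAlgebra.single n d from
      (MonoidAlgebra.sum_coeff_single (A.φ c)).symm]
    rw [map_finsuppSum]
    simp [t, hx, MonoidAlgebra.single_mul_single]
  have hrr : A.act (MonoidAlgebra B (Multiplicative M × Multiplicative M)) s (A.act (MonoidAlgebra B (Multiplicative M × Multiplicative M)) t x) b = (A.φ b).coeff.sum fun n c =>
      (A.φ c).coeff.sum fun k d => MonoidAlgebra.single ((n, k) : (Multiplicative M) × (Multiplicative M)) d := by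
    rw [A.act_eq (MonoidAlgebra B (Multiplicative M × Multiplicative M)) s, AlgHom.comp_apply]
    conv_lhs => rw [hb]
    rw [map_finsuppSum]
    refine Finsupp.sum_congr fun n _ => ?_
    simp [hr, s, Finsupp.sum_mul, MonoidAlgebra.single_mul_single]
  rw [hl, hrr] at h
  have h2 := congrArg (fun z : (MonoidAlgebra B (Multiplicative M × Multiplicative M)) => z.coeff (m, m)) h
  simp only [Finsupp.sum, MonoidAlgebra.coeff_sum, Finsupp.coe_finsetSum, Finset.sum_apply,
    MonoidAlgebra.coeff_single, Finsupp.single_apply, Prod.mk.injEq, and_self] at h2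
  simp only [Finset.sum_ite_eq', ite_and] at h2
  by_cases hm : m ∈ (A.φ b).coeff.support
  · rw [Finset.sum_eq_single_of_mem m hm (fun n _ hn => by simp [hn])] at h2
    simp only [if_true, Finset.sum_ite_eq'] at h2
    rw [π, π]
    split_ifs at h2 with h3
    · exact h2.symm
    · exact (Finsupp.notMem_support_iff.mp h3).trans h2.symm
  · rw [Finsupp.notMem_support_iff] at hm
    simp [π, hm]

/-- An action trivial modulo a nilpotent ideal is trivial. -/
theorem trivial_of_trivial_mod (I : Ideal R) (hI : IsNilpotent I)
    (h0 : ∀ (T : Type u) [CommRing T] [Algebra R T], (∀ r ∈ I, algebraMap R T r = 0) →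
      ∀ (t : Multiplicative M →* T) (x : B →ₐ[R] T), A.act T t x = x)
    (T : Type u) [CommRing T] [Algebra R T] (t : Multiplicative M →* T) (x : B →ₐ[R] T) :
    A.act T t x = x := by
  classical
  -- the components in nonzero degree lie in I·(component)
  have hcomp : ∀ m : Multiplicative M, m ≠ 1 → ∀ (k : ℕ) (b : B),
      A.π m b ∈ (I ^ k).map (algebraMap R B) := by
    intro m hm k
    let J := I.map (algebraMap R B)
    have h1 : ∀ b, A.π m b ∈ J := by
      intro b
      let q : B →ₐ[R] B ⧸ J := Ideal.Quotient.mkₐ R J
      let h := MonoidAlgebra.mapAlgHom (M := Multiplicative M) q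
      have e := A.natural _ _ h (MonoidAlgebra.of B (Multiplicative M)) MonoidAlgebra.singleOneAlgHom
      rw [h0 (MonoidAlgebra (B ⧸ J) (Multiplicative M)) (fun r hr => by
        rw [IsScalarTower.algebraMap_apply R (B ⧸ J) (MonoidAlgebra (B ⧸ J) (Multiplicative M)),
          IsScalarTower.algebraMap_apply R B (B ⧸ J),
          show algebraMap B (B ⧸ J) (algebraMap R B r) = 0 from
            Ideal.Quotient.eq_zero_iff_mem.mpr (Ideal.mem_map_of_mem _ hr), map_zero])] at e
      have e2 := congrArg (fun z : MonoidAlgebra (B ⧸ J) (Multiplicative M) => z.coeff m)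
        (DFunLike.congr_fun e b)
      change q ((A.φ b).coeff m) = _ at e2
      rw [← Ideal.Quotient.eq_zero_iff_mem]
      refine e2.trans ?_
      simp [h, Finsupp.single_apply, Ne.symm hm, hm]
    induction k with
    | zero => intro b; rw [pow_zero, Ideal.one_eq_top, Ideal.map_top]; trivial
    | succ k ih =>
      intro b
      rw [← A.π_π m b]
      have hlin : ∀ (r : R) (c : B), A.π m (algebraMap R B r * c) = algebraMap R B r * A.π m c :=
        fun r c => by
        simp only [π, ← Algebra.smul_def, map_smul, MonoidAlgebra.coeff_smul, Finsupp.smul_apply]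
      have key : ∀ c ∈ I • (⊤ : Submodule R B), A.π m c ∈ (I ^ (k + 1)).map (algebraMap R B) := by
        intro c hc
        refine Submodule.smul_induction_on hc (fun r hr c _ => ?_) (fun c d hc hd => ?_)
        · rw [Algebra.smul_def, hlin, pow_succ', Ideal.map_mul]
          exact Ideal.mul_mem_mul (Ideal.mem_map_of_mem _ hr) (ih c)
        · simpa [π] using add_mem hc hd
      refine key _ ?_
      rw [Ideal.smul_top_eq_map]
      exact h1 b
  obtain ⟨n, hn⟩ := hI
  have hz : ∀ m : Multiplicative M, m ≠ 1 → ∀ b, A.π m b = 0 := fun m hm b => by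
    simpa [hn] using hcomp m hm n b
  have hφ : ∀ b, A.φ b = MonoidAlgebra.single 1 b := by
    intro b
    have hs : A.φ b = MonoidAlgebra.single 1 (A.π 1 b) := by
      ext m
      by_cases hm : m = 1
      · subst hm; simp [π]
      · simpa [π, Finsupp.single_apply, Ne.symm hm, hm] using hz m hm b
    have h1 := DFunLike.congr_fun (A.act_one B (AlgHom.id R B)) b
    rw [A.act_eq, AlgHom.comp_apply, hs] at h1
    simp at h1
    rw [hs, h1]
  rw [A.act_eq]
  ext b
  simp [hφ]

end

end PtsAction

end Groth.Agent.DiagRig
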