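import Groth.Agent.DiagRig.Inj

/-! Checking equalities of morphisms out of locally diagonalisable groups on character points. -/

universe u

open CategoryTheory MonoidalCategory CartesianMonoidalCategory MonObj GrpObj AlgebraicGeometry Limits

noncomputable section

namespace Groth.Agent.DiagRig

variable {S : Scheme.{u}}

/-- Two morphisms agree if they agree on the affine test points where a given point of a locally split group is a
character point. -/
theorem eq_of_split_points {G Z Y₀ : Over S} [GrpObj G] {S' : Scheme.{u}} (f : S' ⟶ S) [Flat f] [Surjective f]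
    (hsplit : ∀ s' : S', ∃ V : S'.Opens, s' ∈ V ∧ ∃ (M : Type) (_ : AddCommGroup M),
      ∃ P : SplitPts (V.ι ≫ f) G M, P.Inj)
    (g₀ : Y₀ ⟶ G) (u v : Y₀ ⟶ Z)
    (h : ∀ (R : CommRingCat.{u}) (p : Spec R ⟶ S) (M : Type) [AddCommGroup M] (P : SplitPts p G M) (_ : P.Inj)
      (T : Type u) [CommRing T] [Algebra R T] (t : Multiplicative M →* T)
      (ρ : (Over.map p).obj (specOver T) ⟶ Y₀), gPt p P t = ρ ≫ g₀ → ρ ≫ u = ρ ≫ v) :
    u = v := by
  suffices key : ∀ (Y : Over S') (ρ₀ : (Over.map f).obj Y ⟶ Y₀), ρ₀ ≫ u = ρ₀ ≫ v by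
    let π : (Over.map f).obj (Over.mk (pullback.snd Y₀.hom f)) ⟶ Y₀ :=
      Over.homMk (pullback.fst Y₀.hom f) pullback.condition
    have : Epi π.left := Flat.epi_of_flat_of_surjective (pullback.fst Y₀.hom f)
    have : Epi π := Over.epi_of_epi_left π
    exact (cancel_epi π).mp (key _ π)
  intro Y ρ₀
  ext1
  refine hom_ext_of_forall _ _ fun y => ?_
  obtain ⟨V, hV, M, _, P, hP⟩ := hsplit (Y.hom.base y)
  obtain ⟨W, hW, hyW, -⟩ := exists_isAffineOpen_mem_and_subset (X := V.toScheme) (x := (⟨Y.hom.base y, hV⟩ : V)) (U := ⊤) trivial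
  let R := Γ(V.toScheme, W)
  let j : Spec R ⟶ V.toScheme := hW.fromSpec
  let jS : Spec R ⟶ S' := j ≫ V.ι
  let O := Y.hom ⁻¹ᵁ jS.opensRange
  have hy : y ∈ O := by
    obtain ⟨z, hz⟩ : (⟨Y.hom.base y, hV⟩ : V) ∈ Set.range hW.fromSpec.base := by
      rw [hW.range_fromSpec]; exact hyW
    exact ⟨z, congrArg Subtype.val hz⟩
  obtain ⟨C, hC, hyC, -⟩ := exists_isAffineOpen_mem_and_subset (X := O.toScheme) (x := (⟨y, hy⟩ : O)) (U := ⊤) trivial
  refine ⟨O.ι ''ᵁ C, ⟨_, hyC, rfl⟩, ?_⟩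
  let T := Γ(O.toScheme, C)
  let c : Spec T ⟶ O.toScheme := hC.fromSpec
  have hrange : Set.range ((c ≫ O.ι) ≫ Y.hom).base ⊆ Set.range jS.base := by
    rintro _ ⟨z, rfl⟩
    exact (c.base z).2
  let φT : R ⟶ T := Spec.preimage (IsOpenImmersion.lift jS ((c ≫ O.ι) ≫ Y.hom) hrange)
  letI : Algebra R T := φT.hom.toAlgebra
  have hφT : Spec.map (CommRingCat.ofHom (algebraMap R T)) ≫ jS = (c ≫ O.ι) ≫ Y.hom :=
    (congrArg (· ≫ jS) (Spec.map_preimage _)).trans (IsOpenImmersion.lift_fac _ _ _)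
  let p : Spec R ⟶ S := j ≫ V.ι ≫ f
  let P' : SplitPts p G M := P.restrict j
  let ρ : (Over.map p).obj (specOver (R := R) T) ⟶ (Over.map f).obj Y :=
    Over.homMk (c ≫ O.ι) (by
      show (c ≫ O.ι) ≫ Y.hom ≫ f = Spec.map _ ≫ j ≫ V.ι ≫ f
      rw [← Category.assoc, ← hφT]
      simp [jS])
  obtain ⟨t, ht⟩ := P'.σ_surjective ((ρ ≫ ρ₀) ≫ g₀)
  let t' : Multiplicative M →* T := (Scheme.ΓSpecIso T).hom.hom.toMonoidHom.comp t
  have ht' : gPt p P' t' = (ρ ≫ ρ₀) ≫ g₀ := by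
    rw [gPt, ← ht]
    congr 1
    ext z
    exact congr($(Iso.hom_inv_id (Scheme.ΓSpecIso T)) (t z))
  have main := h R p M P' (hP.restrict j) T t' (ρ ≫ ρ₀) ht'
  rw [Category.assoc, Category.assoc] at main
  have e1 := congr($(main).left)
  simp only [Over.comp_left] at e1
  let c' : Spec T ≅ C.toScheme := hC.isoSpec.symm
  have hc : c = c'.hom ≫ C.ι := rfl
  have e2 : c'.hom ≫ ((C.ι ≫ O.ι) ≫ (ρ₀ ≫ u).left) = c'.hom ≫ ((C.ι ≫ O.ι) ≫ (ρ₀ ≫ v).left) := by
    simpa [ρ, hc] using e1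
  rw [cancel_epi] at e2
  rw [← Scheme.Hom.isoImage_inv_ι O.ι C]
  simp only [Category.assoc] at e2 ⊢
  exact congrArg ((O.ι.isoImage C).inv ≫ ·) e2

/-- Two morphisms out of a group split over an fpqc cover agree if they agree on character points. -/
theorem eq_of_split_cover {G Z : Over S} [GrpObj G] {S' : Scheme.{u}} (f : S' ⟶ S) [Flat f] [Surjective f]
    (hsplit : ∀ s' : S', ∃ V : S'.Opens, s' ∈ V ∧ ∃ (M : Type) (_ : AddCommGroup M),
      ∃ P : SplitPts (V.ι ≫ f) G M, P.Inj)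
    (u v : G ⟶ Z)
    (h : ∀ (R : CommRingCat.{u}) (p : Spec R ⟶ S) (M : Type) [AddCommGroup M] (P : SplitPts p G M) (_ : P.Inj)
      (T : Type u) [CommRing T] [Algebra R T] (t : Multiplicative M →* T), gPt p P t ≫ u = gPt p P t ≫ v) :
    u = v :=
  eq_of_split_points f hsplit (𝟙 G) u v fun R p M _ P hP T _ _ t ρ hρ => by
    rw [Category.comp_id] at hρ
    exact hρ ▸ h R p M P hP T t

end Groth.Agent.DiagRig
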