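import Groth.Prelude.Def_Red2
import Groth.Agent.DiagRig.CharLift
import Mathlib.RingTheory.Flat.FaithfullyFlat.Algebra
import Mathlib.AlgebraicGeometry.Morphisms.Flat

/-! Group algebras along injective maps of groups are faithfully flat. -/

universe u

open CategoryTheory AlgebraicGeometry MonoidAlgebra

noncomputable section

namespace Groth.Agent.DiagRig

variable (R : Type u) [CommRing R] {M N : Type} [AddCommGroup M] [AddCommGroup N] (φ : M →+ N)

/-- The map of group algebras along `φ`. -/
abbrev monMap : MonoidAlgebra R (Multiplicative M) →ₐ[R] MonoidAlgebra R (Multiplicative N) :=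
  MonoidAlgebra.mapDomainAlgHom R R (AddMonoidHom.toMultiplicative φ)

theorem faithfullyFlat_monMap [Nontrivial R] (hφ : Function.Injective φ) :
    (monMap R φ).toRingHom.FaithfullyFlat := by
  classical
  algebraize [(monMap R φ).toRingHom]
  show Module.FaithfullyFlat (MonoidAlgebra R (Multiplicative M)) (MonoidAlgebra R (Multiplicative N))
  let Q := N ⧸ φ.range
  let π : N → Q := fun n => (n : Q)
  have hsec : ∀ q : Q, π (Quotient.out q) = q := fun q => Quotient.out_eq q
  have hm : ∀ n : N, ∃ m : M, φ m = n - Quotient.out (π n) := fun n => by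
    have h := hsec (π n)
    rw [QuotientAddGroup.eq] at h
    obtain ⟨m, hm⟩ := AddMonoidHom.mem_range.mp h
    exact ⟨m, hm.trans (by abel)⟩
  choose μ hμ using hm
  have hπ : ∀ q m, π (Quotient.out q + φ m) = q := fun q m => by
    refine ((QuotientAddGroup.eq (s := φ.range)).mpr ⟨-m, ?_⟩).trans (hsec q)
    rw [map_neg]; abel
  have hμ' : ∀ q m, μ (Quotient.out q + φ m) = m := fun q m => hφ (by rw [hμ, hπ]; abel)
  let A := MonoidAlgebra R (Multiplicative M)
  let B := MonoidAlgebra R (Multiplicative N)
  let Ψ : (Q →₀ A) →ₗ[A] B := Finsupp.linearCombination A fun q =>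
    MonoidAlgebra.single (Multiplicative.ofAdd (Quotient.out q)) (1 : R)
  let inv : B →+ (Q →₀ A) := (Finsupp.liftAddHom fun n : Multiplicative N =>
    (Finsupp.singleAddHom (π n.toAdd)).comp (MonoidAlgebra.singleAddHom (Multiplicative.ofAdd (μ n.toAdd)))).comp
      (MonoidAlgebra.coeffAddEquiv).toAddMonoidHom
  have hinv : ∀ n r, inv (MonoidAlgebra.single n r) =
      Finsupp.single (π n.toAdd) (MonoidAlgebra.single (Multiplicative.ofAdd (μ n.toAdd)) r) := fun n r => by
    show (Finsupp.liftAddHom _) ((MonoidAlgebra.single n r).coeff) = _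
    rw [MonoidAlgebra.coeff_single, Finsupp.liftAddHom_apply_single]
    rfl
  have hΨ : ∀ q m r, Ψ (Finsupp.single q (MonoidAlgebra.single (Multiplicative.ofAdd m) r)) =
      MonoidAlgebra.single (Multiplicative.ofAdd (Quotient.out q + φ m)) r := fun q m r => by
    simp only [Ψ, Finsupp.linearCombination_single, Algebra.smul_def]
    show monMap R φ (MonoidAlgebra.single (Multiplicative.ofAdd m) r) * _ = _
    simp [monMap, MonoidAlgebra.single_mul_single, add_comm, ← ofAdd_add]
  have h1 : ∀ b, Ψ (inv b) = b := fun b => by
    induction b using MonoidAlgebra.induction_linear with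
    | zero => simp
    | add a b ha hb => rw [map_add, map_add, ha, hb]
    | single n r =>
      rw [hinv, hΨ, hμ]
      simp
  have h2 : ∀ a, inv (Ψ a) = a := fun a => by
    induction a using Finsupp.induction_linear with
    | zero => simp
    | add a b ha hb => rw [map_add, map_add, ha, hb]
    | single q a =>
      induction a using MonoidAlgebra.induction_linear with
      | zero => simp
      | add a b ha hb => rw [Finsupp.single_add, map_add, map_add, ha, hb]
      | single m r =>
        obtain ⟨m, rfl⟩ : ∃ x, Multiplicative.ofAdd x = m := ⟨m.toAdd, ofAdd_toAdd m⟩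
        rw [hΨ, hinv, toAdd_ofAdd, hπ, hμ']
  have : Nonempty Q := ⟨π 0⟩
  have : Module.FaithfullyFlat A (Q →₀ A) := inferInstance
  exact Module.FaithfullyFlat.of_linearEquiv A (Q →₀ A)
    (LinearEquiv.ofBijective Ψ ⟨Function.LeftInverse.injective h2, Function.RightInverse.surjective h1⟩).symm

end Groth.Agent.DiagRig
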