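import Groth.Agent.DiagRig.CoeffIdeal
import Groth.Agent.GrpScheme.ClosedRepProd
import Groth.Prelude.Def_SGA3x
import Mathlib.RingTheory.Flat.FaithfullyFlat.Algebra
import Mathlib.LinearAlgebra.TensorProduct.Pi
import Mathlib.AlgebraicGeometry.Morphisms.Separated
import Mathlib.AlgebraicGeometry.Morphisms.FinitePresentation

/-! Agreement loci of morphisms out of `X × H`, with `H` fpqc-locally split, are closed subschemes. -/

universe u

open CategoryTheory MonoidalCategory CartesianMonoidalCategory MonObj GrpObj AlgebraicGeometry Limits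
open scoped TensorProduct

noncomputable section

namespace Groth.Agent.DiagRig

/-! ### Ideals along flat families -/

/-- Compatible ideals along a flat family are extended from the base. -/
lemma le_map_of_compatible {A : Type u} [CommRing A] {κ : Type u} [Finite κ] (B : κ → Type u)
    [∀ k, CommRing (B k)] [∀ k, Algebra A (B k)] [∀ k, Module.Flat A (B k)] (I : ∀ k, Ideal (B k))
    (h : ∀ j k, ∀ x ∈ I k, (1 : B j ⧸ I j) ⊗ₜ[A] x = (0 : (B j ⧸ I j) ⊗[A] B k)) (k : κ) :
    I k ≤ (⨅ j, (I j).comap (algebraMap A (B j))).map (algebraMap A (B k)) := by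
  classical
  cases nonempty_fintype κ
  let I₀ : Ideal A := ⨅ j, (I j).comap (algebraMap A (B j))
  let φ : (A ⧸ I₀) →ₗ[A] ∀ j, B j ⧸ I j :=
    Submodule.liftQ I₀ (LinearMap.pi fun j => (Algebra.linearMap A (B j ⧸ I j))) (fun a ha => by
      rw [LinearMap.mem_ker]
      ext j
      have : a ∈ (I j).comap (algebraMap A (B j)) := (Submodule.mem_iInf _).mp ha j
      show algebraMap A (B j ⧸ I j) a = 0
      rw [IsScalarTower.algebraMap_apply A (B j) (B j ⧸ I j)]
      exact Ideal.Quotient.eq_zero_iff_mem.mpr this)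
  have hφ : Function.Injective φ := by
    rw [← LinearMap.ker_eq_bot]
    refine Submodule.ker_liftQ_eq_bot _ _ _ fun a ha => ?_
    rw [LinearMap.mem_ker] at ha
    refine (Submodule.mem_iInf _).mpr fun j => ?_
    have := congrFun ha j
    show algebraMap A (B j) a ∈ I j
    rw [← Ideal.Quotient.eq_zero_iff_mem]
    exact this
  have hinj := Module.Flat.rTensor_preserves_injective_linearMap (M := B k) φ hφ
  intro x hx
  have h0 : φ.rTensor (B k) ((1 : A ⧸ I₀) ⊗ₜ[A] x) = 0 := by
    apply (TensorProduct.piLeft A (B k) (fun j => B j ⧸ I j)).injective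
    ext j
    simp only [map_zero, LinearMap.rTensor_tmul, Pi.zero_apply]
    simp only [TensorProduct.piLeft, LinearEquiv.trans_apply, TensorProduct.comm_tmul, TensorProduct.piRight_apply,
      TensorProduct.piRightHom_tmul, LinearEquiv.piCongrRight_apply]
    refine Eq.trans (congrArg (· ⊗ₜ[A] x) ?_) (h j k x hx)
    show algebraMap A (B j ⧸ I j) 1 = 1
    rw [map_one]
  have h1 : (1 : A ⧸ I₀) ⊗ₜ[A] x = 0 := hinj (by rw [h0, map_zero])
  have h2 := congrArg (TensorProduct.quotTensorEquivQuotSMul (B k) I₀) h1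
  rw [map_zero] at h2
  have h3 : Submodule.Quotient.mk (p := I₀ • (⊤ : Submodule A (B k))) x = 0 := by
    rw [← h2]
    symm
    exact TensorProduct.quotTensorEquivQuotSMul_mk_tmul I₀ 1 x |>.trans (by rw [one_smul])
  rw [Submodule.Quotient.mk_eq_zero, Ideal.smul_top_eq_map] at h3
  exact h3

variable {S : Scheme.{u}}

/-- Split fpqc-locally: over each affine open there is a finite flat cover with split charts. -/
def SplitFpqc (H : Over S) [GrpObj H] : Prop :=
  ∀ (W : S.affineOpens), ∃ (κ : Type u) (_ : Finite κ) (T : κ → CommRingCat.{u}) (t : ∀ k, Γ(S, W) ⟶ T k),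
    (∀ k, Flat (Spec.map (t k))) ∧ (∀ z, ∃ k q, (Spec.map (t k)).base q = z) ∧
      ∀ k, ∃ (M : Type) (_ : AddCommGroup M), ∃ P : SplitPts (Spec.map (t k) ≫ W.2.fromSpec) H M, P.Inj

lemma splitFpqc_of_cover (H : Over S) [GrpObj H] {S' : Scheme.{u}} (f : S' ⟶ S) [Flat f]
    (hcov : ∀ V : S.Opens, IsAffineOpen V → ∃ W : S'.Opens, IsCompact (W : Set S') ∧ f.base '' (W : Set S') = (V : Set S))
    (hloc : ∀ s' : S', ∃ U : S'.Opens, s' ∈ U ∧ ∃ (M : Type) (_ : AddCommGroup M),
      Nonempty (Grp.mk (Red.bc (U.ι ≫ f) H) ≅ Grp.mk (Red.DS (U : Scheme.{u}) M))) : SplitFpqc H := by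
  classical
  intro W
  obtain ⟨W₁, hW₁c, hW₁⟩ := hcov W.1 W.2
  have key : ∀ x : (W₁ : Set S'), ∃ V : S'.Opens, IsAffineOpen V ∧ x.1 ∈ V ∧ V ≤ f ⁻¹ᵁ W.1 ∧
      ∃ (M : Type) (_ : AddCommGroup M), ∃ P : SplitPts (V.ι ≫ f) H M, P.Inj := by
    intro x
    obtain ⟨U, hU, M, inst, ⟨e⟩⟩ := hloc x.1
    obtain ⟨V, hV, hxV, hsub⟩ := exists_isAffineOpen_mem_and_subset (X := S') (x := x.1) (U := U ⊓ f ⁻¹ᵁ W.1)
      ⟨hU, hW₁.le ⟨x.1, x.2, rfl⟩⟩
    refine ⟨V, hV, hxV, fun y hy => (hsub hy).2, M, inst, ?_⟩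
    have h : S'.homOfLE (show V ≤ U from fun y hy => (hsub hy).1) ≫ U.ι ≫ f = V.ι ≫ f := by
      rw [Scheme.homOfLE_ι_assoc]
    exact h ▸ ⟨(SplitPts.ofIso _ e).restrict _, SplitPts.Inj.restrict (SplitPts.ofIso_inj e) _⟩
  choose V hV hxV hVW M inst P hP using key
  obtain ⟨F, hF⟩ := hW₁c.elim_finite_subcover (fun x : (W₁ : Set S') => (V x : Set S')) (fun x => (V x).isOpen)
    (fun x hx => Set.mem_iUnion.mpr ⟨⟨x, hx⟩, hxV ⟨x, hx⟩⟩)
  have : IsOpenImmersion W.2.fromSpec := IsAffineOpen.isOpenImmersion_fromSpec _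
  let T : {x // x ∈ F} → CommRingCat.{u} := fun k => Γ(S', V k.1)
  have hr : ∀ k : {x // x ∈ F}, Set.range ((hV k.1).fromSpec ≫ f).base ⊆ Set.range W.2.fromSpec.base := by
    rintro k _ ⟨z, rfl⟩
    rw [W.2.range_fromSpec]
    exact hVW k.1 ((hV k.1).range_fromSpec.le ⟨z, rfl⟩)
  let t : ∀ k, Γ(S, W) ⟶ T k := fun k =>
    Spec.preimage (IsOpenImmersion.lift W.2.fromSpec ((hV k.1).fromSpec ≫ f) (hr k))
  have ht : ∀ k, Spec.map (t k) ≫ W.2.fromSpec = (hV k.1).fromSpec ≫ f := fun k => by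
    rw [Spec.map_preimage, IsOpenImmersion.lift_fac]
  refine ⟨{x // x ∈ F}, inferInstance, T, t, fun k => ?_, fun z => ?_, fun k => ?_⟩
  · have h : Flat (Spec.map (t k) ≫ W.2.fromSpec) := by rw [ht]; infer_instance
    have sq : IsPullback (𝟙 _) (Spec.map (t k)) (Spec.map (t k) ≫ W.2.fromSpec) W.2.fromSpec :=
      .of_horiz_isIso_mono ⟨by simp⟩
    exact MorphismProperty.of_isPullback (P := @Flat) sq h
  · obtain ⟨x, hx, hxs⟩ := hW₁.ge (W.2.range_fromSpec.le ⟨z, rfl⟩)
    obtain ⟨y, hyF, hy⟩ := Set.mem_iUnion₂.mp (hF hx)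
    obtain ⟨q, hq⟩ := (hV y).range_fromSpec.ge hy
    refine ⟨⟨y, hyF⟩, q, W.2.fromSpec.isOpenEmbedding.injective ?_⟩
    rw [← Scheme.Hom.comp_apply, ht, Scheme.Hom.comp_apply, hq, hxs]
  · have h : (hV k.1).isoSpec.inv ≫ (V k.1).ι ≫ f = Spec.map (t k) ≫ W.2.fromSpec := by
      rw [ht, ← Category.assoc]; rfl
    exact ⟨M k.1, inst k.1, h ▸ ⟨(P k.1).restrict _, SplitPts.Inj.restrict (hP k.1) _⟩⟩

lemma splitFpqc_of_multTypeFT (H : Over S) [GrpObj H] (hH : SGA3x.IsMultTypeFT H) : SplitFpqc H := by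
  obtain ⟨S', f, hf, -, hcov, hloc⟩ := hH
  exact splitFpqc_of_cover H f hcov fun s' =>
    let ⟨U, hU, M, inst, _, e⟩ := hloc s'; ⟨U, hU, M, inst, e⟩

/-- A closed immersion pulled back to an affine scheme is cut out by an ideal, finitely generated if the
immersion is locally of finite presentation. -/
lemma exists_ideal_factor_fg {E P : Scheme.{u}} (e : E ⟶ P) [IsClosedImmersion e]
    (R : CommRingCat.{u}) (j : Spec R ⟶ P) :
    ∃ J : Ideal R, (LocallyOfFinitePresentation e → J.FG) ∧ ∀ (D : CommRingCat.{u}) (ψ : R ⟶ D),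
      (∃ l, l ≫ e = Spec.map ψ ≫ j) ↔ J ≤ RingHom.ker ψ.hom := by
  obtain ⟨J, hJ⟩ := GrpScheme.ClosedRepProd.exists_ideal_factor e R j
  refine ⟨J, fun he => ?_, hJ⟩
  obtain ⟨I, iso, hiso⟩ := IsClosedImmersion.Spec_iff.mp (inferInstance : IsClosedImmersion (pullback.fst j e))
  have h1 : LocallyOfFinitePresentation (Spec.map (CommRingCat.ofHom (Ideal.Quotient.mk I))) := by
    have : Spec.map (CommRingCat.ofHom (Ideal.Quotient.mk I)) = iso.inv ≫ pullback.fst j e := by
      rw [hiso, Iso.inv_hom_id_assoc]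
    rw [this]
    infer_instance
  have h2 : (Ideal.Quotient.mk I).FinitePresentation :=
    (HasRingHomProperty.Spec_iff (P := @LocallyOfFinitePresentation)).mp h1
  have : Algebra.FinitePresentation R (R ⧸ I) := RingHom.finitePresentation_algebraMap.mp h2
  have h3 : I.FG := by
    simpa [Ideal.mk_ker] using Algebra.FinitePresentation.ker_fG_of_surjective (R := R) (Algebra.ofId R (R ⧸ I))
      Ideal.Quotient.mk_surjective
  have hIJ : I = J := GrpScheme.ClosedRep.eq_of_forall_ker (A := R) fun D ψ => by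
    rw [← hJ D ψ]
    refine ⟨fun h => ?_, fun ⟨l, hl⟩ => ?_⟩
    · let k : CommRingCat.of (R ⧸ I) ⟶ D := CommRingCat.ofHom (Ideal.Quotient.lift I ψ.hom fun a ha => h ha)
      refine ⟨Spec.map k ≫ iso.inv ≫ pullback.snd j e, ?_⟩
      rw [Category.assoc, Category.assoc, ← pullback.condition, hiso, Category.assoc, Iso.inv_hom_id_assoc,
        ← Spec.map_comp_assoc]
      rfl
    · let m := pullback.lift (Spec.map ψ) l hl.symm ≫ iso.hom
      have hm : m ≫ Spec.map (CommRingCat.ofHom (Ideal.Quotient.mk I)) = Spec.map ψ := by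
        rw [Category.assoc, ← hiso, pullback.lift_fst]
      rw [← Spec.map_preimage m, ← Spec.map_comp] at hm
      intro a ha
      rw [RingHom.mem_ker, ← Spec.map_injective hm]
      show (Spec.preimage m).hom (Ideal.Quotient.mk I a) = 0
      rw [Ideal.Quotient.eq_zero_iff_mem.mpr ha, map_zero]
  exact hIJ ▸ h3

variable {X H W : Over S} [GrpObj H] (f g : X ⊗ H ⟶ W)

/-- The two morphisms agree over `x`. -/
def EqOn ⦃T : Scheme.{u}⦄ (x : T ⟶ X.left) : Prop :=
  ∀ (Y : Over S) (z : Y.left ⟶ T) (hz : (z ≫ x) ≫ X.hom = Y.hom) (h : Y ⟶ H),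
    lift (Over.homMk (z ≫ x) hz) h ≫ f = lift (Over.homMk (z ≫ x) hz) h ≫ g

omit [GrpObj H] in
lemma EqOn.apply {f g : X ⊗ H ⟶ W} {T : Scheme.{u}} {x : T ⟶ X.left} (hx : EqOn f g x) {Y : Over S} (a : Y ⟶ X)
    (z : Y.left ⟶ T) (e : z ≫ x = a.left) (h : Y ⟶ H) : lift a h ≫ f = lift a h ≫ g := by
  have hz : (z ≫ x) ≫ X.hom = Y.hom := by rw [e, Over.w a]
  have := hx Y z hz h
  rwa [show Over.homMk (z ≫ x) hz = a from Over.OverMorphism.ext e] at this

omit [GrpObj H] in
lemma EqOn.comp {f g : X ⊗ H ⟶ W} {T T' : Scheme.{u}} (c : T' ⟶ T) {x : T ⟶ X.left} (hx : EqOn f g x) :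
    EqOn f g (c ≫ x) :=
  fun _ z _ h => hx.apply _ (z ≫ c) (Category.assoc _ _ _) h

omit [GrpObj H] in
lemma EqOn.glue {T : Scheme.{u}} (𝒰 : Scheme.OpenCover.{u} T) (x : T ⟶ X.left)
    (hx : ∀ i, EqOn f g (𝒰.f i ≫ x)) : EqOn f g x := by
  intro Y z hz h
  ext1
  refine Scheme.Cover.hom_ext (𝒰.pullback₁ z) _ _ fun i => ?_
  let k : Over.mk ((pullback.fst z (𝒰.f i)) ≫ Y.hom) ⟶ Y := Over.homMk (pullback.fst z (𝒰.f i))
  have := (hx i).apply (k ≫ Over.homMk (z ≫ x) hz) (pullback.snd z (𝒰.f i)) (by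
    show pullback.snd z (𝒰.f i) ≫ 𝒰.f i ≫ x = pullback.fst z (𝒰.f i) ≫ z ≫ x
    rw [pullback.condition_assoc]) (k ≫ h)
  rw [← comp_lift, Category.assoc, Category.assoc] at this
  exact congrArg CommaMorphism.left this

set_option backward.isDefEq.respectTransparency.types false in
omit [GrpObj H] in
/-- Agreement descends along flat jointly surjective families. -/
lemma EqOn.descend {T : Scheme.{u}} (x : T ⟶ X.left) {κ : Type u} (B : κ → Scheme.{u}) (b : ∀ k, B k ⟶ T)
    [∀ k, Flat (b k)] (hsurj : ∀ t, ∃ k q, (b k).base q = t) (hx : ∀ k, EqOn f g (b k ≫ x)) : EqOn f g x := by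
  intro Y z hz h
  let π : (∐ fun k => pullback z (b k)) ⟶ Y.left := Sigma.desc fun k => pullback.fst _ _
  have : Flat π := (IsZariskiLocalAtSource.iff_of_openCover (P := @Flat) (sigmaOpenCover _)).mpr fun k => by
    show Flat (Sigma.ι (fun k => pullback z (b k)) k ≫ Sigma.desc _)
    rw [Sigma.ι_desc]
    infer_instance
  have : Surjective π := ⟨fun y => by
    obtain ⟨k, q, hq⟩ := hsurj (z.base y)
    obtain ⟨w, hw, -⟩ := Scheme.Pullback.exists_preimage_pullback y q hq.symm
    exact ⟨(Sigma.ι (fun k => pullback z (b k)) k).base w, by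
      rw [← Scheme.Hom.comp_apply, Sigma.ι_desc, hw]⟩⟩
  have : Epi π := Flat.epi_of_flat_of_surjective π
  ext1
  rw [← cancel_epi π]
  refine Sigma.hom_ext _ _ fun k => ?_
  rw [Sigma.ι_desc_assoc, Sigma.ι_desc_assoc]
  let l : Over.mk (pullback.fst z (b k) ≫ Y.hom) ⟶ Y := Over.homMk (pullback.fst z (b k))
  have := (hx k).apply (l ≫ Over.homMk (z ≫ x) hz) (pullback.snd z (b k)) (by
    show pullback.snd z (b k) ≫ b k ≫ x = pullback.fst z (b k) ≫ z ≫ x
    rw [pullback.condition_assoc]) (l ≫ h)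
  rw [← comp_lift, Category.assoc, Category.assoc] at this
  exact congrArg CommaMorphism.left this

/-- The chart: over a split test ring, agreement is given by an ideal. -/
lemma exists_chart_ideal [IsSeparated W.hom] {Q : CommRingCat.{u}} (a : Spec Q ⟶ X.left) {p : Spec Q ⟶ S}
    (hp : a ≫ X.hom = p) {M : Type} [AddCommGroup M] (P : SplitPts p H M) :
    ∃ I : Ideal Q, (LocallyOfFiniteType W.hom → I.FG) ∧ ∀ (D : CommRingCat.{u}) (φ : Q ⟶ D),
      EqOn f g (Spec.map φ ≫ a) ↔ I ≤ RingHom.ker φ.hom := by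
  classical
  let U : Over S := (Over.map p).obj (specOver (R := Q) (MonoidAlgebra Q (Multiplicative M)))
  let xu : U ⟶ X := Over.homMk (Spec.map (CommRingCat.ofHom (algebraMap Q (MonoidAlgebra Q (Multiplicative M)))) ≫ a) (by
    show (_ ≫ a) ≫ X.hom = Spec.map _ ≫ p
    rw [Category.assoc, hp])
  let hu : U ⟶ H := gPt p P (MonoidAlgebra.of Q (Multiplicative M))
  let wf := lift xu hu ≫ f
  let wg := lift xu hu ≫ g
  let j : U.left ⟶ pullback W.hom W.hom := pullback.lift wf.left wg.left ((Over.w wf).trans (Over.w wg).symm)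
  obtain ⟨J, hJfg, hJ⟩ := exists_ideal_factor_fg (pullback.diagonal W.hom)
    (CommRingCat.of (MonoidAlgebra Q (Multiplicative M))) j
  have hJ' : ∀ (D : CommRingCat.{u}) (ψ : CommRingCat.of (MonoidAlgebra Q (Multiplicative M)) ⟶ D),
      Spec.map ψ ≫ wf.left = Spec.map ψ ≫ wg.left ↔ J ≤ RingHom.ker ψ.hom := by
    intro D ψ
    rw [← hJ]
    constructor
    · intro h
      refine ⟨Spec.map ψ ≫ wf.left, pullback.hom_ext ?_ ?_⟩
      · rw [Category.assoc, Category.assoc, pullback.diagonal_fst, Category.comp_id]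
        exact congrArg (Spec.map ψ ≫ ·) (pullback.lift_fst _ _ _).symm
      · rw [Category.assoc, Category.assoc, pullback.diagonal_snd, Category.comp_id, h]
        exact congrArg (Spec.map ψ ≫ ·) (pullback.lift_snd _ _ _).symm
    · rintro ⟨l, hl⟩
      have h1 := congrArg (· ≫ pullback.fst _ _) hl
      have h2 := congrArg (· ≫ pullback.snd _ _) hl
      rw [Category.assoc, Category.assoc, pullback.diagonal_fst, Category.comp_id] at h1
      rw [Category.assoc, Category.assoc, pullback.diagonal_snd, Category.comp_id] at h2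
      exact ((congrArg (Spec.map ψ ≫ ·) (pullback.lift_fst _ _ _)).symm.trans h1.symm).trans
        (h2.trans (congrArg (Spec.map ψ ≫ ·) (pullback.lift_snd _ _ _)))
  obtain ⟨s, hsJ, hsfin⟩ : ∃ s : Set (MonoidAlgebra Q (Multiplicative M)), Ideal.span s = J ∧
      (J.FG → s.Finite) := by
    by_cases hfg : J.FG
    · obtain ⟨t, ht⟩ := hfg
      exact ⟨t, ht, fun _ => t.finite_toSet⟩
    · exact ⟨J, Ideal.span_eq J, fun h => absurd h hfg⟩
  let I : Ideal Q := Ideal.span {c | ∃ z ∈ s, ∃ n ∈ z.coeff.support, z.coeff n = c}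
  refine ⟨I, fun hlft => ?_, fun D φ => ⟨fun h => ?_, fun hI => ?_⟩⟩
  · refine Submodule.fg_span ?_
    have h1 : {c | ∃ z ∈ s, ∃ n ∈ z.coeff.support, z.coeff n = c} =
        ⋃ z ∈ s, (fun n => z.coeff n) '' (z.coeff.support : Set (Multiplicative M)) := by
      ext c; simp
    rw [h1]
    exact (hsfin (hJfg (have := hlft; LimLib.locallyOfFinitePresentation_diagonal W.hom))).biUnion fun z _ => z.coeff.support.finite_toSet.image _
  · -- evaluate at the universal point over `D`
    let _ : Algebra Q D := φ.hom.toAlgebra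
    let ψ : MonoidAlgebra Q (Multiplicative M) →ₐ[Q] MonoidAlgebra D (Multiplicative M) :=
      MonoidAlgebra.mapAlgHom (M := (Multiplicative M)) (Algebra.ofId Q D)
    let k : (Over.map p).obj (specOver (R := Q) (MonoidAlgebra D (Multiplicative M))) ⟶ U := (Over.map p).map (testMap ψ)
    have h1 := h.apply (k ≫ xu) (Spec.map (CommRingCat.ofHom (algebraMap D (MonoidAlgebra D (Multiplicative M))))) (by
      show Spec.map _ ≫ Spec.map φ ≫ a = Spec.map _ ≫ Spec.map _ ≫ a
      rw [← Spec.map_comp_assoc, ← Spec.map_comp_assoc]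
      congr 2
      refine CommRingCat.hom_ext (RingHom.ext fun q => ?_)
      exact (ψ.commutes q).symm) (k ≫ hu)
    rw [← comp_lift, Category.assoc, Category.assoc] at h1
    have h2 := (hJ' _ (CommRingCat.ofHom ψ.toRingHom)).mp (congrArg CommaMorphism.left h1)
    rw [Ideal.span_le]
    rintro _ ⟨z, hz, n, -, rfl⟩
    have h3 : ψ z = 0 := h2 (hsJ ▸ Ideal.subset_span hz)
    have h4 := congrArg (fun w : MonoidAlgebra D (Multiplicative M) => w.coeff n) h3
    simp [ψ] at h4
    exact h4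
  · intro Y z hz h
    let φY : Q ⟶ Γ(Y.left, ⊤) := (Scheme.ΓSpecIso Q).inv ≫ (z ≫ Spec.map φ).appTop
    have hY : (z ≫ Spec.map φ) ≫ p = Y.hom := by rw [← hp, ← hz]; simp [Category.assoc]
    let Y₀ : Over (Spec Q) := Over.mk (z ≫ Spec.map φ)
    let e : (Over.map p).obj Y₀ ≅ Y := Over.isoMk (Iso.refl _) ((Category.id_comp _).trans hY.symm)
    obtain ⟨φ', hφ', q, t, hq⟩ := eq_gPt_of_toSpecΓ P (e.hom ≫ h)
    let _ : Algebra Q Γ(Y₀.left, ⊤) := φ'.hom.toAlgebra
    let L := MonoidAlgebra.lift Q Γ(Y₀.left, ⊤) (Multiplicative M) t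
    let k : Y ⟶ U := e.inv ≫ (Over.map p).map (q ≫ testMap L)
    have hh : k ≫ hu = h := by
      rw [Category.assoc, Functor.map_comp, Category.assoc, testMap_gPt,
        show L.toRingHom.toMonoidHom.comp (MonoidAlgebra.of Q (Multiplicative M)) = t by ext m; simp [L], ← hq,
        Iso.inv_hom_id_assoc]
    have hx : k ≫ xu = Over.homMk (z ≫ Spec.map φ ≫ a) hz := by
      ext1
      show (𝟙 _ ≫ q.left ≫ Spec.map (CommRingCat.ofHom L.toRingHom)) ≫ Spec.map _ ≫ a = z ≫ Spec.map φ ≫ a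
      rw [Category.id_comp, ← Category.assoc, ← Category.assoc z]
      congr 1
      exact Over.w (q ≫ testMap L)
    have hker : J ≤ RingHom.ker L.toRingHom := by
      rw [← hsJ, Ideal.span_le]
      intro w hw
      rw [SetLike.mem_coe, RingHom.mem_ker]
      show MonoidAlgebra.lift Q Γ(Y₀.left, ⊤) (Multiplicative M) t w = 0
      rw [MonoidAlgebra.lift_apply]
      refine Finset.sum_eq_zero fun n hn => ?_
      show w.coeff n • t n = 0
      have h0 : φ (w.coeff n) = 0 := hI (Ideal.subset_span ⟨w, hw, n, hn, rfl⟩)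
      have h5 : φ' = φ ≫ (Scheme.ΓSpecIso D).inv ≫ z.appTop := by
        have h3 := congrArg (fun f => f.appTop) hφ'
        simp only [Scheme.Hom.comp_appTop, Scheme.toSpecΓ_appTop] at h3
        rw [Scheme.ΓSpecIso_inv_naturality_assoc]
        have h6 : (Scheme.ΓSpecIso Q).inv ≫ (Spec.map φ).appTop ≫ z.appTop =
            (Scheme.ΓSpecIso Q).inv ≫ Y₀.hom.appTop := by rw [← Scheme.Hom.comp_appTop]; rfl
        rw [h6, ← h3, ← Category.assoc, ← Scheme.ΓSpecIso_inv_naturality, Category.assoc, Iso.inv_hom_id,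
          Category.comp_id]
      rw [Algebra.smul_def, show algebraMap Q Γ(Y₀.left, ⊤) (w.coeff n) = φ' (w.coeff n) from rfl, h5]
      show ((Scheme.ΓSpecIso D).inv ≫ z.appTop) (φ (w.coeff n)) * _ = 0
      rw [h0, map_zero, zero_mul]
    have h7 := (hJ' _ (CommRingCat.ofHom L.toRingHom)).mpr hker
    rw [← hh, ← hx, ← comp_lift, Category.assoc, Category.assoc]
    ext1
    show (𝟙 _ ≫ q.left ≫ Spec.map (CommRingCat.ofHom L.toRingHom)) ≫ wf.left =
      (𝟙 _ ≫ q.left ≫ Spec.map (CommRingCat.ofHom L.toRingHom)) ≫ wg.left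
    simp only [Category.id_comp, Category.assoc, h7]

set_option backward.isDefEq.respectTransparency.types false in
/-- Agreement is given by an ideal on small affine opens. -/
lemma isRep_eqOn [IsSeparated W.hom] (hH : SplitFpqc H) (U : X.left.affineOpens) (V : S.affineOpens)
    (hUV : U.1 ≤ X.hom ⁻¹ᵁ V.1) : ∃ I₀ : Ideal Γ(X.left, U), (LocallyOfFiniteType W.hom → I₀.FG) ∧
      ∀ (C : CommRingCat.{u}) (φ : Γ(X.left, U) ⟶ C),
        EqOn f g (Spec.map φ ≫ U.2.fromSpec) ↔ I₀ ≤ RingHom.ker φ.hom := by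
  classical
  obtain ⟨κ, _, T, t, hflat, hsurj, hsplit⟩ := hH V
  let R : Type u := Γ(S, V)
  let A : Type u := Γ(X.left, U)
  let _ : Algebra R A := (X.hom.appLE V.1 U.1 hUV).hom.toAlgebra
  let _ : ∀ k, Algebra R (T k) := fun k => (t k).hom.toAlgebra
  let B : κ → Type u := fun k => A ⊗[R] T k
  have eA : Spec.map (CommRingCat.ofHom (algebraMap R A)) ≫ V.2.fromSpec = U.2.fromSpec ≫ X.hom :=
    V.2.SpecMap_appLE_fromSpec X.hom U.2 hUV
  have hTflat : ∀ k, Module.Flat R (T k) := fun k => by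
    have h : (t k).hom.Flat := (HasRingHomProperty.Spec_iff (P := @Flat)).mp (hflat k)
    exact RingHom.flat_algebraMap_iff.mp h
  have : ∀ k, Module.Flat A (B k) := fun k => inferInstance
  let bA : ∀ k, Spec (CommRingCat.of (B k)) ⟶ Spec (CommRingCat.of A) := fun k =>
    Spec.map (CommRingCat.ofHom (algebraMap A (B k)))
  let bT : ∀ k, Spec (CommRingCat.of (B k)) ⟶ Spec (T k) := fun k =>
    Spec.map (CommRingCat.ofHom (Algebra.TensorProduct.includeRight : T k →ₐ[R] B k).toRingHom)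
  have hbT : ∀ k, bT k ≫ Spec.map (t k) = bA k ≫ Spec.map (CommRingCat.ofHom (algebraMap R A)) := fun k => by
    rw [← Spec.map_comp, ← Spec.map_comp]
    congr 1
    ext r
    exact ((Algebra.TensorProduct.includeRight : T k →ₐ[R] B k).commutes r).trans
      (IsScalarTower.algebraMap_apply R A (B k) r)
  have hbAsurj : ∀ z, ∃ k q, (bA k).base q = z := by
    intro z
    obtain ⟨k, q, hq⟩ := hsurj ((Spec.map (CommRingCat.ofHom (algebraMap R A))).base z)
    obtain ⟨w, hw, -⟩ := Scheme.Pullback.exists_preimage_pullback z q hq.symm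
    refine ⟨k, (pullbackSpecIso R A (T k)).hom.base w, ?_⟩
    rw [← hw, ← Scheme.Hom.comp_apply]
    exact congr($(pullbackSpecIso_hom_fst R A (T k)).base w)
  have hchart : ∀ k, ∃ I : Ideal (B k), (LocallyOfFiniteType W.hom → I.FG) ∧ ∀ (D : CommRingCat.{u}) (φ : CommRingCat.of (B k) ⟶ D),
      EqOn f g (Spec.map φ ≫ bA k ≫ U.2.fromSpec) ↔ I ≤ RingHom.ker φ.hom := fun k => by
    obtain ⟨M, _, P, -⟩ := hsplit k
    refine exists_chart_ideal f g (bA k ≫ U.2.fromSpec) (p := bT k ≫ Spec.map (t k) ≫ V.2.fromSpec) ?_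
      (P.restrict (bT k))
    rw [reassoc_of% hbT, eA, Category.assoc]
  choose I hIfg hI using hchart
  have compat : ∀ j k, ∀ x ∈ I k, (1 : B j ⧸ I j) ⊗ₜ[A] x = (0 : (B j ⧸ I j) ⊗[A] B k) := by
    intro j k x hx
    let D := (B j ⧸ I j) ⊗[A] B k
    let φk : B k →ₐ[A] D := Algebra.TensorProduct.includeRight
    let φj : B j →+* D := (Algebra.TensorProduct.includeLeftRingHom : (B j ⧸ I j) →+* D).comp (Ideal.Quotient.mk (I j))
    have hj : EqOn f g (Spec.map (CommRingCat.ofHom (R := B j) (S := D) φj) ≫ bA j ≫ U.2.fromSpec) := by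
      refine (hI j _ _).mpr fun y hy => ?_
      rw [RingHom.mem_ker]
      show Algebra.TensorProduct.includeLeftRingHom (Ideal.Quotient.mk (I j) y) = 0
      rw [Ideal.Quotient.eq_zero_iff_mem.mpr hy, map_zero]
    have e : Spec.map (CommRingCat.ofHom (R := B j) (S := D) φj) ≫ bA j = Spec.map (CommRingCat.ofHom φk.toRingHom) ≫ bA k := by
      rw [← Spec.map_comp, ← Spec.map_comp]
      congr 1
      ext a
      show φj (algebraMap A (B j) a) = φk (algebraMap A (B k) a)
      rw [φk.commutes]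
      rfl
    rw [← Category.assoc, e, Category.assoc] at hj
    exact (hI k _ _).mp hj hx
  let I' : Ideal A := ⨅ j, (I j).comap (algebraMap A (B j))
  obtain ⟨I₀, hI₀le, hI₀fg, hI₀map⟩ : ∃ I₀ : Ideal A, I₀ ≤ I' ∧ (LocallyOfFiniteType W.hom → I₀.FG) ∧
      ∀ k, I k ≤ I₀.map (algebraMap A (B k)) := by
    by_cases hlft : LocallyOfFiniteType W.hom
    · have hk : ∀ k, ∃ J₀ : Ideal A, J₀.FG ∧ J₀ ≤ I' ∧ I k ≤ J₀.map (algebraMap A (B k)) := by
        intro k
        obtain ⟨t, ht⟩ := hIfg k hlft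
        have hmem : ∀ x : t, ∃ J₀ : Ideal A, J₀.FG ∧ J₀ ≤ I' ∧ x.1 ∈ J₀.map (algebraMap A (B k)) := by
          intro x
          have hx : x.1 ∈ Submodule.span (B k) (algebraMap A (B k) '' (I' : Set A)) :=
            le_map_of_compatible B I compat k (ht ▸ Ideal.subset_span x.2)
          obtain ⟨u, hu, hxu⟩ := Submodule.mem_span_finite_of_mem_span hx
          choose v hv hvu using fun y : u => hu y.2
          refine ⟨Ideal.span (u.attach.image v), Submodule.fg_span (Finset.finite_toSet _), ?_, ?_⟩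
          · rw [Ideal.span_le]
            intro a ha
            obtain ⟨y, hy, rfl⟩ := Finset.mem_image.mp ha
            exact hv y
          · rw [Ideal.map_span]
            refine Submodule.span_mono ?_ hxu
            intro y hy
            exact ⟨v ⟨y, hy⟩, Finset.mem_coe.mpr (Finset.mem_image_of_mem v (Finset.mem_attach _ _)), hvu ⟨y, hy⟩⟩
        choose J₀ h₁ h₂ h₃ using hmem
        refine ⟨⨆ x, J₀ x, Submodule.fg_iSup _ h₁, iSup_le h₂, ?_⟩
        rw [← ht, Ideal.span_le]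
        intro x hx
        exact Ideal.map_mono (le_iSup J₀ ⟨x, hx⟩) (h₃ ⟨x, hx⟩)
      choose J₀ h₁ h₂ h₃ using hk
      exact ⟨⨆ k, J₀ k, iSup_le h₂, fun _ => Submodule.fg_iSup _ h₁,
        fun k => (h₃ k).trans (Ideal.map_mono (le_iSup J₀ k))⟩
    · exact ⟨I', le_rfl, fun h => absurd h hlft, fun k => le_map_of_compatible B I compat k⟩
  refine ⟨I₀, hI₀fg, fun C φ => ⟨fun h => ?_, fun h => ?_⟩⟩
  · let _ : Algebra A C := φ.hom.toAlgebra
    have : Module.FaithfullyFlat C (Π k, C ⊗[A] B k) := by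
      have : ∀ k, Module.Flat C (C ⊗[A] B k) := fun k => inferInstance
      cases nonempty_fintype κ
      have : Module.Flat C (Π k, C ⊗[A] B k) :=
        Module.Flat.of_linearEquiv (DFinsupp.linearEquivFunOnFintype (R := C)).symm
      refine Module.FaithfullyFlat.of_comap_surjective fun c => ?_
      obtain ⟨k, q, hq⟩ := hbAsurj ((Spec.map φ).base c)
      obtain ⟨w, hw, -⟩ := Scheme.Pullback.exists_preimage_pullback (f := Spec.map φ) (g := bA k) c q hq.symm
      let r : PrimeSpectrum (C ⊗[A] B k) := (pullbackSpecIso A C (B k)).hom.base w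
      have hr : PrimeSpectrum.comap (algebraMap C (C ⊗[A] B k)) r = c := by
        rw [← hw]
        exact congr($(pullbackSpecIso_hom_fst A C (B k)).base w)
      refine ⟨PrimeSpectrum.comap (Pi.evalRingHom (fun k => C ⊗[A] B k) k) r, ?_⟩
      rw [← hr]
      rfl
    intro a ha
    rw [RingHom.mem_ker]
    refine FaithfulSMul.algebraMap_injective C (Π k, C ⊗[A] B k) ?_
    rw [map_zero]
    ext k
    have h1 : EqOn f g (Spec.map (CommRingCat.ofHom
        (Algebra.TensorProduct.includeRight : B k →ₐ[A] C ⊗[A] B k).toRingHom) ≫ bA k ≫ U.2.fromSpec) := by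
      have e : Spec.map (CommRingCat.ofHom (Algebra.TensorProduct.includeRight : B k →ₐ[A] C ⊗[A] B k).toRingHom) ≫
          bA k = Spec.map (CommRingCat.ofHom (algebraMap C (C ⊗[A] B k))) ≫ Spec.map φ := by
        rw [← Spec.map_comp, ← Spec.map_comp]
        congr 1
        ext r
        exact ((Algebra.TensorProduct.includeRight : B k →ₐ[A] C ⊗[A] B k).commutes r).trans
          (IsScalarTower.algebraMap_apply A C (C ⊗[A] B k) r)
      rw [← Category.assoc, e, Category.assoc]
      exact h.comp _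
    have h2 := (hI k _ _).mp h1 ((Submodule.mem_iInf _).mp (hI₀le ha) k)
    show algebraMap C (C ⊗[A] B k) (φ a) = 0
    rw [← h2]
    show algebraMap C (C ⊗[A] B k) (algebraMap A C a) = Algebra.TensorProduct.includeRight (algebraMap A (B k) a)
    rw [AlgHom.commutes, ← IsScalarTower.algebraMap_apply]
  · let _ : Algebra A C := φ.hom.toAlgebra
    have hbflat : ∀ k, Flat (pullback.fst (Spec.map φ) (bA k)) := fun k => by
      have : Flat (bA k) := (HasRingHomProperty.Spec_iff (P := @Flat)).mpr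
        (RingHom.flat_algebraMap_iff.mpr (inferInstance : Module.Flat A (B k)))
      infer_instance
    refine EqOn.descend f g _ _ (fun k => pullback.fst (Spec.map φ) (bA k)) (fun c => ?_) (fun k => ?_)
    · obtain ⟨k, q, hq⟩ := hbAsurj ((Spec.map φ).base c)
      obtain ⟨w, hw, -⟩ := Scheme.Pullback.exists_preimage_pullback (f := Spec.map φ) (g := bA k) c q hq.symm
      exact ⟨k, w, hw⟩
    · rw [reassoc_of% pullback.condition]
      have hle : I k ≤ RingHom.ker (Algebra.TensorProduct.includeRight : B k →ₐ[A] C ⊗[A] B k).toRingHom := by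
        refine (hI₀map k).trans ?_
        rw [Ideal.map_le_iff_le_comap]
        intro a ha
        show Algebra.TensorProduct.includeRight (algebraMap A (B k) a) = 0
        rw [AlgHom.commutes, IsScalarTower.algebraMap_apply A C (C ⊗[A] B k)]
        rw [show algebraMap A C a = 0 from h ha, map_zero]
      have h1 := (hI k _ (CommRingCat.ofHom
        (Algebra.TensorProduct.includeRight : B k →ₐ[A] C ⊗[A] B k).toRingHom)).mpr hle
      have e : (pullbackSpecIso A C (B k)).hom ≫ Spec.map (CommRingCat.ofHom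
          (Algebra.TensorProduct.includeRight : B k →ₐ[A] C ⊗[A] B k).toRingHom) =
          pullback.snd (Spec.map φ) (bA k) := pullbackSpecIso_hom_snd A C (B k)
      have h2 := h1.comp (pullbackSpecIso A C (B k)).hom
      rw [← Category.assoc, e] at h2
      exact h2

set_option backward.isDefEq.respectTransparency.types false in
/-- The agreement locus is a closed subscheme. -/
theorem exists_closed_eqLocus [IsSeparated W.hom] (hH : SplitFpqc H) :
    ∃ (Z : Over S) (i : Z ⟶ X), IsClosedImmersion i.left ∧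
      (LocallyOfFiniteType W.hom → LocallyOfFinitePresentation i.left) ∧
      ∀ (T : Over S) (x : T ⟶ X), (∃ z : T ⟶ Z, z ≫ i = x) ↔
        ∀ (T' : Over S) (k : T' ⟶ T) (h : T' ⟶ H), lift (k ≫ x) h ≫ f = lift (k ≫ x) h ≫ g := by
  have hgood : GrpScheme.ClosedRep.IsGood (EqOn f g) :=
    { comp := fun c x hx => hx.comp c, glue := fun 𝒰 x hx => EqOn.glue f g 𝒰 x hx }
  obtain ⟨Z, i, hi, hZ⟩ := GrpScheme.ClosedRep.exists_closed hgood fun U x hx => by
    obtain ⟨V, hV, hxV, -⟩ := exists_isAffineOpen_mem_and_subset (X := S) (x := X.hom.base x) (U := ⊤) trivial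
    obtain ⟨r, hr, hxr⟩ := U.2.exists_basicOpen_le (V := X.hom ⁻¹ᵁ V) ⟨x, hxV⟩ hx
    obtain ⟨I, -, hI⟩ := isRep_eqOn f g hH (X.left.affineBasicOpen r) ⟨V, hV⟩ hr
    exact ⟨r, hxr, I, hI⟩
  refine ⟨Over.mk (i ≫ X.hom), Over.homMk i rfl, hi, fun hlft => ?_, fun T x => ⟨?_, fun h => ?_⟩⟩
  · have key : ∀ x : X.left, ∃ U : X.left.affineOpens, x ∈ U.1 ∧ LocallyOfFinitePresentation (i ∣_ U.1) := by
      intro x
      obtain ⟨V, hV, hxV, -⟩ := exists_isAffineOpen_mem_and_subset (X := S) (x := X.hom.base x) (U := ⊤) trivial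
      obtain ⟨U, hU, hxU, hUV⟩ := exists_isAffineOpen_mem_and_subset (X := X.left) (x := x) (U := X.hom ⁻¹ᵁ V) hxV
      refine ⟨⟨U, hU⟩, hxU, ?_⟩
      obtain ⟨I, hIfg, hI⟩ := isRep_eqOn f g hH ⟨U, hU⟩ ⟨V, hV⟩ hUV
      obtain ⟨I₁, iso, hiso⟩ := IsClosedImmersion.Spec_iff.mp
        (inferInstance : IsClosedImmersion (pullback.fst hU.fromSpec i))
      have h1 : I₁ = I := GrpScheme.ClosedRep.eq_of_forall_ker (A := Γ(X.left, U)) fun D ψ => by
        rw [← hI D ψ, hZ]
        refine ⟨fun h => ?_, fun ⟨l, hl⟩ => ?_⟩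
        · let k : CommRingCat.of (Γ(X.left, U) ⧸ I₁) ⟶ D :=
            CommRingCat.ofHom (Ideal.Quotient.lift I₁ ψ.hom fun a ha => h ha)
          refine ⟨Spec.map k ≫ iso.inv ≫ pullback.snd hU.fromSpec i, ?_⟩
          rw [Category.assoc, Category.assoc, ← pullback.condition, hiso, Category.assoc, Iso.inv_hom_id_assoc,
            ← Spec.map_comp_assoc]
          rfl
        · let m := pullback.lift (Spec.map ψ) l hl.symm ≫ iso.hom
          have hm : m ≫ Spec.map (CommRingCat.ofHom (Ideal.Quotient.mk I₁)) = Spec.map ψ := by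
            rw [Category.assoc, ← hiso, pullback.lift_fst]
          rw [← Spec.map_preimage m, ← Spec.map_comp] at hm
          intro a ha
          rw [RingHom.mem_ker, ← Spec.map_injective hm]
          show (Spec.preimage m).hom (Ideal.Quotient.mk I₁ a) = 0
          rw [Ideal.Quotient.eq_zero_iff_mem.mpr ha, map_zero]
      have h2 : LocallyOfFinitePresentation (Spec.map (CommRingCat.ofHom (Ideal.Quotient.mk I₁))) := by
        refine (HasRingHomProperty.Spec_iff (P := @LocallyOfFinitePresentation)).mpr ?_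
        have : Algebra.FinitePresentation Γ(X.left, U) (Γ(X.left, U) ⧸ I₁) :=
          .quotient (h1 ▸ hIfg hlft)
        exact RingHom.finitePresentation_algebraMap.mpr this
      have h3 : LocallyOfFinitePresentation (pullback.fst hU.fromSpec i) := by rw [hiso]; infer_instance
      have h5 : LocallyOfFinitePresentation (pullback.snd i hU.fromSpec) := by
        rw [← pullbackSymmetry_hom_comp_fst]
        infer_instance
      have h6 : ∀ b, b = hU.isoSpec.hom ≫ hU.fromSpec → LocallyOfFinitePresentation (pullback.snd i b) := by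
        rintro _ rfl
        rw [← pullbackLeftPullbackSndIso_inv_snd_snd i hU.fromSpec hU.isoSpec.hom]
        infer_instance
      rw [← MorphismProperty.cancel_left_of_respectsIso (P := @LocallyOfFinitePresentation)
        (pullbackRestrictIsoRestrict i U).hom, pullbackRestrictIsoRestrict_hom_morphismRestrict]
      exact h6 _ hU.isoSpec_hom_fromSpec.symm
    choose U hxU hU using key
    exact IsZariskiLocalAtTarget.of_iSup_eq_top (fun x => (U x).1) (top_le_iff.mp fun x _ =>
      TopologicalSpace.Opens.mem_iSup.mpr ⟨x, hxU x⟩) hU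
  · rintro ⟨z, rfl⟩ T' k h
    exact ((hZ _ _).mpr ⟨z.left, rfl⟩).apply _ k.left rfl h
  · have hx : EqOn f g x.left := fun Y z hz h' => by
      let k : Y ⟶ T := Over.homMk z (by rw [← Over.w x, ← Category.assoc, hz])
      rw [show Over.homMk (z ≫ x.left) hz = k ≫ x from Over.OverMorphism.ext rfl]
      exact h Y k h'
    obtain ⟨z, hz⟩ := (hZ _ _).mp hx
    exact ⟨Over.homMk z (by show z ≫ i ≫ X.hom = T.hom; rw [reassoc_of% hz, Over.w]), Over.OverMorphism.ext hz⟩

end Groth.Agent.DiagRig
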