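import Groth.Agent.DiagRig.MonoClosed
import Groth.Agent.DiagRig.LocCore
import Groth.Agent.DiagRig.EqLocus

/-! Free actions of groups of multiplicative type on affine schemes: the graph is a closed immersion. -/

universe u

open CategoryTheory MonoidalCategory CartesianMonoidalCategory MonObj GrpObj AlgebraicGeometry Limits
open Groth.Agent.RedPts Groth.Agent.GrpScheme.Basic

noncomputable section

namespace Groth.Agent.DiagRig

namespace FreeAct

variable {R A : Type u} [CommRing R] [CommRing A] [Algebra R A] {N : Type} [CommGroup N]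
  (c : A →ₐ[R] MonoidAlgebra A N)

/-- A point `x` moved by the character `t`. -/
def mvR {T : Type u} [CommRing T] [Algebra R T] (x : A →ₐ[R] T) (t : N →* T) : A →ₐ[R] T :=
  (MonoidAlgebra.liftNCAlgHom x t fun _ _ => Commute.all _ _).comp c

lemma mvR_eq_sum {T : Type u} [CommRing T] [Algebra R T] (x : A →ₐ[R] T) (t : N →* T) (a : A) :
    mvR c x t a = (c a).coeff.sum fun n r => x r * t n :=
  liftNC_eq_sum x t (c a)

variable (hassoc : ∀ (T : Type u) [CommRing T] [Algebra R T] (x : A →ₐ[R] T) (s t : N →* T),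
    mvR c x (s * t) = mvR c (mvR c x t) s)

include hassoc in
lemma coeff_idem [DecidableEq N] (a : A) (m n : N) :
    (c ((c a).coeff m)).coeff n = if n = m then (c a).coeff m else 0 := by
  let s : N →* MonoidAlgebra A (N × N) := (MonoidAlgebra.of A (N × N)).comp (MonoidHom.inl N N)
  let t : N →* MonoidAlgebra A (N × N) := (MonoidAlgebra.of A (N × N)).comp (MonoidHom.inr N N)
  let x : A →ₐ[R] MonoidAlgebra A (N × N) := MonoidAlgebra.singleOneAlgHom
  have hx : ∀ r : A, x r = MonoidAlgebra.single (1, 1) r := fun r => rfl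
  have hin : ∀ b, mvR c x t b = (c b).coeff.sum fun k r => MonoidAlgebra.single (1, k) r := fun b => by
    rw [mvR_eq_sum]
    refine Finsupp.sum_congr fun k _ => ?_
    simp [hx, t, MonoidAlgebra.single_mul_single]
  have key : ∀ (k : N) (r : A), (mvR c x t r * s k).coeff (m, n) = if k = m then (c r).coeff n else 0 := by
    intro k r
    rw [hin]
    have e : ∀ z : MonoidAlgebra A N, ((z.coeff.sum fun l q => MonoidAlgebra.single ((1 : N), l) q) * s k).coeff (m, n) =
        if k = m then z.coeff n else 0 := by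
      intro z
      induction z using MonoidAlgebra.induction_linear with
      | zero => simp
      | add z w hz hw =>
        rw [MonoidAlgebra.coeff_add, Finsupp.sum_add_index' (fun _ => MonoidAlgebra.single_zero _)
          (fun _ _ _ => MonoidAlgebra.single_add _ _ _), add_mul, MonoidAlgebra.coeff_add, Finsupp.add_apply, hz, hw,
          Finsupp.add_apply]
        split_ifs <;> simp
      | single l q =>
        rw [MonoidAlgebra.coeff_single, Finsupp.sum_single_index (by exact MonoidAlgebra.single_zero _)]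
        simp only [s, MonoidHom.comp_apply, MonoidHom.inl_apply, MonoidAlgebra.of_apply,
          MonoidAlgebra.single_mul_single, _root_.mul_one, _root_.one_mul, Prod.mk_mul_mk,
          MonoidAlgebra.coeff_single, Finsupp.single_apply, Prod.mk.injEq]
        by_cases h1 : k = m <;> simp [h1]
    exact e (c r)
  have h := congrArg (fun z : MonoidAlgebra A (N × N) => z.coeff (m, n)) (DFunLike.congr_fun (hassoc _ x s t) a)
  simp only [mvR_eq_sum c x (s * t), mvR_eq_sum c (mvR c x t) s] at h
  simp only [Finsupp.sum, MonoidAlgebra.coeff_sum, Finset.sum_apply', key, Finset.sum_ite_eq'] at h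
  have hR : (if m ∈ (c a).coeff.support then (c ((c a).coeff m)).coeff n else 0) = (c ((c a).coeff m)).coeff n := by
    split_ifs with hm
    · rfl
    · rw [Finsupp.notMem_support_iff.mp hm]; simp
  rw [hR] at h
  rw [← h]
  have e2 : ∀ (k : N) (r : A), (x r * (s * t) k).coeff (m, n) = if k = m then (if n = m then r else 0) else 0 := by
    intro k r
    simp only [hx, s, t, MonoidHom.mul_apply, MonoidHom.comp_apply, MonoidHom.inl_apply, MonoidHom.inr_apply,
      MonoidAlgebra.of_apply, MonoidAlgebra.single_mul_single, _root_.mul_one, _root_.one_mul, Prod.mk_mul_mk,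
      MonoidAlgebra.coeff_single, Finsupp.single_apply, Prod.mk.injEq]
    by_cases h1 : k = m
    · subst h1; simp [eq_comm]
    · simp [h1]
  simp only [e2, Finset.sum_ite_eq']
  split_ifs with h1 h2
  · rfl
  · rfl
  · exact (Finsupp.notMem_support_iff.mp h1).symm
  · rfl

include hassoc in
/-- Free gradings: the translates of the functions generate everything. -/
theorem range_generates
    (hfree : ∀ (T : Type u) [CommRing T] [Algebra R T] (x : A →ₐ[R] T) (t : N →* T), mvR c x t = x → t = 1)
    (C : Subalgebra A (MonoidAlgebra A N)) (hC : ∀ a, c a ∈ C) : C = ⊤ := by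
  classical
  have hdeg : ∀ a m, c ((c a).coeff m) = MonoidAlgebra.single m ((c a).coeff m) := fun a m => by
    apply MonoidAlgebra.coeff_injective
    refine Finsupp.ext fun n => ?_
    rw [coeff_idem c hassoc, MonoidAlgebra.coeff_single, Finsupp.single_apply]
    simp [eq_comm]
  have hmul : ∀ (a b : A) (m n : N),
      (c ((c a).coeff m * (c b).coeff n)).coeff (m * n) = (c a).coeff m * (c b).coeff n := fun a b m n => by
    rw [map_mul c, hdeg, hdeg, MonoidAlgebra.single_mul_single, MonoidAlgebra.coeff_single, Finsupp.single_eq_same]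
  have hkey : ∀ (𝔫 : Ideal A), 𝔫.IsMaximal → ∀ m, ∃ a, (c a).coeff m ∉ 𝔫 := by
    intro 𝔫 h𝔫
    let K := A ⧸ 𝔫
    letI : Field K := Ideal.Quotient.field 𝔫
    let x : A →ₐ[R] K := Ideal.Quotient.mkₐ R 𝔫
    have hx : ∀ r : A, r ∉ 𝔫 ↔ x r ≠ 0 := fun r => not_congr Ideal.Quotient.eq_zero_iff_mem.symm
    let M' : Set N := {m | ∃ a, x ((c a).coeff m) ≠ 0}
    have hM'mul : ∀ {m n}, m ∈ M' → n ∈ M' → m * n ∈ M' := fun {m n} ⟨a, ha⟩ ⟨b, hb⟩ =>
      ⟨(c a).coeff m * (c b).coeff n, by rw [hmul, map_mul]; exact mul_ne_zero ha hb⟩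
    have h1' : (1 : N) ∈ M' := ⟨1, by rw [map_one c, MonoidAlgebra.one_def, MonoidAlgebra.coeff_single,
      Finsupp.single_eq_same, map_one x]; exact one_ne_zero⟩
    let U : Subgroup N :=
      { carrier := {m | m ∈ M' ∧ m⁻¹ ∈ M'}
        mul_mem' := fun {a b} ha hb => ⟨hM'mul ha.1 hb.1, by
          rw [_root_.mul_inv_rev]; exact hM'mul hb.2 ha.2⟩
        one_mem' := ⟨h1', by rw [_root_.inv_one]; exact h1'⟩
        inv_mem' := fun {a} ha => ⟨ha.2, by rw [_root_.inv_inv]; exact ha.1⟩ }
    have hface : ∀ {m n}, m ∈ M' → n ∈ M' → m * n ∈ U → m ∈ U ∧ n ∈ U := by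
      intro m n hm hn h
      have e1 : m⁻¹ = (m * n)⁻¹ * n := by rw [_root_.mul_inv, _root_.mul_assoc, inv_mul_cancel, _root_.mul_one]
      have e2 : n⁻¹ = (m * n)⁻¹ * m := by rw [mul_comm m n, _root_.mul_inv, _root_.mul_assoc, inv_mul_cancel, _root_.mul_one]
      exact ⟨⟨hm, e1 ▸ hM'mul h.2 hn⟩, ⟨hn, e2 ▸ hM'mul h.2 hm⟩⟩
    let π : N → K := fun n => if n ∈ U then 1 else 0
    let f : MonoidAlgebra A N →ₗ[A] K := (Finsupp.linearCombination A π).comp
      (MonoidAlgebra.coeffLinearEquiv A).toLinearMap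
    have hf : ∀ n r, f (MonoidAlgebra.single n r) = if n ∈ U then x r else 0 := fun n r => by
      show Finsupp.linearCombination A π (MonoidAlgebra.single n r).coeff = _
      rw [MonoidAlgebra.coeff_single, Finsupp.linearCombination_single]
      by_cases h : n ∈ U <;> simp [π, h, Algebra.smul_def, x, K]
    have hfsum : ∀ a, f (c a) = ∑ m ∈ (c a).coeff.support, f (MonoidAlgebra.single m ((c a).coeff m)) := fun a => by
      conv_lhs => rw [← MonoidAlgebra.sum_coeff_single (c a)]
      rw [Finsupp.sum, map_sum]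
    -- the limit point
    have hfmul : ∀ a b, f (c (a * b)) = f (c a) * f (c b) := by
      intro a b
      rw [hfsum a, hfsum b, Finset.sum_mul_sum, map_mul c]
      conv_lhs => rw [← MonoidAlgebra.sum_coeff_single (c a), ← MonoidAlgebra.sum_coeff_single (c b)]
      rw [Finsupp.sum, Finsupp.sum, Finset.sum_mul_sum, map_sum]
      refine Finset.sum_congr rfl fun m _ => ?_
      rw [map_sum]
      refine Finset.sum_congr rfl fun n _ => ?_
      rw [MonoidAlgebra.single_mul_single, hf, hf, hf, map_mul x]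
      by_cases h1 : x ((c a).coeff m) = 0
      · simp [h1]
      by_cases h2 : x ((c b).coeff n) = 0
      · simp [h2]
      by_cases h : m * n ∈ U
      · obtain ⟨hm, hn⟩ := hface ⟨a, h1⟩ ⟨b, h2⟩ h
        simp [h, hm, hn]
      · have : ¬ (m ∈ U ∧ n ∈ U) := fun hh => h (mul_mem hh.1 hh.2)
        by_cases hm : m ∈ U <;> simp_all
    let x' : A →ₐ[R] K :=
      { toFun := fun a => f (c a)
        map_one' := by rw [map_one, MonoidAlgebra.one_def, hf, if_pos (one_mem U), map_one]
        map_mul' := hfmul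
        map_zero' := by rw [map_zero, map_zero]
        map_add' := fun a b => by rw [map_add, map_add]
        commutes' := fun r => by
          rw [c.commutes, MonoidAlgebra.coe_algebraMap, Function.comp_apply, hf, if_pos (one_mem U), x.commutes] }
    have hU : ∀ m, m ∈ U := by
      let t : N →* MonoidAlgebra K (N ⧸ U) := (MonoidAlgebra.of K (N ⧸ U)).comp (QuotientGroup.mk' U)
      let y : A →ₐ[R] MonoidAlgebra K (N ⧸ U) := MonoidAlgebra.singleOneAlgHom.comp x'
      have h := hfree _ y t ?_
      · intro m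
        have h' := DFunLike.congr_fun h m
        refine (QuotientGroup.eq_one_iff m).mp (MonoidAlgebra.single_left_injective (one_ne_zero (α := K)) ?_)
        exact h'.trans MonoidAlgebra.one_def
      refine AlgHom.ext fun a => ?_
      have hy : ∀ b, y b = MonoidAlgebra.single (1 : N ⧸ U) (f (c b)) := fun b => rfl
      rw [mvR_eq_sum, hy, hfsum, Finsupp.sum]
      rw [show MonoidAlgebra.single (1 : N ⧸ U) (∑ m ∈ (c a).coeff.support, f (MonoidAlgebra.single m ((c a).coeff m))) =
        ∑ m ∈ (c a).coeff.support, MonoidAlgebra.single (1 : N ⧸ U) (f (MonoidAlgebra.single m ((c a).coeff m))) from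
        map_sum (MonoidAlgebra.singleAddHom (1 : N ⧸ U)) _ _]
      refine Finset.sum_congr rfl fun m _ => ?_
      rw [hy, hdeg, hf]
      by_cases hm : m ∈ U
      · simp [t, hm, (QuotientGroup.eq_one_iff m).mpr hm, MonoidAlgebra.single_mul_single]
      · simp [hm]
    intro m
    obtain ⟨a, ha⟩ := (hU m).1
    exact ⟨a, (hx _).mpr ha⟩
  have hsingle : ∀ m, MonoidAlgebra.single m (1 : A) ∈ C := by
    intro m
    let I : Ideal A :=
      { carrier := {r | MonoidAlgebra.single m r ∈ C}
        add_mem' := fun {a b} ha hb => by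
          show MonoidAlgebra.single m (a + b) ∈ C
          rw [MonoidAlgebra.single_add]; exact add_mem ha hb
        zero_mem' := by show MonoidAlgebra.single m (0 : A) ∈ C; rw [MonoidAlgebra.single_zero]; exact zero_mem _
        smul_mem' := fun a b hb => by
          show MonoidAlgebra.single m (a • b) ∈ C
          rw [← MonoidAlgebra.smul_single]; exact C.smul_mem hb a }
    suffices hI : I = ⊤ by
      have h1 : (1 : A) ∈ I := by rw [hI]; trivial
      exact h1
    by_contra hI
    obtain ⟨𝔫, h𝔫, hle⟩ := Ideal.exists_le_maximal I hI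
    obtain ⟨a, ha⟩ := hkey 𝔫 h𝔫 m
    refine ha (hle ?_)
    show MonoidAlgebra.single m _ ∈ C
    rw [← hdeg]
    exact hC _
  refine eq_top_iff.mpr fun z hz => ?_
  clear hz
  induction z using MonoidAlgebra.induction_linear with
  | zero => exact zero_mem _
  | add a b ha hb => exact add_mem ha hb
  | single m r =>
    have := C.smul_mem (hsingle m) r
    rwa [MonoidAlgebra.smul_single, smul_eq_mul, _root_.mul_one] at this

end FreeAct

variable {S : Scheme.{u}} {R : CommRingCat.{u}} (p : Spec R ⟶ S) {G X : Over S} [GrpObj G]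
  {M : Type} [AddCommGroup M] (P : SplitPts p G M) (a : AlgGrp.Action G X)

/-- A point of the base change moved by a character. -/
def mvP {T : Type u} [CommRing T] [Algebra R T] (t : Multiplicative M →* T)
    (x : specOver (R := R) T ⟶ Red.bc p X) : specOver (R := R) T ⟶ Red.bc p X :=
  bcUn p (smul a (gPt p P t) (bcTr p x))

lemma push_mvP {T T' : Type u} [CommRing T] [Algebra R T] [CommRing T'] [Algebra R T'] (k : T →ₐ[R] T')
    (t : Multiplicative M →* T) (x : specOver (R := R) T ⟶ Red.bc p X) :
    push k (mvP p P a t x) = mvP p P a (k.toRingHom.toMonoidHom.comp t) (push k x) := by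
  apply bcTr_injective p
  rw [push, push, bcTr_comp, mvP, mvP, bcTr_bcUn, bcTr_bcUn, comp_smul, testMap_gPt, bcTr_comp]

set_option backward.isDefEq.respectTransparency.types false in
/-- In a split chart over which the space is affine, the graph of a free action is a closed immersion. -/
theorem isClosedImmersion_graph_chart (hP : P.Inj) [IsAffineHom X.hom]
    (hfree : ∀ (Y : Over S) (g : Y ⟶ G) (x : Y ⟶ X), lift g x ≫ a.act = x → g = 1) :
    IsClosedImmersion ((Over.pullback p).map (lift a.act (snd G X))).left := by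
  classical
  have : IsAffineHom (Red.bc p X).hom := inferInstanceAs (IsAffineHom (pullback.snd X.hom p))
  have : IsAffine (Red.bc p X).left := isAffine_of_isAffineHom (Red.bc p X).hom
  letI := fnAlg (Red.bc p X)
  let A := Γ((Red.bc p X).left, ⊤)
  let N := Multiplicative M
  let ι₀ : A →ₐ[R] (MonoidAlgebra A N) := MonoidAlgebra.singleOneAlgHom
  obtain ⟨xu, hxu⟩ := exists_fnAt (G := Red.bc p X) (T := MonoidAlgebra A N) ι₀.toRingHom ι₀.commutes
  let tu : N →* (MonoidAlgebra A N) := MonoidAlgebra.of A N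
  let cR : A →+* (MonoidAlgebra A N) := fnAt (mvP p P a tu xu)
  let c : A →ₐ[R] (MonoidAlgebra A N) := { cR with commutes' := fnAt_algebraMap _ }
  have hpush : ∀ {T' : Type u} [CommRing T'] [Algebra R T'] (t : N →* T') (x : A →ₐ[R] T')
      (xp : specOver (R := R) T' ⟶ Red.bc p X), fnAt xp = x.toRingHom →
      fnAt (mvP p P a t xp) = (FreeAct.mvR c x t).toRingHom := by
    intro T' _ _ t x xp hxp
    let k : (MonoidAlgebra A N) →ₐ[R] T' := MonoidAlgebra.liftNCAlgHom x t fun _ _ => Commute.all _ _
    have hx : push k xu = xp := fnAt_injective (by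
      rw [fnAt_push, hxu, hxp]
      refine RingHom.ext fun b => ?_
      simp [k, ι₀])
    have ht : k.toRingHom.toMonoidHom.comp tu = t := by
      refine MonoidHom.ext fun m => ?_
      simp [k, tu]
    conv_lhs => rw [← hx, ← ht, ← push_mvP, fnAt_push]
    rfl
  have hassoc : ∀ (T' : Type u) [CommRing T'] [Algebra R T'] (x : A →ₐ[R] T') (s t : N →* T'),
      FreeAct.mvR c x (s * t) = FreeAct.mvR c (FreeAct.mvR c x t) s := by
    intro T' _ _ x s t
    obtain ⟨xp, hxp⟩ := exists_fnAt (G := Red.bc p X) x.toRingHom x.commutes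
    refine AlgHom.coe_ringHom_injective ?_
    show (FreeAct.mvR c x (s * t)).toRingHom = (FreeAct.mvR c (FreeAct.mvR c x t) s).toRingHom
    rw [← hpush _ _ xp hxp, ← hpush _ _ (mvP p P a t xp) (hpush _ _ xp hxp), mvP, mvP, mvP, bcTr_bcUn, gPt_mul,
      mul_smul']
  have hf : ∀ (T' : Type u) [CommRing T'] [Algebra R T'] (x : A →ₐ[R] T') (t : N →* T'),
      FreeAct.mvR c x t = x → t = 1 := by
    intro T' _ _ x t h
    obtain ⟨xp, hxp⟩ := exists_fnAt (G := Red.bc p X) x.toRingHom x.commutes
    have h1 : mvP p P a t xp = xp := fnAt_injective (by rw [hpush _ _ xp hxp, h, hxp])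
    have h2 := congrArg (bcTr p) h1
    rw [mvP, bcTr_bcUn] at h2
    refine gPt_injective P hP ((hfree _ _ _ h2).trans ?_)
    rw [gPt, MonoidHom.comp_one, P.σ_one]
  let φ := (Over.pullback p).map (lift a.act (snd G X))
  let z : specOver (R := R) (MonoidAlgebra A N) ⟶ Red.bc p (G ⊗ X) := bcUn p (lift (gPt p P tu) (bcTr p xu))
  have h1 : (z ≫ φ) ≫ (Over.pullback p).map (fst X X) = mvP p P a tu xu := bcTr_injective p (by
    rw [bcTr_map, bcTr_map, bcTr_bcUn, mvP, bcTr_bcUn, Category.assoc, lift_fst]
    rfl)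
  have h2 : (z ≫ φ) ≫ (Over.pullback p).map (snd X X) = xu := bcTr_injective p (by
    rw [bcTr_map, bcTr_map, bcTr_bcUn, Category.assoc, lift_snd, lift_snd])
  have : IsAffineHom (pullback.fst X.hom X.hom) := MorphismProperty.pullback_fst _ _ inferInstance
  have : IsAffineHom (X ⊗ X).hom := inferInstanceAs (IsAffineHom (pullback.fst X.hom X.hom ≫ X.hom))
  have : IsAffineHom (Red.bc p (X ⊗ X)).hom := inferInstanceAs (IsAffineHom (pullback.snd (X ⊗ X).hom p))
  have : IsAffine (Red.bc p (X ⊗ X)).left := isAffine_of_isAffineHom (Red.bc p (X ⊗ X)).hom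
  let f := fnAt (z ≫ φ)
  let C : Subalgebra A (MonoidAlgebra A N) :=
    { f.range.toSubsemiring with
      algebraMap_mem' := fun r => ⟨((Over.pullback p).map (snd X X)).left.appTop r, by
        have h3 := congrArg (fun q => fnAt q r) h2
        rw [hxu] at h3
        exact h3⟩ }
  have hC : C = ⊤ := FreeAct.range_generates c hassoc hf C fun b =>
    ⟨((Over.pullback p).map (fst X X)).left.appTop b, congrArg (fun q => fnAt q b) h1⟩
  have hsurj : Function.Surjective f := fun w => (hC.ge (Algebra.mem_top : w ∈ (⊤ : Subalgebra A (MonoidAlgebra A N))) :)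
  have hci : IsClosedImmersion (z.left ≫ φ.left) := by
    have : IsAffine (specOver (R := R) (MonoidAlgebra A N)).left := inferInstanceAs (IsAffine (Spec (CommRingCat.of (MonoidAlgebra A N))))
    refine IsClosedImmersion.of_surjective_of_isAffine _ ?_
    intro w
    obtain ⟨r, hr⟩ := hsurj ((Scheme.ΓSpecIso (CommRingCat.of (MonoidAlgebra A N))).hom w)
    exact ⟨r, (ConcreteCategory.bijective_of_isIso (Scheme.ΓSpecIso (CommRingCat.of (MonoidAlgebra A N))).hom).1 hr⟩
  have : Mono z.left := mono_of_mono z.left φ.left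
  obtain ⟨k, hk⟩ : ∃ k : Red.bc p (G ⊗ X) ⟶ specOver (R := R) (MonoidAlgebra A N), k ≫ z = 𝟙 _ := by
    let Y := Red.bc p (G ⊗ X)
    let w := bcTr p (𝟙 Y)
    obtain ⟨t0, ht0⟩ := P.σ_surjective (w ≫ fst G X)
    let x' : Y ⟶ Red.bc p X := bcUn p (w ≫ snd G X)
    let F : (MonoidAlgebra A N) →+* Γ(Y.left, ⊤) := MonoidAlgebra.liftNCRingHom x'.left.appTop.hom t0 fun _ _ => Commute.all _ _
    have hF : ∀ r, F (algebraMap R (MonoidAlgebra A N) r) =
        ((Scheme.ΓSpecIso (CommRingCat.of R)).inv ≫ Y.hom.appTop) r := fun r => by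
      rw [MonoidAlgebra.coe_algebraMap]
      simp only [Function.comp_apply, F, MonoidAlgebra.liftNCRingHom_single, map_one, _root_.mul_one]
      exact congr(((Scheme.ΓSpecIso R).inv ≫ $(congrArg Scheme.Hom.appTop (Over.w x'))) r).symm.trans (by
        simp [RingHom.algebraMap_toAlgebra]) |>.symm
    refine ⟨ptOfAlg (T := R) F hF, bcTr_injective p ?_⟩
    rw [bcTr_comp, bcTr_bcUn, comp_lift]
    have e1 : (Over.map p).map (ptOfAlg (T := R) F hF) ≫ gPt p P tu = w ≫ fst G X := by
      rw [gPt, P.σ_comp, ← ht0]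
      congr 1
      refine MonoidHom.ext fun m => ?_
      refine (ptOfAlg_appTop (T := R) F hF _).trans ?_
      show F (MonoidAlgebra.single m 1) = _
      simp [F]
    have e2 : ptOfAlg (T := R) F hF ≫ xu = x' := by
      ext1
      refine ext_of_isAffine ?_
      refine CommRingCat.hom_ext (RingHom.ext fun b => ?_)
      show (ptOfAlg (T := R) F hF).left.appTop (xu.left.appTop b) = x'.left.appTop b
      have e3 : xu.left.appTop b = toΓ (R := R) (ι₀ b) := by
        rw [← show fnAt xu b = ι₀ b from DFunLike.congr_fun hxu b]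
        exact congr($(Iso.hom_inv_id (Scheme.ΓSpecIso (CommRingCat.of (MonoidAlgebra A N)))) (xu.left.appTop b)).symm
      rw [e3]
      refine (ptOfAlg_appTop (T := R) F hF _).trans ?_
      simp [F, ι₀]
    rw [e1, ← bcTr_comp, e2, bcTr_bcUn]
    rw [← comp_lift, lift_fst_snd, Category.comp_id]
  have : IsSplitEpi z.left := ⟨⟨k.left, congrArg CommaMorphism.left hk⟩⟩
  have : IsIso z.left := isIso_of_mono_of_isSplitEpi _
  exact (MorphismProperty.cancel_left_of_respectsIso (P := @IsClosedImmersion) z.left φ.left).mp hci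

lemma isPullback_bcMap {S' : Scheme.{u}} (b : S' ⟶ S) {A B : Over S} (φ : A ⟶ B) :
    IsPullback (pullback.fst A.hom b) ((Over.pullback b).map φ).left φ.left (pullback.fst B.hom b) := by
  refine IsPullback.of_bot ?_ ?_ (IsPullback.of_hasPullback B.hom b)
  · have h1 : ((Over.pullback b).map φ).left ≫ pullback.snd B.hom b = pullback.snd A.hom b :=
      Over.w ((Over.pullback b).map φ)
    rw [h1, Over.w φ]
    exact IsPullback.of_hasPullback A.hom b
  · simp only [Over.pullback, Over.homMk_left]; exact (pullback.lift_fst _ _ _).symm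

lemma isClosedImmersion_bcMap_comp {S₁ S₂ : Scheme.{u}} (a : S₂ ⟶ S₁) (b : S₁ ⟶ S) {A B : Over S} (φ : A ⟶ B)
    (h : IsClosedImmersion ((Over.pullback (a ≫ b)).map φ).left) :
    IsClosedImmersion ((Over.pullback a).map ((Over.pullback b).map φ)).left := by
  have e := (Over.pullbackComp a b).hom.naturality φ
  have e2 : (Over.pullback a).map ((Over.pullback b).map φ) =
      (Over.pullbackComp a b).inv.app A ≫ (Over.pullback (a ≫ b)).map φ ≫ (Over.pullbackComp a b).hom.app B := by
    rw [e, Iso.inv_hom_id_app_assoc]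
    rfl
  rw [e2, Over.comp_left, Over.comp_left]
  have : IsIso ((Over.pullbackComp a b).inv.app A).left :=
    Groth.Agent.GrpScheme.Basic.isIso_left _
  have : IsIso ((Over.pullbackComp a b).hom.app B).left :=
    Groth.Agent.GrpScheme.Basic.isIso_left _
  exact (MorphismProperty.cancel_left_of_respectsIso (P := @IsClosedImmersion) _ _).mpr
    ((MorphismProperty.cancel_right_of_respectsIso (P := @IsClosedImmersion) _ _).mpr h)

set_option backward.isDefEq.respectTransparency.types false in
/-- Closed immersions are recognised on fpqc charts of the base. -/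
theorem isClosedImmersion_of_charts {A B : Over S} (φ : A ⟶ B)
    (h : ∀ W : S.affineOpens, ∃ (κ : Type u) (_ : Finite κ) (T : κ → CommRingCat.{u}) (t : ∀ k, Γ(S, W) ⟶ T k),
      (∀ k, Flat (Spec.map (t k))) ∧ (∀ z, ∃ k q, (Spec.map (t k)).base q = z) ∧
        ∀ k, IsClosedImmersion ((Over.pullback (Spec.map (t k) ≫ W.2.fromSpec)).map φ).left) :
    IsClosedImmersion φ.left := by
  have glue : ∀ {S₀ : Scheme.{u}} {A₀ B₀ : Over S₀} (ψ : A₀ ⟶ B₀) (𝒰 : S₀.OpenCover),
      (∀ i, IsClosedImmersion ((Over.pullback (𝒰.f i)).map ψ).left) → IsClosedImmersion ψ.left := by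
    intro S₀ A₀ B₀ ψ 𝒰 hi
    refine IsZariskiLocalAtTarget.of_openCover (P := @IsClosedImmersion) (𝒰.pullback₁ B₀.hom) fun (i : 𝒰.I₀) => ?_
    show IsClosedImmersion (pullback.snd ψ.left (pullback.fst B₀.hom (𝒰.f i)))
    rw [← (isPullback_bcMap (𝒰.f i) ψ).isoPullback_inv_snd]
    exact MorphismProperty.comp_mem _ (isPullback_bcMap (𝒰.f i) ψ).isoPullback.inv _ inferInstance (hi i)
  let 𝒲 : S.OpenCover := Scheme.Cover.mkOfCovers S.affineOpens (fun W => Spec Γ(S, W)) (fun W => W.2.fromSpec)
    (fun x => by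
      obtain ⟨W, hW, hxW, -⟩ := exists_isAffineOpen_mem_and_subset (X := S) (x := x) (U := ⊤) trivial
      obtain ⟨q, hq⟩ := hW.range_fromSpec.ge hxW
      exact ⟨⟨W, hW⟩, q, hq⟩) (fun W => W.2.isOpenImmersion_fromSpec)
  refine glue φ 𝒲 fun (W : S.affineOpens) => ?_
  obtain ⟨κ, _, T, t, hfl, hsurj, hk⟩ := h W
  let w : Spec Γ(S, W) ⟶ S := W.2.fromSpec
  show IsClosedImmersion ((Over.pullback w).map φ).left
  let π : (∐ fun k => Spec (T k)) ⟶ Spec Γ(S, W) := Sigma.desc fun k => Spec.map (t k)
  have : Flat π := (IsZariskiLocalAtSource.iff_of_openCover (P := @Flat) (sigmaOpenCover _)).mpr fun k => by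
    show Flat (Sigma.ι (fun k => Spec (T k)) k ≫ Sigma.desc _)
    rw [Sigma.ι_desc]
    exact hfl k
  have : Surjective π := ⟨fun z => by
    obtain ⟨k, q, hq⟩ := hsurj z
    exact ⟨(Sigma.ι (fun k => Spec (T k)) k).base q, by rw [← Scheme.Hom.comp_apply, Sigma.ι_desc, hq]⟩⟩
  have : CompactSpace (∐ fun k => Spec (T k) : Scheme.{u}) := (sigmaMk _).compactSpace
  have : QuasiCompact π := inferInstance
  let φW := (Over.pullback w).map φ
  haveI := Groth.Agent.FpqcDesc.descendsAlong_isClosedImmersion.{u}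
  refine MorphismProperty.of_pullback_fst_of_descendsAlong (P := @IsClosedImmersion)
    (Q := @Surjective ⊓ @Flat ⊓ @QuasiCompact) (f := pullback.fst (Red.bc w B).hom π)
    ⟨⟨inferInstance, inferInstance⟩, inferInstance⟩ ?_
  have sq := isPullback_bcMap π φW
  have e := sq.flip.isoPullback_inv_fst
  refine Eq.mpr (congrArg IsClosedImmersion e.symm) ?_
  refine MorphismProperty.comp_mem _ _ _ inferInstance (glue ((Over.pullback π).map φW) (sigmaOpenCover _) fun (k : κ) => ?_)
  refine isClosedImmersion_bcMap_comp _ π φW (isClosedImmersion_bcMap_comp _ w φ ?_)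
  show IsClosedImmersion ((Over.pullback ((Sigma.ι (fun k => Spec (T k)) k ≫ Sigma.desc _) ≫ w)).map φ).left
  rw [Sigma.ι_desc]
  exact hk k

/-- The graph of a free action of a group of multiplicative type on an affine scheme is a closed immersion. -/
theorem isClosedImmersion_graph (hG : SplitFpqc G) [IsAffineHom X.hom]
    (hfree : ∀ (Y : Over S) (g : Y ⟶ G) (x : Y ⟶ X), lift g x ≫ a.act = x → g = 1) :
    IsClosedImmersion (lift a.act (snd G X)).left := by
  refine isClosedImmersion_of_charts _ fun W => ?_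
  obtain ⟨κ, hκ, T, t, hfl, hs, hP⟩ := hG W
  refine ⟨κ, hκ, T, t, hfl, hs, fun k => ?_⟩
  obtain ⟨M', _, P', hP'⟩ := hP k
  exact isClosedImmersion_graph_chart _ P' a hP' hfree

end Groth.Agent.DiagRig
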