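import Groth.Agent.RedPts.Basic
import Groth.Agent.DiagRig.DSAlgebra
import Groth.Agent.DiagRig.FreeAction

/-! Homomorphisms between diagonalisable groups over an arbitrary base are locally `D(φ)`. -/

universe u

open CategoryTheory MonoidalCategory CartesianMonoidalCategory MonObj GrpObj AlgebraicGeometry Limits
open Groth.Agent.RedPts

noncomputable section

namespace Groth.Agent.DiagRig.DSHom

set_option backward.isDefEq.respectTransparency.types false

variable {U : Scheme.{u}} {M N : Type} [AddCommGroup M] [AddCommGroup N]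

section Chart

variable {R : CommRingCat.{u}} (j : Spec R ⟶ U) (M)

/-- The affine test scheme. -/
abbrev tstS (T : Type u) [CommRing T] [Algebra R T] : Over U :=
  Over.mk (Spec.map (CommRingCat.ofHom (algebraMap R T)) ≫ j)

/-- The map of test schemes given by a character. -/
def evPt {T : Type u} [CommRing T] [Algebra R T] (τ : Multiplicative M →* T) :
    tstS j T ⟶ tstS j (MonoidAlgebra R (Multiplicative M)) :=
  Over.homMk (Spec.map (CommRingCat.ofHom (MonoidAlgebra.lift R T (Multiplicative M) τ).toRingHom)) (by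
    show Spec.map _ ≫ Spec.map _ ≫ j = Spec.map _ ≫ j
    rw [← Category.assoc, ← Spec.map_comp, ← CommRingCat.ofHom_comp]
    exact congrArg (fun f => Spec.map (CommRingCat.ofHom f) ≫ j) (MonoidAlgebra.lift R T (Multiplicative M) τ).comp_algebraMap)

variable {M}

theorem evPt_appTop {T : Type u} [CommRing T] [Algebra R T] (τ : Multiplicative M →* T)
    (a : MonoidAlgebra R (Multiplicative M)) :
    (evPt M j τ).left.appTop ((Scheme.ΓSpecIso (CommRingCat.of (MonoidAlgebra R (Multiplicative M)))).inv a) =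
      (Scheme.ΓSpecIso (CommRingCat.of T)).inv (MonoidAlgebra.lift R T (Multiplicative M) τ a) :=
  congr($((Scheme.ΓSpecIso_inv_naturality
    (CommRingCat.ofHom (MonoidAlgebra.lift R T (Multiplicative M) τ).toRingHom)).symm) a)

variable (M)

/-- The universal point over an affine chart. -/
theorem exists_univ : ∃ x : tstS j (MonoidAlgebra R (Multiplicative M)) ⟶ Red.DS U M,
    ∀ m, dFn x m = (Scheme.ΓSpecIso (CommRingCat.of (MonoidAlgebra R (Multiplicative M)))).inv
      (MonoidAlgebra.single (Multiplicative.ofAdd m) 1) := by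
  obtain ⟨x, hx⟩ := d_surjective (S := U) (M := M) (X := tstS j (MonoidAlgebra R (Multiplicative M))) (((Scheme.ΓSpecIso (CommRingCat.of (MonoidAlgebra R (Multiplicative M)))).inv.hom.toMonoidHom).comp
    (MonoidAlgebra.of R (Multiplicative M)))
  exact ⟨x, fun m => (hx m).trans rfl⟩

end Chart

/-- The tautological characters are distinct over a nonempty base. -/
theorem dFn_id_eq_one [Nonempty U] (m : M) (h : dFn (𝟙 (Red.DS U M)) m = 1) : m = 0 := by
  obtain ⟨x⟩ := ‹Nonempty U›
  obtain ⟨(V : U.Opens), hV, hxV, -⟩ := exists_isAffineOpen_mem_and_subset (X := U) (x := x) (U := ⊤) trivial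
  let R : CommRingCat.{u} := Γ(U, V)
  have hne : Nonempty (Spec R) := ⟨hV.isoSpec.hom.base ⟨x, hxV⟩⟩
  have : Nontrivial R := PrimeSpectrum.nontrivial hne.some
  obtain ⟨x₀, hx₀⟩ := exists_univ M hV.fromSpec
  have h1 : dFn x₀ m = 1 := by
    rw [← Category.comp_id x₀, d_comp, h, map_one]
  rw [hx₀] at h1
  have h2 := (Scheme.ΓSpecIso (CommRingCat.of (MonoidAlgebra R (Multiplicative M)))).commRingCatIsoToRingEquiv.symm.injective
    (h1.trans (map_one _).symm)
  rw [MonoidAlgebra.one_def] at h2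
  have h3 := congrArg (fun f : MonoidAlgebra R (Multiplicative M) => f.coeff (Multiplicative.ofAdd m)) h2
  by_contra hm
  simp only [MonoidAlgebra.coeff_single, Finsupp.single_eq_same] at h3
  rw [Finsupp.single_eq_of_ne (fun e => hm (ofAdd_eq_one.mp e))] at h3
  exact one_ne_zero h3

theorem mono_DSmap (φ : M →+ N) (hφ : Function.Surjective φ) : Mono (Red.DSmap U φ).left :=
  have : Mono (Red.DSmap U φ) := ⟨fun x y h => d_ext fun n => by
    obtain ⟨m, rfl⟩ := hφ n
    rw [← DSmap_fn x φ m, ← DSmap_fn y φ m, h]⟩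
  inferInstance

theorem isIso_DSmap (φ : M →+ N) (hφ : Function.Bijective φ) : IsIso (Red.DSmap U φ).left := by
  let e := AddEquiv.ofBijective φ hφ
  have h1 : Red.DSmap U φ ≫ Red.DSmap U e.symm.toAddMonoidHom = 𝟙 _ := d_ext fun n => by
    rw [DSmap_fn]
    conv_lhs => rw [← Category.id_comp (Red.DSmap U φ), DSmap_fn]
    exact congrArg (dFn _) (e.apply_symm_apply n)
  have h2 : Red.DSmap U e.symm.toAddMonoidHom ≫ Red.DSmap U φ = 𝟙 _ := d_ext fun n => by
    rw [DSmap_fn]
    conv_lhs => rw [← Category.id_comp (Red.DSmap U e.symm.toAddMonoidHom), DSmap_fn]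
    exact congrArg (dFn _) (e.symm_apply_apply n)
  exact ((Over.forget U).mapIso ⟨_, _, h1, h2⟩).isIso_hom

theorem flat_surjective_DSmap (φ : M →+ N) (hφ : Function.Injective φ) :
    Flat (Red.DSmap U φ).left ∧ Surjective (Red.DSmap U φ).left := by
  have : Nontrivial (ULift.{u} ℤ) := inferInstance
  have hff := faithfullyFlat_monMap (ULift.{u} ℤ) φ hφ
  rw [RingHom.FaithfullyFlat.iff_flat_and_comap_surjective] at hff
  have h1 : Flat (Red.diagMap (ULift.{u} ℤ) φ).left := HasRingHomProperty.Spec_iff.mpr hff.1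
  have h2 : Surjective (Red.diagMap (ULift.{u} ℤ) φ).left := ⟨hff.2⟩
  have sq := isPullback_bcMap (IsTerminal.from specULiftZIsTerminal U) (Red.diagMap (ULift.{u} ℤ) φ)
  exact ⟨MorphismProperty.of_isPullback sq.flip.flip h1, MorphismProperty.of_isPullback sq.flip.flip h2⟩

theorem surjective_of_mono [Nonempty U] (φ : M →+ N) (h : Mono (Red.DSmap U φ).left) : Function.Surjective φ := by
  have := Over.mono_of_mono_left (Red.DSmap U φ)
  let π := QuotientAddGroup.mk' φ.range
  have e : Red.DSmap U π ≫ Red.DSmap U φ = Red.DSmap U (0 : N →+ N ⧸ φ.range) ≫ Red.DSmap U φ := d_ext fun m => by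
    rw [DSmap_fn, DSmap_fn]
    rw [← Category.id_comp (Red.DSmap U π), ← Category.id_comp (Red.DSmap U (0 : N →+ N ⧸ φ.range)), DSmap_fn, DSmap_fn]
    congr 1
    exact (QuotientAddGroup.eq_zero_iff _).mpr ⟨m, rfl⟩
  intro n
  have e2 := congrArg (fun z => dFn z n) ((cancel_mono _).mp e)
  rw [← Category.id_comp (Red.DSmap U π), ← Category.id_comp (Red.DSmap U (0 : N →+ N ⧸ φ.range)), DSmap_fn, DSmap_fn,
    AddMonoidHom.zero_apply, d_zero] at e2
  exact AddMonoidHom.mem_range.mp ((QuotientAddGroup.eq_zero_iff _).mp (dFn_id_eq_one _ e2))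

theorem injective_of_epi [Nonempty U] (φ : M →+ N) (h : Epi (Red.DSmap U φ).left) : Function.Injective φ := by
  have := Over.epi_of_epi_left (Red.DSmap U φ)
  refine (injective_iff_map_eq_zero φ).mpr fun m hm => dFn_id_eq_one (U := U) m ?_
  have e : Red.DSmap U φ ≫ Red.chi U m = Red.DSmap U φ ≫ Red.DSmap U (0 : ℤ →+ M) := d_ext fun k => by
    simp only [Red.chi]
    rw [DSmap_fn, DSmap_fn, ← Category.id_comp (Red.DSmap U φ), DSmap_fn, DSmap_fn]
    simp [zmultiplesHom, hm]
  have e2 := congrArg (fun z => dFn z (1 : ℤ)) ((cancel_epi _).mp e)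
  simp only [Red.chi] at e2
  rw [← Category.id_comp (Red.DSmap U (zmultiplesHom M m : ℤ →+ M)),
    ← Category.id_comp (Red.DSmap U (0 : ℤ →+ M)), DSmap_fn, DSmap_fn, AddMonoidHom.zero_apply, d_zero] at e2
  simpa using e2

/-- A homomorphism `D(M) ⟶ D(N)` with `N` finitely generated is `D(φ)` near every point. -/
theorem exists_localHom (u : Red.DS U M ⟶ Red.DS U N) [IsMonHom u] (hN : AddGroup.FG N) (x : U) :
    ∃ V : U.Opens, x ∈ V ∧ ∃ φ : N →+ M, ∀ (Y : Over U) (y : Y ⟶ Red.DS U M),
      Set.range Y.hom.base ⊆ (V : Set U) → y ≫ u = y ≫ Red.DSmap U φ := by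
  classical
  obtain ⟨(W : U.Opens), hW, hxW, -⟩ := exists_isAffineOpen_mem_and_subset (X := U) (x := x) (U := ⊤) trivial
  let R : CommRingCat.{u} := Γ(U, W)
  let A := MonoidAlgebra R (Multiplicative M)
  let eA := (Scheme.ΓSpecIso (CommRingCat.of A)).commRingCatIsoToRingEquiv
  obtain ⟨x₀, hx₀⟩ := exists_univ M hW.fromSpec
  let c : N → A := fun n => eA (dFn (x₀ ≫ u) n)
  have hpt : ∀ (T : Type u) [CommRing T] [Algebra R T] (τ : Multiplicative M →* T),
      (∀ m, dFn (evPt M hW.fromSpec τ ≫ x₀) m =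
        (Scheme.ΓSpecIso (CommRingCat.of T)).inv (τ (Multiplicative.ofAdd m))) ∧
      ∀ n, dFn ((evPt M hW.fromSpec τ ≫ x₀) ≫ u) n =
        (Scheme.ΓSpecIso (CommRingCat.of T)).inv (MonoidAlgebra.lift R T (Multiplicative M) τ (c n)) := by
    intro T _ _ τ
    refine ⟨fun m => ?_, fun n => ?_⟩
    · rw [d_comp, hx₀, evPt_appTop]
      simp
    · rw [Category.assoc, d_comp, ← evPt_appTop]
      congr 1
      exact (eA.symm_apply_apply _).symm
  have hmul : ∀ (T : Type u) [CommRing T] [Algebra R T] (σ τ : Multiplicative M →* T) n,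
      MonoidAlgebra.lift R T (Multiplicative M) (σ * τ) (c n) =
        MonoidAlgebra.lift R T (Multiplicative M) σ (c n) * MonoidAlgebra.lift R T (Multiplicative M) τ (c n) := by
    intro T _ _ σ τ n
    have e : evPt M hW.fromSpec (σ * τ) ≫ x₀ = (evPt M hW.fromSpec σ ≫ x₀) * (evPt M hW.fromSpec τ ≫ x₀) :=
      d_ext fun m => by rw [d_mul, (hpt T _).1, (hpt T σ).1, (hpt T τ).1, MonoidHom.mul_apply, map_mul]
    have e' := congrArg (fun z => dFn z n) (congrArg (· ≫ u) e)
    have e2 := MonObj.mul_comp (evPt M hW.fromSpec σ ≫ x₀) (evPt M hW.fromSpec τ ≫ x₀) u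
    rw [e2, d_mul, (hpt T _).2, (hpt T σ).2, (hpt T τ).2, ← map_mul] at e'
    exact (Scheme.ΓSpecIso (CommRingCat.of T)).commRingCatIsoToRingEquiv.symm.injective e'
  have hadd : ∀ n n', c (n + n') = c n * c n' := fun n n' => by simp only [c, d_add, map_mul]
  have hGL : ∀ n, CharLift.GL (c n) := by
    intro n
    let P := Multiplicative M
    refine ⟨?_, ?_⟩
    · have hm : ∀ (ψ : P →* P × P) (d : A), MonoidAlgebra.lift R (MonoidAlgebra R (P × P)) P
          ((MonoidAlgebra.of R (P × P)).comp ψ) d = MonoidAlgebra.mapDomainAlgHom R R ψ d := fun ψ d => by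
        induction d using MonoidAlgebra.induction_linear with
        | zero => simp
        | add a b ha hb => simp only [map_add, ha, hb]
        | single m r => simp [MonoidAlgebra.lift_single, MonoidAlgebra.smul_single]
      have e := hmul (MonoidAlgebra R (P × P)) ((MonoidAlgebra.of R (P × P)).comp (MonoidHom.inl P P))
        ((MonoidAlgebra.of R (P × P)).comp (MonoidHom.inr P P)) n
      rw [hm, hm, show (MonoidAlgebra.of R (P × P)).comp (MonoidHom.inl P P) *
          (MonoidAlgebra.of R (P × P)).comp (MonoidHom.inr P P) =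
          (MonoidAlgebra.of R (P × P)).comp ((MonoidHom.id P).prod (MonoidHom.id P)) from
        MonoidHom.ext fun m => by simp [MonoidAlgebra.single_mul_single], hm] at e
      exact e.symm
    · have e := hmul R 1 1 n
      rw [_root_.mul_one] at e
      have hu : IsUnit (MonoidAlgebra.lift R R P 1 (c n)) := ((d_isUnit (x₀ ≫ u) n).map eA).map _
      exact hu.mul_eq_left.mp e.symm
  -- the type at `x`
  let p : PrimeSpectrum R := hW.primeIdealOf ⟨x, hxW⟩
  let k := p.asIdeal.ResidueField
  let ev : A →+* MonoidAlgebra k (Multiplicative M) :=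
    (MonoidAlgebra.mapAlgHom (M := Multiplicative M) (Algebra.ofId R k)).toRingHom
  have hev : ∀ (a : A) (m : Multiplicative M), (ev a).coeff m = algebraMap R k (a.coeff m) := fun a m => by
    induction a using MonoidAlgebra.induction_linear with
    | zero => simp
    | add a b ha hb => simp [map_add, ha, hb]
    | single l r =>
      show (MonoidAlgebra.mapAlgHom (M := Multiplicative M) (Algebra.ofId R k) (MonoidAlgebra.single l r)).coeff m = _
      by_cases h : l = m <;> simp [h, Algebra.ofId_apply]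
  have hex : ∀ n, ∃! m : Multiplicative M, algebraMap R k ((c n).coeff m) ≠ 0 := by
    intro n
    have hne : ev (c n) ≠ 0 := (((d_isUnit (x₀ ≫ u) n).map eA).map ev).ne_zero
    obtain ⟨m, hm⟩ : ∃ m, (ev (c n)).coeff m ≠ 0 := by
      by_contra! h
      exact hne (MonoidAlgebra.coeff_injective (Finsupp.ext fun m => by simpa using h m))
    refine ⟨m, by rw [hev] at hm; exact hm, fun m' hm' => ?_⟩
    by_contra hne'
    have h := congrArg (algebraMap R k) ((hGL n).coeff_mul m' m)
    rw [if_neg hne', map_mul, map_zero] at h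
    exact (mul_ne_zero hm' (by rw [hev] at hm; exact hm)) h
  choose ψ hψ hψu using hex
  have hsingle : ∀ n, ev (c n) = MonoidAlgebra.single (ψ n) 1 := fun n =>
    MonoidAlgebra.coeff_injective (Finsupp.ext fun m => by
      rw [hev, MonoidAlgebra.coeff_single]
      by_cases h : m = ψ n
      · subst h
        rw [Finsupp.single_eq_same]
        exact (mul_eq_left₀ (hψ n)).mp (by rw [← map_mul, (hGL n).idem])
      · rw [Finsupp.single_eq_of_ne h]
        by_contra h'
        exact h (hψu n m h'))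
  let φ : N →+ M := AddMonoidHom.mk' (fun n => (ψ n).toAdd) fun a b => by
    have h := congrArg ev (hadd a b)
    rw [map_mul, hsingle, hsingle, hsingle, MonoidAlgebra.single_mul_single, _root_.mul_one] at h
    have h2 := MonoidAlgebra.single_left_injective (one_ne_zero' k) h
    rw [h2, toAdd_mul]
  obtain ⟨s, hs⟩ := hN
  let f : R := ∏ n ∈ s, (c n).coeff (ψ n)
  let V : U.Opens := U.basicOpen f
  have hxV : x ∈ V := by
    rw [show x = hW.fromSpec.base p from (hW.fromSpec_primeIdealOf ⟨x, hxW⟩).symm]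
    refine (hW.fromSpec_preimage_basicOpen f).ge (show p ∈ PrimeSpectrum.basicOpen f from fun hf => ?_)
    have h0 : algebraMap R k f = 0 := Ideal.algebraMap_residueField_eq_zero.mpr hf
    rw [map_prod, Finset.prod_eq_zero_iff] at h0
    obtain ⟨n, -, hn⟩ := h0
    exact hψ n hn
  refine ⟨V, hxV, φ, fun Y y hY => d_ext fun n => ?_⟩
  rw [DSmap_fn]
  have hVW : V ≤ W := U.basicOpen_le f
  have hr : Set.range Y.hom.base ⊆ Set.range hW.fromSpec.base := by
    rw [hW.range_fromSpec]; exact hY.trans hVW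
  let g : Y.left ⟶ Spec R := IsOpenImmersion.lift hW.fromSpec Y.hom hr
  have hg : g ≫ hW.fromSpec = Y.hom := IsOpenImmersion.lift_fac _ _ _
  let ρ : R →+* Γ(Y.left, ⊤) := ((Scheme.ΓSpecIso R).inv ≫ g.appTop).hom
  letI : Algebra R Γ(Y.left, ⊤) := ρ.toAlgebra
  let τ : Multiplicative M →* Γ(Y.left, ⊤) :=
    { toFun := fun m => dFn y m.toAdd
      map_one' := d_zero y
      map_mul' := fun a b => d_add y _ _ }
  let e : Y ⟶ tstS hW.fromSpec Γ(Y.left, ⊤) := Over.homMk Y.left.toSpecΓ (by
    show Y.left.toSpecΓ ≫ Spec.map (CommRingCat.ofHom ρ) ≫ hW.fromSpec = Y.hom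
    conv_rhs => rw [← hg]
    rw [← Category.assoc]
    congr 1
    show Y.left.toSpecΓ ≫ Spec.map ((Scheme.ΓSpecIso R).inv ≫ g.appTop) = g
    rw [Spec.map_comp]
    simp [← Scheme.toSpecΓ_naturality_assoc])
  have happ : ∀ a, e.left.appTop ((Scheme.ΓSpecIso (CommRingCat.of Γ(Y.left, ⊤))).inv a) = a := fun a => by
    show ((Scheme.ΓSpecIso _).inv ≫ Y.left.toSpecΓ.appTop) a = a
    rw [Scheme.toSpecΓ_appTop, Iso.inv_hom_id]; rfl
  have hy : e ≫ evPt M hW.fromSpec τ ≫ x₀ = y := d_ext fun m => by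
    rw [d_comp, (hpt _ τ).1, happ]; rfl
  have hyu : ∀ n, dFn (y ≫ u) n = MonoidAlgebra.lift R Γ(Y.left, ⊤) (Multiplicative M) τ (c n) := fun n => by
    rw [← hy, Category.assoc, Category.assoc, d_comp, ← Category.assoc, (hpt _ τ).2, happ]
  have hρ : IsUnit (ρ f) := by
    have h : g.base ⁻¹' ((PrimeSpectrum.basicOpen f : TopologicalSpace.Opens (PrimeSpectrum R)) : Set (PrimeSpectrum R)) = Set.univ := by
      refine Set.eq_univ_of_forall fun z => ?_
      have hz : hW.fromSpec.base (g.base z) ∈ U.basicOpen f := by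
        rw [← Scheme.Hom.comp_apply, hg]; exact hY ⟨z, rfl⟩
      exact (hW.fromSpec_preimage_basicOpen f).le hz
    have h2 : Y.left.basicOpen (ρ f) = ⊤ := by
      rw [show ρ f = g.appTop ((Scheme.ΓSpecIso R).inv f) from rfl, ← Scheme.preimage_basicOpen_top]
      exact TopologicalSpace.Opens.ext (by
        rw [TopologicalSpace.Opens.map_coe, basicOpen_eq_of_affine]; exact h)
    refine Y.left.toRingedSpace.isUnit_of_isUnit_germ ⊤ _ fun z hz => ?_
    exact (Scheme.mem_basicOpen _ _ z hz).mp (h2.ge hz)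
  have key : ∀ n ∈ s, dFn (y ≫ u) n = dFn y (φ n) := by
    intro n hn
    have h1 : IsUnit (ρ ((c n).coeff (ψ n))) := isUnit_of_dvd_unit (map_dvd ρ (Finset.dvd_prod_of_mem (fun n => (c n).coeff (ψ n)) hn)) hρ
    have he : ρ ((c n).coeff (ψ n)) = 1 := by
      have h := congrArg ρ ((hGL n).idem (ψ n))
      rw [map_mul] at h
      exact h1.mul_eq_left.mp h
    have h0 : ∀ m, m ≠ ψ n → ρ ((c n).coeff m) = 0 := fun m hm => by
      have h := congrArg ρ ((hGL n).coeff_mul m (ψ n))
      rwa [if_neg hm, map_mul, he, _root_.mul_one, map_zero] at h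
    rw [hyu, MonoidAlgebra.lift_apply, Finsupp.sum]
    refine (Finset.sum_eq_single (ψ n) (fun m _ hm => ?_) (fun hnot => ?_)).trans ?_
    · rw [Algebra.smul_def, show algebraMap R Γ(Y.left, ⊤) = ρ from rfl, h0 m hm, MulZeroClass.zero_mul]
    · rw [Finsupp.notMem_support_iff.mp hnot, zero_smul]
    · rw [Algebra.smul_def, show algebraMap R Γ(Y.left, ⊤) = ρ from rfl, he, _root_.one_mul]
      rfl
  have hall : n ∈ AddSubgroup.closure (s : Set N) := hs ▸ trivial
  induction hall using AddSubgroup.closure_induction with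
  | mem z hz => exact key z hz
  | zero => rw [map_zero, d_zero, d_zero]
  | add a b _ _ ha hb => rw [map_add, d_add, d_add, ha, hb]
  | neg a _ ha =>
    refine ((d_isUnit y (φ a)).mul_left_cancel ?_)
    conv_lhs => rw [← ha, ← d_add, add_neg_cancel, d_zero]
    rw [← d_add, map_neg, add_neg_cancel, d_zero]

end Groth.Agent.DiagRig.DSHom
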