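import Groth.Agent.DiagRig.DSHom
import Groth.Agent.DiagRig.SubDescent

/-! The locus where a homomorphism of groups of multiplicative type has a property. -/

universe u

open CategoryTheory MonoidalCategory CartesianMonoidalCategory MonObj GrpObj AlgebraicGeometry Limits MorphismProperty

noncomputable section

namespace Groth.Agent.DiagRig

set_option backward.isDefEq.respectTransparency.types false

variable {S : Scheme.{u}}

/-- Coverings with quasi-compact refinements compose. -/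
theorem cov_comp {S' S'' : Scheme.{u}} (π : S' ⟶ S) (f : S'' ⟶ S')
    (hcov : ∀ V : S.Opens, IsAffineOpen V → ∃ W : S'.Opens, IsCompact (W : Set S') ∧ π.base '' (W : Set S') = (V : Set S))
    (hcov' : ∀ V : S'.Opens, IsAffineOpen V → ∃ W : S''.Opens, IsCompact (W : Set S'') ∧ f.base '' (W : Set S'') = (V : Set S'))
    (V : S.Opens) (hV : IsAffineOpen V) :
    ∃ W : S''.Opens, IsCompact (W : Set S'') ∧ (f ≫ π).base '' (W : Set S'') = (V : Set S) := by
  obtain ⟨W, hWc, hW⟩ := hcov V hV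
  have : ∀ w : (W : Set S'), ∃ A : S'.Opens, IsAffineOpen A ∧ w.1 ∈ A ∧ A ≤ W := fun w =>
    exists_isAffineOpen_mem_and_subset w.2
  choose A hA hwA hAW using this
  obtain ⟨F, hF⟩ := hWc.elim_finite_subcover (fun w => (A w : Set S')) (fun w => (A w).2)
    fun x hx => Set.mem_iUnion.mpr ⟨⟨x, hx⟩, hwA ⟨x, hx⟩⟩
  choose W' hW'c hW' using fun w => hcov' (A w) (hA w)
  refine ⟨⨆ w ∈ F, W' w, ?_, ?_⟩
  · simp only [TopologicalSpace.Opens.coe_iSup]
    exact F.isCompact_biUnion fun v _ => hW'c v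
  · simp only [TopologicalSpace.Opens.coe_iSup, Scheme.Hom.comp_base, TopCat.coe_comp, Set.image_comp,
      Set.image_iUnion]
    rw [← hW]
    simp only [← Set.image_iUnion]
    congr 1
    simp only [Set.image_iUnion, hW']
    exact Set.Subset.antisymm (Set.iUnion₂_subset fun w _ => hAW w) hF

section Base

variable (P : MorphismProperty Scheme.{u}) [P.IsStableUnderBaseChange]

/-- The property of a base change of a morphism over `S`. -/
def BCProp {G H : Over S} (u : G ⟶ H) {W : Scheme.{u}} (k : W ⟶ S) : Prop :=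
  P ((Over.pullback k).map u).left

variable {P} {G H : Over S} {u : G ⟶ H}

theorem bcProp_comp_iff {W W' : Scheme.{u}} (a : W' ⟶ W) (k : W ⟶ S) :
    BCProp P u (a ≫ k) ↔ BCProp P ((Over.pullback k).map u) a := by
  let E := Over.pullbackComp a k
  refine P.arrow_mk_iso_iff (Arrow.isoMk ((CategoryTheory.Over.forget _).mapIso (E.app G))
    ((CategoryTheory.Over.forget _).mapIso (E.app H)) ?_)
  exact congrArg CommaMorphism.left (E.hom.naturality u).symm

theorem bcProp_congr {W : Scheme.{u}} {k k' : W ⟶ S} (h : k = k') : BCProp P u k ↔ BCProp P u k' := by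
  subst h; rfl

theorem BCProp.comp {W W' : Scheme.{u}} {k : W ⟶ S} (h : BCProp P u k) (a : W' ⟶ W) : BCProp P u (a ≫ k) :=
  (bcProp_comp_iff a k).mpr (MorphismProperty.of_isPullback (isPullback_bcMap a ((Over.pullback k).map u)) h)

theorem BCProp.descend [P.DescendsAlong (@Surjective ⊓ @Flat ⊓ @QuasiCompact)] {W W' : Scheme.{u}} {k : W ⟶ S}
    (a : W' ⟶ W) [Flat a] [Surjective a] [QuasiCompact a] (h : BCProp P u (a ≫ k)) : BCProp P u k :=
  MorphismProperty.of_isPullback_of_descendsAlong (Q := @Surjective ⊓ @Flat ⊓ @QuasiCompact)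
    (isPullback_bcMap a ((Over.pullback k).map u)).flip
    ⟨⟨inferInstanceAs (Surjective (pullback.fst _ a)), inferInstanceAs (Flat (pullback.fst _ a))⟩,
      inferInstanceAs (QuasiCompact (pullback.fst _ a))⟩ ((bcProp_comp_iff a k).mp h)

theorem BCProp.glue [IsZariskiLocalAtTarget P] {W : Scheme.{u}} {k : W ⟶ S} (𝒰 : Scheme.OpenCover.{u} W)
    (h : ∀ i, BCProp P u (𝒰.f i ≫ k)) : BCProp P u k := by
  refine IsZariskiLocalAtTarget.of_openCover (P := P) (𝒰.pullback₁ (pullback.snd H.hom k)) fun i => ?_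
  let sq := isPullback_bcMap (𝒰.f i) ((Over.pullback k).map u)
  have h1 := (bcProp_comp_iff (𝒰.f i) k).mp (h i)
  unfold BCProp at h1
  rw [← sq.isoPullback_hom_snd] at h1
  exact (P.cancel_left_of_respectsIso _ _).mp h1

end Base

/-- Restricting `D(φ)`. -/
theorem bcProp_DSmap {P : MorphismProperty Scheme.{u}} [P.IsStableUnderBaseChange] {W U : Scheme.{u}} (a : W ⟶ U)
    {M N : Type} [AddCommGroup M] [AddCommGroup N] (φ : M →+ N) :
    BCProp P (Red.DSmap U φ) a ↔ P (Red.DSmap W φ).left := by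
  have h := bcProp_comp_iff (P := P) (u := Red.diagMap (ULift.{u} ℤ) φ) a (IsTerminal.from specULiftZIsTerminal U)
  refine h.symm.trans (bcProp_congr (specULiftZIsTerminal.hom_ext _ _))

/-- A homomorphism trivialised over `k` is `D(φ)` over test schemes landing in a small open. -/
theorem exists_test {G H : Over S} [GrpObj G] [GrpObj H] (u : G ⟶ H) [IsMonHom u] {U : Scheme.{u}} (k : U ⟶ S)
    {M N : Type} [AddCommGroup M] [AddCommGroup N] (i₁ : Red.bc k G ≅ Red.DS U M) (i₂ : Red.bc k H ≅ Red.DS U N)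
    [IsMonHom i₁.inv] [IsMonHom i₂.hom] (hN : AddGroup.FG N) (x : U) :
    ∃ V₀ : U.Opens, x ∈ V₀ ∧ ∃ φ : N →+ M, ∀ (P : MorphismProperty Scheme.{u}) [P.IsStableUnderBaseChange]
      (W : Scheme.{u}) (c : W ⟶ U), Set.range c.base ⊆ (V₀ : Set U) →
      (BCProp P u (c ≫ k) ↔ P (Red.DSmap W φ).left) := by
  have : IsMonHom ((Over.pullback k).map u) := isMonHom_bcMap k u
  obtain ⟨v, hv₀⟩ : ∃ v, v = i₁.inv ≫ (Over.pullback k).map u ≫ i₂.hom := ⟨_, rfl⟩
  have : IsMonHom v := hv₀ ▸ inferInstance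
  obtain ⟨V₀, hxV₀, φ, hφ⟩ := DSHom.exists_localHom v hN x
  refine ⟨V₀, hxV₀, φ, fun P _ W c hc => ?_⟩
  have hv : (Over.pullback c).map v = (Over.pullback c).map (Red.DSmap U φ) := by
    apply bcTr_injective c
    conv_lhs => rw [← Category.id_comp ((Over.pullback c).map v), bcTr_map]
    conv_rhs => rw [← Category.id_comp ((Over.pullback c).map (Red.DSmap U φ)), bcTr_map]
    refine hφ _ _ ?_
    rintro _ ⟨y, rfl⟩
    exact hc ⟨((Red.bc c (Red.DS U M)).hom).base y, rfl⟩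
  refine (bcProp_comp_iff c k).trans ?_
  rw [← bcProp_DSmap (P := P) c φ, BCProp, BCProp, ← hv]
  have hcomm : (Over.pullback c).map i₁.hom ≫ (Over.pullback c).map v =
      (Over.pullback c).map ((Over.pullback k).map u) ≫ (Over.pullback c).map i₂.hom := by
    rw [← Functor.map_comp, ← Functor.map_comp, hv₀, Iso.hom_inv_id_assoc]
  exact P.arrow_mk_iso_iff (Arrow.isoMk
    ((CategoryTheory.Over.forget _).mapIso ((Over.pullback c).mapIso i₁))
    ((CategoryTheory.Over.forget _).mapIso ((Over.pullback c).mapIso i₂))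
    (congrArg CommaMorphism.left hcomm))

set_option maxHeartbeats 1000000 in
/-- Near every point of a common splitting cover the homomorphism is `D(φ)`. -/
theorem exists_local_form (P : MorphismProperty Scheme.{u}) [P.IsStableUnderBaseChange] [IsZariskiLocalAtTarget P]
    [P.DescendsAlong (@Surjective ⊓ @Flat ⊓ @QuasiCompact)]
    (A : ∀ {M N : Type} [AddCommGroup M] [AddCommGroup N], (N →+ M) → Prop)
    (hA : ∀ (U : Scheme.{u}) {M N : Type} [AddCommGroup M] [AddCommGroup N] (φ : N →+ M),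
      A φ → P (Red.DSmap U φ).left)
    (hA' : ∀ (U : Scheme.{u}) [Nonempty U] {M N : Type} [AddCommGroup M] [AddCommGroup N] (φ : N →+ M),
      P (Red.DSmap U φ).left → A φ)
    {G H : Over S} [GrpObj G] [GrpObj H] (u : G ⟶ H) [IsMonHom u] {S₁ S₂ : Scheme.{u}} (f : S₁ ⟶ S) (g : S₂ ⟶ S)
    (hfl : ∀ s' : S₁, ∃ U : S₁.Opens, s' ∈ U ∧ ∃ (M : Type) (_ : AddCommGroup M),
      Nonempty (Grp.mk (Red.bc (U.ι ≫ f) G) ≅ Grp.mk (Red.DS (U : Scheme.{u}) M)))
    (hgl : ∀ s' : S₂, ∃ U : S₂.Opens, s' ∈ U ∧ ∃ (M : Type) (_ : AddCommGroup M), AddGroup.FG M ∧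
      Nonempty (Grp.mk (Red.bc (U.ι ≫ g) H) ≅ Grp.mk (Red.DS (U : Scheme.{u}) M)))
    (p : ↥(pullback f g)) :
    ∃ V : (pullback f g).Opens, p ∈ V ∧ ∃ A₀ : Prop,
      (∀ q : (V : Scheme.{u}), BCProp P u (S.fromSpecResidueField ((V.ι ≫ pullback.snd f g ≫ g).base q)) ↔ A₀) ∧
      (A₀ → BCProp P u (V.ι ≫ pullback.snd f g ≫ g)) := by
  classical
  obtain ⟨U₁, hp₁, M, instM, ⟨e₁⟩⟩ := hfl ((pullback.fst f g).base p)
  obtain ⟨U₂, hp₂, N, instN, hN, ⟨e₂⟩⟩ := hgl ((pullback.snd f g).base p)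
  let U : (pullback f g).Opens := pullback.fst f g ⁻¹ᵁ U₁ ⊓ pullback.snd f g ⁻¹ᵁ U₂
  let k : (U : Scheme.{u}) ⟶ S := U.ι ≫ pullback.snd f g ≫ g
  have hl : U ≤ pullback.fst f g ⁻¹ᵁ U₁ := inf_le_left
  have hr : U ≤ pullback.snd f g ⁻¹ᵁ U₂ := inf_le_right
  let a₁ : (U : Scheme.{u}) ⟶ U₁ := (pullback f g).homOfLE hl ≫ (pullback.fst f g ∣_ U₁)
  let a₂ : (U : Scheme.{u}) ⟶ U₂ := (pullback f g).homOfLE hr ≫ (pullback.snd f g ∣_ U₂)
  have h₁ : a₁ ≫ U₁.ι ≫ f = k := by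
    simp only [a₁, k, Category.assoc, morphismRestrict_ι_assoc, Scheme.homOfLE_ι_assoc, pullback.condition]
  have h₂ : a₂ ≫ U₂.ι ≫ g = k := by
    simp only [a₂, k, Category.assoc, morphismRestrict_ι_assoc, Scheme.homOfLE_ι_assoc]
  let d := fun W : Scheme.{u} => IsTerminal.from specULiftZIsTerminal W
  let E₁ : Grp.mk (Red.bc k G) ≅ Grp.mk (Red.DS (U : Scheme.{u}) M) :=
    (bcGrpIso (U₁.ι ≫ f) a₁ k h₁ G).symm ≪≫ bcGrpMap a₁ e₁ ≪≫
      bcGrpIso (d U₁) a₁ (d U) (specULiftZIsTerminal.hom_ext _ _) (Red.diag (ULift.{u} ℤ) M)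
  let E₂ : Grp.mk (Red.bc k H) ≅ Grp.mk (Red.DS (U : Scheme.{u}) N) :=
    (bcGrpIso (U₂.ι ≫ g) a₂ k h₂ H).symm ≪≫ bcGrpMap a₂ e₂ ≪≫
      bcGrpIso (d U₂) a₂ (d U) (specULiftZIsTerminal.hom_ext _ _) (Red.diag (ULift.{u} ℤ) N)
  obtain ⟨i₁, hi₁⟩ : ∃ i₁ : Red.bc k G ≅ Red.DS (U : Scheme.{u}) M, IsMonHom i₁.inv :=
    ⟨(Grp.forget _).mapIso E₁, E₁.inv.hom.isMonHom_hom⟩
  obtain ⟨i₂, hi₂⟩ : ∃ i₂ : Red.bc k H ≅ Red.DS (U : Scheme.{u}) N, IsMonHom i₂.hom :=
    ⟨(Grp.forget _).mapIso E₂, E₂.hom.hom.isMonHom_hom⟩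
  obtain ⟨V₀, hpV₀, φ, htest⟩ := exists_test u k i₁ i₂ hN ⟨p, hp₁, hp₂⟩
  have test := htest P
  let V : (pullback f g).Opens := U.ι ''ᵁ V₀
  have hVU : V ≤ U := by rintro _ ⟨x, -, rfl⟩; exact x.2
  let c : (V : Scheme.{u}) ⟶ (U : Scheme.{u}) := (pullback f g).homOfLE hVU
  have hc : Set.range c.base ⊆ (V₀ : Set U) := by
    rintro _ ⟨⟨y, ⟨x, hx, hxy⟩⟩, rfl⟩
    have : c.base ⟨y, ⟨x, hx, hxy⟩⟩ = x := U.ι.isOpenEmbedding.injective (by
      rw [← Scheme.Hom.comp_apply, Scheme.homOfLE_ι]; exact hxy.symm)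
    rw [this]; exact hx
  refine ⟨V, ⟨⟨p, hp₁, hp₂⟩, hpV₀, rfl⟩, A φ, fun q => ?_, fun hAφ => ?_⟩
  · let c' : Spec ((V : Scheme.{u}).residueField q) ⟶ (U : Scheme.{u}) := (V : Scheme.{u}).fromSpecResidueField q ≫ c
    have hc' : Set.range c'.base ⊆ (V₀ : Set U) := by
      rintro _ ⟨y, rfl⟩; exact hc ⟨_, rfl⟩
    let φr := (V.ι ≫ pullback.snd f g ≫ g).residueFieldMap q
    have e : Spec.map φr ≫ S.fromSpecResidueField ((V.ι ≫ pullback.snd f g ≫ g).base q) = c' ≫ k := by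
      rw [Scheme.Hom.SpecMap_residueFieldMap_fromSpecResidueField]
      simp only [c', k, Category.assoc, c, Scheme.homOfLE_ι_assoc]
    have : Flat (Spec.map φr) := flat_specMap_field _ _ φr.hom
    have : Surjective (Spec.map φr) := surjective_specMap_field _ _ φr.hom
    have h1 : BCProp P u (S.fromSpecResidueField ((V.ι ≫ pullback.snd f g ≫ g).base q)) ↔ BCProp P u (c' ≫ k) := by
      rw [← bcProp_congr e]
      exact ⟨fun hT => hT.comp _, fun hT => hT.descend _⟩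
    rw [h1, test _ c' hc']
    exact ⟨hA' _ φ, hA _ φ⟩
  · rw [show V.ι ≫ pullback.snd f g ≫ g = c ≫ k by simp only [c, k, Scheme.homOfLE_ι_assoc]]
    exact (test _ c hc).mpr (hA _ φ hAφ)

set_option maxHeartbeats 1000000 in
/-- The same with a source of arbitrary type: a property of homomorphisms which holds for `D(φ)` exactly when a condition on `φ` holds cuts out a clopen
locus on the base of a homomorphism of groups of multiplicative type and finite type. -/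
theorem exists_clopen_locus_of_covers (P : MorphismProperty Scheme.{u}) [P.IsStableUnderBaseChange] [IsZariskiLocalAtTarget P]
    [P.DescendsAlong (@Surjective ⊓ @Flat ⊓ @QuasiCompact)]
    (A : ∀ {M N : Type} [AddCommGroup M] [AddCommGroup N], (N →+ M) → Prop)
    (hA : ∀ (U : Scheme.{u}) {M N : Type} [AddCommGroup M] [AddCommGroup N] (φ : N →+ M),
      A φ → P (Red.DSmap U φ).left)
    (hA' : ∀ (U : Scheme.{u}) [Nonempty U] {M N : Type} [AddCommGroup M] [AddCommGroup N] (φ : N →+ M),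
      P (Red.DSmap U φ).left → A φ)
    (G H : Over S) [GrpObj G] [GrpObj H] (hG : ∃ (S' : Scheme.{u}) (f : S' ⟶ S), Flat f ∧ Surjective f ∧
      (∀ V : S.Opens, IsAffineOpen V → ∃ W : S'.Opens, IsCompact (W : Set S') ∧ f.base '' (W : Set S') = (V : Set S)) ∧
      ∀ s' : S', ∃ U : S'.Opens, s' ∈ U ∧ ∃ (M : Type) (_ : AddCommGroup M),
        Nonempty (Grp.mk (Red.bc (U.ι ≫ f) G) ≅ Grp.mk (Red.DS (U : Scheme.{u}) M)))
    (hH : SGA3x.IsMultTypeFT H)
    (u : G ⟶ H) [IsMonHom u] :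
    ∃ U : S.Opens, IsClosed (U : Set S) ∧ (∀ s : S, s ∈ U ↔ P ((Over.pullback (S.fromSpecResidueField s)).map u).left) ∧
      P ((Over.pullback U.ι).map u).left := by
  classical
  obtain ⟨S₁, f, hf, hfs, hfc, hfl⟩ := hG
  obtain ⟨S₂, g, hg, hgs, hgc, hgl⟩ := hH
  let S' := pullback f g
  let h : S' ⟶ S := pullback.snd f g ≫ g
  have hflat : Flat h := inferInstance
  have hcov : ∀ V : S.Opens, IsAffineOpen V → ∃ W : S'.Opens, IsCompact (W : Set S') ∧ h.base '' (W : Set S') = (V : Set S) :=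
    cov_comp g (pullback.snd f g) hgc (cov_pullback f g hfc)
  let T : Set S := {s | BCProp P u (S.fromSpecResidueField s)}
  have key : ∀ p : S', ∃ V : S'.Opens, p ∈ V ∧ ∃ A₀ : Prop, (∀ q : (V : Scheme.{u}), h.base (V.ι.base q) ∈ T ↔ A₀) ∧
      (A₀ → BCProp P u (V.ι ≫ h)) :=
    fun p => exists_local_form P A hA hA' u f g hfl hgl p
  choose V hpV A₀ hA₀ hP₀ using key
  have hpre : IsClopen (h.base ⁻¹' T) := by
    refine ⟨⟨?_⟩, ?_⟩
    · rw [isOpen_iff_forall_mem_open]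
      intro p hp
      refine ⟨V p, fun q hq => ?_, (V p).2, hpV p⟩
      exact fun hq' => hp (((hA₀ p) ⟨p, hpV p⟩).mpr (((hA₀ p) ⟨q, hq⟩).mp hq'))
    · rw [isOpen_iff_forall_mem_open]
      intro p hp
      exact ⟨V p, fun q hq => ((hA₀ p) ⟨q, hq⟩).mpr (((hA₀ p) ⟨p, hpV p⟩).mp hp), (V p).2, hpV p⟩
  -- descend to the base
  have hdesc : ∀ (V : S.Opens), IsAffineOpen V → ∀ (Z : Set S), IsOpen (h.base ⁻¹' Z) → IsOpen ((V : Set S) ∩ Z) := by
    intro V hV Z hZ
    obtain ⟨W, hWc, hW⟩ := hcov V hV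
    have hWV : W ≤ h ⁻¹ᵁ V := fun x hx => hW.le ⟨x, hx, rfl⟩
    let r : (W : Scheme.{u}) ⟶ (V : Scheme.{u}) := h.resLE V W hWV
    have : CompactSpace W := isCompact_iff_compactSpace.mp hWc
    have : IsAffine V := hV
    have : QuasiCompact r := inferInstance
    have : Flat r := inferInstanceAs (Flat (S'.homOfLE hWV ≫ h ∣_ V))
    have hr : r ≫ V.ι = W.ι ≫ h := h.resLE_comp_ι hWV
    have : Surjective r := ⟨fun v => by
      obtain ⟨x, hx, hxv⟩ := hW.ge v.2
      exact ⟨⟨x, hx⟩, Subtype.ext ((congr(($hr).base ⟨x, hx⟩)).trans hxv)⟩⟩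
    have h1 : IsOpen (V.ι.base ⁻¹' Z) := by
      rw [← (Flat.isQuotientMap_of_surjective r).isOpen_preimage, ← Set.preimage_comp]
      show IsOpen ((r ≫ V.ι).base ⁻¹' Z)
      rw [hr]
      exact hZ.preimage W.ι.continuous
    have h2 := V.ι.isOpenEmbedding.isOpenMap _ h1
    rwa [Set.image_preimage_eq_inter_range, Scheme.Opens.range_ι, Set.inter_comm] at h2
  have hopen : ∀ Z : Set S, IsOpen (h.base ⁻¹' Z) → IsOpen Z := fun Z hZ => by
    rw [isOpen_iff_forall_mem_open]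
    intro s hs
    obtain ⟨V, hV, hsV, -⟩ := exists_isAffineOpen_mem_and_subset (X := S) (x := s) (U := ⊤) trivial
    exact ⟨_, Set.inter_subset_right, hdesc V hV Z hZ, hsV, hs⟩
  let U : S.Opens := ⟨T, hopen T hpre.isOpen⟩
  refine ⟨U, ⟨hopen _ (by rw [Set.preimage_compl]; exact hpre.compl.isOpen)⟩, fun s => Iff.rfl, ?_⟩
  refine BCProp.glue (P := P) (u := u) (U : Scheme.{u}).affineCover fun i => ?_
  let V₁ : S.Opens := ((U : Scheme.{u}).affineCover.f i ≫ U.ι).opensRange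
  have hV : IsAffineOpen V₁ := isAffineOpen_opensRange _
  suffices hVP : BCProp P u V₁.ι by
    rw [show (U : Scheme.{u}).affineCover.f i ≫ U.ι = IsOpenImmersion.lift V₁.ι ((U : Scheme.{u}).affineCover.f i ≫ U.ι)
      (by rw [Scheme.Opens.range_ι]; rfl) ≫ V₁.ι from (IsOpenImmersion.lift_fac _ _ _).symm]
    exact hVP.comp _
  obtain ⟨W, hWc, hW⟩ := hcov V₁ hV
  have hWV : W ≤ h ⁻¹ᵁ V₁ := fun x hx => hW.le ⟨x, hx, rfl⟩
  let r : (W : Scheme.{u}) ⟶ (V₁ : Scheme.{u}) := h.resLE V₁ W hWV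
  have : CompactSpace W := isCompact_iff_compactSpace.mp hWc
  have : IsAffine V₁ := hV
  have : QuasiCompact r := inferInstance
  have : Flat r := inferInstanceAs (Flat (S'.homOfLE hWV ≫ h ∣_ V₁))
  have hr : r ≫ V₁.ι = W.ι ≫ h := h.resLE_comp_ι hWV
  have : Surjective r := ⟨fun v => by
    obtain ⟨x, hx, hxv⟩ := hW.ge v.2
    exact ⟨⟨x, hx⟩, Subtype.ext ((congr(($hr).base ⟨x, hx⟩)).trans hxv)⟩⟩
  refine BCProp.descend r ?_
  rw [hr]
  have hWT : ∀ x ∈ W, h.base x ∈ T := fun x hx => by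
    obtain ⟨y, hy⟩ : h.base x ∈ V₁ := hWV hx
    rw [← hy, Scheme.Hom.comp_apply]
    exact ((U : Scheme.{u}).affineCover.f i y).2
  refine BCProp.glue (P := P) ((W : Scheme.{u}).openCoverOfIsOpenCover
    (fun x : (W : Scheme.{u}) => W.ι ⁻¹ᵁ V (W.ι.base x)) ?_) fun x => ?_
  · exact TopologicalSpace.Opens.ext (by
      simp only [TopologicalSpace.Opens.coe_iSup, TopologicalSpace.Opens.coe_top]
      exact Set.eq_univ_of_forall fun x => Set.mem_iUnion.mpr ⟨x, hpV _⟩)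
  · have hA1 : A₀ (W.ι.base x) := ((hA₀ _) ⟨_, hpV _⟩).mp (hWT _ x.2)
    have e : (W.ι ⁻¹ᵁ V (W.ι.base x)).ι ≫ W.ι ≫ h = (W.ι ∣_ V (W.ι.base x)) ≫ (V (W.ι.base x)).ι ≫ h := by
      rw [morphismRestrict_ι_assoc]
    exact (bcProp_congr e).mpr ((hP₀ _ hA1).comp _)


/-- A property of homomorphisms which holds for `D(φ)` exactly when a condition on `φ` holds cuts out a clopen
locus on the base of a homomorphism of groups of multiplicative type and finite type. -/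
theorem exists_clopen_locus (P : MorphismProperty Scheme.{u}) [P.IsStableUnderBaseChange] [IsZariskiLocalAtTarget P]
    [P.DescendsAlong (@Surjective ⊓ @Flat ⊓ @QuasiCompact)]
    (A : ∀ {M N : Type} [AddCommGroup M] [AddCommGroup N], (N →+ M) → Prop)
    (hA : ∀ (U : Scheme.{u}) {M N : Type} [AddCommGroup M] [AddCommGroup N] (φ : N →+ M),
      A φ → P (Red.DSmap U φ).left)
    (hA' : ∀ (U : Scheme.{u}) [Nonempty U] {M N : Type} [AddCommGroup M] [AddCommGroup N] (φ : N →+ M),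
      P (Red.DSmap U φ).left → A φ)
    (G H : Over S) [GrpObj G] [GrpObj H] (hG : SGA3x.IsMultTypeFT G) (hH : SGA3x.IsMultTypeFT H)
    (u : G ⟶ H) [IsMonHom u] :
    ∃ U : S.Opens, IsClosed (U : Set S) ∧ (∀ s : S, s ∈ U ↔ P ((Over.pullback (S.fromSpecResidueField s)).map u).left) ∧
      P ((Over.pullback U.ι).map u).left :=
  exists_clopen_locus_of_covers P A hA hA' G H (by
    obtain ⟨S', f, hf, hs, hcov, hloc⟩ := hG
    exact ⟨S', f, hf, hs, hcov, fun s' => let ⟨U, hU, M, i, _, e⟩ := hloc s'; ⟨U, hU, M, i, e⟩⟩) hH u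

end Groth.Agent.DiagRig
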