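import Groth.Agent.DiagRig.DSLocus
import Groth.Agent.FpqcDesc.Props
import Groth.Prelude.Def_TwC

/-! Monomorphism, isomorphism and faithful flatness loci. -/

universe u

open CategoryTheory MonoidalCategory CartesianMonoidalCategory MonObj GrpObj AlgebraicGeometry Limits MorphismProperty

noncomputable section

namespace Groth.Agent.DiagRig

set_option backward.isDefEq.respectTransparency.types false

/-- Flatness descends along faithfully flat ring maps. -/
theorem flat_codescends : RingHom.CodescendsAlong RingHom.Flat RingHom.FaithfullyFlat := by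
  refine .mk _ RingHom.Flat.respectsIso fun R S T _ _ _ _ _ h h' => ?_
  rw [RingHom.flat_algebraMap_iff] at h' ⊢
  rw [RingHom.faithfullyFlat_algebraMap_iff] at h
  exact Module.Flat.of_flat_tensorProduct R T S

theorem descendsAlong_flat :
    MorphismProperty.DescendsAlong (@Flat : MorphismProperty Scheme.{u}) (@Surjective ⊓ @Flat ⊓ @QuasiCompact) :=
  HasRingHomProperty.descendsAlong_flat flat_codescends

theorem descendsAlong_mono :
    MorphismProperty.DescendsAlong (monomorphisms Scheme.{u}) (@Surjective ⊓ @Flat ⊓ @QuasiCompact) :=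
  diagonal_isomorphisms (C := Scheme.{u}) ▸ inferInstance

variable {S : Scheme.{u}} (G H : Over S) [GrpObj G] [GrpObj H] (hG : SGA3x.IsMultTypeFT G) (hH : SGA3x.IsMultTypeFT H)
  (u : G ⟶ H) [IsMonHom u]

section
include hG hH

theorem exists_mono_locus : ∃ U : S.Opens, IsClosed (U : Set S) ∧
    (∀ s : S, s ∈ U ↔ Mono ((Over.pullback (S.fromSpecResidueField s)).map u).left) ∧
    Mono ((Over.pullback U.ι).map u).left :=
  haveI := descendsAlong_mono.{u}
  exists_clopen_locus (monomorphisms Scheme.{u}) (fun φ => Function.Surjective φ)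
    (fun U _ _ _ _ φ h => DSHom.mono_DSmap φ h) (fun U _ _ _ _ _ φ h => DSHom.surjective_of_mono φ h) G H hG hH u

theorem exists_iso_locus : ∃ U : S.Opens, IsClosed (U : Set S) ∧
    (∀ s : S, s ∈ U ↔ IsIso ((Over.pullback (S.fromSpecResidueField s)).map u).left) ∧
    IsIso ((Over.pullback U.ι).map u).left :=
  exists_clopen_locus (isomorphisms Scheme.{u}) (fun φ => Function.Bijective φ)
    (fun U _ _ _ _ φ h => DSHom.isIso_DSmap φ h) (fun U _ _ _ _ _ φ h => by
      have : IsIso (Red.DSmap U φ).left := h
      exact ⟨DSHom.injective_of_epi (U := U) φ inferInstance, DSHom.surjective_of_mono (U := U) φ inferInstance⟩) G H hG hH u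

theorem exists_ff_locus : ∃ U : S.Opens, IsClosed (U : Set S) ∧
    (∀ s : S, s ∈ U ↔ (Flat ((Over.pullback (S.fromSpecResidueField s)).map u).left ∧
      Surjective ((Over.pullback (S.fromSpecResidueField s)).map u).left)) ∧
    (Flat ((Over.pullback U.ι).map u).left ∧ Surjective ((Over.pullback U.ι).map u).left) :=
  haveI := descendsAlong_flat.{u}
  exists_clopen_locus (@Flat ⊓ @Surjective) (fun φ => Function.Injective φ)
    (fun U _ _ _ _ φ h => DSHom.flat_surjective_DSmap φ h) (fun U _ M N _ _ φ h => by
      obtain ⟨h1, h2⟩ := h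
      have : QuasiCompact (Red.DSmap U φ).left := by
        have : IsAffine (Red.diag (ULift.{u} ℤ) M).left := isAffine_Spec _
        have : IsAffine (Red.diag (ULift.{u} ℤ) N).left := isAffine_Spec _
        exact MorphismProperty.of_isPullback
          (isPullback_bcMap (IsTerminal.from specULiftZIsTerminal U) (Red.diagMap (ULift.{u} ℤ) φ))
          (inferInstance : QuasiCompact (Red.diagMap (ULift.{u} ℤ) φ).left)
      exact DSHom.injective_of_epi (U := U) φ inferInstance) G H hG hH u

end

theorem exists_ff_locus_of_covers {S : Scheme.{u}} (G H : Over S) [GrpObj G] [GrpObj H]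
    (hG : TwC.Locally S TwC.Topology.fpqc (fun S' g => ∃ (M : Type) (_ : AddCommGroup M),
      Nonempty (Grp.mk (Red.bc g G) ≅ Grp.mk (Red.DS S' M))))
    (hH : SGA3x.IsMultTypeFT H) (u : G ⟶ H) [IsMonHom u] : ∃ U : S.Opens, IsClosed (U : Set S) ∧
    (∀ s : S, s ∈ U ↔ (Flat ((Over.pullback (S.fromSpecResidueField s)).map u).left ∧
      Surjective ((Over.pullback (S.fromSpecResidueField s)).map u).left)) ∧
    (Flat ((Over.pullback U.ι).map u).left ∧ Surjective ((Over.pullback U.ι).map u).left) :=
  haveI := descendsAlong_flat.{u}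
  exists_clopen_locus_of_covers (@Flat ⊓ @Surjective) (fun φ => Function.Injective φ)
    (fun U _ _ _ _ φ h => DSHom.flat_surjective_DSmap φ h) (fun U _ M N _ _ φ h => by
      obtain ⟨h1, h2⟩ := h
      have : QuasiCompact (Red.DSmap U φ).left := by
        have : IsAffine (Red.diag (ULift.{u} ℤ) M).left := isAffine_Spec _
        have : IsAffine (Red.diag (ULift.{u} ℤ) N).left := isAffine_Spec _
        exact MorphismProperty.of_isPullback
          (isPullback_bcMap (IsTerminal.from specULiftZIsTerminal U) (Red.diagMap (ULift.{u} ℤ) φ))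
          (inferInstance : QuasiCompact (Red.diagMap (ULift.{u} ℤ) φ).left)
      exact DSHom.injective_of_epi (U := U) φ inferInstance) G H hG hH u


end Groth.Agent.DiagRig
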