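import Groth.Agent.DiagRig.CoeffIdeal
import Mathlib.AlgebraicGeometry.Noetherian
import Mathlib.AlgebraicGeometry.Morphisms.Flat

/-! The locus over which a homomorphism out of a group of multiplicative type is trivial is clopen. -/

universe u

open CategoryTheory MonoidalCategory CartesianMonoidalCategory MonObj GrpObj AlgebraicGeometry Limits

noncomputable section

namespace Groth.Agent.DiagRig

variable {S : Scheme.{u}} {H G : Over S} [GrpObj H] [GrpObj G] (u : H ⟶ G)

lemma lfp_kerι [LocallyOfFiniteType H.hom] [IsSeparated G.hom]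
    (hG : IsLocallyNoetherian S ∨ LocallyOfFinitePresentation G.hom) :
    LocallyOfFinitePresentation (kerι u).left := by
  have : LocallyOfFiniteType (1 : 𝟙_ (Over S) ⟶ G).left := inferInstance
  rcases hG with h | h
  · have : IsLocallyNoetherian H.left := LocallyOfFiniteType.isLocallyNoetherian H.hom
    have : LocallyOfFiniteType (kerι u).left :=
      inferInstanceAs (LocallyOfFiniteType (pullback.fst u.left (1 : 𝟙_ (Over S) ⟶ G).left))
    exact LocallyOfFinitePresentation.iff_locallyOfFiniteType.mpr this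
  · have : LocallyOfFinitePresentation ((1 : 𝟙_ (Over S) ⟶ G).left ≫ G.hom) := by
      rw [Over.w (1 : 𝟙_ (Over S) ⟶ G)]; exact (inferInstance : LocallyOfFinitePresentation (𝟙 S))
    have : LocallyOfFinitePresentation (1 : 𝟙_ (Over S) ⟶ G).left :=
      MorphismProperty.of_postcomp (W' := @LocallyOfFiniteType) @LocallyOfFinitePresentation
        (1 : 𝟙_ (Over S) ⟶ G).left G.hom (inferInstance : LocallyOfFiniteType G.hom) this
    exact inferInstanceAs (LocallyOfFinitePresentation (pullback.fst u.left (1 : 𝟙_ (Over S) ⟶ G).left))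

/-- `u` is trivial on the fibre at `s`. -/
def TrivFibre (s : S) : Prop :=
  ∀ (Y : Over S) (g : Y ⟶ H) (z : Y.left ⟶ Spec (S.residueField s)), z ≫ S.fromSpecResidueField s = Y.hom → g ≫ u = 1

lemma map_eq_one_iff (s : S) :
    (Over.pullback (S.fromSpecResidueField s)).map u = 1 ↔ TrivFibre u s := by
  let k := S.fromSpecResidueField s
  have bc1 : ∀ Y₀ : Over (Spec (S.residueField s)), bcUn k (1 : (Over.map k).obj Y₀ ⟶ G) = 1 := fun Y₀ => by
    have h := bcUn_mul k (1 : (Over.map k).obj Y₀ ⟶ G) 1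
    rw [_root_.mul_one] at h
    exact mul_eq_left.mp h.symm
  constructor
  · intro h Y g z hz
    let e : (Over.map k).obj (Over.mk z) ≅ Y := Over.isoMk (Iso.refl _) ((Category.id_comp _).trans hz.symm)
    rw [← cancel_epi e.hom, MonObj.comp_one, ← bcTr_bcUn k (e.hom ≫ g ≫ u)]
    rw [show bcUn k (e.hom ≫ g ≫ u) = bcUn k (e.hom ≫ g) ≫ (Over.pullback k).map u from by
      rw [← Category.assoc]; exact (Over.mapPullbackAdj k).homEquiv_naturality_right _ u]
    rw [h, MonObj.comp_one, ← bc1, bcTr_bcUn]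
  · intro h
    have h1 := h ((Over.map k).obj (Red.bc k H)) (bcTr k (𝟙 _)) (Red.bc k H).hom rfl
    have h2 := congrArg (bcUn k) h1
    rw [bc1, show bcUn k (bcTr k (𝟙 (Red.bc k H)) ≫ u) = bcUn k (bcTr k (𝟙 _)) ≫ (Over.pullback k).map u from
      (Over.mapPullbackAdj k).homEquiv_naturality_right _ u, bcUn_bcTr, Category.id_comp] at h2
    exact h2

variable [IsMonHom u] [IsSeparated G.hom]

/-- Over an affine split chart the trivial locus is the vanishing locus of an idempotent. -/
theorem trivFibre_iff {R : CommRingCat.{u}} {p : Spec R ⟶ S} {M : Type} [AddCommGroup M] (P : SplitPts p H M)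
    (hlfp : LocallyOfFinitePresentation (kerι u).left) :
    ∃ e : R, IsIdempotentElem e ∧ (∀ q : PrimeSpectrum R, TrivFibre u (p.base q) ↔ e ∈ q.asIdeal) ∧
      ∀ (Y₀ : Over (Spec R)), (∀ y, e ∈ ((Y₀.hom.base y : Spec R) : PrimeSpectrum R).asIdeal) →
        ∀ g : (Over.map p).obj Y₀ ⟶ H, g ≫ u = 1 := by
  obtain ⟨e, he, he0, he1⟩ := exists_idempotent_trivial_locus u P hlfp
  have hpts : ∀ (Y₀ : Over (Spec R)), (∀ y, e ∈ ((Y₀.hom.base y : Spec R) : PrimeSpectrum R).asIdeal) →
      ∀ g : (Over.map p).obj Y₀ ⟶ H, g ≫ u = 1 := by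
    intro Y₀ hY g
    obtain ⟨φ, hφ, q, t, hg⟩ := eq_gPt_of_toSpecΓ P g
    letI : Algebra R Γ(Y₀.left, ⊤) := φ.hom.toAlgebra
    have hbot : Y₀.left.basicOpen (φ e) = ⊥ := by
      ext y
      simp only [TopologicalSpace.Opens.coe_bot, Set.mem_empty_iff_false, iff_false, SetLike.mem_coe]
      intro hy
      rw [← Scheme.toSpecΓ_preimage_basicOpen] at hy
      have h1 : e ∉ ((Spec.map φ).base (Y₀.left.toSpecΓ.base y) : PrimeSpectrum R).asIdeal := hy
      rw [← Scheme.Hom.comp_apply, hφ] at h1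
      exact h1 (hY y)
    have hz : φ e = 0 := by
      have hunit : IsUnit (1 - φ e) := by
        apply Y₀.left.toRingedSpace.isUnit_of_isUnit_germ
        intro x hx
        have hnot : ¬ IsUnit (Y₀.left.presheaf.germ ⊤ x hx (φ e)) := fun h => by
          have h1 : x ∈ Y₀.left.basicOpen (φ e) := (Scheme.mem_basicOpen_top _ _ _).mpr h
          rw [hbot] at h1
          exact h1
        rw [map_sub, map_one]
        exact IsLocalRing.isUnit_one_sub_self_of_mem_nonunits _ hnot
      have h2 : (1 - φ e) * φ e = 0 := by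
        rw [sub_mul, _root_.one_mul, ← map_mul, he.eq, sub_self]
      exact hunit.mul_right_eq_zero.mp h2
    rw [hg, Category.assoc, he0 _ hz t, MonObj.comp_one]
  refine ⟨e, he, fun q => ⟨fun h => ?_, fun h Y g z hz => ?_⟩, hpts⟩
  · let L := q.asIdeal.ResidueField
    let g₀ : Spec (CommRingCat.of L) ⟶ S := Spec.map (CommRingCat.ofHom (algebraMap R L)) ≫ p
    let c : Spec (CommRingCat.of L) := IsLocalRing.closedPoint L
    have hc : (Spec.map (CommRingCat.ofHom (algebraMap R L))).base c = q := by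
      apply PrimeSpectrum.ext
      show Ideal.comap (algebraMap R L) (IsLocalRing.maximalIdeal L) = _
      rw [IsLocalRing.maximalIdeal_eq_bot, ← RingHom.ker_eq_comap_bot, Ideal.ker_algebraMap_residueField]
    have hc' : g₀.base c = p.base q := by rw [Scheme.Hom.comp_apply, hc]
    rw [← hc'] at h
    let φ₀ : S.residueField (g₀.base c) ⟶ CommRingCat.of L := ((Scheme.SpecToEquivOfField L S) g₀).2
    have hφ₀ : Spec.map φ₀ ≫ S.fromSpecResidueField (g₀.base c) = g₀ :=
      (Scheme.SpecToEquivOfField L S).symm_apply_apply g₀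
    have h2 := he1 L (h _ _ (Spec.map (CommRingCat.ofHom (algebraMap L (MonoidAlgebra L (Multiplicative M)))) ≫
      Spec.map φ₀) (by
        show _ = Spec.map _ ≫ p
        rw [Category.assoc, hφ₀, ← Spec.map_comp_assoc, ← CommRingCat.ofHom_comp, ← IsScalarTower.algebraMap_eq]))
    exact Ideal.algebraMap_residueField_eq_zero.mp h2
  · let L := q.asIdeal.ResidueField
    let g₀ : Spec (CommRingCat.of L) ⟶ S := Spec.map (CommRingCat.ofHom (algebraMap R L)) ≫ p
    let c : Spec (CommRingCat.of L) := IsLocalRing.closedPoint L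
    have hcq : (Spec.map (CommRingCat.ofHom (algebraMap R L))).base c = q := by
      apply PrimeSpectrum.ext
      show Ideal.comap (algebraMap R L) (IsLocalRing.maximalIdeal L) = _
      rw [IsLocalRing.maximalIdeal_eq_bot, ← RingHom.ker_eq_comap_bot, Ideal.ker_algebraMap_residueField]
    let φ₀ : S.residueField (g₀.base c) ⟶ CommRingCat.of L := ((Scheme.SpecToEquivOfField L S) g₀).2
    have hφ₀ : Spec.map φ₀ ≫ S.fromSpecResidueField (g₀.base c) = g₀ :=
      (Scheme.SpecToEquivOfField L S).symm_apply_apply g₀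
    have hc' : g₀.base c = p.base q := by rw [Scheme.Hom.comp_apply, hcq]
    -- change the base point
    obtain ⟨z', hz'⟩ : ∃ z' : Y.left ⟶ Spec (S.residueField (g₀.base c)),
        z' ≫ S.fromSpecResidueField (g₀.base c) = Y.hom := by
      rw [hc']; exact ⟨z, hz⟩
    have : Flat (Spec.map φ₀) := by
      algebraize [φ₀.hom]
      exact HasRingHomProperty.Spec_iff.mpr (RingHom.flat_algebraMap_iff.mpr inferInstance)
    have : Surjective (Spec.map φ₀) :=
      ⟨fun x => ⟨c, Subsingleton.elim (α := PrimeSpectrum (S.residueField (g₀.base c))) _ x⟩⟩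
    let Y₀ : Over (Spec R) := Over.mk (pullback.snd z' (Spec.map φ₀) ≫ Spec.map (CommRingCat.ofHom (algebraMap R L)))
    let π : (Over.map p).obj Y₀ ⟶ Y := Over.homMk (pullback.fst z' (Spec.map φ₀)) (by
      show _ = (pullback.snd z' (Spec.map φ₀) ≫ _) ≫ p
      rw [← hz', pullback.condition_assoc, hφ₀, Category.assoc])
    have : Epi π.left := Flat.epi_of_flat_of_surjective (pullback.fst z' (Spec.map φ₀))
    have : Epi π := Over.epi_of_epi_left π
    rw [← cancel_epi π, MonObj.comp_one, ← Category.assoc]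
    refine hpts Y₀ (fun y => ?_) _
    show e ∈ ((Spec.map (CommRingCat.ofHom (algebraMap R L))).base
      ((pullback.snd z' (Spec.map φ₀)).base y) : PrimeSpectrum R).asIdeal
    rw [Subsingleton.elim (α := PrimeSpectrum L) ((pullback.snd z' (Spec.map φ₀)).base y) c, hcq]
    exact h

/-- The trivial locus is clopen and `u` is trivial over it (cover version). -/
theorem trivial_locus_of_cover [LocallyOfFiniteType H.hom]
    (hG : IsLocallyNoetherian S ∨ LocallyOfFinitePresentation G.hom) {S' : Scheme.{u}} (f : S' ⟶ S) [hf : Flat f]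
    [hsurj : Surjective f]
    (hcov : ∀ V : S.Opens, IsAffineOpen V → ∃ W : S'.Opens, IsCompact (W : Set S') ∧ f.base '' (W : Set S') = (V : Set S))
    (hloc : ∀ s' : S', ∃ U : S'.Opens, s' ∈ U ∧ ∃ (M : Type) (_ : AddCommGroup M),
      ∃ P : SplitPts (U.ι ≫ f) H M, P.Inj) :
    ∃ U : S.Opens, IsClosed (U : Set S) ∧ (∀ s, s ∈ U ↔ TrivFibre u s) ∧
      ∀ (Y : Over S) (g : Y ⟶ H), Set.range Y.hom.base ⊆ U → g ≫ u = 1 := by
  have hlfp := lfp_kerι u hG
  -- split affine charts
  have chart : ∀ s' : S', ∃ (R : CommRingCat.{u}) (jS : Spec R ⟶ S') (_ : IsOpenImmersion jS) (e : R),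
      s' ∈ Set.range jS.base ∧ IsIdempotentElem e ∧
      (∀ q : PrimeSpectrum R, TrivFibre u (f.base (jS.base q)) ↔ e ∈ q.asIdeal) ∧
      ∀ (Y₀ : Over (Spec R)), (∀ y, e ∈ ((Y₀.hom.base y : Spec R) : PrimeSpectrum R).asIdeal) →
        ∀ g : (Over.map (jS ≫ f)).obj Y₀ ⟶ H, g ≫ u = 1 := by
    intro s'
    obtain ⟨V, hV, M, _, PV, -⟩ := hloc s'
    obtain ⟨W', hW', hsW', -⟩ := exists_isAffineOpen_mem_and_subset (X := V.toScheme) (x := (⟨s', hV⟩ : V))
      (U := ⊤) trivial
    let j : Spec Γ(V.toScheme, W') ⟶ V.toScheme := hW'.fromSpec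
    obtain ⟨e, he, h1, h2⟩ := trivFibre_iff u (PV.restrict j) hlfp
    obtain ⟨z, hz⟩ := hW'.range_fromSpec.ge hsW'
    refine ⟨_, j ≫ V.ι, inferInstance, e, ⟨z, congrArg Subtype.val hz⟩, he, h1, fun Y₀ hy => ?_⟩
    rw [Category.assoc]
    exact h2 Y₀ hy
  choose R jS hjS e hs' he hiff hone using chart
  let Z : Set S := {s | TrivFibre u s}
  have hbase : ∀ (s' : S') (q : PrimeSpectrum (R s')), (jS s').base q ∈ f.base ⁻¹' Z ↔
      q ∈ PrimeSpectrum.zeroLocus {e s'} := by
    intro s' q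
    rw [PrimeSpectrum.mem_zeroLocus, Set.singleton_subset_iff]
    exact hiff s' q
  have hopen' : ∀ s', IsOpen (Set.range (jS s').base) := fun s' => (jS s').isOpenEmbedding.isOpen_range
  have hcl : IsClopen (f.base ⁻¹' Z) := by
    constructor
    · refine isOpen_compl_iff.mp (isOpen_iff_forall_mem_open.mpr fun x hx => ?_)
      obtain ⟨q, hq⟩ := hs' x
      refine ⟨(jS x).base '' (PrimeSpectrum.zeroLocus {e x})ᶜ, ?_,
        (jS x).isOpenEmbedding.isOpenMap _ (PrimeSpectrum.isClosed_zeroLocus _).isOpen_compl,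
        ⟨q, fun h => hx (by rw [← hq]; exact (hbase x q).mpr h), hq⟩⟩
      rintro _ ⟨q', hq', rfl⟩ h
      exact hq' ((hbase x q').mp h)
    · refine isOpen_iff_forall_mem_open.mpr fun x hx => ?_
      obtain ⟨q, hq⟩ := hs' x
      have hopen : IsOpen (PrimeSpectrum.zeroLocus {e x} : Set (PrimeSpectrum (R x))) := by
        rw [PrimeSpectrum.zeroLocus_eq_basicOpen_of_mul_add (e x) (1 - e x)
          (by rw [mul_sub, _root_.mul_one, (he x).eq, sub_self]) (by ring)]
        exact (PrimeSpectrum.basicOpen _).isOpen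
      refine ⟨(jS x).base '' (PrimeSpectrum.zeroLocus {e x}), ?_, (jS x).isOpenEmbedding.isOpenMap _ hopen,
        ⟨q, (hbase x q).mp (by rw [hq]; exact hx), hq⟩⟩
      rintro _ ⟨q', hq', rfl⟩
      exact (hbase x q').mpr hq'
  have hZ : IsClopen Z := by
    have key : ∀ s : S, ∃ V : S.Opens, s ∈ V ∧ IsClopen (((↑) : V → S) ⁻¹' Z) := by
      intro s
      obtain ⟨V, hV, hsV, -⟩ := exists_isAffineOpen_mem_and_subset (X := S) (x := s) (U := ⊤) trivial
      obtain ⟨W, hWc, hW⟩ := hcov V hV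
      have hWV : W ≤ f ⁻¹ᵁ V := fun x hx => hW.le ⟨x, hx, rfl⟩
      let g : (W : Scheme.{u}) ⟶ (V : Scheme.{u}) := f.resLE V W hWV
      have hg : g ≫ V.ι = W.ι ≫ f := f.resLE_comp_ι hWV
      have : CompactSpace W := isCompact_iff_compactSpace.mp hWc
      have : IsAffine V := hV
      have : QuasiCompact g := inferInstance
      have : Flat g := by show Flat (S'.homOfLE hWV ≫ f ∣_ V); infer_instance
      have : Surjective g := ⟨fun v => by
        obtain ⟨x, hx, hxv⟩ := hW.ge v.2
        exact ⟨⟨x, hx⟩, Subtype.ext ((congr(($hg).base ⟨x, hx⟩)).trans hxv)⟩⟩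
      have hq := Flat.isQuotientMap_of_surjective g
      have hpre : g.base ⁻¹' (((↑) : V → S) ⁻¹' Z) = ((↑) : W → S') ⁻¹' (f.base ⁻¹' Z) := by
        ext w
        show V.ι.base (g.base w) ∈ Z ↔ f.base (W.ι.base w) ∈ Z
        rw [← Scheme.Hom.comp_apply, hg, Scheme.Hom.comp_apply]
      refine ⟨V, hsV, hq.isClosed_preimage.mp ?_, hq.isOpen_preimage.mp ?_⟩
      · exact (congrArg IsClosed hpre).mpr (hcl.1.preimage continuous_subtype_val)
      · exact (congrArg IsOpen hpre).mpr (hcl.2.preimage continuous_subtype_val)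
    choose V hsV hVZ using key
    have hcov' : TopologicalSpace.IsOpenCover V := TopologicalSpace.Opens.ext (Set.eq_univ_of_forall fun s => by
      simp only [TopologicalSpace.Opens.coe_iSup, Set.mem_iUnion]
      exact ⟨s, hsV s⟩)
    exact ⟨hcov'.isClosed_iff_coe_preimage.mpr fun s => (hVZ s).1,
      hcov'.isOpen_iff_coe_preimage.mpr fun s => (hVZ s).2⟩
  refine ⟨⟨Z, hZ.2⟩, hZ.1, fun s => Iff.rfl, fun Y g hY => ?_⟩
  let π : Over.mk (pullback.fst Y.hom f ≫ Y.hom) ⟶ Y := Over.homMk (pullback.fst Y.hom f)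
  have : Epi π.left := Flat.epi_of_flat_of_surjective (pullback.fst Y.hom f)
  have : Epi π := Over.epi_of_epi_left π
  rw [← cancel_epi π, MonObj.comp_one, ← Category.assoc]
  ext1
  refine hom_ext_of_forall _ _ fun w => ?_
  let s' := (pullback.snd Y.hom f).base w
  let O : (pullback Y.hom f).Opens := pullback.snd Y.hom f ⁻¹ᵁ (jS s').opensRange
  refine ⟨O, hs' s', ?_⟩
  have hr : Set.range (O.ι ≫ pullback.snd Y.hom f).base ⊆ Set.range (jS s').base := by
    rintro _ ⟨z, rfl⟩; exact z.2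
  have := hjS s'
  let y₀ := IsOpenImmersion.lift (jS s') (O.ι ≫ pullback.snd Y.hom f) hr
  let Y₀ : Over (Spec (R s')) := Over.mk y₀
  let π' : (Over.map (jS s' ≫ f)).obj Y₀ ⟶ Over.mk (pullback.fst Y.hom f ≫ Y.hom) := Over.homMk O.ι (by
    show O.ι ≫ pullback.fst _ _ ≫ Y.hom = y₀ ≫ jS s' ≫ f
    rw [pullback.condition, IsOpenImmersion.lift_fac_assoc, Category.assoc])
  have h1 := hone s' Y₀ (fun z => by
    refine (hiff s' _).mp (hY ?_)
    refine ⟨(O.ι ≫ pullback.fst Y.hom f).base z, ?_⟩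
    show (Y.hom).base _ = f.base ((jS s').base (y₀.base z))
    rw [← Scheme.Hom.comp_apply, ← Scheme.Hom.comp_apply, ← Scheme.Hom.comp_apply,
      Category.assoc, pullback.condition, IsOpenImmersion.lift_fac_assoc, Category.assoc]) (π' ≫ π ≫ g)
  have h2 : π' ≫ ((π ≫ g) ≫ u) = π' ≫ 1 := by
    rw [MonObj.comp_one, ← h1, Category.assoc, Category.assoc, Category.assoc]
  exact congr($(h2).left)

/-- The trivial locus is clopen and `u` is trivial over it. -/
theorem trivial_locus (hH : SGA3x.IsMultTypeFT H)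
    (hG : IsLocallyNoetherian S ∨ LocallyOfFinitePresentation G.hom) :
    ∃ U : S.Opens, IsClosed (U : Set S) ∧ (∀ s, s ∈ U ↔ TrivFibre u s) ∧
      ∀ (Y : Over S) (g : Y ⟶ H), Set.range Y.hom.base ⊆ U → g ≫ u = 1 := by
  have := multType_locallyOfFiniteType H hH
  obtain ⟨S', f, hf, hsurj, hcov, hloc⟩ := hH
  exact trivial_locus_of_cover u hG f hcov fun s' =>
    let ⟨U, hU, M, inst, _, ⟨e⟩⟩ := hloc s'; ⟨U, hU, M, inst, SplitPts.ofIso _ e, SplitPts.ofIso_inj e⟩

end Groth.Agent.DiagRig
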