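import Groth.Agent.DiagRig.TorusBasic
import Groth.Agent.DiagRig.TrivialLocus
import Groth.Agent.DiagRig.MultProp
import Groth.Agent.DiagRig.BCPts
import Groth.Agent.AGFQuot.Basic

/-!
# Quotients of split groups by subgroups of multiplicative type
-/

universe u

open CategoryTheory MonoidalCategory CartesianMonoidalCategory MonObj GrpObj AlgebraicGeometry Limits MorphismProperty
open Groth.Agent.RedPts

noncomputable section

namespace Groth.Agent.DiagRig.DSQuot

set_option backward.isDefEq.respectTransparency.types false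
set_option maxHeartbeats 600000

variable {S V : Scheme.{u}}

section BaseChange

variable (v : V ⟶ S) (N : Type) [AddCommGroup N]

/-- Base change of a split group, read on characters. -/
theorem exists_dsBC : ∃ e : Grp.mk (Red.bc v (Red.DS S N)) ≅ Grp.mk (Red.DS V N),
    ∀ (Y : Over V) (x : Y ⟶ Red.bc v (Red.DS S N)) (n : N), dFn (x ≫ e.hom.hom.hom) n = dFn (bcTr v x) n := by
  obtain ⟨a, ha⟩ := d_surjective (S := V) (X := Red.bc v (Red.DS S N))
    { toFun := fun n : Multiplicative N => (dFn (S := S) (X := (Over.map v).obj (Red.bc v (Red.DS S N))) (bcTr v (𝟙 (Red.bc v (Red.DS S N)))) n.toAdd : Γ((Red.bc v (Red.DS S N)).left, ⊤))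
      map_one' := d_zero _
      map_mul' := fun m n => d_add _ _ _ }
  obtain ⟨b₀, hb₀⟩ := d_surjective (S := S) (X := (Over.map v).obj (Red.DS V N))
    { toFun := fun n : Multiplicative N => (dFn (S := V) (X := Red.DS V N) (𝟙 (Red.DS V N)) n.toAdd : Γ(((Over.map v).obj (Red.DS V N)).left, ⊤))
      map_one' := d_zero _
      map_mul' := fun m n => d_add _ _ _ }
  let b : Red.DS V N ⟶ Red.bc v (Red.DS S N) := bcUn v b₀
  have hx : ∀ (Y : Over V) (x : Y ⟶ Red.bc v (Red.DS S N)) (n : N), dFn (x ≫ a) n = dFn (bcTr v x) n :=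
    fun Y x n => by
      conv_rhs => rw [← Category.comp_id x, bcTr_comp]
      rw [d_comp, d_comp, ha]
      rfl
  have hy : ∀ (Y : Over V) (y : Y ⟶ Red.DS V N) (n : N), dFn (bcTr v (y ≫ b)) n = dFn y n := fun Y y n => by
    rw [bcTr_comp, bcTr_bcUn, d_comp, hb₀]
    conv_rhs => rw [← Category.comp_id y, d_comp]
    rfl
  have hab : a ≫ b = 𝟙 _ := bcTr_injective v (d_ext fun n => by
    rw [hy, ← Category.id_comp a, hx])
  have hba : b ≫ a = 𝟙 _ := d_ext fun n => by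
    rw [hx, ← Category.id_comp b, hy]
  let e₀ : Red.bc v (Red.DS S N) ≅ Red.DS V N := ⟨a, b, hab, hba⟩
  have : IsMonHom e₀.hom := isMonHom_of_pts _ fun Y x y => d_ext fun n => by
    show dFn ((x * y) ≫ a) n = dFn ((x ≫ a) * (y ≫ a)) n
    rw [d_mul, hx, hx, hx, bcTr_mul, d_mul]
  exact ⟨Grp.mkIso' e₀, hx⟩

end BaseChange

/-- Split groups of finite type are of multiplicative type. -/
theorem isMultTypeFT_DS (S : Scheme.{u}) (N : Type) [AddCommGroup N] (hN : AddGroup.FG N) :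
    SGA3x.IsMultTypeFT (Red.DS S N) := by
  refine ⟨S, 𝟙 S, inferInstance, inferInstance, fun W hW => ⟨W, hW.isCompact, by simp⟩, fun s => ?_⟩
  obtain ⟨e, -⟩ := exists_dsBC ((⊤ : S.Opens).ι ≫ 𝟙 S) N
  exact ⟨⊤, trivial, N, inferInstance, hN, ⟨e⟩⟩

/-- The relation of a quotient map. -/
def Rel {H G Q : Over S} [GrpObj G] (i : H ⟶ G) (q : G ⟶ Q) : Prop :=
  AGFQuot.Basic.IsCover q ∧ ∀ (Y : Over S) (a b : Y ⟶ G), a ≫ q = b ≫ q ↔ ∃ h : Y ⟶ H, a * (h ≫ i) = b

theorem Rel.of_isQuotient {H G Q : Over S} [GrpObj H] [GrpObj G] {i : H ⟶ G} {q : G ⟶ Q}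
    (hq : RedSub.IsQuotient i q) : Rel i q :=
  ⟨AGFQuot.Basic.IsCover.of_isQuotient hq, fun _ a b => AGFQuot.Basic.comp_eq_iff hq.2.2.2 a b⟩

theorem Rel.bc {H G Q : Over S} [GrpObj G] {i : H ⟶ G} {q : G ⟶ Q} (h : Rel i q) (v : V ⟶ S) :
    Rel ((Over.pullback v).map i) ((Over.pullback v).map q) := by
  have sq := isPullback_bcMap v q
  refine ⟨⟨MorphismProperty.of_isPullback sq h.1.surj, MorphismProperty.of_isPullback sq h.1.flat,
    MorphismProperty.of_isPullback sq h.1.lfp⟩, fun Y a b => ⟨fun e => ?_, fun ⟨y, hy⟩ => ?_⟩⟩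
  · have e' := congrArg (bcTr v) e
    rw [bcTr_map, bcTr_map] at e'
    obtain ⟨y, hy⟩ := (h.2 _ _ _).mp e'
    refine ⟨bcUn v y, bcTr_injective v ?_⟩
    rw [bcTr_mul, bcTr_map, bcTr_bcUn, hy]
  · refine bcTr_injective v ?_
    rw [bcTr_map, bcTr_map]
    refine (h.2 _ _ _).mpr ⟨bcTr v y, ?_⟩
    rw [← bcTr_map, ← bcTr_mul, hy]

theorem Rel.iso {H G G' Q : Over S} [GrpObj G] [GrpObj G'] {i : H ⟶ G} {q : G ⟶ Q} (h : Rel i q) (e : G ≅ G')
    [IsMonHom e.hom] : Rel (i ≫ e.hom) (e.inv ≫ q) := by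
  refine ⟨⟨?_, ?_, ?_⟩, fun Y a b => ?_⟩
  · have := h.1.surj
    have : IsIso e.inv.left := inferInstanceAs (IsIso ((CategoryTheory.Over.forget S).map e.inv))
    exact inferInstanceAs (Surjective (e.inv.left ≫ q.left))
  · have := h.1.flat
    exact inferInstanceAs (Flat (e.inv.left ≫ q.left))
  · have := h.1.lfp
    exact inferInstanceAs (LocallyOfFinitePresentation (e.inv.left ≫ q.left))
  · rw [← Category.assoc, ← Category.assoc, h.2]
    refine exists_congr fun y => ?_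
    rw [← cancel_mono e.hom, MonObj.mul_comp]
    simp only [Category.assoc, Iso.inv_hom_id, Category.comp_id]

/-- Two quotient maps with the same relation have isomorphic targets. -/
theorem Rel.unique {H G Q Q' : Over S} [GrpObj G] [GrpObj Q] [GrpObj Q'] {i : H ⟶ G} {q : G ⟶ Q} {q' : G ⟶ Q'}
    [IsMonHom q] [IsMonHom q'] (h : Rel i q) (h' : Rel i q') : Nonempty (Grp.mk Q ≅ Grp.mk Q') := by
  have := h.1.effectiveEpi
  have := h'.1.effectiveEpi
  obtain ⟨g, hg, -⟩ := GrpdLib.GrpOver.existsUnique_desc q q' fun T a b e => ((h'.2 T a b).mpr ((h.2 T a b).mp e))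
  obtain ⟨g', hg', -⟩ := GrpdLib.GrpOver.existsUnique_desc q' q fun T a b e => ((h.2 T a b).mpr ((h'.2 T a b).mp e))
  have e₁ : g ≫ g' = 𝟙 Q := h.1.cancel (by rw [reassoc_of% hg, hg', Category.comp_id])
  have e₂ : g' ≫ g = 𝟙 Q' := h'.1.cancel (by rw [reassoc_of% hg', hg, Category.comp_id])
  let e : Q ≅ Q' := ⟨g, g', e₁, e₂⟩
  have : IsMonHom e.hom := by
    refine ⟨?_, (h.1.tensor h.1).cancel ?_⟩
    · show η[Q] ≫ g = η[Q']
      rw [← IsMonHom.one_hom (f := q), Category.assoc, hg, IsMonHom.one_hom]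
    · show (q ⊗ₘ q) ≫ μ[Q] ≫ g = (q ⊗ₘ q) ≫ (g ⊗ₘ g) ≫ μ[Q']
      rw [← Category.assoc, ← IsMonHom.mul_hom, Category.assoc, hg, IsMonHom.mul_hom,
        MonoidalCategory.tensorHom_comp_tensorHom_assoc, hg]
  exact ⟨Grp.mkIso' e⟩

variable {N : Type} [AddCommGroup N]

theorem isMonHom_DSmap {M : Type} [AddCommGroup M] (φ : M →+ N) : IsMonHom (Red.DSmap S φ) :=
  isMonHom_of_pts _ fun Y x y => d_ext fun m => by rw [DSmap_fn, d_mul, d_mul, DSmap_fn, DSmap_fn]

theorem lfp_DS (hN : AddGroup.FG N) : LocallyOfFinitePresentation (Red.DS S N).hom :=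
  multType_locallyOfFinitePresentation _ (isMultTypeFT_DS S N hN)

theorem d_one {M : Type} [AddCommGroup M] {Y : Over S} (m : M) : dFn (1 : Y ⟶ Red.DS S M) m = 1 := by
  obtain ⟨x, hx⟩ := d_surjective (S := S) (X := Y) (1 : Multiplicative M →* Γ(Y.left, ⊤))
  have h : x * x = x := d_ext fun m => by
    rw [d_mul, hx]
    exact _root_.one_mul _
  refine (congrArg (fun z : Y ⟶ Red.DS S M => dFn z m) ?_).trans (hx m)
  letI : Group (Y ⟶ Red.DS S M) := inferInstance
  exact (mul_eq_left.mp h).symm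

theorem fg_subgroup (hN : AddGroup.FG N) (K : AddSubgroup N) : K.FG ∧ AddGroup.FG K := by
  have : Module.Finite ℤ N := Module.Finite.iff_addGroup_fg.mpr hN
  have h : (AddSubgroup.toIntSubmodule K).FG := IsNoetherian.noetherian _
  have h' : K.FG := (Submodule.fg_iff_addSubgroup_fg _).mp h
  exact ⟨h', (AddGroup.fg_iff_addSubgroup_fg K).mpr h'⟩

/-- The kernel of restriction of characters to `K` is `D(N/K)`. -/
theorem rel_ds (hN : AddGroup.FG N) (K : AddSubgroup N) {H : Over S} (h : H ⟶ Red.DS S (N ⧸ K)) [IsIso h] :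
    Rel (h ≫ Red.DSmap S (QuotientAddGroup.mk' K)) (Red.DSmap S K.subtype) := by
  obtain ⟨hfl, hsurj⟩ := DSHom.flat_surjective_DSmap (U := S) K.subtype Subtype.val_injective
  refine ⟨⟨hsurj, hfl, ?_⟩, fun Y a b => ⟨fun e => ?_, fun ⟨y, hy⟩ => ?_⟩⟩
  · have := lfp_DS (S := S) hN
    have := lfp_DS (S := S) (fg_subgroup hN K).2
    exact MorphismProperty.of_postcomp (W := @LocallyOfFinitePresentation) (W' := @LocallyOfFiniteType)
      (Red.DSmap S K.subtype).left (Red.DS S K).hom inferInstance (by rw [CategoryTheory.Over.w]; infer_instance)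
  · let c := a⁻¹ * b
    let t : N →+ Additive Γ(Y.left, ⊤) :=
      { toFun := fun n => Additive.ofMul (dFn c n)
        map_zero' := congrArg Additive.ofMul (d_zero c)
        map_add' := fun m n => congrArg Additive.ofMul (d_add c m n) }
    have ht : K ≤ t.ker := fun k hk => by
      have e1 : dFn a k = dFn b k := by
        have := congrArg (fun z => dFn z (⟨k, hk⟩ : K)) e
        simpa [DSmap_fn] using this
      show Additive.ofMul (dFn c k) = 0
      have : dFn a k * dFn c k = dFn a k * 1 := by rw [← d_mul, mul_inv_cancel_left, _root_.mul_one, e1]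
      exact congrArg Additive.ofMul ((d_isUnit a k).mul_left_cancel this)
    obtain ⟨y, hy⟩ := d_surjective (S := S) (X := Y) (AddMonoidHom.toMultiplicativeLeft (QuotientAddGroup.lift K t ht))
    refine ⟨y ≫ inv h, ?_⟩
    have : y ≫ inv h ≫ h ≫ Red.DSmap S (QuotientAddGroup.mk' K) = c := by
      rw [IsIso.inv_hom_id_assoc]
      exact d_ext fun n => by rw [DSmap_fn, hy]; rfl
    rw [Category.assoc, this, mul_inv_cancel_left]
  · refine d_ext fun k => ?_
    rw [DSmap_fn, DSmap_fn, ← hy, d_mul, ← Category.assoc, DSmap_fn,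
      show QuotientAddGroup.mk' K (K.subtype k) = 0 from (QuotientAddGroup.eq_zero_iff _).mpr k.2, d_zero, _root_.mul_one]

/-- Near `s`, a subgroup of multiplicative type of a split group is `D(N/K)`. -/
theorem exists_kernel_form {H : Over S} [GrpObj H] (hH : SGA3x.IsMultTypeFT H) (hN : AddGroup.FG N)
    (i : H ⟶ Red.DS S N) [IsMonHom i] [Mono i] (s : S) :
    ∃ (U : S.Opens) (hsU : s ∈ U) (K : AddSubgroup N) (e : Grp.mk (Red.bc U.ι (Red.DS S N)) ≅ Grp.mk (Red.DS U N))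
      (h : Red.bc U.ι H ⟶ Red.DS U (N ⧸ K)) (U₂ : (U : Scheme.{u}).Opens),
      IsClosed (U : Set S) ∧ IsClosed (U₂ : Set U) ∧ (⟨s, hsU⟩ : ↥U) ∈ U₂ ∧
      (Over.pullback U.ι).map i ≫ e.hom.hom.hom = h ≫ Red.DSmap U (QuotientAddGroup.mk' K) ∧
      IsIso ((Over.pullback U₂.ι).map h).left := by
  classical
  obtain ⟨S₁, f, hf, hfs, -, hfl⟩ := id hH
  obtain ⟨s₁, hs₁⟩ := hfs.surj s
  obtain ⟨U₁, hs₁U, M, _, hM, ⟨e₁'⟩⟩ := hfl s₁
  let j : Spec (S₁.residueField s₁) ⟶ U₁ := IsOpenImmersion.lift U₁.ι (S₁.fromSpecResidueField s₁) (by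
    rintro _ ⟨y, rfl⟩
    rw [Scheme.fromSpecResidueField_apply, Scheme.Opens.range_ι]
    exact hs₁U)
  let L := Spec (S₁.residueField s₁)
  let k : L ⟶ S := S₁.fromSpecResidueField s₁ ≫ f
  have hjk : j ≫ U₁.ι ≫ f = k := by
    rw [← Category.assoc, IsOpenImmersion.lift_fac]
  obtain ⟨d, -⟩ := exists_dsBC j M
  let E₁ : Grp.mk (Red.bc k H) ≅ Grp.mk (Red.DS L M) := (bcGrpIso (U₁.ι ≫ f) j k hjk H).symm ≪≫ bcGrpMap j e₁' ≪≫ d
  obtain ⟨eL, heL⟩ := exists_dsBC k N
  let i₁ : Red.bc k H ≅ Red.DS L M := (Grp.forget _).mapIso E₁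
  let iL : Red.bc k (Red.DS S N) ≅ Red.DS L N := (Grp.forget _).mapIso eL
  have : IsMonHom i₁.inv := E₁.inv.hom.isMonHom_hom
  have : IsMonHom iL.hom := eL.hom.hom.isMonHom_hom
  have : IsMonHom ((Over.pullback k).map i) := isMonHom_bcMap k i
  let w : Red.DS L M ⟶ Red.DS L N := i₁.inv ≫ (Over.pullback k).map i ≫ iL.hom
  have : Subsingleton ↥L := inferInstanceAs (Subsingleton (PrimeSpectrum _))
  have : Nonempty ↥L := inferInstanceAs (Nonempty (PrimeSpectrum _))
  obtain ⟨x₀⟩ := ‹Nonempty ↥L›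
  obtain ⟨V₀, hx₀, φ, hφ⟩ := DSHom.exists_localHom w hN x₀
  have hw : w = Red.DSmap L φ := by
    have := hφ (Red.DS L M) (𝟙 _) fun y _ => Subsingleton.elim x₀ y ▸ hx₀
    simpa using this
  have hφs : Function.Surjective φ := by
    have h1 : Mono w := inferInstance
    have : Mono (Red.DSmap L φ) := hw ▸ h1
    exact DSHom.surjective_of_mono φ (inferInstance : Mono (Red.DSmap L φ).left)
  let K := φ.ker
  -- characters in `K` are trivial at `s`
  have hKs : ∀ n ∈ K, TrivFibre (i ≫ Red.chi S n) s := by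
    intro n hn Y g z hz
    let ψ : S.residueField s ⟶ S₁.residueField s₁ := (S.residueFieldCongr hs₁).inv ≫ f.residueFieldMap s₁
    have hψ : Spec.map ψ ≫ S.fromSpecResidueField s = k := by
      subst hs₁
      simp [ψ, k]
    have : Flat (Spec.map ψ) := flat_specMap_field _ _ ψ.hom
    have : Surjective (Spec.map ψ) := surjective_specMap_field _ _ ψ.hom
    let Y' : Over L := Over.mk (pullback.snd z (Spec.map ψ))
    let c : (Over.map k).obj Y' ⟶ Y := Over.homMk (pullback.fst z (Spec.map ψ)) (by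
      show pullback.fst z (Spec.map ψ) ≫ Y.hom = pullback.snd z (Spec.map ψ) ≫ k
      rw [← hz, pullback.condition_assoc, hψ])
    have hcE : EffectiveEpi c.left := inferInstanceAs (EffectiveEpi (pullback.fst z (Spec.map ψ)))
    refine GrpdLib.GrpOver.cancel_left c (gm_injective ?_)
    rw [MonObj.comp_one, Red.gmFn, ← Red.gmFn]
    have h1 : dFn ((c ≫ g) ≫ i) n = 1 := by
      have e1 := heL Y' (bcUn k ((c ≫ g) ≫ i)) n
      rw [bcTr_bcUn] at e1
      rw [← e1]
      have e2 : bcUn k ((c ≫ g) ≫ i) = bcUn k (c ≫ g) ≫ (Over.pullback k).map i :=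
        bcTr_injective k (by rw [bcTr_bcUn, bcTr_map, bcTr_bcUn])
      have e3 : bcUn k ((c ≫ g) ≫ i) ≫ eL.hom.hom.hom = (bcUn k (c ≫ g) ≫ i₁.hom) ≫ w := by
        rw [e2]
        simp only [w, Category.assoc, Iso.hom_inv_id_assoc]
        rfl
      rw [e3, hw, DSmap_fn, show φ n = 0 from hn, d_zero]
    simp only [Category.assoc] at h1 ⊢
    rw [← chi_fn] at h1
    simp only [Category.assoc] at h1
    rw [h1, gmFn_eq_dFn]
    exact (d_one (1 : ℤ)).symm
  obtain ⟨gens, hgens⟩ := (fg_subgroup hN K).1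
  have := lfp_DS (S := S) (N := ℤ) (AddGroup.fg_iff_addMonoid_fg.mpr inferInstance)
  have hloc : ∀ n : N, ∃ U : S.Opens, IsClosed (U : Set S) ∧ (∀ t, t ∈ U ↔ TrivFibre (i ≫ Red.chi S n) t) ∧
      ∀ (Y : Over S) (g : Y ⟶ H), Set.range Y.hom.base ⊆ U → g ≫ i ≫ Red.chi S n = 1 := fun n => by
    have : IsMonHom (Red.chi S n) := isMonHom_DSmap _
    have hℤ : AddGroup.FG ℤ := AddGroup.fg_iff_addMonoid_fg.mpr inferInstance
    have : IsAffineHom (Red.Gm S).hom := multType_isAffineHom _ (isMultTypeFT_DS S ℤ hℤ)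
    exact trivial_locus _ hH (Or.inr (lfp_DS (S := S) (N := ℤ) hℤ))
  choose Un hUnc hUns hUn using hloc
  let U : S.Opens := gens.inf Un
  have hmem : ∀ t, t ∈ U ↔ ∀ n ∈ gens, t ∈ Un n := fun t => by
    rw [← SetLike.mem_coe, TopologicalSpace.Opens.coe_finset_inf, Finset.inf_set_eq_iInter]
    simp
  have hUc : IsClosed (U : Set S) := by
    have : (U : Set S) = ⋂ n ∈ gens, (Un n : Set S) := Set.ext fun t => by simpa using hmem t
    rw [this]
    exact isClosed_biInter fun n _ => hUnc n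
  have hsU : s ∈ U := (hmem s).mpr fun n hn => (hUns n s).mpr (hKs n (hgens ▸ AddSubgroup.subset_closure hn))
  have hKU : ∀ (Y : Over S) (g : Y ⟶ H), Set.range Y.hom.base ⊆ U → ∀ n ∈ K, dFn (g ≫ i) n = 1 := by
    intro Y g hY n hn
    rw [← hgens] at hn
    induction hn using AddSubgroup.closure_induction with
    | mem n hn =>
      have := hUn n Y g fun t ht => (hmem t).mp (hY ht) n hn
      rw [← Category.assoc] at this
      rw [← chi_fn, this, gmFn_eq_dFn]
      exact d_one (1 : ℤ)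
    | zero => exact d_zero _
    | add m n _ _ hm hn => rw [d_add, hm, hn, _root_.mul_one]
    | neg m _ hm => rw [← (d_isUnit (g ≫ i) m).mul_left_inj, ← d_add, neg_add_cancel, d_zero, _root_.one_mul, hm]
  obtain ⟨e, he⟩ := exists_dsBC U.ι N
  let iU := (Over.pullback U.ι).map i ≫ e.hom.hom.hom
  have hiU : ∀ n ∈ K, dFn iU n = 1 := fun n hn => by
    rw [he, show bcTr U.ι ((Over.pullback U.ι).map i) = bcTr U.ι (𝟙 _ ≫ (Over.pullback U.ι).map i) by rw [Category.id_comp],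
      bcTr_map]
    refine hKU _ _ ?_ n hn
    rintro _ ⟨y, rfl⟩
    exact ((Red.bc U.ι H).hom.base y).2
  let t : N →+ Additive Γ((Red.bc U.ι H).left, ⊤) :=
    { toFun := fun n => Additive.ofMul (dFn iU n)
      map_zero' := congrArg Additive.ofMul (d_zero iU)
      map_add' := fun m n => congrArg Additive.ofMul (d_add iU m n) }
  have ht : K ≤ t.ker := fun k hk => congrArg Additive.ofMul (hiU k hk)
  obtain ⟨h, hh⟩ := d_surjective (S := (U : Scheme.{u})) (X := Red.bc U.ι H)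
    (AddMonoidHom.toMultiplicativeLeft (QuotientAddGroup.lift K t ht))
  have hfac : h ≫ Red.DSmap U (QuotientAddGroup.mk' K) = iU :=
    d_ext fun n => by rw [DSmap_fn, hh]; rfl
  have hmulU : ∀ (Y : Over (U : Scheme.{u})) (x y : Y ⟶ Red.bc U.ι H), (x * y) ≫ iU = (x ≫ iU) * (y ≫ iU) := fun Y x y =>
    d_ext fun n => by
      have e1 : ∀ z : Y ⟶ Red.bc U.ι H, dFn (z ≫ iU) n = dFn (bcTr U.ι z ≫ i) n := fun z => by
        rw [show z ≫ iU = (z ≫ (Over.pullback U.ι).map i) ≫ e.hom.hom.hom from (Category.assoc _ _ _).symm, he, bcTr_map]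
      rw [d_mul, e1, e1, e1, bcTr_mul]
      exact (congrArg (fun w => dFn w n) (MonObj.mul_comp (bcTr U.ι x) (bcTr U.ι y) i)).trans (d_mul _ _ n)
  have : IsMonHom (Red.DSmap (U : Scheme.{u}) (QuotientAddGroup.mk' K)) := isMonHom_DSmap _
  have : Mono (Red.DSmap (U : Scheme.{u}) (QuotientAddGroup.mk' K)) := by
    have := DSHom.mono_DSmap (U := (U : Scheme.{u})) (QuotientAddGroup.mk' K) (QuotientAddGroup.mk'_surjective K)
    exact Over.mono_of_mono_left _
  have : IsMonHom h := isMonHom_of_pts _ fun Y x y => by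
    rw [← cancel_mono (Red.DSmap (U : Scheme.{u}) (QuotientAddGroup.mk' K)), Category.assoc (x * y), hfac,
      hmulU Y x y]
    refine d_ext fun n => ?_
    rw [d_mul, DSmap_fn, d_mul, ← DSmap_fn (x ≫ h), ← DSmap_fn (y ≫ h), Category.assoc, Category.assoc, hfac]
  have hmono : Mono h := by
    have : Mono ((Over.pullback U.ι).map i) := inferInstance
    have : IsIso e.hom.hom.hom := ((Grp.forget _).mapIso e).isIso_hom
    have : Mono iU := mono_comp _ _
    rw [← hfac] at this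
    exact mono_of_mono h (Red.DSmap U (QuotientAddGroup.mk' K))
  have hNK : AddGroup.FG (N ⧸ K) := AddGroup.fg_of_surjective (hG := hN) (QuotientAddGroup.mk'_surjective K)
  obtain ⟨U₂, hU₂c, hU₂, hiso⟩ := exists_iso_locus (Red.bc U.ι H) (Red.DS U (N ⧸ K)) (isMultTypeFT_bc U.ι hH)
    (isMultTypeFT_DS _ _ hNK) h
  have hsU₂ : (⟨s, hsU⟩ : ↥U) ∈ U₂ := by
    let kU : L ⟶ U := IsOpenImmersion.lift U.ι k (by
      rintro _ ⟨y, rfl⟩
      rw [Scheme.Opens.range_ι, Scheme.Hom.comp_apply, Scheme.fromSpecResidueField_apply, hs₁]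
      exact hsU)
    obtain ⟨eK, -⟩ := exists_dsBC kU (N ⧸ K)
    obtain ⟨φ', hφ'⟩ := exists_test_point h kU hNK
      (bcGrpIso U.ι kU k (IsOpenImmersion.lift_fac _ _ _) H ≪≫ E₁) eK
    have hs' := DSHom.surjective_of_mono φ' ((hφ' _).mp
      (inferInstance : Mono ((Over.pullback kU).map h).left))
    let ē : N ⧸ K ≃+ M := QuotientAddGroup.quotientKerEquivOfSurjective φ hφs
    have : Module.Finite ℤ M := Module.Finite.iff_addGroup_fg.mpr hM
    have hb : Function.Bijective (φ'.comp ē.symm.toAddMonoidHom) :=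
      ⟨OrzechProperty.injective_of_surjective_endomorphism (φ'.comp ē.symm.toAddMonoidHom).toIntLinearMap
        (hs'.comp ē.symm.surjective), hs'.comp ē.symm.surjective⟩
    have hb' : Function.Bijective φ' := by
      have := hb.comp ē.bijective
      convert this using 1
      funext x
      simp
    have h1 : BCProp (isomorphisms Scheme.{u}) h kU := (hφ' _).mpr (DSHom.isIso_DSmap φ' hb')
    refine (hU₂ _).mpr ?_
    let u₀ : ↥U := kU.base x₀
    have hu₀ : u₀ = ⟨s, hsU⟩ := Subtype.ext (by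
      show U.ι.base (kU.base x₀) = s
      rw [← Scheme.Hom.comp_apply, IsOpenImmersion.lift_fac, Scheme.Hom.comp_apply, Scheme.fromSpecResidueField_apply, hs₁])
    rw [← hu₀]
    let χ := Scheme.SpecToEquivOfField (S₁.residueField s₁) (U : Scheme.{u}) kU
    have hk : kU = Spec.map χ.2 ≫ (U : Scheme.{u}).fromSpecResidueField χ.1 :=
      ((Scheme.SpecToEquivOfField _ _).symm_apply_apply kU).symm
    have hχ : χ.1 = u₀ := by
      show χ.1 = kU.base x₀
      conv_rhs => rw [hk, Scheme.Hom.comp_apply, Scheme.fromSpecResidueField_apply]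
    rw [← hχ]
    have : Flat (Spec.map χ.2) := flat_specMap_field _ _ χ.2.hom
    have : Surjective (Spec.map χ.2) := surjective_specMap_field _ _ χ.2.hom
    exact BCProp.descend (P := isomorphisms Scheme.{u}) (Spec.map χ.2) ((bcProp_congr hk).mp h1)
  exact ⟨U, hsU, K, e, h, U₂, hUc, hU₂c, hsU₂, hfac.symm, hiso⟩

/-- Near every point, in a clopen, the quotient of a split group is split with smaller character group. -/
theorem exists_split_quot {H Q : Over S} [GrpObj H] [GrpObj Q] (hH : SGA3x.IsMultTypeFT H) (hN : AddGroup.FG N)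
    (i : H ⟶ Red.DS S N) [IsMonHom i] [Mono i] (q : Red.DS S N ⟶ Q) [IsMonHom q] (hq : Rel i q) (s : S) :
    ∃ (V : S.Opens), IsClosed (V : Set S) ∧ s ∈ V ∧ ∃ (K : AddSubgroup N),
      Nonempty (Grp.mk (Red.bc V.ι Q) ≅ Grp.mk (Red.DS V K)) := by
  obtain ⟨U, hsU, K, e, h, U₂, hUc, hU₂c, hsU₂, hfac, hiso⟩ := exists_kernel_form hH hN i s
  have : IsIso ((Over.pullback U₂.ι).map h) := by
    have : IsIso ((CategoryTheory.Over.forget _).map ((Over.pullback U₂.ι).map h)) := hiso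
    exact isIso_of_reflects_iso _ (CategoryTheory.Over.forget _)
  obtain ⟨eN, heN⟩ := exists_dsBC U₂.ι N
  obtain ⟨eK, heK⟩ := exists_dsBC U₂.ι (N ⧸ K)
  let i₁ := (Over.pullback U.ι).map i
  let q₁ := (Over.pullback U.ι).map q
  let e₁ : Red.bc U.ι (Red.DS S N) ≅ Red.DS U N := (Grp.forget _).mapIso e
  let e₂ : Red.bc U₂.ι (Red.DS U N) ≅ Red.DS U₂ N := (Grp.forget _).mapIso eN
  have : IsMonHom e₁.hom := e.hom.hom.isMonHom_hom
  have : IsMonHom e₂.hom := eN.hom.hom.isMonHom_hom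
  have h1 : Rel (i₁ ≫ e₁.hom) (e₁.inv ≫ q₁) := (hq.bc U.ι).iso e₁
  have h2 := (h1.bc U₂.ι).iso e₂
  let h₂ : Red.bc U₂.ι (Red.bc U.ι H) ⟶ Red.DS U₂ (N ⧸ K) := (Over.pullback U₂.ι).map h ≫ eK.hom.hom.hom
  have : IsIso eK.hom.hom.hom := ((Grp.forget _).mapIso eK).isIso_hom
  have hi : (Over.pullback U₂.ι).map (i₁ ≫ e₁.hom) ≫ e₂.hom = h₂ ≫ Red.DSmap U₂ (QuotientAddGroup.mk' K) := by
    refine d_ext fun n => ?_
    rw [DSmap_fn]
    refine (heN _ _ n).trans ((?_ : _ = _).trans (heK _ _ _).symm)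
    rw [show i₁ ≫ e₁.hom = h ≫ Red.DSmap U (QuotientAddGroup.mk' K) from hfac,
      Functor.map_comp, bcTr_map, DSmap_fn]
    rfl
  rw [hi] at h2
  have hK := rel_ds (S := (U₂ : Scheme.{u})) hN K h₂
  have hmd : IsMonHom (Red.DSmap (U₂ : Scheme.{u}) K.subtype) := isMonHom_DSmap _
  have hm : IsMonHom (e₂.inv ≫ (Over.pullback U₂.ι).map (e₁.inv ≫ q₁)) := by
    have : IsMonHom e₁.inv := e.inv.hom.isMonHom_hom
    have : IsMonHom e₂.inv := eN.inv.hom.isMonHom_hom
    have : IsMonHom q₁ := isMonHom_bcMap U.ι q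
    have : IsMonHom (e₁.inv ≫ q₁) := inferInstance
    have : IsMonHom ((Over.pullback U₂.ι).map (e₁.inv ≫ q₁)) := isMonHom_bcMap U₂.ι _
    infer_instance
  obtain ⟨E⟩ := h2.unique hK
  let V : S.Opens := U.ι ''ᵁ U₂
  have hVU : V ≤ U := by rintro _ ⟨x, -, rfl⟩; exact x.2
  let a : (V : Scheme.{u}) ⟶ U₂ := IsOpenImmersion.lift U₂.ι (S.homOfLE hVU) (by
    rintro _ ⟨x, rfl⟩
    obtain ⟨y, hy, hxy⟩ := x.2
    rw [Scheme.Opens.range_ι]
    have : (S.homOfLE hVU).base x = y := U.ι.isOpenEmbedding.injective (by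
      rw [← Scheme.Hom.comp_apply, Scheme.homOfLE_ι]; exact hxy.symm)
    rw [this]; exact hy)
  obtain ⟨eKV, -⟩ := exists_dsBC a K
  refine ⟨V, hUc.isClosedEmbedding_subtypeVal.isClosedMap _ hU₂c, ⟨⟨s, hsU⟩, hsU₂, rfl⟩, K, ⟨?_⟩⟩
  exact (bcGrpIso U.ι (a ≫ U₂.ι) V.ι (by
      rw [Category.assoc, IsOpenImmersion.lift_fac_assoc, Scheme.homOfLE_ι]) Q).symm ≪≫
    (bcGrpIso U₂.ι a (a ≫ U₂.ι) rfl (Red.bc U.ι Q)).symm ≪≫ bcGrpMap a E ≪≫ eKV

end Groth.Agent.DiagRig.DSQuot
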