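import Groth.Agent.DiagRig.Nil

/-! Points of `D_R(M)` over `Spec R`. -/

universe u

open CategoryTheory MonoidalCategory CartesianMonoidalCategory MonObj GrpObj AlgebraicGeometry Limits

noncomputable section

namespace Groth.Agent.DiagRig

variable (R : Type u) [CommRing R] (M : Type) [AddCommGroup M]

/-- Global functions as an R-algebra. -/
@[implicit_reducible] def algΓR (Z : Over (Spec (CommRingCat.of R))) : Algebra R Γ(Z.left, ⊤) :=
  ((Scheme.ΓSpecIso (CommRingCat.of R)).inv ≫ Z.hom.appTop).hom.toAlgebra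

attribute [local instance] algΓR

variable {R}

/-- The canonical map to `Spec Γ`. -/
def toSpecΓOver (Z : Over (Spec (CommRingCat.of R))) :
    Z ⟶ (Spec Γ(Z.left, ⊤)).asOver (Spec (CommRingCat.of R)) :=
  Over.homMk Z.left.toSpecΓ (by
    show Z.left.toSpecΓ ≫ Spec.map ((Scheme.ΓSpecIso (CommRingCat.of R)).inv ≫ Z.hom.appTop) = Z.hom
    rw [Spec.map_comp, ← Scheme.toSpecΓ_naturality_assoc]
    simp)

variable {M}

/-- The point of `D_R(M)` given by a character map. -/
def diagPt {Z : Over (Spec (CommRingCat.of R))} (t : Multiplicative M →* Γ(Z.left, ⊤)) : Z ⟶ Red.diag R M :=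
  toSpecΓOver Z ≫ Spec.mapMulEquiv (WithConv.toConv (MonoidAlgebra.lift R Γ(Z.left, ⊤) (Multiplicative M) t))

lemma diagPt_left {Z : Over (Spec (CommRingCat.of R))} (t : Multiplicative M →* Γ(Z.left, ⊤)) :
    (diagPt t).left = Z.left.toSpecΓ ≫
      Spec.map (CommRingCat.ofHom (MonoidAlgebra.lift R Γ(Z.left, ⊤) (Multiplicative M) t).toRingHom) := rfl

lemma lift_one {A : Type u} [CommRing A] [Algebra R A] (t : Multiplicative M →* A) (m : Multiplicative M) :
    MonoidAlgebra.lift R A (Multiplicative M) t (MonoidAlgebra.single m 1) = t m := by simp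

lemma lift_scalar {A : Type u} [CommRing A] [Algebra R A] (t : Multiplicative M →* A) (r : R) :
    MonoidAlgebra.lift R A (Multiplicative M) t (MonoidAlgebra.single 1 r) = algebraMap R A r := by
  simp [Algebra.smul_def]

lemma eq_toSpecΓ {X : Scheme.{u}} {A : CommRingCat.{u}} (g : X ⟶ Spec A) :
    g = X.toSpecΓ ≫ Spec.map ((Scheme.ΓSpecIso A).inv ≫ g.appTop) := by
  rw [Spec.map_comp]
  simp [← Scheme.toSpecΓ_naturality_assoc]

lemma diagPt_mul {Z : Over (Spec (CommRingCat.of R))} (s t : Multiplicative M →* Γ(Z.left, ⊤)) :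
    diagPt (s * t) = diagPt s * diagPt t := by
  simp only [diagPt]
  rw [← MonObj.comp_mul, ← map_mul]
  congr 2
  apply WithConv.ofConv_injective
  apply MonoidAlgebra.algHom_ext
  · intro m
    simp [AlgHom.convMul_apply]
  · exact Subsingleton.elim _ _

lemma diagPt_comp {Z Z' : Over (Spec (CommRingCat.of R))} (h : Z' ⟶ Z) (t : Multiplicative M →* Γ(Z.left, ⊤)) :
    h ≫ diagPt t = diagPt (h.left.appTop.hom.toMonoidHom.comp t) := by
  apply Over.OverMorphism.ext
  rw [Over.comp_left]
  refine (Category.assoc _ _ _).symm.trans ?_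
  refine (congrArg (· ≫ _) (Scheme.toSpecΓ_naturality h.left)).trans ?_
  refine (Category.assoc _ _ _).trans ?_
  refine congrArg (Z'.left.toSpecΓ ≫ ·) ?_
  refine (Spec.map_comp _ _).symm.trans ?_
  refine congrArg Spec.map ?_
  apply CommRingCat.hom_ext
  apply MonoidAlgebra.ringHom_ext
  · intro r
    refine (congrArg (fun z => h.left.appTop z) (lift_scalar t r)).trans
      (Eq.trans ?_ (lift_scalar _ r).symm)
    show h.left.appTop (Z.hom.appTop _) = Z'.hom.appTop _
    refine Eq.trans ?_ (congrArg (fun f => Scheme.Hom.appTop f _) (Over.w h))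
    rw [Scheme.Hom.comp_appTop]
    rfl
  · intro m
    exact (congrArg (fun z => h.left.appTop z) (lift_one t m)).trans
      (lift_one (R := R) (h.left.appTop.hom.toMonoidHom.comp t) m).symm

lemma diagPt_surjective {Z : Over (Spec (CommRingCat.of R))} (g : Z ⟶ Red.diag R M) :
    ∃ t : Multiplicative M →* Γ(Z.left, ⊤), diagPt t = g := by
  let ψ : CommRingCat.of (MonoidAlgebra R (Multiplicative M)) ⟶ Γ(Z.left, ⊤) :=
    (Scheme.ΓSpecIso _).inv ≫ g.left.appTop
  have hg : g.left = Z.left.toSpecΓ ≫ Spec.map ψ := eq_toSpecΓ g.left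
  refine ⟨ψ.hom.toMonoidHom.comp (MonoidAlgebra.of R (Multiplicative M)), ?_⟩
  apply Over.OverMorphism.ext
  rw [diagPt_left, hg]
  congr 2
  apply CommRingCat.hom_ext
  apply MonoidAlgebra.ringHom_ext
  · intro r
    refine (lift_scalar _ r).trans ?_
    show Z.hom.appTop ((Scheme.ΓSpecIso (CommRingCat.of R)).inv r) = _
    refine (congrArg (fun f => Scheme.Hom.appTop f _) (Over.w g).symm).trans ?_
    refine (congr($(Scheme.Hom.comp_appTop _ _) _)).trans ?_
    exact congrArg (fun z => g.left.appTop z)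
      (congr($((Scheme.ΓSpecIso_inv_naturality (CommRingCat.ofHom (algebraMap R (MonoidAlgebra R (Multiplicative M))))).symm) r))
  · intro m
    exact lift_one _ m

variable (R M)

/-- `D_R(M)` is split over `Spec R`. -/
def SplitPts.diag : SplitPts (𝟙 (Spec (CommRingCat.of R))) (Red.diag R M) M where
  σ {Y} t := diagPt (Z := (Over.map (𝟙 _)).obj Y) t
  σ_mul {Y} s t := diagPt_mul (Z := (Over.map (𝟙 _)).obj Y) s t
  σ_comp {Y Y'} h t := diagPt_comp ((Over.map (𝟙 _)).map h) t
  σ_surjective {Y} g := diagPt_surjective g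

end Groth.Agent.DiagRig
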