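import Groth.Agent.DiagRig.SubTransporter
import Groth.Agent.DiagRig.Transporter
import Groth.Agent.AlgSpCov.EtaleSections

/-! Etale-local conjugacy from pointwise conjugacy. -/

universe u

open CategoryTheory MonoidalCategory CartesianMonoidalCategory MonObj GrpObj AlgebraicGeometry Limits

noncomputable section

namespace Groth.Agent.DiagRig

variable {S : Scheme.{u}}

/-- A smooth scheme with a geometric point in every fibre has points etale locally on the base. -/
lemma exists_etale_pt {T : Over S} [Smooth T.hom] (hs : ∀ s : S, Nonempty (Over.mk (Red.geomPt s) ⟶ T)) (s : S) :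
    ∃ (S' : Scheme.{u}) (f : S' ⟶ S), Etale f ∧ s ∈ Set.range f.base ∧
      Nonempty ((Over.map f).obj (𝟙_ (Over S')) ⟶ T) := by
  obtain ⟨p⟩ := hs s
  let c : ↥(Spec (CommRingCat.of (AlgebraicClosure (S.residueField s)))) := default
  have hc : Red.geomPt s c = s := by
    rw [Scheme.Hom.comp_apply, Scheme.fromSpecResidueField_apply]
  obtain ⟨S', f, s', hf, hfs, h, hh⟩ := AlgSpCov.exists_etale_section T.hom (p.left c)
  refine ⟨S', f, hf, ⟨s', ?_⟩, ⟨Over.homMk h (by rw [hh]; exact (Category.id_comp f).symm)⟩⟩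
  have h1 := congrArg (fun q => q c) (Over.w p)
  simp only [Scheme.Hom.comp_apply] at h1
  exact (hfs.trans h1).trans hc

variable {S' : Scheme.{u}} (f : S' ⟶ S) {H₁ H₂ G : Over S} [GrpObj G]

/-- A transporting point conjugates the base changed subgroups. -/
lemma conjBy_of_subTransports (i₁ : H₁ ⟶ G) (i₂ : H₂ ⟶ G) [Mono i₁] [Mono i₂]
    (g : (Over.map f).obj (𝟙_ (Over S')) ⟶ G) (hg : SubTransports i₁ i₂ g) :
    SGA3x.ConjBy ((Over.pullback f).map i₁) ((Over.pullback f).map i₂) (bcUn f g) := by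
  obtain ⟨a, ha⟩ := (hg _ ((Over.map f).map (toUnit (Red.bc f H₁)))).1 (bcTr f (𝟙 _))
  obtain ⟨b, hb⟩ := (hg _ ((Over.map f).map (toUnit (Red.bc f H₂)))).2 (bcTr f (𝟙 _))
  have h1 : (toUnit (Red.bc f H₁) ≫ bcUn f g) * (Over.pullback f).map i₁ * (toUnit _ ≫ bcUn f g)⁻¹ =
      bcUn f a ≫ (Over.pullback f).map i₂ := bcTr_injective f (by
    rw [bcTr_mul, bcTr_mul, bcTr_inv, bcTr_comp, bcTr_bcUn, bcTr_map, bcTr_bcUn, ← ha]
    conv_lhs => rw [← Category.id_comp ((Over.pullback f).map i₁)]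
    rw [bcTr_map])
  have h2 : (toUnit (Red.bc f H₂) ≫ bcUn f g)⁻¹ * (Over.pullback f).map i₂ * (toUnit _ ≫ bcUn f g) =
      bcUn f b ≫ (Over.pullback f).map i₁ := bcTr_injective f (by
    rw [bcTr_mul, bcTr_mul, bcTr_inv, bcTr_comp, bcTr_bcUn, bcTr_map, bcTr_bcUn, ← hb]
    conv_lhs => rw [← Category.id_comp ((Over.pullback f).map i₂)]
    rw [bcTr_map])
  refine ⟨⟨bcUn f a, bcUn f b, ?_, ?_⟩, h1⟩
  · rw [← cancel_mono ((Over.pullback f).map i₁), Category.assoc, ← h2, MonObj.comp_mul, MonObj.comp_mul,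
      GrpObj.comp_inv, comp_toUnit_assoc, ← h1]
    simp [_root_.mul_assoc]
  · rw [← cancel_mono ((Over.pullback f).map i₂), Category.assoc, ← h1, MonObj.comp_mul, MonObj.comp_mul,
      GrpObj.comp_inv, comp_toUnit_assoc, ← h2]
    simp [_root_.mul_assoc]

end Groth.Agent.DiagRig
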