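import Groth.Agent.DiagRig.QiChart
import Groth.Agent.MultType.QIGlobal
import Groth.Agent.AffGrp.Bridge

/-!
# Recognising groups of multiplicative type through etale charts and Hopf models
-/

universe u

open CategoryTheory MonoidalCategory CartesianMonoidalCategory MonObj GrpObj AlgebraicGeometry Limits
open TensorProduct

noncomputable section

namespace Groth.Agent.DiagRig.EtaleCharts

set_option backward.isDefEq.respectTransparency.types false

variable {S : Scheme.{u}} {G : Over S} [GrpObj G]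

/-- An etale split chart around every point gives a group of multiplicative type and finite type. -/
theorem isMultTypeFT_of_charts
    (h : ∀ x : S, ∃ (R : CommRingCat.{u}) (p : Spec R ⟶ S) (M : Type) (_ : AddCommGroup M) (P : SplitPts p G M),
      P.Inj ∧ AddGroup.FG M ∧ Etale p ∧ x ∈ Set.range p) :
    SGA3x.IsMultTypeFT G := by
  choose R p M inst P hP hM hp hx using h
  let X : S → Scheme.{u} := fun x => Spec (R x)
  let f : (∐ X) ⟶ S := Sigma.desc p
  haveI : ∀ x, Etale (p x) := hp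
  haveI : Etale f := IsZariskiLocalAtSource.sigmaDesc fun x => hp x
  haveI hs : Surjective f := ⟨fun x => by
    obtain ⟨y, hy⟩ := hx x
    refine ⟨(Sigma.ι X x).base y, ?_⟩
    rw [← Scheme.Hom.comp_apply, Sigma.ι_desc]
    exact hy⟩
  refine ⟨∐ X, f, inferInstance, inferInstance, fun V hV => ?_, fun z => ?_⟩
  · have hA : ∀ v : (V : Set S), ∃ A : (∐ X).Opens, IsCompact (A : Set (∐ X : Scheme.{u})) ∧ A ≤ f ⁻¹ᵁ V ∧
        v.1 ∈ f.base '' (A : Set (∐ X : Scheme.{u})) := fun v => by
      obtain ⟨z, hz⟩ := f.surjective v.1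
      obtain ⟨A, hA, hzA, hAV⟩ := exists_isAffineOpen_mem_and_subset (X := ∐ X) (x := z) (U := f ⁻¹ᵁ V)
        (show f.base z ∈ V from hz ▸ v.2)
      exact ⟨A, hA.isCompact, hAV, z, hzA, hz⟩
    choose A hAc hAV hvA using hA
    obtain ⟨F, hF⟩ := hV.isCompact.elim_finite_subcover (fun v => f.base '' (A v : Set (∐ X : Scheme.{u})))
      (fun v => f.isOpenMap _ (A v).2) fun x hx => Set.mem_iUnion.mpr ⟨⟨x, hx⟩, hvA ⟨x, hx⟩⟩
    refine ⟨⨆ v ∈ F, A v, ?_, ?_⟩
    · simp only [TopologicalSpace.Opens.coe_iSup]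
      exact F.isCompact_biUnion fun v _ => hAc v
    · simp only [TopologicalSpace.Opens.coe_iSup, Set.image_iUnion]
      exact Set.Subset.antisymm (Set.iUnion₂_subset fun v _ => Set.image_subset_iff.mpr fun z hz => hAV v hz) hF
  · obtain ⟨i, y, hy⟩ := (sigmaOpenCover X).exists_eq z
    refine ⟨(Sigma.ι X i).opensRange, ⟨y, hy⟩, M i, inferInstance, hM i, ?_⟩
    have e : ((Sigma.ι X i).isoOpensRange.inv) ≫ p i = (Sigma.ι X i).opensRange.ι ≫ f := by
      rw [← Sigma.ι_desc p i, ← Category.assoc, Scheme.Hom.isoOpensRange_inv_comp]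
    obtain ⟨g⟩ := exists_grpIso_of_splitPts ((P i).restrict (Sigma.ι X i).isoOpensRange.inv)
      (SplitPts.Inj.restrict (hP i) _)
    rw [e] at g
    exact ⟨g⟩

/-- Split charts move along isomorphisms of groups. -/
theorem exists_splitPts_of_iso {H : Over S} [GrpObj H] (e : G ≅ H) [IsMonHom e.hom] {U : Scheme.{u}} {p : U ⟶ S}
    {M : Type} [AddCommGroup M] (P₁ : SplitPts p G M) (hP₁ : P₁.Inj) : ∃ P : SplitPts p H M, P.Inj :=
  ⟨{ σ := fun {Y} t => P₁.σ t ≫ e.hom
     σ_mul := fun {Y} s t => by rw [P₁.σ_mul, MonObj.mul_comp]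
     σ_comp := fun {Y Y'} h t => by rw [← Category.assoc, P₁.σ_comp]
     σ_surjective := fun {Y} g => by
       obtain ⟨t, ht⟩ := P₁.σ_surjective (g ≫ e.inv)
       exact ⟨t, by rw [ht, Category.assoc, Iso.inv_hom_id, Category.comp_id]⟩ },
    fun {_} s t h => hP₁ s t ((cancel_mono e.hom).mp h)⟩

/-- Etale split charts of the spectrum of a Hopf algebra of multiplicative type. -/
theorem exists_chart_spec {R : Type u} [CommRing R] {A : Type u} [CommRing A] [HopfAlgebra R A]
    (h : SGA3b.IsMultType R A) (hfp : Algebra.FinitePresentation R A) (x₀ : Spec (CommRingCat.of R)) :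
    ∃ (R' : CommRingCat.{u}) (p : Spec R' ⟶ Spec (CommRingCat.of R)) (M : Type) (_ : AddCommGroup M)
      (P : SplitPts p ((Spec (CommRingCat.of A)).asOver (Spec (CommRingCat.of R))) M),
      P.Inj ∧ AddGroup.FG M ∧ Etale p ∧ x₀ ∈ Set.range p := by
  obtain ⟨s, hs, hqi⟩ := MultType.QIGlobal.isQuasiIsotrivial_of_local hfp
    fun p _ => MultType.QIGlobal.isMultType_bc_local h _
  obtain ⟨f, hfs, hfx⟩ : ∃ f ∈ s, f ∉ (x₀ : PrimeSpectrum R).asIdeal := by
    by_contra h
    push Not at h
    exact (x₀ : PrimeSpectrum R).2.ne_top (top_unique (hs ▸ Ideal.span_le.mpr h))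
  obtain ⟨R', _, _, het, hff, N, instN, ⟨ε⟩⟩ := hqi f hfs
  letI : Algebra R R' := ((algebraMap (Localization.Away f) R').comp (algebraMap R (Localization.Away f))).toAlgebra
  haveI : IsScalarTower R (Localization.Away f) R' := IsScalarTower.of_algebraMap_eq' rfl
  let ε' : R' ⊗[R] A ≃ₐc[R'] MonoidAlgebra R' N :=
    (MultType.Split.cancel (R := R) (S := Localization.Away f) (T := R') (A := A)).symm.trans ε
  haveI := hfp
  obtain ⟨M, _, hM, ⟨δ⟩⟩ := exists_fg_model (fun K _ _ => inferInstance) ε'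
  obtain ⟨P, hP⟩ := exists_splitPts_of_bialgEquiv δ
  haveI : Algebra.Etale R (Localization.Away f) := inferInstance
  haveI : Algebra.Etale R R' := Algebra.Etale.comp R (Localization.Away f) R'
  haveI : Etale (specP (CommRingCat.of R) R') :=
    HasRingHomProperty.Spec_iff.mpr (RingHom.etale_algebraMap.mpr inferInstance)
  refine ⟨CommRingCat.of R', specP (CommRingCat.of R) R', M, inferInstance, P, hP, hM, inferInstance, ?_⟩
  obtain ⟨z, hz⟩ : (x₀ : PrimeSpectrum R) ∈ Set.range (PrimeSpectrum.comap (algebraMap R (Localization.Away f))) := by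
    rw [PrimeSpectrum.localization_away_comap_range (Localization.Away f) f]; exact hfx
  obtain ⟨y, rfl⟩ := PrimeSpectrum.comap_surjective_of_faithfullyFlat (B := R') z
  refine ⟨y, ?_⟩
  show PrimeSpectrum.comap (algebraMap R R') y = _
  rw [← hz, IsScalarTower.algebraMap_eq R (Localization.Away f) R', PrimeSpectrum.comap_comp]
  rfl

/-- Affine-locally of multiplicative type in the sense of Hopf algebras implies multiplicative type. -/
theorem isMultTypeFT_of_models [LocallyOfFinitePresentation G.hom]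
    (h : ∀ x : S, ∃ (R : CommRingCat.{u}) (w : Spec R ⟶ S) (A : Type u) (_ : CommRing A) (_ : HopfAlgebra R A)
      (e : (Spec (CommRingCat.of A)).asOver (Spec R) ≅ Red.bc w G),
      IsMonHom e.hom ∧ IsOpenImmersion w ∧ x ∈ Set.range w ∧ SGA3b.IsMultType R A) :
    SGA3x.IsMultTypeFT G := by
  refine isMultTypeFT_of_charts fun x => ?_
  obtain ⟨R, w, A, _, _, e, he, hw, ⟨x₀, rfl⟩, hA⟩ := h x
  have : IsMonHom e.hom := he
  have hlfp : LocallyOfFinitePresentation ((Spec (CommRingCat.of A)).asOver (Spec R)).hom := by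
    have : LocallyOfFinitePresentation (Red.bc w G).hom :=
      MorphismProperty.pullback_snd (P := @LocallyOfFinitePresentation) G.hom w inferInstance
    haveI : IsIso e.hom.left := (inferInstance : IsIso ((Over.forget _).map e.hom))
    have h : LocallyOfFinitePresentation (e.hom.left ≫ (Red.bc w G).hom) := inferInstance
    exact CategoryTheory.Over.w e.hom ▸ h
  have hfp : Algebra.FinitePresentation R A :=
    RingHom.finitePresentation_algebraMap.mp (HasRingHomProperty.Spec_iff.mp hlfp)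
  obtain ⟨R', p, M, _, P₁, hP₁, hM, hp, ⟨y, hy⟩⟩ := exists_chart_spec hA hfp x₀
  obtain ⟨P₂, hP₂⟩ := exists_splitPts_of_iso e P₁ hP₁
  obtain ⟨P, hP⟩ := QiChart.exists_splitPts_comp w P₂ hP₂
  exact ⟨R', p ≫ w, M, inferInstance, P, hP, hM, inferInstance, y, (congrArg w hy)⟩

/-- A homomorphism of spectra of Hopf algebras comes from a bialgebra homomorphism. -/
theorem exists_bialgHom {R : Type u} [CommRing R] {A B : Type u} [CommRing A] [HopfAlgebra R A] [CommRing B]
    [HopfAlgebra R B]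
    (φ : (Spec (CommRingCat.of B)).asOver (Spec (CommRingCat.of R)) ⟶ (Spec (CommRingCat.of A)).asOver (Spec (CommRingCat.of R)))
    [IsMonHom φ] : ∃ π : A →ₐc[R] B, Spec.map (CommRingCat.ofHom (π : A →+* B)) = φ.left := by
  let ψ : (hopfSpec (CommRingCat.of R)).obj (Opposite.op (CommHopfAlgCat.of R B)) ⟶
      (hopfSpec (CommRingCat.of R)).obj (Opposite.op (CommHopfAlgCat.of R A)) :=
    Grp.homMk' (@Mon.Hom.mk _ _ _ _ _ φ ⟨IsMonHom.one_hom φ, IsMonHom.mul_hom φ⟩)
  obtain ⟨v, hv⟩ : ∃ v, (hopfSpec (CommRingCat.of R)).map v = ψ := ⟨_, hopfSpec.fullyFaithful.map_preimage ψ⟩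
  refine ⟨v.unop.hom, ?_⟩
  have h : ((hopfSpec (CommRingCat.of R)).map v).hom.hom = φ := by rw [hv]; rfl
  exact congrArg CommaMorphism.left h

end Groth.Agent.DiagRig.EtaleCharts
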