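import Groth.Agent.DiagRig.LeNhd
import Groth.Agent.DiagRig.DSLocusApps
import Groth.Agent.DiagRig.MultProp
import Groth.Prelude.Def_AlgGrp

/-!
# A clopen subgroup of an extension containing the closed fibre
-/

universe u

open CategoryTheory MonoidalCategory CartesianMonoidalCategory MonObj GrpObj AlgebraicGeometry Limits

noncomputable section

namespace Groth.Agent.DiagRig.ExtSurj

set_option backward.isDefEq.respectTransparency.types false

variable {S : Scheme.{u}} {E H K E' : Over S} [GrpObj E] [GrpObj H] [GrpObj K] [GrpObj E']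

lemma eq_top_of_closedPoint {R : CommRingCat.{u}} [IsLocalRing R] (O : (Spec R).Opens)
    (h : IsLocalRing.closedPoint R ∈ O) : O = ⊤ :=
  top_le_iff.mp fun x _ => (IsLocalRing.specializes_closedPoint x).mem_open O.2 h

/-- The kernel of an extension gives lifts. -/
lemma exists_kernel_lift {p : E ⟶ K} {i : H ⟶ E} (hker : AlgGrp.IsKernel i p) {X : Over S} (h : X ⟶ E)
    (hh : h ≫ p = 1) : ∃ a : X ⟶ H, a ≫ i = h :=
  ⟨hker.lift h (toUnit X) (by rw [hh, Hom.one_def]), hker.lift_fst _ _ _⟩

/-- A clopen subgroup of multiplicative type of an extension over a local base which contains the closed fibre is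
everything. -/
theorem surjective_of_local {R : CommRingCat.{u}} [IsLocalRing R] {E H K E' : Over (Spec R)} [GrpObj E] [GrpObj H]
    [GrpObj K] [GrpObj E'] (p : E ⟶ K) [IsMonHom p] [Surjective p.left] [Flat p.left]
    (i : H ⟶ E) [IsMonHom i] (hker : AlgGrp.IsKernel i p)
    (j : E' ⟶ E) [IsMonHom j] [IsOpenImmersion j.left]
    (hH : SGA3x.IsMultTypeFT H) (hK : SGA3x.IsMultTypeFT K) (hE' : SGA3x.IsMultTypeFT E')
    (hlfp : LocallyOfFinitePresentation (pullback.fst i.left j.left))
    (hfib : E.hom.base ⁻¹' {IsLocalRing.closedPoint R} ⊆ Set.range j.left.base)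
    (hcomm : ∀ (X : Over (Spec R)) (g : X ⟶ E) (h : X ⟶ H), g * (h ≫ i) = (h ≫ i) * g) :
    Surjective j.left := by
  let s : Spec R := IsLocalRing.closedPoint R
  have : Mono j := CategoryTheory.Over.mono_of_mono_left j
  -- the subgroup contains the kernel
  have hle : Le i j ((Spec R).fromSpecResidueField s) := by
    intro Y x ⟨z, hz⟩
    have hr : Set.range (x ≫ i).left.base ⊆ Set.range j.left.base := by
      rintro _ ⟨y, rfl⟩
      refine hfib ?_
      show E.hom.base ((x ≫ i).left.base y) = s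
      rw [← Scheme.Hom.comp_apply, CategoryTheory.Over.w, ← hz, Scheme.Hom.comp_apply, Scheme.fromSpecResidueField_apply]
    refine ⟨CategoryTheory.Over.homMk (IsOpenImmersion.lift j.left (x ≫ i).left hr) ?_, Over.OverMorphism.ext ?_⟩
    · rw [← CategoryTheory.Over.w j, ← Category.assoc, IsOpenImmersion.lift_fac, CategoryTheory.Over.w]
    · exact IsOpenImmersion.lift_fac _ _ _
  obtain ⟨O, hsO, hO⟩ := exists_nhd_le_of_fibre i j hH hE' hlfp s (fun X _ => hcomm X) hle
  have hO' : Le i j O.ι := hO
  rw [eq_top_of_closedPoint O hsO] at hO'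
  -- the subgroup maps onto the quotient
  obtain ⟨U, -, hUiff, -, hUsurj⟩ := exists_ff_locus E' K hE' hK (j ≫ p)
  let k := (Spec R).fromSpecResidueField s
  have hjiso : IsIso ((Over.pullback k).map j).left := by
    haveI : IsOpenImmersion ((Over.pullback k).map j).left :=
      MorphismProperty.of_isPullback (isPullback_bcMap k j) ‹IsOpenImmersion j.left›
    haveI : Surjective ((Over.pullback k).map j).left := ⟨fun z => by
      have hz : E.hom ((pullback.fst E.hom k) z) = s := by
        rw [← Scheme.Hom.comp_apply, pullback.condition, Scheme.Hom.comp_apply, Scheme.fromSpecResidueField_apply]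
      obtain ⟨w, hw⟩ := hfib hz
      obtain ⟨y, -, hy⟩ := Scheme.exists_preimage_of_isPullback (isPullback_bcMap k j) w z hw
      exact ⟨y, hy⟩⟩
    haveI : Epi ((Over.pullback k).map j).left.base := (TopCat.epi_iff_surjective _).2 ((Over.pullback k).map j).left.surjective
    exact IsOpenImmersion.isIso _
  have hsU : s ∈ U := by
    rw [hUiff, Functor.map_comp, CategoryTheory.Over.comp_left]
    haveI : Flat ((Over.pullback k).map p).left :=
      MorphismProperty.of_isPullback (isPullback_bcMap k p) ‹Flat p.left›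
    haveI : Surjective ((Over.pullback k).map p).left :=
      MorphismProperty.of_isPullback (isPullback_bcMap k p) ‹Surjective p.left›
    exact ⟨inferInstance, inferInstance⟩
  rw [eq_top_of_closedPoint U hsU] at hUsurj
  haveI : Surjective (j ≫ p).left := by
    refine ⟨fun y => ?_⟩
    obtain ⟨y', hy', -⟩ := Scheme.Pullback.exists_preimage_pullback (f := K.hom) (g := (⊤ : (Spec R).Opens).ι) y
      ⟨K.hom y, trivial⟩ rfl
    obtain ⟨x, hx⟩ := hUsurj.surj y'
    refine ⟨pullback.fst E'.hom _ x, ?_⟩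
    rw [← hy', ← hx]
    exact congrArg (fun f => (f : _ ⟶ K.left) x) (isPullback_bcMap (⊤ : (Spec R).Opens).ι (j ≫ p)).w
  -- every point lifts
  refine ⟨fun e => ?_⟩
  let X : Over (Spec R) := Over.mk (E.left.fromSpecResidueField e ≫ E.hom)
  let e₀ : X ⟶ E := CategoryTheory.Over.homMk (E.left.fromSpecResidueField e) rfl
  obtain ⟨b, hb⟩ := (inferInstance : Surjective (j ≫ p).left).surj (p.left e)
  obtain ⟨w, hw1, -⟩ := Scheme.Pullback.exists_preimage_pullback (f := (e₀ ≫ p).left) (g := (j ≫ p).left)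
    (IsLocalRing.closedPoint (E.left.residueField e) : Spec (E.left.residueField e)) b (by
      rw [hb, CategoryTheory.Over.comp_left, Scheme.Hom.comp_apply]
      exact congrArg _ (Scheme.fromSpecResidueField_apply _ _))
  let Y : Over (Spec R) := Over.mk (pullback.fst (e₀ ≫ p).left (j ≫ p).left ≫ X.hom)
  let q₁ : Y ⟶ X := CategoryTheory.Over.homMk (pullback.fst _ _) rfl
  let q₂ : Y ⟶ E' := CategoryTheory.Over.homMk (pullback.snd (e₀ ≫ p).left (j ≫ p).left) (by
    show pullback.snd _ _ ≫ E'.hom = pullback.fst _ _ ≫ X.hom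
    rw [← CategoryTheory.Over.w (e₀ ≫ p), ← CategoryTheory.Over.w (j ≫ p), ← Category.assoc, ← pullback.condition,
      Category.assoc])
  have hq : q₁ ≫ e₀ ≫ p = q₂ ≫ j ≫ p := Over.OverMorphism.ext pullback.condition
  obtain ⟨a, ha⟩ := exists_kernel_lift hker ((q₁ ≫ e₀) * (q₂ ≫ j)⁻¹) (by
    rw [MonObj.mul_comp, GrpObj.inv_comp, Category.assoc, Category.assoc, hq, mul_inv_cancel])
  obtain ⟨y, hy⟩ := hO' Y a ⟨IsOpenImmersion.lift (⊤ : (Spec R).Opens).ι Y.hom (by simp), IsOpenImmersion.lift_fac _ _ _⟩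
  have hfin : (y * q₂) ≫ j = q₁ ≫ e₀ := by
    rw [MonObj.mul_comp, hy, ha, inv_mul_cancel_right]
  refine ⟨(y * q₂).left w, ?_⟩
  rw [← Scheme.Hom.comp_apply, ← CategoryTheory.Over.comp_left, hfin, CategoryTheory.Over.comp_left, Scheme.Hom.comp_apply]
  exact Scheme.fromSpecResidueField_apply _ _

end Groth.Agent.DiagRig.ExtSurj
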