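import Groth.Agent.DiagRig.MultBC
import Groth.Agent.FBase.BC
import Groth.Agent.HTopLib.Fpqc
import Groth.Agent.DiagRig.Connected
import Groth.Agent.GrpdLib.GrpOver

/-! Descent of central homomorphisms along fpqc covers with geometrically connected fibres. -/

universe u

open CategoryTheory MonoidalCategory CartesianMonoidalCategory MonObj GrpObj AlgebraicGeometry Limits

noncomputable section

namespace Groth.Agent.DiagRig

variable {S S' : Scheme.{u}} (π : S' ⟶ S)

set_option backward.isDefEq.respectTransparency.types false in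
/-- A flat surjective morphism with enough quasi-compact opens is an effective epimorphism. -/
theorem effectiveEpi_of_cov [Flat π] [Surjective π]
    (hcov : ∀ V : S.Opens, IsAffineOpen V → ∃ W : S'.Opens, IsCompact (W : Set S') ∧ π.base '' (W : Set S') = (V : Set S)) :
    EffectiveEpi π := by
  let E : PreZeroHypercover.{u} S := PreZeroHypercover.singleton π
  have hq : QuasiCompactCover E := HTopLib.quasiCompactCover_of_compact_images E fun V hV => by
    obtain ⟨W, hW, hWV⟩ := hcov V hV
    exact ⟨PUnit, inferInstance, fun _ => PUnit.unit, fun _ => (W : Set S'), fun _ => hW,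
      (Set.iUnion_const _).trans hWV⟩
  have hmem : E.presieve₀ ∈ Scheme.fpqcPrecoverage S :=
    (HTopLib.mem_fpqcPrecoverage_iff E).mpr ⟨hq, fun _ => ‹Flat π›⟩
  rw [PreZeroHypercover.presieve₀_singleton] at hmem
  rw [← Sieve.effectiveEpimorphic_singleton,
    Presieve.EffectiveEpimorphic.iff_forall_isSheafFor_yoneda]
  intro Z
  exact (GrothendieckTopology.Subcanonical.isSheaf_of_isRepresentable _).isSheafFor _
    (Precoverage.generate_mem_toGrothendieck hmem)

set_option backward.isDefEq.respectTransparency.types false in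
/-- A clopen of `S' ×_S S'` containing the diagonal is everything when the fibres are geometrically connected. -/
theorem clopen_eq_top (hconn : ∀ s : S, ConnectedSpace ↥(Limits.pullback π (Red.geomPt s)))
    (U : (pullback π π).Opens) (hU : IsClosed (U : Set (pullback π π : Scheme.{u})))
    (hdiag : ∀ s', (pullback.diagonal π).base s' ∈ U) (x : (pullback π π : Scheme.{u})) : x ∈ U := by
  let t : pullback π π ⟶ S := pullback.fst π π ≫ π
  let gp := Red.geomPt (t.base x)
  have := hconn (t.base x)
  let q : pullback π gp ⟶ Spec _ := pullback.snd π gp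
  have : GeometricallyConnected q := FBase.BC.geometricallyConnected_of_isSepClosed q
  have hconn2 : ConnectedSpace ↥(pullback q q) := inferInstance
  let m : pullback q q ⟶ pullback π π := pullback.map q q π π (pullback.fst π gp) (pullback.fst π gp) gp
    pullback.condition.symm pullback.condition.symm
  obtain ⟨z, hz, -⟩ := Scheme.Pullback.exists_preimage_pullback (f := t) (g := gp) x
    (default : PrimeSpectrum (AlgebraicClosure (S.residueField (t.base x)))) (by
      show t.base x = (S.fromSpecResidueField (t.base x)).base _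
      rw [Scheme.fromSpecResidueField_apply])
  let n : pullback t gp ⟶ pullback q q := pullback.lift
    (pullback.lift (pullback.fst t gp ≫ pullback.fst π π) (pullback.snd t gp)
      (by rw [Category.assoc]; exact pullback.condition))
    (pullback.lift (pullback.fst t gp ≫ pullback.snd π π) (pullback.snd t gp)
      (by rw [Category.assoc, ← pullback.condition (f := π) (g := π)]; exact pullback.condition))
    (by rw [pullback.lift_snd, pullback.lift_snd])
  have hnm : n ≫ m = pullback.fst t gp := by
    refine pullback.hom_ext ?_ ?_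
    · rw [Category.assoc, pullback.lift_fst, pullback.lift_fst_assoc, pullback.lift_fst]
    · rw [Category.assoc, pullback.lift_snd, pullback.lift_snd_assoc, pullback.lift_fst]
  have hΔ : pullback.diagonal q ≫ m = pullback.fst π gp ≫ pullback.diagonal π := by
    refine pullback.hom_ext ?_ ?_
    · rw [Category.assoc, pullback.lift_fst, pullback.diagonal_fst_assoc, Category.assoc,
        pullback.diagonal_fst, Category.comp_id]
    · rw [Category.assoc, pullback.lift_snd, pullback.diagonal_snd_assoc, Category.assoc,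
        pullback.diagonal_snd, Category.comp_id]
  have hall : m.base ⁻¹' (U : Set (pullback π π : Scheme.{u})) = Set.univ :=
    (IsClopen.eq_univ (⟨hU.preimage m.continuous, U.2.preimage m.continuous⟩ : IsClopen _)) <| by
      obtain ⟨w⟩ := (inferInstance : Nonempty ↥(pullback π gp))
      exact ⟨(pullback.diagonal q).base w, show m.base ((pullback.diagonal q).base w) ∈ U by
        rw [← Scheme.Hom.comp_apply, hΔ, Scheme.Hom.comp_apply]; exact hdiag _⟩
  have hzU : n.base z ∈ m.base ⁻¹' (U : Set (pullback π π : Scheme.{u})) := hall ▸ Set.mem_univ _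
  rwa [Set.mem_preimage, ← Scheme.Hom.comp_apply, hnm, hz] at hzU

variable {π} {T : Scheme.{u}}

/-- The comparison of the two ways to view a scheme over `S`. -/
def castIso {p : T ⟶ S'} {t : T ⟶ S} (h : p ≫ π = t) (Y : Over T) :
    (Over.map π).obj ((Over.map p).obj Y) ≅ (Over.map t).obj Y :=
  Over.isoMk (Iso.refl _) (by simp [h])

variable {p : T ⟶ S'} {t : T ⟶ S} (h : p ≫ π = t) {H G : Over S}

lemma castIso_nat {Y Y' : Over T} (f : Y' ⟶ Y) :
    (castIso h Y').hom ≫ (Over.map t).map f = (Over.map π).map ((Over.map p).map f) ≫ (castIso h Y).hom := by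
  ext1; simp [castIso]

lemma castIso_nat' {Y Y' : Over T} (f : Y' ⟶ Y) :
    (Over.map t).map f ≫ (castIso h Y).inv = (castIso h Y').inv ≫ (Over.map π).map ((Over.map p).map f) := by
  ext1; simp [castIso]

/-- The pullback along `p` of a morphism between base changes. -/
def pullHom (v : Red.bc π H ⟶ Red.bc π G) : Red.bc t H ⟶ Red.bc t G :=
  bcUn t ((castIso h _).inv ≫ bcTr π (bcUn π ((castIso h _).hom ≫ bcTr t (𝟙 (Red.bc t H))) ≫ v))

lemma bcTr_comp_pullHom (v : Red.bc π H ⟶ Red.bc π G) {Y : Over T} (x : Y ⟶ Red.bc t H) :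
    bcTr t (x ≫ pullHom h v) =
      (castIso h Y).inv ≫ bcTr π (bcUn π ((castIso h Y).hom ≫ bcTr t x) ≫ v) := by
  rw [bcTr_comp, pullHom, bcTr_bcUn, ← Category.assoc, castIso_nat', Category.assoc, ← bcTr_comp,
    ← Category.assoc]
  congr 3
  refine Eq.trans ((Over.mapPullbackAdj π).homEquiv_naturality_left _ _).symm (congrArg (bcUn π) ?_)
  rw [← Category.assoc, ← castIso_nat, Category.assoc, ← bcTr_comp, Category.comp_id]

variable [GrpObj H] [GrpObj G]

lemma isMonHom_pullHom (v : Red.bc π H ⟶ Red.bc π G) [IsMonHom v] : IsMonHom (pullHom h v) :=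
  isMonHom_of_pts _ fun Y x y => bcTr_injective t (by
    rw [bcTr_mul, bcTr_comp_pullHom, bcTr_comp_pullHom, bcTr_comp_pullHom, bcTr_mul, MonObj.comp_mul,
      bcUn_mul, MonObj.mul_comp, bcTr_mul, MonObj.comp_mul])

lemma pullHom_central (v : Red.bc π H ⟶ Red.bc π G)
    (hc : ∀ (X : Over S') (g : X ⟶ Red.bc π G) (x : X ⟶ Red.bc π H), g * (x ≫ v) = (x ≫ v) * g)
    {Y : Over T} (g : Y ⟶ Red.bc t G) (x : Y ⟶ Red.bc t H) :
    g * (x ≫ pullHom h v) = (x ≫ pullHom h v) * g := bcTr_injective t (by
  rw [bcTr_mul, bcTr_mul, bcTr_comp_pullHom, ← cancel_epi (castIso h Y).hom, MonObj.comp_mul,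
    MonObj.comp_mul, ← Category.assoc, Iso.hom_inv_id, Category.id_comp,
    ← bcTr_bcUn π ((castIso h Y).hom ≫ bcTr t g), ← bcTr_mul, ← bcTr_mul, hc])

omit [GrpObj H] [GrpObj G] in
/-- Where the two projections agree the two pullbacks agree. -/
lemma pullHom_congr {p' : T ⟶ S'} (h' : p' ≫ π = t) (v : Red.bc π H ⟶ Red.bc π G) {Y : Over T}
    (hY : Y.hom ≫ p = Y.hom ≫ p') (x : Y ⟶ Red.bc t H) : x ≫ pullHom h v = x ≫ pullHom h' v := by
  let j : (Over.map p).obj Y ≅ (Over.map p').obj Y := Over.isoMk (Iso.refl _) (by simp [hY])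
  have e₁ : (castIso h Y).hom = (Over.map π).map j.hom ≫ (castIso h' Y).hom := by
    apply Over.OverMorphism.ext; simp [castIso, j]
  have e₂ : (castIso h Y).inv ≫ (Over.map π).map j.hom = (castIso h' Y).inv := by
    apply Over.OverMorphism.ext; simp [castIso, j]
  have e₃ : ∀ z : (Over.map π).obj ((Over.map p').obj Y) ⟶ H,
      bcUn π ((Over.map π).map j.hom ≫ z) = j.hom ≫ bcUn π z :=
    fun z => (Over.mapPullbackAdj π).homEquiv_naturality_left _ _
  refine bcTr_injective t ?_
  rw [bcTr_comp_pullHom, bcTr_comp_pullHom, e₁, Category.assoc, e₃, Category.assoc, bcTr_comp,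
    ← Category.assoc, e₂]

omit [GrpObj H] [GrpObj G] in
/-- The structure of base change pulls back to epimorphisms. -/
lemma epi_baseCov [Flat π] [Surjective π] (Y : Over S) :
    Epi (Over.homMk (pullback.fst Y.hom π) pullback.condition :
      (Over.map π).obj (Over.mk (pullback.snd Y.hom π)) ⟶ Y) := by
  let k : (Over.map π).obj (Over.mk (pullback.snd Y.hom π)) ⟶ Y :=
    Over.homMk (pullback.fst Y.hom π) pullback.condition
  have : Epi k.left := Flat.epi_of_flat_of_surjective (pullback.fst Y.hom π)
  exact Over.epi_of_epi_left k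

omit [GrpObj H] [GrpObj G] in
/-- Morphisms are determined by their base change along a flat surjection. -/
lemma bcMap_injective [Flat π] [Surjective π] (u v : H ⟶ G)
    (e : (Over.pullback π).map u = (Over.pullback π).map v) : u = v := by
  have := epi_baseCov (π := π) H
  have h1 := congrArg (fun w => bcTr π (𝟙 (Red.bc π H) ≫ w)) e
  simp only [bcTr_map] at h1
  have : Epi (bcTr π (𝟙 (Red.bc π H))) := by
    have he : bcTr π (𝟙 (Red.bc π H)) = (Over.homMk (pullback.fst H.hom π) pullback.condition :
        (Over.map π).obj (Over.mk (pullback.snd H.hom π)) ⟶ H) := by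
      apply Over.OverMorphism.ext
      rw [bcTr_left]; simp
    rw [he]; exact epi_baseCov H
  exact (cancel_epi _).mp h1

/-- A morphism whose base change is a homomorphism is a homomorphism. -/
lemma isMonHom_of_bcMap [Flat π] [Surjective π] (u : H ⟶ G) (v : Red.bc π H ⟶ Red.bc π G) [IsMonHom v]
    (hv : (Over.pullback π).map u = v) : IsMonHom u := by
  refine isMonHom_of_pts u fun Y x y => ?_
  let k : (Over.map π).obj (Over.mk (pullback.snd Y.hom π)) ⟶ Y :=
    Over.homMk (pullback.fst Y.hom π) pullback.condition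
  have : Epi k := epi_baseCov Y
  rw [← cancel_epi k, MonObj.comp_mul, ← Category.assoc, ← Category.assoc, ← Category.assoc, MonObj.comp_mul,
    ← bcTr_bcUn π (k ≫ x), ← bcTr_bcUn π (k ≫ y), ← bcTr_mul, ← bcTr_map, ← bcTr_map, ← bcTr_map, hv,
    MonObj.mul_comp, bcTr_mul]

set_option backward.isDefEq.respectTransparency.types false in
/-- Two pullbacks of a central homomorphism agree on `S' ×_S S'`. -/
theorem pullHom_fst_eq_snd (hH : SGA3x.IsMultTypeFT H) [IsSeparated G.hom] [LocallyOfFinitePresentation G.hom]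
    (hconn : ∀ s : S, ConnectedSpace ↥(Limits.pullback π (Red.geomPt s)))
    (v : Red.bc π H ⟶ Red.bc π G) [IsMonHom v]
    (hc : ∀ (X : Over S') (g : X ⟶ Red.bc π G) (x : X ⟶ Red.bc π H), g * (x ≫ v) = (x ≫ v) * g) :
    pullHom (rfl : pullback.fst π π ≫ π = _) v = pullHom (pullback.condition (f := π) (g := π)).symm v := by
  let T := pullback π π
  let t : T ⟶ S := pullback.fst π π ≫ π
  let u₁ : Red.bc t H ⟶ Red.bc t G := pullHom (rfl : pullback.fst π π ≫ π = t) v
  let u₂ : Red.bc t H ⟶ Red.bc t G := pullHom (pullback.condition (f := π) (g := π)).symm v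
  have := isMonHom_pullHom (rfl : pullback.fst π π ≫ π = t) v
  have := isMonHom_pullHom (pullback.condition (f := π) (g := π)).symm v
  let w : Red.bc t H ⟶ Red.bc t G := u₁ * u₂⁻¹
  have hw : ∀ {Y : Over T} (g : Y ⟶ Red.bc t H), g ≫ w = (g ≫ u₁) * (g ≫ u₂)⁻¹ := fun g => by
    rw [MonObj.comp_mul, GrpObj.comp_inv]
  have : IsMonHom w := isMonHom_of_pts w fun Y x y => by
    rw [hw, hw, hw, MonObj.mul_comp, MonObj.mul_comp, _root_.mul_inv_rev]
    have c := (pullHom_central (pullback.condition (f := π) (g := π)).symm v hc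
      ((y ≫ u₁) * (y ≫ u₂)⁻¹) x)
    have c' : ((y ≫ u₁) * (y ≫ u₂)⁻¹) * (x ≫ u₂)⁻¹ = (x ≫ u₂)⁻¹ * ((y ≫ u₁) * (y ≫ u₂)⁻¹) :=
      (Commute.inv_right (c : Commute _ (x ≫ u₂))).eq
    calc ((x ≫ u₁) * (y ≫ u₁)) * ((y ≫ u₂)⁻¹ * (x ≫ u₂)⁻¹)
        = (x ≫ u₁) * (((y ≫ u₁) * (y ≫ u₂)⁻¹) * (x ≫ u₂)⁻¹) := by group
      _ = (x ≫ u₁) * ((x ≫ u₂)⁻¹ * ((y ≫ u₁) * (y ≫ u₂)⁻¹)) := by rw [c']
      _ = _ := by group
  have hiff : ∀ {Y : Over T} (g : Y ⟶ Red.bc t H), g ≫ w = 1 ↔ g ≫ u₁ = g ≫ u₂ := fun g => by
    rw [hw, mul_inv_eq_one]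
  have := multType_locallyOfFiniteType H hH
  have : LocallyOfFiniteType (Red.bc t H).hom :=
    MorphismProperty.pullback_snd (P := @LocallyOfFiniteType) H.hom t inferInstance
  have : LocallyOfFinitePresentation (Red.bc t G).hom :=
    MorphismProperty.pullback_snd (P := @LocallyOfFinitePresentation) G.hom t inferInstance
  have : IsSeparated (Red.bc t G).hom :=
    MorphismProperty.pullback_snd (P := @IsSeparated) G.hom t inferInstance
  obtain ⟨S'', f, hf, hsurj, hcov, hloc⟩ := hH
  obtain ⟨U, hU, hUiff, hUpts⟩ := trivial_locus_of_cover w (Or.inr inferInstance) (pullback.snd f t)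
    (cov_pullback f t hcov) (fun z => by
      obtain ⟨U, hU, M, inst, -, ⟨e⟩⟩ := hloc ((pullback.fst f t).base z)
      have h : (pullback.fst f t ∣_ U) ≫ U.ι ≫ f = ((pullback.fst f t ⁻¹ᵁ U).ι ≫ pullback.snd f t) ≫ t := by
        rw [← Category.assoc, morphismRestrict_ι, Category.assoc, Category.assoc, pullback.condition]
      exact ⟨_, hU, M, inst, (SplitPts.ofIso _ e).bc t _ _ h, SplitPts.Inj.bc (SplitPts.ofIso_inj e) t _ _ h⟩)
  have hdiag : ∀ s', (pullback.diagonal π).base s' ∈ U := fun s' => by
    refine (hUiff _).mpr fun Y g z hz => (hiff g).mpr ?_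
    let x := (pullback.diagonal π).base s'
    let φ := (pullback.diagonal π).residueFieldMap s'
    have hφ : Spec.map φ ≫ T.fromSpecResidueField x = S'.fromSpecResidueField s' ≫ pullback.diagonal π :=
      Scheme.Hom.SpecMap_residueFieldMap_fromSpecResidueField _ _
    have : Flat (Spec.map φ) := flat_specMap_field _ _ φ.hom
    have : Surjective (Spec.map φ) := surjective_specMap_field _ _ φ.hom
    let a : Over.mk (pullback.fst z (Spec.map φ) ≫ Y.hom) ⟶ Y := Over.homMk (pullback.fst _ _)
    have : Epi a.left := Flat.epi_of_flat_of_surjective (pullback.fst z (Spec.map φ))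
    have : Epi a := Over.epi_of_epi_left a
    rw [← cancel_epi a, ← Category.assoc, ← Category.assoc]
    refine pullHom_congr _ _ v ?_ _
    show (pullback.fst z (Spec.map φ) ≫ Y.hom) ≫ pullback.fst π π =
      (pullback.fst z (Spec.map φ) ≫ Y.hom) ≫ pullback.snd π π
    rw [← hz, pullback.condition_assoc]
    simp only [Category.assoc]
    rw [reassoc_of% hφ, reassoc_of% hφ]
    erw [pullback.diagonal_fst, pullback.diagonal_snd]
  refine (Category.id_comp u₁).symm.trans (((hiff (𝟙 _)).mp ?_).trans (Category.id_comp u₂))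
  exact hUpts _ (𝟙 _) fun x _ => clopen_eq_top π hconn U hU hdiag x

set_option backward.isDefEq.respectTransparency.types false in
/-- Central homomorphisms descend along fpqc covers with geometrically connected fibres. -/
theorem exists_descend_central (hH : SGA3x.IsMultTypeFT H) [IsSeparated G.hom] [LocallyOfFinitePresentation G.hom]
    [Flat π] [Surjective π]
    (hcov : ∀ V : S.Opens, IsAffineOpen V → ∃ W : S'.Opens, IsCompact (W : Set S') ∧ π.base '' (W : Set S') = (V : Set S))
    (hconn : ∀ s : S, ConnectedSpace ↥(Limits.pullback π (Red.geomPt s)))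
    (v : Red.bc π H ⟶ Red.bc π G) [IsMonHom v]
    (hc : ∀ (X : Over S') (g : X ⟶ Red.bc π G) (x : X ⟶ Red.bc π H), g * (x ≫ v) = (x ≫ v) * g) :
    ∃ u : H ⟶ G, IsMonHom u ∧ (Over.pullback π).map u = v := by
  let q : (Over.map π).obj (Red.bc π H) ⟶ H := bcTr π (𝟙 _)
  have hql : q.left = pullback.fst H.hom π := (bcTr_left π _).trans (Category.id_comp _)
  have : EffectiveEpi q.left := by
    rw [hql, ← pullbackSymmetry_hom_comp_snd]
    have h1 : EffectiveEpi (pullback.snd π H.hom) := effectiveEpi_of_cov _ (cov_pullback π H.hom hcov)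
    have : Flat ((pullbackSymmetry H.hom π).hom ≫ pullback.snd π H.hom) := by
      rw [pullbackSymmetry_hom_comp_snd]; infer_instance
    refine effectiveEpi_of_cov _ fun V hV => ?_
    obtain ⟨W, hW, hWV⟩ := cov_pullback π H.hom hcov V hV
    refine ⟨(pullbackSymmetry H.hom π).hom ⁻¹ᵁ W, (pullbackSymmetry H.hom π).hom.homeomorph.isCompact_preimage.mpr hW, ?_⟩
    rw [Scheme.Hom.comp_base, TopCat.coe_comp, Set.image_comp]
    refine Eq.trans (congrArg _ (Set.image_preimage_eq _ ?_)) hWV
    exact (pullbackSymmetry H.hom π).hom.homeomorph.surjective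
  obtain ⟨u, hu, -⟩ := GrpdLib.GrpOver.existsUnique_desc q (bcTr π v) fun X a b e => by
    let pa : X.left ⟶ S' := a.left ≫ (Red.bc π H).hom
    let pb : X.left ⟶ S' := b.left ≫ (Red.bc π H).hom
    have hpa : pa ≫ π = X.hom := (Category.assoc _ _ _).trans (Over.w a)
    have hpb : pb ≫ π = X.hom := (Category.assoc _ _ _).trans (Over.w b)
    let c : X.left ⟶ pullback π π := pullback.lift pa pb (hpa.trans hpb.symm)
    let t : pullback π π ⟶ S := pullback.fst π π ≫ π
    let Y : Over (pullback π π) := Over.mk c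
    let i : (Over.map t).obj Y ≅ X := Over.isoMk (Iso.refl _) ((pullback.lift_fst_assoc _ _ _ _).trans hpa).symm
    let x : Y ⟶ Red.bc t H := bcUn t (i.hom ≫ a ≫ q)
    have key := congrArg (fun w => bcTr t (x ≫ w)) (pullHom_fst_eq_snd hH hconn v hc)
    simp only [bcTr_comp_pullHom] at key
    let a' : (Over.map (pullback.fst π π)).obj Y ⟶ Red.bc π H := Over.homMk a.left (pullback.lift_fst _ _ _).symm
    let b' : (Over.map (pullback.snd π π)).obj Y ⟶ Red.bc π H := Over.homMk b.left (pullback.lift_snd _ _ _).symm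
    have hae : bcTr π a' = (castIso (rfl : pullback.fst π π ≫ π = t) Y).hom ≫ bcTr t x := by
      rw [bcTr_bcUn]
      apply Over.OverMorphism.ext
      simp [castIso, i, hql, a', bcTr_left]
    have hbe : bcTr π b' = (castIso (pullback.condition (f := π) (g := π)).symm Y).hom ≫ bcTr t x := by
      rw [bcTr_bcUn]
      apply Over.OverMorphism.ext
      rw [e]
      simp [castIso, i, hql, b', bcTr_left]
    rw [← hae, ← hbe, bcUn_bcTr, bcUn_bcTr] at key
    have k := congrArg CommaMorphism.left key
    apply Over.OverMorphism.ext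
    simpa [castIso, bcTr_left, a', b'] using k
  have hv : (Over.pullback π).map u = v := by
    refine bcTr_injective π ?_
    have := bcTr_map π (𝟙 (Red.bc π H)) u
    rw [Category.id_comp] at this
    exact this.trans hu
  exact ⟨u, isMonHom_of_bcMap u v hv, hv⟩

end Groth.Agent.DiagRig
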