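import Groth.Agent.DiagRig.LocApps
import Mathlib.Topology.Sober

/-! A homomorphism into an irreducible group over a field which is central on a dense open is central. -/

universe u

open CategoryTheory MonoidalCategory CartesianMonoidalCategory MonObj GrpObj AlgebraicGeometry Limits

noncomputable section

namespace Groth.Agent.DiagRig

lemma universallyOpen_to_field {k : Type u} [Field k] {X : Scheme.{u}} (f : X ⟶ Spec (CommRingCat.of k)) :
    UniversallyOpen f := by
  have : Subsingleton (Spec (CommRingCat.of k) : Scheme.{u}) := inferInstanceAs (Subsingleton (PrimeSpectrum k))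
  infer_instance

/-- Over a field, centrality on points of an open set containing the generic point gives centrality. -/
theorem central_of_open {k : Type u} [Field k] {H G : Over (Spec (CommRingCat.of k))} [GrpObj H] [GrpObj G]
    [IrreducibleSpace G.left] (u : H ⟶ G) [IsMonHom u]
    [LocallyOfFiniteType G.hom] (W : G.left.Opens) (hW : genericPoint G.left ∈ W)
    (hc : ∀ (Y : Over (Spec (CommRingCat.of k))) (y : Y ⟶ G) (h : Y ⟶ H), Set.range y.left.base ⊆ W →
      (h ≫ u) * y = y * (h ≫ u))
    (Y : Over (Spec (CommRingCat.of k))) (y : Y ⟶ G) (h : Y ⟶ H) : (h ≫ u) * y = y * (h ≫ u) := by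
  let P := Y ⊗ G
  let a : P ⟶ G := snd Y G
  let b : P ⟶ G := a⁻¹ * (fst Y G ≫ y)
  let σ : P ⟶ P := lift (fst Y G) ((fst Y G ≫ y) * a⁻¹)
  let O : P.left.Opens := (a.left ⁻¹ᵁ W) ⊓ (b.left ⁻¹ᵁ W)
  have hsurj : ∀ w : Y.left, ∃ p ∈ O, (fst Y G).left.base p = w := by
    intro w
    obtain ⟨p₀, hp₀, hp₀'⟩ := Scheme.Pullback.exists_preimage_pullback (f := Y.hom) (g := G.hom) w
      (genericPoint G.left) (Subsingleton.elim (α := PrimeSpectrum k) _ _)
    -- a point of the fibre over `w` sent by `b` to the generic point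
    let σ' : P ⟶ P := lift (fst Y G) ((fst Y G ≫ y) * a⁻¹)
    have hσ : σ' ≫ b = a := by
      simp [σ', b, a, MonObj.comp_mul, GrpObj.comp_inv]
    let p₁ := σ'.left.base p₀
    have hp₁b : b.left.base p₁ = genericPoint G.left := by
      show (σ'.left ≫ b.left).base p₀ = _
      rw [← Over.comp_left, hσ]
      exact hp₀'
    have hp₁w : (fst Y G).left.base p₁ = w := by
      show (σ'.left ≫ (fst Y G).left).base p₀ = _
      rw [← Over.comp_left, lift_fst]
      exact hp₀
    -- the fibre over `w`
    let g : Spec (Y.left.residueField w) ⟶ Spec (CommRingCat.of k) := Y.left.fromSpecResidueField w ≫ Y.hom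
    let F := pullback g G.hom
    have : UniversallyOpen g := universallyOpen_to_field g
    have : UniversallyOpen (pullback.snd g G.hom) := inferInstance
    let jw : F ⟶ P.left := pullback.lift (pullback.fst _ _ ≫ Y.left.fromSpecResidueField w) (pullback.snd _ _) (by
      rw [Category.assoc]; exact pullback.condition)
    have hj1 : jw ≫ (fst Y G).left = pullback.fst _ _ ≫ Y.left.fromSpecResidueField w := pullback.lift_fst _ _ _
    have hj2 : jw ≫ a.left = pullback.snd _ _ := pullback.lift_snd _ _ _
    let sq : IsPullback jw (pullback.fst g G.hom) (fst Y G).left (Y.left.fromSpecResidueField w) := by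
      refine IsPullback.of_right ?_ hj1 (IsPullback.of_hasPullback Y.hom G.hom).flip
      show IsPullback (jw ≫ (snd Y G).left) (pullback.fst g G.hom) G.hom _
      rw [show jw ≫ (snd Y G).left = pullback.snd g G.hom from hj2]
      exact (IsPullback.of_hasPullback g G.hom).flip
    obtain ⟨q₁, hq₁⟩ : p₁ ∈ Set.range jw.base := by
      obtain ⟨q, hq, -⟩ := Scheme.Pullback.exists_preimage_pullback (f := (fst Y G).left)
        (g := Y.left.fromSpecResidueField w) p₁ (IsLocalRing.closedPoint (Y.left.residueField w))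
        (hp₁w.trans (Scheme.fromSpecResidueField_apply w _).symm)
      refine ⟨sq.isoPullback.inv.base q, ?_⟩
      rw [← Scheme.Hom.comp_apply, sq.isoPullback_inv_fst]
      exact hq
    let N : Set F := jw.base ⁻¹' (b.left ⁻¹ᵁ W : P.left.Opens)
    have hN : IsOpen N := (b.left ⁻¹ᵁ W).isOpen.preimage jw.continuous
    have hne : q₁ ∈ N := by
      show b.left.base (jw.base q₁) ∈ W
      rw [hq₁, hp₁b]
      exact hW
    obtain ⟨q, hqN, hqη⟩ : genericPoint G.left ∈ (pullback.snd g G.hom).base '' N :=
      (genericPoint_spec G.left).mem_open_set_iff ((pullback.snd g G.hom).isOpenMap N hN) |>.mpr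
        ⟨_, Set.mem_univ _, q₁, hne, rfl⟩
    refine ⟨jw.base q, ⟨?_, hqN⟩, ?_⟩
    · show a.left.base (jw.base q) ∈ W
      rw [← Scheme.Hom.comp_apply, hj2, hqη]
      exact hW
    · rw [← Scheme.Hom.comp_apply, hj1, Scheme.Hom.comp_apply, Scheme.fromSpecResidueField_apply]
  let j : Over.mk (O.ι ≫ P.hom) ⟶ P := Over.homMk O.ι
  let π := j ≫ fst Y G
  have hπs : Surjective π.left := ⟨fun w => by
    obtain ⟨p, hp, hw⟩ := hsurj w
    exact ⟨⟨p, hp⟩, hw⟩⟩
  have hπf : Flat π.left := by
    have : Flat G.hom := inferInstance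
    show Flat (O.ι ≫ (pullback.fst Y.hom G.hom))
    infer_instance
  have : Epi π.left := Flat.epi_of_flat_of_surjective π.left
  have : Epi π := Over.epi_of_epi_left π
  rw [← cancel_epi π, MonObj.comp_mul, MonObj.comp_mul, ← Category.assoc π h u]
  have hy : π ≫ y = (j ≫ a) * (j ≫ b) := by
    rw [← MonObj.comp_mul]
    simp [b, π, ← _root_.mul_assoc]
  have h1 := hc _ (j ≫ a) (π ≫ h) (by rintro _ ⟨z, rfl⟩; exact z.2.1)
  have h2 := hc _ (j ≫ b) (π ≫ h) (by rintro _ ⟨z, rfl⟩; exact z.2.2)
  rw [hy, ← _root_.mul_assoc, h1, _root_.mul_assoc, h2, _root_.mul_assoc]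

end Groth.Agent.DiagRig
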