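import Groth.Prelude.Def_TwC
import Groth.Agent.FpqcDesc.Props
import Groth.Agent.AlgSpCov.SchemeDescent

/-! Properties checked on the pieces of an fpqc covering of the target. -/

universe u

open CategoryTheory AlgebraicGeometry Limits MorphismProperty

noncomputable section

namespace Groth.Agent.DiagRig

variable {S X : Scheme.{u}}

/-- A property local on the target and descending along fpqc maps holds for `p : X ⟶ S` if it holds after base change
to the members of a Zariski covering of the source of one fpqc covering of `S`. -/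
theorem of_fpqc_locally (P : MorphismProperty Scheme.{u}) [IsZariskiLocalAtTarget P] [P.IsStableUnderBaseChange]
    [P.DescendsAlong (@Surjective ⊓ @Flat ⊓ @QuasiCompact)] (p : X ⟶ S) {S' : Scheme.{u}} (f : S' ⟶ S)
    [Flat f] (hcov : ∀ V : S.Opens, IsAffineOpen V → ∃ W : S'.Opens, IsCompact (W : Set S') ∧
      f.base '' (W : Set S') = (V : Set S))
    (hloc : ∀ s' : S', ∃ U : S'.Opens, s' ∈ U ∧ P (pullback.snd p (U.ι ≫ f))) : P p := by
  have hS' : P (pullback.snd p f) := by
    choose U hU hPU using hloc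
    refine IsZariskiLocalAtTarget.of_iSup_eq_top U (top_le_iff.mp fun s' _ =>
      TopologicalSpace.Opens.mem_iSup.mpr ⟨s', hU s'⟩) fun s' => ?_
    have sq : IsPullback ((pullback.snd p f ⁻¹ᵁ U s').ι ≫ pullback.fst p f) (pullback.snd p f ∣_ U s')
        p ((U s').ι ≫ f) :=
      (isPullback_morphismRestrict (pullback.snd p f) (U s')).flip.paste_horiz (IsPullback.of_hasPullback _ _)
    rw [← sq.isoPullback_hom_snd, P.cancel_left_of_respectsIso]
    exact hPU s'
  refine IsZariskiLocalAtTarget.of_iSup_eq_top _ (iSup_affineOpens_eq_top S) fun V => ?_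
  obtain ⟨W, hWc, hW⟩ := hcov V.1 V.2
  have hWV : W ≤ f ⁻¹ᵁ V.1 := fun x hx => hW.le ⟨x, hx, rfl⟩
  let g : (W : Scheme.{u}) ⟶ (V.1 : Scheme.{u}) := f.resLE V.1 W hWV
  have hg : g ≫ V.1.ι = W.ι ≫ f := f.resLE_comp_ι hWV
  have : CompactSpace W := isCompact_iff_compactSpace.mp hWc
  have : IsAffine V.1 := V.2
  have hqc : QuasiCompact g := inferInstance
  have hflat : Flat g := by
    show Flat (S'.homOfLE hWV ≫ f ∣_ V.1)
    infer_instance
  have hsurj : Surjective g := ⟨fun v => by
    obtain ⟨x, hx, hxv⟩ := hW.ge v.2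
    exact ⟨⟨x, hx⟩, Subtype.ext ((congr(($hg).base ⟨x, hx⟩)).trans hxv)⟩⟩
  refine MorphismProperty.of_isPullback_of_descendsAlong (Q := @Surjective ⊓ @Flat ⊓ @QuasiCompact) (P := P)
    (f := g) (IsPullback.of_hasPullback g (p ∣_ V.1)) ⟨⟨hsurj, hflat⟩, hqc⟩ ?_
  have sq : IsPullback (pullback.snd g (p ∣_ V.1) ≫ (p ⁻¹ᵁ V.1).ι) (pullback.fst g (p ∣_ V.1))
      p (W.ι ≫ f) :=
    hg ▸ (IsPullback.of_hasPullback g (p ∣_ V.1)).flip.paste_horiz (isPullback_morphismRestrict p V.1).flip
  have hWP : P (pullback.snd p (W.ι ≫ f)) := by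
    have sq' : IsPullback (pullback.fst (pullback.snd p f) W.ι ≫ pullback.fst p f)
        (pullback.snd (pullback.snd p f) W.ι) p (W.ι ≫ f) :=
      (IsPullback.of_hasPullback _ _).paste_horiz (IsPullback.of_hasPullback _ _)
    rw [← P.cancel_left_of_respectsIso sq'.isoPullback.hom, sq'.isoPullback_hom_snd]
    exact MorphismProperty.pullback_snd _ _ hS'
  rw [← sq.isoPullback_hom_snd, P.cancel_left_of_respectsIso]
  exact hWP

end Groth.Agent.DiagRig
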