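import Groth.Agent.DiagRig.HomConstRep
import Groth.Agent.AlgSp.DescentSepLqf
import Groth.Agent.TwCLib.Etale
import Groth.Prelude.Def_TwC

/-!
# Homomorphisms between quasi-isotrivial groups of multiplicative type form a twisted constant scheme
-/

universe u

open CategoryTheory MonoidalCategory CartesianMonoidalCategory MonObj GrpObj AlgebraicGeometry Limits

noncomputable section

namespace Groth.Agent.DiagRig.HomRep

set_option backward.isDefEq.respectTransparency.types false

variable {S : Scheme.{u}} {G H : Over S} [GrpObj G] [GrpObj H]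

section Cover

variable {κ : Type u} (c : κ → Chart G H)

lemma piece_hom_eq (s : κ) :
    (piece c s).hom = (c s).p := by
  show Spec.map (CommRingCat.ofHom (algebraMap (c s).R (c s).R)) ≫ (c s).p = _
  rw [Algebra.algebraMap_self, CommRingCat.ofHom_id, Spec.map_id, Category.id_comp]

lemma etale_base (he : ∀ s, Etale (c s).p) : Etale (base c).hom :=
  IsZariskiLocalAtSource.sigmaDesc fun s => by rw [piece_hom_eq]; exact he s

lemma surjective_base (hs : ∀ x : S, ∃ s, x ∈ Set.range (c s).p) : Surjective (base c).hom := by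
  refine ⟨fun x => ?_⟩
  obtain ⟨s, y, hy⟩ := hs x
  refine ⟨(inB c s).left y, ?_⟩
  rw [← Scheme.Hom.comp_apply, Over.w (inB c s), piece_hom_eq]
  exact hy

lemma proj_left_inA (k : Idx c) : (inA c k).left ≫ (proj c).left = (inB c k.1).left :=
  congrArg CommaMorphism.left (inA_proj c k)

lemma isSeparated_proj : IsSeparated (proj c).left := by
  let q := (proj c).left
  let U : Idx c → Idx c → Set (pullback q q : Scheme.{u}) := fun i j =>
    (pullback.fst q q).base ⁻¹' Set.range (inA c i).left ∩ (pullback.snd q q).base ⁻¹' Set.range (inA c j).left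
  have hrange : Set.range (pullback.diagonal q) = (⋃ (i : Idx c) (j : Idx c) (_ : i ≠ j), U i j)ᶜ := by
    ext z
    simp only [Set.mem_compl_iff, Set.mem_iUnion, not_exists]
    constructor
    · rintro ⟨x, rfl⟩ i j hij ⟨⟨a, ha⟩, ⟨b, hb⟩⟩
      rw [← Scheme.Hom.comp_apply, pullback.diagonal_fst] at ha
      rw [← Scheme.Hom.comp_apply, pullback.diagonal_snd] at hb
      exact hij (eq_of_inA_eq c (ha.trans hb.symm))
    · intro h
      obtain ⟨i, a, ha⟩ := exists_inA c ((pullback.fst q q).base z)
      obtain ⟨j, b, hb⟩ := exists_inA c ((pullback.snd q q).base z)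
      obtain rfl : i = j := by
        by_contra hij
        exact h i j hij ⟨⟨a, ha⟩, ⟨b, hb⟩⟩
      let e := (inA c i).left
      have hz : z ∈ Set.range (pullback.map (e ≫ q) (e ≫ q) q q e e (𝟙 _) (by simp) (by simp)) := by
        rw [Scheme.Pullback.range_map]
        exact ⟨⟨a, ha⟩, ⟨b, hb⟩⟩
      obtain ⟨w, rfl⟩ := hz
      have : IsOpenImmersion (inB c i.1).left := openImm_inB c i.1
      have hfs : pullback.fst (e ≫ q) (e ≫ q) = pullback.snd (e ≫ q) (e ≫ q) := by
        have h3 := pullback.condition (f := e ≫ q) (g := e ≫ q)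
        have : Mono (e ≫ q) := by rw [proj_left_inA]; infer_instance
        exact (cancel_mono (e ≫ q)).1 h3
      have e' : pullback.map (e ≫ q) (e ≫ q) q q e e (𝟙 _) (by simp) (by simp) =
          pullback.fst (e ≫ q) (e ≫ q) ≫ e ≫ pullback.diagonal q := by
        refine pullback.hom_ext ((pullback.lift_fst _ _ _).trans (by simp)) ?_
        simp only [pullback.map, pullback.lift_snd, Category.assoc, pullback.diagonal_snd, Category.comp_id]
        rw [hfs]
      exact ⟨_, (congr($e' w)).symm⟩
  refine ⟨IsClosedImmersion.of_isPreimmersion _ ?_⟩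
  rw [hrange]
  refine (isOpen_iUnion fun i => isOpen_iUnion fun j => isOpen_iUnion fun _ => ?_).isClosed_compl
  have := openImm_inA c i
  have := openImm_inA c j
  exact (((inA c i).left.isOpenEmbedding.isOpen_range.preimage (pullback.fst q q).base.hom.continuous)).inter
    ((inA c j).left.isOpenEmbedding.isOpen_range.preimage (pullback.snd q q).base.hom.continuous)

lemma etale_proj : Etale (proj c).left :=
  IsZariskiLocalAtSource.sigmaDesc fun k => have := openImm_inB c k.1; inferInstanceAs (Etale (inB c k.1).left)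

/-- Representability from a covering by charts. -/
theorem exists_rep (he : ∀ s, Etale (c s).p) (hs : ∀ x : S, ∃ s, x ∈ Set.range (c s).p) :
    ∃ A : Over S, Nonempty ((AlgSp.yon S).obj A ≅ HomSheaf.sheaf G H) := by
  let hT : IsTerminal (Over.mk (𝟙 S)) := Over.mkIdTerminal
  let hE := hT.isTerminalObj (AlgSp.yon S)
  obtain ⟨u, -, sq⟩ := exists_isPullback c hE
  have hb : hE.from ((AlgSp.yon S).obj (base c)) = (AlgSp.yon S).map (hT.from (base c)) := hE.hom_ext _ _
  have hleft : (hT.from (base c)).left = (base c).hom := by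
    have := Over.w (hT.from (base c))
    exact (Category.comp_id _).symm.trans this
  have := etale_base c he
  have := surjective_base c hs
  have : Sheaf.IsLocallySurjective (hE.from ((AlgSp.yon S).obj (base c))) := by
    rw [hb]
    exact Groth.Agent.AlgSp.isLocallySurjective_of_repWith _
      ((AlgSp.repWith_yon_map_iff _ _).2 (by rw [hleft]; infer_instance))
      ((AlgSp.repWith_yon_map_iff _ _).2 (by rw [hleft]; infer_instance))
      ((AlgSp.repWith_yon_map_iff _ _).2 (by rw [hleft]; infer_instance))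
  have := etale_proj c
  have := isSeparated_proj c
  have : LocallyQuasiFinite (proj c).left :=
    IsZariskiLocalAtSource.sigmaDesc fun k => have := openImm_inB c k.1; inferInstanceAs (LocallyQuasiFinite (inB c k.1).left)
  have hrep : AlgSp.RepWith (@IsSeparated ⊓ @LocallyQuasiFinite ⊓ @LocallyOfFiniteType) ((AlgSp.yon S).map (proj c)) :=
    (AlgSp.repWith_yon_map_iff _ _).2 ⟨⟨inferInstance, inferInstance⟩, inferInstance⟩
  obtain ⟨ha, -⟩ := Groth.Agent.AlgSp.repWith_sepLqf_of_baseChange _ _ sq hrep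
  have sq' := ha.isPullback (𝟙 ((AlgSp.yon S).obj (Over.mk (𝟙 S))))
  have := sq'.isIso_fst_of_isIso
  exact ⟨_, ⟨asIso (ha.fst (𝟙 _))⟩⟩

end Cover

/-- The universal family of an object representing the sheaf of homomorphisms. -/
theorem representsHom_of_iso {A : Over S} (e : (AlgSp.yon S).obj A ≅ HomSheaf.sheaf G H) :
    AutFam.RepresentsHom G H A (HomSheaf.famOf G H e.hom) := by
  refine ⟨HomSheaf.isHomFamily_famOf G H _, fun T φ hφ => ?_⟩
  obtain ⟨a, ha⟩ := (AlgSp.yon S).map_surjective (HomSheaf.sec G H φ hφ ≫ e.inv)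
  refine ⟨a, ?_, fun a' ha' => (AlgSp.yon S).map_injective ?_⟩
  · show (G ◁ a) ≫ _ = φ
    rw [← HomSheaf.famOf_map, ha, Category.assoc, e.inv_hom_id, Category.comp_id, HomSheaf.famOf_sec]
  · have e1 : (AlgSp.yon S).map a' ≫ e.hom = HomSheaf.sec G H φ hφ := HomSheaf.hom_ext (by
      rw [HomSheaf.famOf_map, HomSheaf.famOf_sec]; exact ha')
    rw [ha, ← e1, Category.assoc, e.hom_inv_id, Category.comp_id]

/-- Over a chart the representing scheme is constant, with the constant families as sections. -/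
theorem exists_bc_iso {A : Over S} (e : (AlgSp.yon S).obj A ≅ HomSheaf.sheaf G H) (c : Chart G H) :
    ∃ (i : Red.bc c.p A ≅ TwC.const (Spec c.R) (Idx (fun _ : PUnit.{u + 1} => c))),
      ∀ k : Idx (fun _ : PUnit.{u + 1} => c), ∃ x : HomChart.tst c.p (c.R : Type u) ⟶ A,
        x.left = Sigma.ι (fun _ : Idx (fun _ : PUnit.{u + 1} => c) => Spec c.R) k ≫ i.inv.left ≫
          pullback.fst A.hom c.p ∧
        (G ◁ x) ≫ HomSheaf.famOf G H e.hom = HomConst.fam c.hP c.P' k.2.down := by
  let c' : PUnit.{u + 1} → Chart G H := fun _ => c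
  let hT : IsTerminal (Over.mk (𝟙 S)) := Over.mkIdTerminal
  let hE := hT.isTerminalObj (AlgSp.yon S)
  obtain ⟨u, hu, sq⟩ := exists_isPullback c' hE
  obtain ⟨α, hα⟩ := (AlgSp.yon S).map_surjective (u ≫ e.inv)
  have sqY : IsPullback ((AlgSp.yon S).map α) ((AlgSp.yon S).map (proj c')) ((AlgSp.yon S).map (hT.from A))
      ((AlgSp.yon S).map (hT.from (base c'))) := by
    refine IsPullback.of_iso sq (Iso.refl _) e.symm (Iso.refl _) (Iso.refl _) ?_ ?_ ?_ ?_
    · simp [hα]
    · simp
    · exact hE.hom_ext _ _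
    · exact hE.hom_ext _ _
  have sqO : IsPullback α (proj c') (hT.from A) (hT.from (base c')) := sqY.of_map (AlgSp.yon S) (hT.hom_ext _ _)
  have sqL := sqO.map (Over.forget S)
  have hA : (hT.from A).left = A.hom := (Category.comp_id _).symm.trans (Over.w (hT.from A))
  have hB : (hT.from (base c')).left = (base c').hom := (Category.comp_id _).symm.trans (Over.w (hT.from (base c')))
  let q : (base c').left ⟶ Spec c.R := Sigma.desc fun _ : PUnit.{u + 1} => 𝟙 (Spec c.R)
  have hq : q ≫ c.p = (base c').hom := Sigma.hom_ext _ _ fun s => by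
    have e1 : Sigma.ι (fun s => (piece c' s).left) s ≫ q = 𝟙 (Spec c.R) := Sigma.ι_desc _ _
    have e2 : Sigma.ι (fun s => (piece c' s).left) s ≫ (base c').hom = (piece c' s).hom := Sigma.ι_desc _ _
    rw [e2, ← Category.assoc, e1, piece_hom_eq]
    exact Category.id_comp c.p
  have hiso : IsIso q := ⟨Sigma.ι (fun _ : PUnit.{u + 1} => Spec c.R) PUnit.unit,
    Sigma.hom_ext _ _ fun s => by
      have e1 : Sigma.ι (fun s => (piece c' s).left) s ≫ q = 𝟙 (Spec c.R) := Sigma.ι_desc _ _
      rw [← Category.assoc, e1]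
      exact (Category.id_comp _).trans (Category.comp_id _).symm,
    Sigma.ι_desc _ _⟩
  let w : (TwC.const (Spec c.R) (Idx c')).left ⟶ Spec c.R := (TwC.const (Spec c.R) (Idx c')).hom
  have hw : (proj c').left ≫ q = w := Sigma.hom_ext _ _ fun k => by
    have e1 : Sigma.ι (fun k : Idx c' => (piece c' k.1).left) k ≫ (proj c').left =
        Sigma.ι (fun s => (piece c' s).left) k.1 := Sigma.ι_desc _ _
    rw [← Category.assoc, e1]
    exact (Sigma.ι_desc (f := fun _ : PUnit.{u + 1} => Spec c.R) (fun _ => 𝟙 (Spec c.R)) k.1).trans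
      (Sigma.ι_desc (f := fun _ : Idx c' => Spec c.R) (fun _ => 𝟙 (Spec c.R)) k).symm
  have sqF : IsPullback α.left w A.hom c.p := by
    refine IsPullback.of_iso sqL (Iso.refl _) (Iso.refl _) (@asIso _ _ _ _ q hiso) (Iso.refl _) ?_ ?_ ?_ ?_
    · simp
    · simpa using hw
    · simpa using hA
    · simpa [hB] using hq.symm
  let i : Red.bc c.p A ≅ TwC.const (Spec c.R) (Idx c') :=
    (Over.isoMk sqF.isoPullback sqF.isoPullback_hom_snd).symm
  refine ⟨i, fun k => ⟨inA c' k ≫ α, ?_, ?_⟩⟩
  · show Sigma.ι (fun k : Idx c' => (piece c' k.1).left) k ≫ α.left = _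
    congr 1
    exact sqF.isoPullback_hom_fst.symm
  · rw [← HomSheaf.famOf_map, Functor.map_comp, Category.assoc, hα, Category.assoc, e.inv_hom_id,
      Category.comp_id, hu, famA, HomSheaf.famOf_sec]

/-- The functor of homomorphisms is represented by a twisted constant scheme. -/
theorem exists_twConst (hc : ∀ x : S, ∃ c : Chart G H, Etale c.p ∧ x ∈ Set.range c.p) :
    ∃ A : Over S, Nonempty ((AlgSp.yon S).obj A ≅ HomSheaf.sheaf G H) ∧ TwC.IsTwConst TwC.Topology.etale A := by
  choose c he hx using hc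
  obtain ⟨A, ⟨e⟩⟩ := exists_rep c he (fun x => ⟨x, hx x⟩)
  refine ⟨A, ⟨e⟩, fun x => ?_⟩
  obtain ⟨i, -⟩ := exists_bc_iso e (c x)
  exact ⟨Spec (c x).R, (c x).p, he x, hx x, _, ⟨i⟩⟩

end Groth.Agent.DiagRig.HomRep
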