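import Groth.Agent.DiagRig.QiChart
import Groth.Agent.DiagRig.HomRepresent
import Groth.Agent.DiagRig.CentralLift
import Groth.Agent.S5268
import Groth.Agent.S9812
import Groth.Agent.GITLib.NormalSection
import Groth.Agent.TwCLib.Etale

/-!
# Homomorphisms into groups of multiplicative type extend from the generic point of a normal base
-/

universe u

open CategoryTheory MonoidalCategory CartesianMonoidalCategory MonObj GrpObj AlgebraicGeometry Limits

noncomputable section

namespace Groth.Agent.DiagRig.GenericExtend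

set_option backward.isDefEq.respectTransparency.types false

variable {S S' : Scheme.{u}} (f : S' ⟶ S) {H G : Over S} [GrpObj H] [GrpObj G]

/-- The product with a scheme over `S` as a scheme over `S`. -/
def tr : H ⊗ Over.mk f ⟶ (Over.map f).obj (Red.bc f H) :=
  CategoryTheory.Over.homMk (𝟙 _) (by
    show 𝟙 _ ≫ pullback.snd H.hom f ≫ f = pullback.fst H.hom f ≫ H.hom
    rw [Category.id_comp]
    exact pullback.condition.symm)

omit [GrpObj H] in
lemma tr_canK : tr f (H := H) ≫ canK f H = fst H (Over.mk f) := by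
  ext1
  show 𝟙 _ ≫ (canK f H).left = _
  rw [Category.id_comp, canK_left]
  rfl

/-- A homomorphism over `S'` as a family of homomorphisms over `S`. -/
def fam (v : Red.bc f H ⟶ Red.bc f G) : H ⊗ Over.mk f ⟶ G := tr f ≫ bcTr f v

omit [GrpObj H] in
lemma fam_map (a : H ⟶ G) : fam f ((Over.pullback f).map a) = fst H (Over.mk f) ≫ a := by
  rw [fam, ← canK_comp, ← Category.assoc, tr_canK]

omit [GrpObj H] [GrpObj G] in
lemma fam_injective : Function.Injective (fam f : (Red.bc f H ⟶ Red.bc f G) → _) := fun a b h => by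
  have : IsIso ((Over.forget S).map (tr f (H := H))) := inferInstanceAs (IsIso (𝟙 _))
  have : IsIso (tr f (H := H)) := by
    have := isIso_of_reflects_iso (tr f (H := H)) (Over.forget S)
    exact this
  exact bcTr_injective f ((cancel_epi (tr f)).mp h)

theorem isHomFamily_fam (v : Red.bc f H ⟶ Red.bc f G) [IsMonHom v] : AutFam.IsHomFamily H G (fam f v) := by
  intro X g₁ g₂ t
  let X' : Over S' := Over.mk t.left
  let j : (Over.map f).obj X' ≅ X := CategoryTheory.Over.isoMk (Iso.refl _) (by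
    show 𝟙 _ ≫ X.hom = t.left ≫ f
    rw [Category.id_comp]
    exact (CategoryTheory.Over.w t).symm)
  have key : ∀ g : X ⟶ H, j.hom ≫ lift g t ≫ fam f v = bcTr f (bcUn f (j.hom ≫ g) ≫ v) := by
    intro g
    let y : X' ⟶ Red.bc f H := bcUn f (j.hom ≫ g)
    have e : j.hom ≫ lift g t ≫ tr f = (Over.map f).map y := by
      ext1
      apply pullback.hom_ext
      · have e1 := congrArg (fun w : (Over.map f).obj X' ⟶ H => w.left) (bcTr_bcUn f (j.hom ≫ g))
        rw [show bcTr f (bcUn f (j.hom ≫ g)) = (Over.map f).map y ≫ canK f H by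
          rw [← bcTr_comp, Category.comp_id]] at e1
        show ((j.hom.left ≫ (lift g t).left ≫ 𝟙 _) ≫ pullback.fst H.hom f) = y.left ≫ pullback.fst H.hom f
        rw [← canK_left]
        refine Eq.trans ?_ e1.symm
        rw [Category.comp_id, Category.assoc, canK_left]
        exact congrArg (j.hom.left ≫ ·) (congrArg (fun w : X ⟶ H => w.left) (lift_fst g t))
      · show ((j.hom.left ≫ (lift g t).left ≫ 𝟙 _) ≫ pullback.snd H.hom f) = y.left ≫ pullback.snd H.hom f
        rw [Category.comp_id, Category.assoc]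
        refine Eq.trans ?_ (CategoryTheory.Over.w y).symm
        refine Eq.trans (congrArg (j.hom.left ≫ ·)
          (congrArg (fun w : X ⟶ Over.mk f => w.left) (lift_snd g t))) ?_
        exact Category.id_comp _
    rw [fam, ← Category.assoc, ← Category.assoc, Category.assoc (j.hom), e, ← bcTr_comp]
  rw [← cancel_epi j.hom, key, MonObj.comp_mul, MonObj.comp_mul, key, key, bcUn_mul, MonObj.mul_comp,
    bcTr_mul]

variable {A : Over S} {υ : H ⊗ A ⟶ G} (hυ : AutFam.RepresentsHom H G A υ)

include hυ in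
/-- Homomorphisms over `S` are sections of the scheme of homomorphisms. -/
theorem exists_sec (a : H ⟶ G) [IsMonHom a] : ∃ s : 𝟙_ (Over S) ⟶ A,
    (H ◁ s) ≫ υ = fst H (𝟙_ (Over S)) ≫ a ∧
    ∀ (x : Over.mk f ⟶ A), (H ◁ x) ≫ υ = fam f ((Over.pullback f).map a) ↔ x.left = f ≫ s.left := by
  have ha : AutFam.IsHomFamily H G (fst H (𝟙_ (Over S)) ≫ a) := fun X g₁ g₂ t => by
    simp only [← Category.assoc, lift_fst, MonObj.mul_comp]
  obtain ⟨s, hs, -⟩ := hυ.2 _ _ ha
  refine ⟨s, hs, fun x => ?_⟩
  let t : Over.mk f ⟶ 𝟙_ (Over S) := toUnit _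
  have ht : (H ◁ (t ≫ s)) ≫ υ = fam f ((Over.pullback f).map a) := by
    rw [fam_map, MonoidalCategory.whiskerLeft_comp, Category.assoc, hs, ← Category.assoc, whiskerLeft_fst]
  have htl : (t ≫ s).left = f ≫ s.left := by
    show t.left ≫ s.left = _
    congr 1
  constructor
  · intro hx
    have : IsMonHom (M := Red.bc f H) (N := Red.bc f G) ((Over.pullback f).map a) := isMonHom_bcMap f a
    obtain ⟨x', hx', hu⟩ := hυ.2 _ _ (isHomFamily_fam f ((Over.pullback f).map a))
    rw [hu x hx, ← hu _ ht, htl]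
  · intro hx
    rwa [show x = t ≫ s from CategoryTheory.Over.OverMorphism.ext (hx.trans htl.symm)]

include hυ in
/-- Sections of the scheme of homomorphisms are homomorphisms. -/
theorem exists_hom (s : S ⟶ A.left) (hs : s ≫ A.hom = 𝟙 S) :
    ∃ a : H ⟶ G, IsMonHom a ∧ ∀ (x : Over.mk f ⟶ A), x.left = f ≫ s →
      (H ◁ x) ≫ υ = fam f ((Over.pullback f).map a) := by
  let s' : 𝟙_ (Over S) ⟶ A := CategoryTheory.Over.homMk s hs
  let a : H ⟶ G := lift (𝟙 H) (toUnit H ≫ s') ≫ υ
  refine ⟨a, isMonHom_of_pts _ fun X g₁ g₂ => ?_, fun x hx => ?_⟩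
  · simp only [a, comp_lift_assoc, Category.comp_id]
    rw [show g₂ ≫ toUnit H ≫ s' = toUnit X ≫ s' by rw [← Category.assoc, comp_toUnit],
      show g₁ ≫ toUnit H ≫ s' = toUnit X ≫ s' by rw [← Category.assoc, comp_toUnit],
      show (g₁ * g₂) ≫ toUnit H ≫ s' = toUnit X ≫ s' by rw [← Category.assoc, comp_toUnit]]
    exact hυ.1 X g₁ g₂ _
  · rw [fam_map, comp_lift_assoc, Category.comp_id]
    congr 1
    apply CartesianMonoidalCategory.hom_ext
    · rw [whiskerLeft_fst, lift_fst]
    · rw [whiskerLeft_snd, lift_snd, ← Category.assoc]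
      ext1
      show _ ≫ x.left = (fst H (Over.mk f) ≫ toUnit H).left ≫ s
      rw [hx, ← Category.assoc]
      congr 1
      rw [show fst H (Over.mk f) ≫ toUnit H = snd H (Over.mk f) ≫ toUnit _ from toUnit_unique _ _]
      rfl

variable [IsIntegral S] [IsLocallyNoetherian S]
    (hnorm : ∀ x : ↥S, IsDomain (S.presheaf.stalk x) ∧ IsIntegrallyClosed (S.presheaf.stalk x))
    (hc : ∀ x : S, ∃ c : HomRep.Chart H G, Etale c.p ∧ x ∈ Set.range c.p)

instance isDominant_fromSpecStalk_genericPoint : IsDominant (S.fromSpecStalk (genericPoint S)) :=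
  ⟨fun y => (genericPoint_specializes y).mem_closed isClosed_closure
    (subset_closure ⟨_, Scheme.fromSpecStalk_closedPoint⟩)⟩

include hnorm hc in
/-- Over a normal integral base, a homomorphism over a reduced scheme dominated by the generic point
extends. -/
theorem exists_extend_of (q : S' ⟶ S) [AlgebraicGeometry.IsReduced S']
    (g : Spec (S.presheaf.stalk (genericPoint S)) ⟶ S') [IsDominant g] (hg : g ≫ q = S.fromSpecStalk (genericPoint S))
    (v : Red.bc q H ⟶ Red.bc q G) [IsMonHom v] :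
    ∃ a : H ⟶ G, IsMonHom a ∧ (Over.pullback q).map a = v := by
  let f := S.fromSpecStalk (genericPoint S)
  obtain ⟨A, ⟨e⟩, hA⟩ := HomRep.exists_twConst hc
  have hυ := HomRep.representsHom_of_iso e
  obtain ⟨x, hx, -⟩ := hυ.2 _ _ (isHomFamily_fam q v)
  obtain ⟨hsep, het⟩ := TwCLib.isSeparated_and_etale hA
  have hwx : x.left ≫ A.hom = q := CategoryTheory.Over.w x
  let x₁ : Spec (S.presheaf.stalk (genericPoint S)) ⟶ A.left := g ≫ x.left
  have hwx₁ : x₁ ≫ A.hom = f := by rw [Category.assoc, hwx, hg]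
  let p₀ : Spec (S.presheaf.stalk (genericPoint S)) := IsLocalRing.closedPoint _
  obtain ⟨U, hU, hfin⟩ := S5268.result
    (fun y => by
      have := (hnorm y).1
      have := (hnorm y).2
      exact S9812.result _) A hA (x₁ p₀)
  have hp : ∀ q, x₁ q = x₁ p₀ := fun q => congrArg x₁
    (Subsingleton.elim (α := PrimeSpectrum S.functionField) q p₀)
  have hr : Set.range x₁ ⊆ Set.range U.ι := by
    rw [Scheme.Opens.range_ι]
    rintro _ ⟨q, rfl⟩
    rw [hp, hU]
    exact mem_connectedComponent
  obtain ⟨s, hs, hgen⟩ := GITLib.exists_section_of_isIntegralHom (fun y => (hnorm y).2) (U.ι ≫ A.hom)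
    (IsOpenImmersion.lift U.ι x₁ hr) (by rw [← Category.assoc, IsOpenImmersion.lift_fac]; exact hwx₁)
  have : AlgebraicGeometry.IsReduced (Over.mk q).left := inferInstanceAs (AlgebraicGeometry.IsReduced S')
  have hxl : x.left = q ≫ s ≫ U.ι := by
    refine ext_of_isDominant_of_isSeparated A.hom ?_ g ?_
    · rw [hwx, Category.assoc, Category.assoc, hs]
      exact (Category.comp_id q).symm
    · rw [← Category.assoc g, hg, ← Category.assoc, hgen, IsOpenImmersion.lift_fac]
  obtain ⟨a, ha, hax⟩ := exists_hom q hυ (s ≫ U.ι) (by rw [Category.assoc]; exact hs)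
  exact ⟨a, ha, fam_injective q (by rw [← hax x hxl, hx])⟩

include hnorm hc in
/-- Over a normal integral base, a homomorphism at the generic point extends uniquely. -/
theorem existsUnique_extend
    (v : Red.bc (S.fromSpecStalk (genericPoint S)) H ⟶ Red.bc (S.fromSpecStalk (genericPoint S)) G) [IsMonHom v] :
    ∃! a : H ⟶ G, IsMonHom a ∧ (Over.pullback (S.fromSpecStalk (genericPoint S))).map a = v := by
  let f := S.fromSpecStalk (genericPoint S)
  obtain ⟨a, ha, hav⟩ := exists_extend_of hnorm hc f (𝟙 _) (Category.id_comp _) v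
  refine ⟨a, ⟨ha, hav⟩, fun b ⟨hb, hbv⟩ => ?_⟩
  obtain ⟨A, ⟨e⟩, hA⟩ := HomRep.exists_twConst hc
  have hυ := HomRep.representsHom_of_iso e
  obtain ⟨x, hx, -⟩ := hυ.2 _ _ (isHomFamily_fam f v)
  obtain ⟨hsep, het⟩ := TwCLib.isSeparated_and_etale hA
  obtain ⟨σ, hσ, hσx⟩ := exists_sec f hυ a
  obtain ⟨τ, hτ, hτx⟩ := exists_sec f hυ b
  have e1 : x.left = f ≫ σ.left := (hσx x).mp (by rw [hav]; exact hx)
  have e2 : x.left = f ≫ τ.left := (hτx x).mp (by rw [hbv]; exact hx)
  have : AlgebraicGeometry.IsReduced (𝟙_ (Over S)).left := inferInstanceAs (AlgebraicGeometry.IsReduced S)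
  have : IsDominant f := inferInstanceAs (IsDominant (S.fromSpecStalk (genericPoint S)))
  have hστ : σ = τ := CategoryTheory.Over.OverMorphism.ext (ext_of_isDominant_of_isSeparated A.hom
    ((CategoryTheory.Over.w σ).trans (CategoryTheory.Over.w τ).symm) f (e1.symm.trans e2))
  have e3 := congrArg (lift (𝟙 H) (toUnit H) ≫ ·) (hσ.symm.trans (hστ ▸ hτ))
  simp only [lift_fst_assoc, Category.id_comp] at e3
  exact e3.symm

end Groth.Agent.DiagRig.GenericExtend
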