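import Groth.Agent.DiagRig.Conj

/-! Averaging the defect of a morphism which is a homomorphism modulo a square-zero ideal. -/

universe u

open CategoryTheory MonoidalCategory CartesianMonoidalCategory MonObj GrpObj AlgebraicGeometry Limits
open scoped TensorProduct

noncomputable section

namespace Groth.Agent.DiagRig

variable {R : CommRingCat.{u}} {G H : Over (Spec R)} [GrpObj G] [GrpObj H]

/-- `F` of a product. -/
def mF (F : H ⟶ G) : H ⊗ H ⟶ G := (fst H H * snd H H) ≫ F

/-- The product of the values of `F`. -/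
def cF (F : H ⟶ G) : H ⊗ H ⟶ G := (fst H H ≫ F) * (snd H H ≫ F)

/-- The defect of multiplicativity. -/
def defect (F : H ⟶ G) {T : Type u} [CommRing T] [Algebra R T] (x y : specOver (R := R) T ⟶ H) :
    specOver (R := R) T ⟶ G :=
  (x ≫ F) * (y ≫ F) * ((x * y) ≫ F)⁻¹

lemma dev_lift (F : H ⟶ G) {T : Type u} [CommRing T] [Algebra R T] (x y : specOver (R := R) T ⟶ H) :
    dev (mF F) (cF F) (lift x y) = defect F x y := by
  rw [dev, mF, cF, MonObj.comp_mul, ← Category.assoc, ← Category.assoc, ← Category.assoc, lift_fst, lift_snd,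
    MonObj.comp_mul, lift_fst, lift_snd]
  rfl

omit [GrpObj G] [GrpObj H] in
lemma push_lift {T T' : Type u} [CommRing T] [Algebra R T] [CommRing T'] [Algebra R T'] (k : T →ₐ[R] T')
    (x y : specOver (R := R) T ⟶ H) : push k (lift x y) = lift (push k x) (push k y) :=
  comp_lift _ _ _

variable {J : Ideal R} (hJ : J * J = ⊥)

section Chart

variable {T : Type u} [CommRing T] [Algebra R T] {M : Type} [AddCommGroup M]
  (P : SplitPts (Spec.map (CommRingCat.ofHom (algebraMap R T)) : Spec (CommRingCat.of T) ⟶ Spec R) H M)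
  {T' : Type u} [CommRing T'] [Algebra R T'] [Algebra T T'] [IsScalarTower R T T']

/-- A point paired with the tautological point of a chart. -/
def zz (x : specOver (R := R) T' ⟶ H) : specOver (R := R) (MonoidAlgebra T' (Multiplicative M)) ⟶ H ⊗ H :=
  lift (push (scal (R := R) T' (Multiplicative M)) x) (gP P (MonoidAlgebra.of T' (Multiplicative M)))

/-- The average of the defect at `x`. -/
def IsAvg2 (F : H ⟶ G) (x : specOver (R := R) T' ⟶ H) (g : specOver (R := R) T' ⟶ G) : Prop :=
  IsAvg hJ (mF F) (cF F) (N := Multiplicative M) (zz P x) g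

variable {F : H ⟶ G}

omit [GrpObj G] [GrpObj H] in
lemma push_scal {T'' : Type u} [CommRing T''] [Algebra R T''] [Algebra T' T''] [IsScalarTower R T' T'']
    {N N' : Type} [CommGroup N] [CommGroup N'] (τ : N →* MonoidAlgebra T'' N') (x : specOver (R := R) T' ⟶ H) :
    push ((MonoidAlgebra.lift T' (MonoidAlgebra T'' N') N τ).restrictScalars R) (push (scal (R := R) T' N) x) =
      push (scal (R := R) T'' N') (push (IsScalarTower.toAlgHom R T' T'') x) := by
  rw [push_push, push_push]
  congr 1
  exact AlgHom.ext fun c => ((MonoidAlgebra.lift T' (MonoidAlgebra T'' N') N τ).commutes c).trans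
    (IsScalarTower.algebraMap_apply T' T'' (MonoidAlgebra T'' N') c)

omit [GrpObj G] in
lemma push_gP_of {T'' : Type u} [CommRing T''] [Algebra R T''] [Algebra T' T''] [IsScalarTower R T' T'']
    [Algebra T T''] [IsScalarTower T T' T''] [IsScalarTower R T T'']
    {M' : Type} [AddCommGroup M'] (τ : Multiplicative M →* MonoidAlgebra T'' (Multiplicative M')) :
    push ((MonoidAlgebra.lift T' (MonoidAlgebra T'' (Multiplicative M')) (Multiplicative M) τ).restrictScalars R)
      (gP P (MonoidAlgebra.of T' (Multiplicative M))) = gP P τ := by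
  have : IsScalarTower T T' (MonoidAlgebra T'' (Multiplicative M')) := IsScalarTower.of_algebraMap_eq fun c => by
    rw [IsScalarTower.algebraMap_apply T T'' (MonoidAlgebra T'' (Multiplicative M')),
      IsScalarTower.algebraMap_apply T T' T'', ← IsScalarTower.algebraMap_apply T' T'']
  refine (push_gP P ((MonoidAlgebra.lift T' (MonoidAlgebra T'' (Multiplicative M')) (Multiplicative M) τ).restrictScalars T) _).trans ?_
  exact congrArg (gP P) (MonoidHom.ext fun m => MonoidAlgebra.lift_of τ m)

/-- The average commutes with change of test algebra. -/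
lemma IsAvg2.push_tower {T'' : Type u} [CommRing T''] [Algebra R T''] [Algebra T' T''] [IsScalarTower R T' T'']
    [Algebra T T''] [IsScalarTower T T' T''] [IsScalarTower R T T'']
    {x : specOver (R := R) T' ⟶ H} {g : specOver (R := R) T' ⟶ G} (hg : IsAvg2 hJ P F x g) :
    IsAvg2 hJ P F (push (IsScalarTower.toAlgHom R T' T'') x) (push (IsScalarTower.toAlgHom R T' T'') g) := by
  have h := IsAvg.map hJ (mF F) (cF F) (MonoidAlgebra.of T'' (Multiplicative M))
    (fun n hn => by simp [hn]) hg
  rw [zz, push_lift, push_scal, push_gP_of] at h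
  exact h

variable (h0 : CongMod (mF F) (cF F) J) (V : G.left.Opens) (hV : IsAffineOpen V)
  (h1 : Set.range (1 : specOver (R := R) T' ⟶ G).left.base ⊆ V)

include h0 hV h1 in
lemma exists_isAvg2 (x : specOver (R := R) T' ⟶ H) : ∃ g, IsAvg2 hJ P F x g :=
  exists_isAvg hJ (mF F) (cF F) V hV h0 h1 _

include h0 hV h1 in
/-- The average does not depend on the splitting. -/
theorem avg2_indep {T₂ : Type u} [CommRing T₂] [Algebra R T₂] [Algebra T₂ T'] [IsScalarTower R T₂ T']
    {M₂ : Type} [AddCommGroup M₂]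
    (P₂ : SplitPts (Spec.map (CommRingCat.ofHom (algebraMap R T₂)) : Spec (CommRingCat.of T₂) ⟶ Spec R) H M₂)
    (hP : P.Inj) {x : specOver (R := R) T' ⟶ H} {g g₂ : specOver (R := R) T' ⟶ G}
    (hg : IsAvg2 hJ P F x g) (hg₂ : IsAvg2 hJ P₂ F x g₂) : g = g₂ := by
  obtain ⟨τ, hτ, hτ0⟩ := exists_trans (T' := T') P P₂ hP
  have h := IsAvg.map hJ (mF F) (cF F) τ hτ0 hg
  rw [zz, push_lift, push_scal, push_gP_of, hτ, show IsScalarTower.toAlgHom R T' T' = AlgHom.id R T' from rfl,
    push_id, push_id] at h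
  exact h.unique hJ (mF F) (cF F) V hV h0 h1 hg₂

include h0 hV h1 in
/-- Dividing by the average gives a homomorphism. -/
theorem avg2_mul {x y : specOver (R := R) T' ⟶ H} {gx gy gxy : specOver (R := R) T' ⟶ G}
    (hx : IsAvg2 hJ P F x gx) (hy : IsAvg2 hJ P F y gy) (hxy : IsAvg2 hJ P F (x * y) gxy) :
    gxy⁻¹ * ((x * y) ≫ F) = (gx⁻¹ * (x ≫ F)) * (gy⁻¹ * (y ≫ F)) := by
  classical
  let X := Multiplicative M
  let U := MonoidAlgebra T' X
  obtain ⟨t, ht⟩ := gP_surjective P y
  let τ : X →* U :=
    { toFun := fun m => MonoidAlgebra.single m (t m)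
      map_one' := by rw [map_one]; rfl
      map_mul' := fun a b => by rw [map_mul, MonoidAlgebra.single_mul_single] }
  have hτ0 : ∀ n, n ≠ 1 → (τ n).coeff 1 = 0 := fun n hn => by
    show (MonoidAlgebra.single n (t n)).coeff 1 = 0
    simp [hn]
  let sc := scal (R := R) T' X
  let z : specOver (R := R) U ⟶ H := gP P (MonoidAlgebra.of T' X)
  have hτz : gP P τ = push sc y * z := by
    have e1 : push sc y = gP P ((IsScalarTower.toAlgHom T T' U).toRingHom.toMonoidHom.comp t) := by
      rw [← ht, ← push_gP]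
      rfl
    rw [e1, ← gP_mul]
    congr 1
    refine MonoidHom.ext fun m => ?_
    show MonoidAlgebra.single m (t m) = algebraMap T' U (t m) * MonoidAlgebra.single m 1
    rw [← Algebra.smul_def, MonoidAlgebra.smul_single, smul_eq_mul, _root_.mul_one]
  have hx' : IsAvg hJ (mF F) (cF F) (lift (push sc x) (push sc y * z)) gx := by
    have h := IsAvg.map hJ (mF F) (cF F) τ hτ0 hx
    rw [zz, push_lift, push_scal, push_gP_of, hτz, show IsScalarTower.toAlgHom R T' T' = AlgHom.id R T' from rfl,
      push_id, push_id] at h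
    exact h
  obtain ⟨a₁, ha₁, hφ₁⟩ := hx'
  obtain ⟨a₂, ha₂, hφ₂⟩ := hxy
  obtain ⟨a₃, ha₃, hφ₃⟩ := hy
  rw [dev_lift] at ha₁
  rw [zz, dev_lift, push_mul] at ha₂
  rw [zz, dev_lift] at ha₃
  replace ha₂ : push (avgVal J T' X) a₂ = defect F (push sc x * push sc y) z := ha₂
  replace ha₃ : push (avgVal J T' X) a₃ = defect F (push sc y) z := ha₃
  let sA : T' →ₐ[R] avgSub J T' X := IsScalarTower.toAlgHom R T' (avgSub J T' X)
  have es : (avgVal J T' X).comp sA = sc := rfl
  let b := push sA (defect F x y) * a₂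
  let b' := push sA (x ≫ F) * a₃ * (push sA (x ≫ F))⁻¹ * a₁
  have hb : push (avgVal J T' X) b = defect F (push sc x) (push sc y) * defect F (push sc x * push sc y) z := by
    rw [push_mul, ha₂, push_push, es, ← dev_lift, push_dev, push_lift, dev_lift]
  have hb' : push (avgVal J T' X) b' = defect F (push sc x) (push sc y) * defect F (push sc x * push sc y) z := by
    rw [push_mul, push_mul, push_mul, push_inv, ha₁, ha₃, push_push, es, push_comp, defect, defect, defect, defect,
      _root_.mul_assoc (push sc x) (push sc y) z]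
    group
  have h1U : Set.range (1 : specOver (R := R) U ⟶ G).left.base ⊆ V := by
    rw [← push_one sc]
    rintro _ ⟨w, rfl⟩
    exact h1 ⟨_, rfl⟩
  have hc : push (Ideal.Quotient.mkₐ R (J.map (algebraMap R U)))
      (defect F (push sc x) (push sc y) * defect F (push sc x * push sc y) z) = 1 := by
    rw [push_mul, ← dev_lift, ← dev_lift, push_dev_eq_one _ _ h0, push_dev_eq_one _ _ h0, _root_.one_mul]
  have hr := range_subset_of_congr V _ (isNilpotent_map hJ U) h1U _ hc
  have hbb : b = b' := eq_of_injective V hV (avgVal J T' X) Subtype.val_injective b b'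
    (range_avg_subset hJ V b (by rw [hb]; exact hr)) (range_avg_subset hJ V b' (by rw [hb']; exact hr))
    (hb.trans hb'.symm)
  have hid : (avgCt hJ T' X).comp sA = AlgHom.id R T' := AlgHom.ext fun c => by
    show (algebraMap T' (MonoidAlgebra T' X) c).coeff 1 = c
    simp
  have key := congrArg (push (avgCt hJ T' X)) hbb
  rw [push_mul, push_mul, push_mul, push_mul, push_inv, hφ₁, hφ₂, hφ₃, push_push, push_push, hid, push_id, push_id,
    defect] at key
  have key' : (x ≫ F) * (y ≫ F) = (x ≫ F) * gy * (x ≫ F)⁻¹ * gx * gxy⁻¹ * ((x * y) ≫ F) := by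
    rw [← key]; group
  symm
  calc (gx⁻¹ * (x ≫ F)) * (gy⁻¹ * (y ≫ F))
      = gx⁻¹ * (x ≫ F) * gy⁻¹ * (x ≫ F)⁻¹ * ((x ≫ F) * (y ≫ F)) := by group
    _ = gxy⁻¹ * ((x * y) ≫ F) := by rw [key']; group

end Chart

end Groth.Agent.DiagRig
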