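import Groth.Agent.DiagRig.FreeAction
import Groth.Agent.DiagRig.CoeffIdeal
import Groth.Agent.DiagRig.CharLift
import Groth.Prelude.Def_AutFam

/-! Families of homomorphisms between split groups as grouplike families. -/

universe u

open CategoryTheory MonoidalCategory CartesianMonoidalCategory MonObj GrpObj AlgebraicGeometry Limits

noncomputable section

namespace Groth.Agent.DiagRig.HomChart


section Algebra

variable {R T D : Type u} [CommRing R] [CommRing T] [CommRing D] [Algebra R T] [Algebra R D]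
  {X : Type} [CommGroup X]

/-- Evaluation of `T[X]` at a point of the group. -/
def L (k : T →ₐ[R] D) (τ : X →* D) : MonoidAlgebra T X →ₐ[R] D :=
  MonoidAlgebra.liftNCAlgHom k τ fun _ _ => Commute.all _ _

lemma L_single (k : T →ₐ[R] D) (τ : X →* D) (x : X) (r : T) :
    L k τ (MonoidAlgebra.single x r) = k r * τ x := by
  simp [L]

lemma L_eq_lift (k : T →ₐ[R] D) (τ : X →* D) (d : MonoidAlgebra T X) :
    L k τ d = letI := k.toRingHom.toAlgebra; MonoidAlgebra.lift T D X τ d := by
  letI := k.toRingHom.toAlgebra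
  induction d using MonoidAlgebra.induction_linear with
  | zero => simp
  | add a b ha hb => simp [map_add, ha, hb]
  | single x r => rw [L_single, MonoidAlgebra.lift_single, Algebra.smul_def]; rfl

lemma gl_L_mul {d : MonoidAlgebra T X} (hd : CharLift.GL d) (k : T →ₐ[R] D) (σ τ : X →* D) :
    L k (σ * τ) d = L k σ d * L k τ d := by
  letI := k.toRingHom.toAlgebra
  rw [L_eq_lift, L_eq_lift, L_eq_lift]
  exact hd.lift_mul σ τ

end Algebra

variable {S : Scheme.{u}} {R : CommRingCat.{u}} (p : Spec R ⟶ S) {G H : Over S} [GrpObj G] [GrpObj H]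
  {M : Type} [AddCommGroup M] (P : SplitPts p G M) {M' : Type} [AddCommGroup M'] (P' : SplitPts p H M')

/-- The test scheme over `S`. -/
abbrev tst (T : Type u) [CommRing T] [Algebra R T] : Over S := (Over.map p).obj (specOver (R := R) T)

/-- Evaluating a family at a point given by characters. -/
def evalAt {T : Type u} [CommRing T] [Algebra R T] (φ : G ⊗ tst p T ⟶ H) {D : Type u} [CommRing D] [Algebra R D]
    (k : T →ₐ[R] D) (τ : Multiplicative M →* D) : tst p D ⟶ H :=
  lift (gPt p P τ) ((Over.map p).map (testMap k)) ≫ φ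

/-- `F` describes `φ`. -/
def Descr {T : Type u} [CommRing T] [Algebra R T] (φ : G ⊗ tst p T ⟶ H)
    (F : Multiplicative M' →* MonoidAlgebra T (Multiplicative M)) : Prop :=
  ∀ (D : Type u) [CommRing D] [Algebra R D] (k : T →ₐ[R] D) (τ : Multiplicative M →* D),
    evalAt p P φ k τ = gPt p P' ((L k τ).toRingHom.toMonoidHom.comp F)

variable {T : Type u} [CommRing T] [Algebra R T]

lemma exists_descr (φ : G ⊗ tst p T ⟶ H) : ∃ F, Descr p P P' φ F := by
  let U := MonoidAlgebra T (Multiplicative M)
  obtain ⟨F, hF⟩ := gPt_surjective P' (evalAt p P φ (IsScalarTower.toAlgHom R T U)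
    (MonoidAlgebra.of T (Multiplicative M)))
  refine ⟨F, fun D _ _ k τ => ?_⟩
  rw [← testMap_gPt, hF, evalAt, evalAt, comp_lift_assoc, testMap_gPt, ← Functor.map_comp]
  congr 2
  · congr 1
    refine MonoidHom.ext fun x => ?_
    show τ x = L k τ (MonoidAlgebra.single x 1)
    rw [L_single, map_one, _root_.one_mul]
  · congr 1
    apply Over.OverMorphism.ext
    show Spec.map _ = Spec.map _ ≫ Spec.map _
    rw [← Spec.map_comp, ← CommRingCat.ofHom_comp]
    congr 2
    refine RingHom.ext fun r => ?_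
    show k r = L k τ (MonoidAlgebra.single (1 : Multiplicative M) r)
    rw [L_single, map_one, _root_.mul_one]

variable {p} {P} {P'}

lemma Descr.unique (hP' : P'.Inj) {φ : G ⊗ tst p T ⟶ H}
    {F F' : Multiplicative M' →* MonoidAlgebra T (Multiplicative M)} (h : Descr p P P' φ F) (h' : Descr p P P' φ F') :
    F = F' := by
  have e := (h _ (IsScalarTower.toAlgHom R T _) (MonoidAlgebra.of T (Multiplicative M))).symm.trans
    (h' _ (IsScalarTower.toAlgHom R T _) (MonoidAlgebra.of T (Multiplicative M)))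
  have e' := gPt_injective P' hP' e
  have hid : ∀ d, L (IsScalarTower.toAlgHom R T _) (MonoidAlgebra.of T (Multiplicative M)) d = d := fun d => by
    induction d using MonoidAlgebra.induction_linear with
    | zero => simp
    | add a b ha hb => simp [map_add, ha, hb]
    | single x r => rw [L_single]; simp [MonoidAlgebra.single_mul_single]
  refine MonoidHom.ext fun y => ?_
  have := DFunLike.congr_fun e' y
  simp only [MonoidHom.comp_apply] at this
  exact ((hid _).symm.trans this).trans (hid _)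

/-- Points of an affine piece of the source of a family. -/
lemma exists_piece {W : Over S} (w : W ⟶ tst p T) {C : CommRingCat.{u}} (j : Spec C ⟶ W.left) :
    ∃ (_ : Algebra R C) (j' : tst p C ⟶ W) (k : T →ₐ[R] C), j'.left = j ∧
      j' ≫ w = (Over.map p).map (testMap k) := by
  let ψ : CommRingCat.of T ⟶ C := Spec.preimage (j ≫ w.left)
  letI : Algebra R C := (ψ.hom.comp (algebraMap R T)).toAlgebra
  let k : T →ₐ[R] C := { ψ.hom with commutes' := fun _ => rfl }
  have hk : Spec.map (CommRingCat.ofHom k.toRingHom) = j ≫ w.left := Spec.map_preimage _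
  let j' : tst p C ⟶ W := Over.homMk j (by
    show j ≫ W.hom = Spec.map (CommRingCat.ofHom (algebraMap R C)) ≫ p
    rw [← Over.w w, reassoc_of% hk.symm]
    show Spec.map _ ≫ Spec.map _ ≫ p = _
    rw [← Category.assoc, ← Spec.map_comp]
    rfl)
  exact ⟨inferInstance, j', k, rfl, Over.OverMorphism.ext hk.symm⟩

lemma Descr.hom_eq {φ φ' : G ⊗ tst p T ⟶ H} {F : Multiplicative M' →* MonoidAlgebra T (Multiplicative M)}
    (h : Descr p P P' φ F) (h' : Descr p P P' φ' F) : φ = φ' := by
  ext1
  refine hom_ext_of_forall _ _ fun z => ?_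
  obtain ⟨U, hU, hzU, -⟩ := exists_isAffineOpen_mem_and_subset (X := (G ⊗ tst p T).left) (x := z) (U := ⊤) trivial
  refine ⟨U, hzU, ?_⟩
  rw [← hU.isoSpec_hom_fromSpec, Category.assoc, Category.assoc]
  congr 1
  obtain ⟨_, j', k, hj, hk⟩ := exists_piece (snd G (tst p T)) hU.fromSpec
  obtain ⟨τ, hτ⟩ := gPt_surjective P (j' ≫ fst G (tst p T))
  have hj' : j' = lift (gPt p P τ) ((Over.map p).map (testMap k)) := by
    rw [← hk, hτ, ← comp_lift, lift_fst_snd, Category.comp_id]
  have e : j' ≫ φ = j' ≫ φ' := by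
    rw [hj']
    exact (h _ k τ).trans (h' _ k τ).symm
  have e' := congrArg CommaMorphism.left e
  change j'.left ≫ φ.left = j'.left ≫ φ'.left at e'
  rw [hj] at e'
  exact e'

lemma Descr.isHomFamily {φ : G ⊗ tst p T ⟶ H} {F : Multiplicative M' →* MonoidAlgebra T (Multiplicative M)}
    (h : Descr p P P' φ F) (hF : ∀ y, CharLift.GL (F y)) : AutFam.IsHomFamily G H φ := by
  intro X₀ g₁ g₂ t
  ext1
  refine hom_ext_of_forall _ _ fun z => ?_
  obtain ⟨U, hU, hzU, -⟩ := exists_isAffineOpen_mem_and_subset (X := X₀.left) (x := z) (U := ⊤) trivial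
  refine ⟨U, hzU, ?_⟩
  rw [← hU.isoSpec_hom_fromSpec, Category.assoc, Category.assoc]
  congr 1
  obtain ⟨_, j', k, hj, hk⟩ := exists_piece t hU.fromSpec
  obtain ⟨τ₁, h₁⟩ := gPt_surjective P (j' ≫ g₁)
  obtain ⟨τ₂, h₂⟩ := gPt_surjective P (j' ≫ g₂)
  have e : j' ≫ lift (g₁ * g₂) t ≫ φ = j' ≫ ((lift g₁ t ≫ φ) * (lift g₂ t ≫ φ)) := by
    rw [comp_lift_assoc, MonObj.comp_mul, MonObj.comp_mul, comp_lift_assoc, comp_lift_assoc, hk, ← h₁, ← h₂,
      ← gPt_mul]
    refine (h _ k _).trans ?_
    refine Eq.trans ?_ (congrArg₂ (· * ·) (h _ k τ₁) (h _ k τ₂)).symm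
    rw [← gPt_mul]
    congr 1
    exact MonoidHom.ext fun y => gl_L_mul (hF y) k τ₁ τ₂
  have e' := congrArg CommaMorphism.left e
  change j'.left ≫ (lift (g₁ * g₂) t ≫ φ).left = j'.left ≫ ((lift g₁ t ≫ φ) * (lift g₂ t ≫ φ)).left at e'
  rw [hj] at e'
  exact e'

lemma Descr.isGL (hP' : P'.Inj) {φ : G ⊗ tst p T ⟶ H} {F : Multiplicative M' →* MonoidAlgebra T (Multiplicative M)}
    (h : Descr p P P' φ F) (hφ : AutFam.IsHomFamily G H φ) (y : Multiplicative M') : CharLift.GL (F y) := by
  let N := Multiplicative M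
  have key : ∀ (D : Type u) [CommRing D] [Algebra R D] (k : T →ₐ[R] D) (s t : N →* D),
      (L k (s * t)) (F y) = L k s (F y) * L k t (F y) := by
    intro D _ _ k s t
    have e := hφ _ (gPt p P s) (gPt p P t) ((Over.map p).map (testMap k))
    rw [← gPt_mul] at e
    have e1 := ((h D k (s * t)).symm.trans e).trans (congrArg₂ (· * ·) (h D k s) (h D k t))
    rw [← gPt_mul] at e1
    exact DFunLike.congr_fun (gPt_injective P' hP' e1) y
  refine ⟨?_, ?_⟩
  · have hm : ∀ (ψ : N →* N × N) (d : MonoidAlgebra T N),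
        L (IsScalarTower.toAlgHom R T (MonoidAlgebra T (N × N))) ((MonoidAlgebra.of T (N × N)).comp ψ) d =
          MonoidAlgebra.mapDomainAlgHom T T ψ d := fun ψ d => by
      induction d using MonoidAlgebra.induction_linear with
      | zero => simp
      | add a b ha hb => simp only [map_add, ha, hb]
      | single x r => rw [L_single]; simp [MonoidAlgebra.single_mul_single]
    have e := key (MonoidAlgebra T (N × N)) (IsScalarTower.toAlgHom R T _)
      ((MonoidAlgebra.of T (N × N)).comp (MonoidHom.inl N N)) ((MonoidAlgebra.of T (N × N)).comp (MonoidHom.inr N N))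
    rw [hm, hm, show (MonoidAlgebra.of T (N × N)).comp (MonoidHom.inl N N) *
        (MonoidAlgebra.of T (N × N)).comp (MonoidHom.inr N N) =
        (MonoidAlgebra.of T (N × N)).comp ((MonoidHom.id N).prod (MonoidHom.id N)) from
      MonoidHom.ext fun x => by simp [MonoidAlgebra.single_mul_single], hm] at e
    exact e.symm
  · have e := key T (AlgHom.id R T) 1 1
    rw [_root_.mul_one] at e
    have hu : IsUnit (L (AlgHom.id R T) (1 : N →* T) (F y)) :=
      (Group.isUnit y).map ((L (AlgHom.id R T) (1 : N →* T)).toRingHom.toMonoidHom.comp F)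
    have e1 := hu.mul_eq_left.mp e.symm
    rw [L_eq_lift] at e1
    exact e1

variable (P P') in
lemma exists_family (hP : P.Inj) (F : Multiplicative M' →* MonoidAlgebra T (Multiplicative M)) :
    ∃ φ : G ⊗ tst p T ⟶ H, Descr p P P' φ F := by
  let N := Multiplicative M
  let w := (snd G (tst p T)).left
  let Y : Over (Spec R) := Over.mk (w ≫ Spec.map (CommRingCat.ofHom (algebraMap R T)))
  let e : (Over.map p).obj Y ≅ G ⊗ tst p T := Over.isoMk (Iso.refl _) (by
    show 𝟙 _ ≫ (G ⊗ tst p T).hom = (w ≫ Spec.map _) ≫ p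
    rw [Category.id_comp, Category.assoc, ← Over.w (snd G (tst p T))]
    rfl)
  obtain ⟨τ, hτ⟩ := P.σ_surjective (Y := Y) (e.hom ≫ fst G (tst p T))
  let ζ : T →+* Γ(Y.left, ⊤) := ((Scheme.ΓSpecIso (CommRingCat.of T)).inv ≫ w.appTop).hom
  let ev : MonoidAlgebra T N →+* Γ(Y.left, ⊤) := MonoidAlgebra.liftNCRingHom ζ τ fun _ _ => Commute.all _ _
  refine ⟨e.inv ≫ P'.σ (ev.toMonoidHom.comp F), fun D _ _ k σ₀ => ?_⟩
  let x := lift (gPt p P σ₀) ((Over.map p).map (testMap k))
  have hx : x.left ≫ w = Spec.map (CommRingCat.ofHom k.toRingHom) :=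
    congrArg CommaMorphism.left (lift_snd (gPt p P σ₀) ((Over.map p).map (testMap k)))
  let h : specOver (R := R) D ⟶ Y := Over.homMk x.left (by
    show x.left ≫ w ≫ Spec.map _ = Spec.map _
    rw [reassoc_of% hx, ← Spec.map_comp, ← CommRingCat.ofHom_comp]
    exact congrArg (fun f => Spec.map (CommRingCat.ofHom f)) k.comp_algebraMap)
  have hh : (Over.map p).map h = x ≫ e.inv := by
    apply Over.OverMorphism.ext
    exact (Category.comp_id _).symm
  have hτσ : h.left.appTop.hom.toMonoidHom.comp τ = (toΓ (R := R)).toMonoidHom.comp σ₀ := by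
    refine hP (Y := specOver (R := R) D) _ _ ?_
    rw [← P.σ_comp h τ, hτ, hh, Category.assoc, Iso.inv_hom_id_assoc]
    exact lift_fst _ _
  show x ≫ e.inv ≫ P'.σ (ev.toMonoidHom.comp F) = _
  rw [← Category.assoc, ← hh, P'.σ_comp]
  have key : (h.left.appTop.hom.comp ev : MonoidAlgebra T N →+* _) = (toΓ (R := R)).comp (L k σ₀).toRingHom := by
    refine MonoidAlgebra.ringHom_ext (fun r => ?_) (fun n => ?_)
    · show h.left.appTop.hom (ev (MonoidAlgebra.single 1 r)) = toΓ (L k σ₀ (MonoidAlgebra.single 1 r))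
      rw [L_single, map_one, _root_.mul_one]
      simp only [ev, MonoidAlgebra.liftNCRingHom_single, map_one, _root_.mul_one]
      show ((Scheme.ΓSpecIso (CommRingCat.of T)).inv ≫ w.appTop ≫ x.left.appTop) r = _
      rw [← Scheme.Hom.comp_appTop, hx]
      exact congr($((Scheme.ΓSpecIso_inv_naturality (CommRingCat.ofHom k.toRingHom)).symm) r)
    · show h.left.appTop.hom (ev (MonoidAlgebra.single n 1)) = toΓ (L k σ₀ (MonoidAlgebra.single n 1))
      rw [L_single, map_one, _root_.one_mul]
      simp only [ev, MonoidAlgebra.liftNCRingHom_single, map_one, _root_.one_mul]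
      exact DFunLike.congr_fun hτσ n
  rw [gPt]
  exact congrArg P'.σ (MonoidHom.ext fun y => DFunLike.congr_fun key (F y))

/-- Base change of the test ring. -/
lemma Descr.push {φ : G ⊗ tst p T ⟶ H} {F : Multiplicative M' →* MonoidAlgebra T (Multiplicative M)}
    (h : Descr p P P' φ F) {T' : Type u} [CommRing T'] [Algebra R T'] (m : T →ₐ[R] T') :
    Descr p P P' ((G ◁ (Over.map p).map (testMap m)) ≫ φ)
      ((MonoidAlgebra.mapAlgHom (M := Multiplicative M) m).toRingHom.toMonoidHom.comp F) := by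
  intro D _ _ k τ
  rw [evalAt, lift_whiskerLeft_assoc, ← Functor.map_comp,
    show testMap k ≫ testMap m = testMap (k.comp m) from Over.OverMorphism.ext (by
      show Spec.map _ ≫ Spec.map _ = Spec.map _
      rw [← Spec.map_comp]; rfl)]
  refine (h D (k.comp m) τ).trans (congrArg (gPt p P') (MonoidHom.ext fun y => ?_))
  show L (k.comp m) τ (F y) = L k τ (MonoidAlgebra.mapAlgHom (M := Multiplicative M) m (F y))
  generalize F y = d
  induction d using MonoidAlgebra.induction_linear with
  | zero => simp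
  | add a b ha hb => simp [map_add, ha, hb]
  | single x r => simp [L_single]

lemma gl_exists_single {K : Type u} [Field K] {N : Type} [CommGroup N] {d : MonoidAlgebra K N} (hd : CharLift.GL d) :
    ∃ n, d = MonoidAlgebra.single n 1 := by
  classical
  obtain ⟨n, hn⟩ : ∃ n, d.coeff n ≠ 0 := by
    by_contra h
    push Not at h
    have h1 := hd.2
    rw [show d = 0 from MonoidAlgebra.coeff_injective (Finsupp.ext h), map_zero] at h1
    exact zero_ne_one h1
  have h1 : d.coeff n = 1 := (mul_eq_left₀ hn).mp (hd.idem n)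
  refine ⟨n, MonoidAlgebra.coeff_injective (Finsupp.ext fun m => ?_)⟩
  by_cases hm : m = n
  · subst hm; simpa using h1
  · have := hd.coeff_mul n m
    rw [h1, _root_.one_mul, if_neg (Ne.symm hm)] at this
    simp [this, hm]

end Groth.Agent.DiagRig.HomChart
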