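import Groth.Agent.DiagRig.HomChart
import Groth.Agent.DiagRig.Inj
import Mathlib.RingTheory.Localization.Away.Basic
import Mathlib.GroupTheory.Finiteness

/-! Families of homomorphisms between split groups are locally constant. -/

universe u

open CategoryTheory MonoidalCategory CartesianMonoidalCategory MonObj GrpObj AlgebraicGeometry Limits

noncomputable section

namespace Groth.Agent.DiagRig.HomConst

section Algebra

variable {C : Type u} [CommRing C] {N : Type} [CommGroup N] {Y : Type} [CommGroup Y]

/-- The constant family attached to a homomorphism of character groups. -/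
def cst (C : Type u) [CommRing C] (θ : Y →* N) : Y →* MonoidAlgebra C N :=
  (MonoidAlgebra.of C N).comp θ

omit [CommGroup Y] in
lemma gl_single (n : N) : CharLift.GL (MonoidAlgebra.single n (1 : C)) :=
  ⟨by simp [MonoidAlgebra.single_mul_single], by simp⟩

lemma gl_cst (θ : Y →* N) (y : Y) : CharLift.GL (cst C θ y) := gl_single _

lemma cst_injective [Nontrivial C] {θ θ' : Y →* N} (h : cst C θ = cst C θ') : θ = θ' :=
  MonoidHom.ext fun y => MonoidAlgebra.single_left_injective one_ne_zero (DFunLike.congr_fun h y)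

/-- A grouplike family is constant near every prime. -/
theorem exists_away_cst [Group.FG Y] (F : Y →* MonoidAlgebra C N) (hF : ∀ y, CharLift.GL (F y))
    (q : PrimeSpectrum C) : ∃ d : C, d ∉ q.asIdeal ∧ ∃ θ : Y →* N,
      (MonoidAlgebra.mapAlgHom (M := N) (Algebra.ofId C (Localization.Away d))).toRingHom.toMonoidHom.comp F =
        cst (Localization.Away d) θ := by
  classical
  obtain ⟨s, hs⟩ := (Group.fg_iff.mp (inferInstance : Group.FG Y))
  obtain ⟨hs, hfin⟩ := hs
  let K := q.asIdeal.ResidueField
  have hn : ∀ y, ∃ n, (F y).coeff n ∉ q.asIdeal := by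
    intro y
    by_contra h
    push Not at h
    have h1 := (hF y).2
    have h2 : algebraMap C K (MonoidAlgebra.lift C C N 1 (F y)) = 0 := by
      rw [MonoidAlgebra.lift_apply, Finsupp.sum, map_sum]
      refine Finset.sum_eq_zero fun n _ => ?_
      rw [MonoidHom.one_apply, smul_eq_mul, _root_.mul_one, Ideal.algebraMap_residueField_eq_zero]
      exact h n
    rw [h1, map_one] at h2
    exact one_ne_zero h2
  choose n hn using hn
  let d : C := ∏ y ∈ hfin.toFinset, (F y).coeff (n y)
  have hd : d ∉ q.asIdeal := by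
    intro h
    obtain ⟨y, -, hy⟩ := (q.isPrime.prod_mem_iff).mp h
    exact hn y hy
  let C' := Localization.Away d
  have : Nontrivial C' := by
    refine ⟨⟨1, 0, fun e => ?_⟩⟩
    rw [← map_one (algebraMap C C'), IsLocalization.map_eq_zero_iff (Submonoid.powers d)] at e
    obtain ⟨⟨_, k, rfl⟩, hk⟩ := e
    exact hd (q.isPrime.mem_of_pow_mem k (by
      rw [show d ^ k = 0 by simpa using hk]; exact q.asIdeal.zero_mem))
  let G := (MonoidAlgebra.mapAlgHom (M := N) (Algebra.ofId C C')).toRingHom.toMonoidHom.comp F
  let P : Subgroup Y :=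
    { carrier := {y | ∃ m, G y = MonoidAlgebra.single m 1}
      one_mem' := ⟨1, by rw [map_one, MonoidAlgebra.one_def]⟩
      mul_mem' := by
        rintro a b ⟨m, hm⟩ ⟨m', hm'⟩
        exact ⟨m * m', by rw [map_mul, hm, hm', MonoidAlgebra.single_mul_single, _root_.mul_one]⟩
      inv_mem' := by
        rintro a ⟨m, hm⟩
        refine ⟨m⁻¹, ?_⟩
        have e : G a⁻¹ * G a = 1 := by rw [← map_mul, inv_mul_cancel, map_one]
        calc G a⁻¹ = G a⁻¹ * (MonoidAlgebra.single m 1 * MonoidAlgebra.single m⁻¹ 1) := by
              rw [MonoidAlgebra.single_mul_single, mul_inv_cancel, _root_.mul_one, ← MonoidAlgebra.one_def,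
                _root_.mul_one]
          _ = _ := by rw [← _root_.mul_assoc, ← hm, e, _root_.one_mul] }
  have hP : P = ⊤ := by
    rw [eq_top_iff, ← hs, Subgroup.closure_le]
    intro y hy
    refine ⟨n y, MonoidAlgebra.coeff_injective (Finsupp.ext fun m => ?_)⟩
    have hc : ∀ m, (G y).coeff m = algebraMap C C' ((F y).coeff m) := fun m => by
      simp [G, Algebra.ofId_apply]
    have hu : IsUnit (algebraMap C C' ((F y).coeff (n y))) := by
      refine isUnit_of_dvd_unit (map_dvd _ (Finset.dvd_prod_of_mem (fun z => (F z).coeff (n z))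
        (hfin.mem_toFinset.mpr hy))) (IsLocalization.Away.algebraMap_isUnit d)
    have h1 : algebraMap C C' ((F y).coeff (n y)) = 1 :=
      hu.mul_eq_left.mp (by rw [← map_mul, (hF y).idem (n y)])
    rw [hc]
    by_cases hm : m = n y
    · subst hm; simp [h1]
    · have := congrArg (algebraMap C C') ((hF y).coeff_mul (n y) m)
      rw [map_mul, h1, _root_.one_mul, if_neg (Ne.symm hm), map_zero] at this
      simp [this, hm]
  choose m hm using fun y => (hP.ge (Subgroup.mem_top y) : y ∈ P)
  refine ⟨d, hd,
    { toFun := m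
      map_one' := MonoidAlgebra.single_left_injective (one_ne_zero (α := C')) (by
        show MonoidAlgebra.single (m 1) (1 : C') = MonoidAlgebra.single 1 1
        rw [← hm, map_one, MonoidAlgebra.one_def])
      map_mul' := fun a b => MonoidAlgebra.single_left_injective (one_ne_zero (α := C')) (by
        show MonoidAlgebra.single (m (a * b)) (1 : C') = MonoidAlgebra.single (m a * m b) 1
        rw [← hm, map_mul, hm, hm, MonoidAlgebra.single_mul_single, _root_.mul_one]) }, MonoidHom.ext fun y => ?_⟩
  exact hm y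

end Algebra

variable {S : Scheme.{u}} {R : CommRingCat.{u}} {p : Spec R ⟶ S} {G H : Over S} [GrpObj G] [GrpObj H]
  {M : Type} [AddCommGroup M] {P : SplitPts p G M} {M' : Type} [AddCommGroup M'] {P' : SplitPts p H M'}

/-- The constant family on the chart. -/
def fam (hP : P.Inj) (P' : SplitPts p H M') (θ : M' →+ M) : G ⊗ HomChart.tst p R ⟶ H :=
  (HomChart.exists_family P P' hP (cst (R : Type u) θ.toMultiplicative)).choose

lemma descr_fam (hP : P.Inj) (θ : M' →+ M) :
    HomChart.Descr p P P' (fam hP P' θ) (cst (R : Type u) θ.toMultiplicative) :=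
  (HomChart.exists_family P P' hP (cst (R : Type u) θ.toMultiplicative)).choose_spec

lemma isHomFamily_fam (hP : P.Inj) (θ : M' →+ M) : AutFam.IsHomFamily G H (fam hP P' θ) :=
  (descr_fam hP θ).isHomFamily (gl_cst _)

lemma descr_fam_push (hP : P.Inj) (θ : M' →+ M) {C : Type u} [CommRing C] [Algebra R C] (k : (R : Type u) →ₐ[R] C) :
    HomChart.Descr p P P' ((G ◁ (Over.map p).map (testMap k)) ≫ fam hP P' θ) (cst C θ.toMultiplicative) := by
  have h := (descr_fam (P := P) (P' := P') hP θ).push k
  rwa [show (MonoidAlgebra.mapAlgHom (M := Multiplicative M) k).toRingHom.toMonoidHom.comp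
    (cst (R : Type u) θ.toMultiplicative) = cst C θ.toMultiplicative from MonoidHom.ext fun y => by simp [cst]] at h

/-- Every family on an affine test scheme is constant near every point. -/
theorem exists_local_fam (hP : P.Inj) (hP' : P'.Inj) (hM' : AddGroup.FG M') {C : Type u} [CommRing C] [Algebra R C]
    (φ : G ⊗ HomChart.tst p C ⟶ H) (hφ : AutFam.IsHomFamily G H φ) (q : PrimeSpectrum C) :
    ∃ (d : C) (k : C →ₐ[R] Localization.Away d) (k₀ : (R : Type u) →ₐ[R] Localization.Away d), d ∉ q.asIdeal ∧
      (k.toRingHom = algebraMap C (Localization.Away d)) ∧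
      ∃ θ : M' →+ M, (G ◁ (Over.map p).map (testMap k)) ≫ φ = (G ◁ (Over.map p).map (testMap k₀)) ≫ fam hP P' θ := by
  obtain ⟨F, hF⟩ := HomChart.exists_descr p P P' φ
  have : AddGroup.FG M' := hM'
  obtain ⟨d, hd, θ, hθ⟩ := exists_away_cst F (hF.isGL hP' hφ) q
  refine ⟨d, IsScalarTower.toAlgHom R C _, Algebra.ofId R _, hd, rfl, AddMonoidHom.toMultiplicative.symm θ, ?_⟩
  refine (hF.push (IsScalarTower.toAlgHom R C (Localization.Away d))).hom_eq ?_
  have h := descr_fam_push (P := P) (P' := P') hP (AddMonoidHom.toMultiplicative.symm θ) (Algebra.ofId (R : Type u) (Localization.Away d))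
  convert h using 1
  exact hθ

/-- Constant families agreeing over a nontrivial ring are equal. -/
theorem eq_of_fam_eq (hP : P.Inj) (hP' : P'.Inj) {C : Type u} [CommRing C] [Algebra R C] [Nontrivial C]
    (k k' : (R : Type u) →ₐ[R] C) (θ θ' : M' →+ M)
    (h : (G ◁ (Over.map p).map (testMap k)) ≫ fam hP P' θ = (G ◁ (Over.map p).map (testMap k')) ≫ fam hP P' θ') :
    θ = θ' := by
  have h1 := descr_fam_push (P := P) (P' := P') hP θ k
  rw [h] at h1
  have e := cst_injective ((descr_fam_push (P := P) (P' := P') hP θ' k').unique hP' h1)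
  exact (AddMonoidHom.toMultiplicative.injective e).symm

end Groth.Agent.DiagRig.HomConst
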