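import Groth.Agent.AlgSp.Basic
import Groth.Prelude.Def_AutFam

/-! The fppf sheaf of families of homomorphisms between two groups over a scheme. -/

universe u

open CategoryTheory MonoidalCategory CartesianMonoidalCategory MonObj GrpObj AlgebraicGeometry Limits Opposite

noncomputable section

namespace Groth.Agent.DiagRig.HomSheaf

set_option backward.isDefEq.respectTransparency.types false

variable {S : Scheme.{u}}

lemma mem_of_le {T : Over S} {R R' : Sieve T} (h : R ≤ R') (hR : R ∈ AlgSp.J S T) : R' ∈ AlgSp.J S T :=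
  (AlgSp.J S).superset_covering h hR

/-- Maps of schemes over `S` agreeing on a covering sieve are equal. -/
lemma hom_ext_sieve {T G : Over S} {R : Sieve T} (hR : R ∈ AlgSp.J S T) {a b : T ⟶ G}
    (h : ∀ ⦃V : Over S⦄ (f : V ⟶ T), R f → f ≫ a = f ≫ b) : a = b :=
  ((GrothendieckTopology.Subcanonical.isSheaf_of_isRepresentable (J := AlgSp.J S) (yoneda.obj G)) R hR).isSeparatedFor.ext h

variable (H G : Over S) [GrpObj H] [GrpObj G]

lemma isHomFamily_whisker {T T' : Over S} (f : T' ⟶ T) {φ : H ⊗ T ⟶ G} (hφ : AutFam.IsHomFamily H G φ) :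
    AutFam.IsHomFamily H G ((H ◁ f) ≫ φ) := by
  intro X g₁ g₂ t
  rw [lift_whiskerLeft_assoc, lift_whiskerLeft_assoc, lift_whiskerLeft_assoc]
  exact hφ X g₁ g₂ (t ≫ f)

/-- Families of homomorphisms over `T`. -/
abbrev Fam (T : Over S) : Type u := {φ : H ⊗ T ⟶ G // AutFam.IsHomFamily H G φ}

/-- The presheaf of families of homomorphisms. -/
def psh : (Over S)ᵒᵖ ⥤ Type (u + 1) where
  obj T := ULift.{u + 1} (Fam H G T.unop)
  map {T T'} f := TypeCat.ofHom fun φ =>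
    ⟨⟨(H ◁ f.unop) ≫ φ.down.1, isHomFamily_whisker H G f.unop φ.down.2⟩⟩
  map_id T := by
    ext φ
    show ((H ◁ 𝟙 _) ≫ φ.down.1).left = φ.down.1.left
    simp
  map_comp {T T' T''} f g := by
    ext φ
    show ((H ◁ (g.unop ≫ f.unop)) ≫ φ.down.1).left = ((H ◁ g.unop) ≫ (H ◁ f.unop) ≫ φ.down.1).left
    simp

theorem isSheaf_psh : Presieve.IsSheaf (AlgSp.J S) (psh H G) := by
  intro T R hR x hx
  let R' : Sieve (H ⊗ T) := R.pullback (snd H T)
  have hR' : R' ∈ AlgSp.J S (H ⊗ T) := (AlgSp.J S).pullback_stable _ hR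
  let y : Presieve.FamilyOfElements (yoneda.obj G) R'.arrows := fun W g hg =>
    lift (g ≫ fst H T) (𝟙 W) ≫ (x (g ≫ snd H T) hg).down.1
  have hnat : ∀ {V V' : Over S} (k : V' ⟶ V) (f : V ⟶ T) (hf : R f) (hk : R (k ≫ f)),
      (x (k ≫ f) hk).down.1 = (H ◁ k) ≫ (x f hf).down.1 := by
    intro V V' k f hf hk
    have e := hx (𝟙 V') k hk hf (by simp)
    have e' := congrArg (fun φ => φ.down.1) e
    refine Eq.trans ?_ e'
    show (x (k ≫ f) hk).down.1 = (H ◁ 𝟙 V') ≫ (x (k ≫ f) hk).down.1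
    rw [MonoidalCategory.whiskerLeft_id, Category.id_comp]
  have hy : y.Compatible := by
    intro W₁ W₂ Z k₁ k₂ f₁ f₂ h₁ h₂ hk
    show k₁ ≫ lift (f₁ ≫ fst H T) (𝟙 W₁) ≫ _ = k₂ ≫ lift (f₂ ≫ fst H T) (𝟙 W₂) ≫ _
    have e1 := hnat k₁ (f₁ ≫ snd H T) h₁ (R.downward_closed h₁ k₁)
    have e2 := hnat k₂ (f₂ ≫ snd H T) h₂ (R.downward_closed h₂ k₂)
    have e3 : (x (k₁ ≫ f₁ ≫ snd H T) (R.downward_closed h₁ k₁)).down.1 =
        (x (k₂ ≫ f₂ ≫ snd H T) (R.downward_closed h₂ k₂)).down.1 := by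
      have : k₁ ≫ f₁ ≫ snd H T = k₂ ≫ f₂ ≫ snd H T := by rw [reassoc_of% hk]
      congr 2
      · congr 1
    rw [comp_lift_assoc, comp_lift_assoc, reassoc_of% hk]
    have l1 : lift (k₂ ≫ f₂ ≫ fst H T) (k₁ ≫ 𝟙 W₁) =
        lift (k₂ ≫ f₂ ≫ fst H T) (𝟙 Z) ≫ (H ◁ k₁) := by simp
    have l2 : lift (k₂ ≫ f₂ ≫ fst H T) (k₂ ≫ 𝟙 W₂) =
        lift (k₂ ≫ f₂ ≫ fst H T) (𝟙 Z) ≫ (H ◁ k₂) := by simp
    rw [l1, l2, Category.assoc, Category.assoc, ← e1, ← e2, e3]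
  obtain ⟨ψ, hψ, -⟩ := (GrothendieckTopology.Subcanonical.isSheaf_of_isRepresentable (J := AlgSp.J S) (yoneda.obj G)) R' hR' y hy
  have hval : ∀ {V : Over S} (f : V ⟶ T) (hf : R f), (H ◁ f) ≫ ψ = (x f hf).down.1 := by
    intro V f hf
    have hm : R' (H ◁ f) := by
      show R ((H ◁ f) ≫ snd H T)
      rw [whiskerLeft_snd]
      exact R.downward_closed hf _
    have e : (H ◁ f) ≫ ψ = lift ((H ◁ f) ≫ fst H T) (𝟙 (H ⊗ V)) ≫ (x ((H ◁ f) ≫ snd H T) hm).down.1 := hψ _ hm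
    rw [e]
    have e2 : (x ((H ◁ f) ≫ snd H T) hm).down.1 = (x (snd H V ≫ f) (R.downward_closed hf _)).down.1 := by
      congr 2
      · congr 1
        exact whiskerLeft_snd _ _
    rw [e2, hnat _ f hf, whiskerLeft_fst, lift_whiskerLeft_assoc, Category.id_comp, lift_fst_snd,
      Category.id_comp]
  have hfam : AutFam.IsHomFamily H G ψ := by
    intro X g₁ g₂ t
    refine hom_ext_sieve ((AlgSp.J S).pullback_stable t hR) fun W k hk => ?_
    have hk' : R (k ≫ t) := hk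
    have key : ∀ g : X ⟶ H, k ≫ lift g t ≫ ψ = lift (k ≫ g) (𝟙 W) ≫ (x (k ≫ t) hk').down.1 := by
      intro g
      rw [← hval _ hk', comp_lift_assoc, lift_whiskerLeft_assoc, Category.id_comp]
    rw [MonObj.comp_mul, key, key, key, MonObj.comp_mul]
    exact (x (k ≫ t) hk').down.2 _ _ _ _
  refine ⟨⟨⟨ψ, hfam⟩⟩, fun V f hf => ULift.ext _ _ (Subtype.ext (hval f hf)), fun φ hφ => ?_⟩
  refine ULift.ext _ _ (Subtype.ext (hom_ext_sieve hR' fun W g hg => ?_))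
  have hg' : R (g ≫ snd H T) := hg
  have e1 : (H ◁ (g ≫ snd H T)) ≫ φ.down.1 = (x (g ≫ snd H T) hg').down.1 :=
    congrArg (fun z => z.down.1) (hφ _ hg')
  have e : g = lift (g ≫ fst H T) (𝟙 W) ≫ (H ◁ (g ≫ snd H T)) := by
    rw [lift_whiskerLeft, Category.id_comp, ← comp_lift, lift_fst_snd, Category.comp_id]
  rw [e, Category.assoc, Category.assoc, e1, hval _ hg']

/-- The sheaf of families of homomorphisms. -/
def sheaf : AlgSp.Sp S := ⟨psh H G, (isSheaf_iff_isSheaf_of_type _ _).2 (isSheaf_psh H G)⟩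

/-- A family as a map from a representable sheaf. -/
def sec {T : Over S} (φ : H ⊗ T ⟶ G) (hφ : AutFam.IsHomFamily H G φ) : (AlgSp.yon S).obj T ⟶ sheaf H G :=
  (Groth.Agent.AlgSp.yEquiv (F := sheaf H G)).symm ⟨⟨φ, hφ⟩⟩

/-- The family of a map from a representable sheaf. -/
def famOf {T : Over S} (g : (AlgSp.yon S).obj T ⟶ sheaf H G) : H ⊗ T ⟶ G :=
  (Groth.Agent.AlgSp.yEquiv g).down.1

lemma isHomFamily_famOf {T : Over S} (g : (AlgSp.yon S).obj T ⟶ sheaf H G) :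
    AutFam.IsHomFamily H G (famOf H G g) :=
  (Groth.Agent.AlgSp.yEquiv g).down.2

lemma famOf_sec {T : Over S} (φ : H ⊗ T ⟶ G) (hφ : AutFam.IsHomFamily H G φ) : famOf H G (sec H G φ hφ) = φ := by
  rw [famOf, sec, Equiv.apply_symm_apply]

variable {H G} in
lemma hom_ext {T : Over S} {g g' : (AlgSp.yon S).obj T ⟶ sheaf H G} (h : famOf H G g = famOf H G g') : g = g' :=
  Groth.Agent.AlgSp.yEquiv.injective (ULift.ext _ _ (Subtype.ext h))

lemma famOf_map {T T' : Over S} (f : T' ⟶ T) (g : (AlgSp.yon S).obj T ⟶ sheaf H G) :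
    famOf H G ((AlgSp.yon S).map f ≫ g) = (H ◁ f) ≫ famOf H G g := by
  rw [famOf, Groth.Agent.AlgSp.yEquiv_map]
  rfl

end Groth.Agent.DiagRig.HomSheaf
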