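import Groth.Agent.DiagRig.HomConstChart
import Groth.Agent.DiagRig.HomSheaf
import Groth.Agent.AlgSp.InfGlue
import Groth.Agent.AlgSp.Coprod
import Mathlib.AlgebraicGeometry.Limits

/-!
# Homomorphisms between split groups are locally constant: the representing sheaf square

Over a disjoint union `V` of affine charts on which both groups split, the sheaf of homomorphisms is
represented by the disjoint union of one copy of each chart for each homomorphism of character groups.
-/

universe u

open CategoryTheory MonoidalCategory CartesianMonoidalCategory MonObj GrpObj AlgebraicGeometry Limits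

noncomputable section

namespace Groth.Agent.DiagRig.HomRep

set_option backward.isDefEq.respectTransparency.types false

/-- A chart on which two groups are split. -/
structure Chart {S : Scheme.{u}} (G H : Over S) [GrpObj G] [GrpObj H] where
  R : CommRingCat.{u}
  p : Spec R ⟶ S
  M : Type
  [addM : AddCommGroup M]
  M' : Type
  [addM' : AddCommGroup M']
  P : SplitPts p G M
  hP : P.Inj
  P' : SplitPts p H M'
  hP' : P'.Inj
  fg : AddGroup.FG M'

attribute [instance] Chart.addM Chart.addM'

variable {S : Scheme.{u}} {G H : Over S} [GrpObj G] [GrpObj H] {κ : Type u} (c : κ → Chart G H)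

/-- Pairs of a chart and a homomorphism of character groups. -/
abbrev Idx : Type u := Σ s : κ, ULift.{u} ((c s).M' →+ (c s).M)

/-- The chart as a scheme over `S`. -/
abbrev piece (s : κ) : Over S := HomChart.tst (c s).p ((c s).R : Type u)

/-- The disjoint union of the charts. -/
abbrev base : Over S := Over.mk (Sigma.desc fun s => (piece c s).hom)

/-- A chart inside the disjoint union. -/
def inB (s : κ) : piece c s ⟶ base c :=
  Over.homMk (Sigma.ι (fun s => (piece c s).left) s) (Sigma.ι_desc _ _)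

/-- The representing scheme. -/
abbrev space : Over S := Over.mk (Sigma.desc fun k : Idx c => (piece c k.1).hom)

/-- A copy of a chart inside the representing scheme. -/
def inA (k : Idx c) : piece c k.1 ⟶ space c :=
  Over.homMk (Sigma.ι (fun k : Idx c => (piece c k.1).left) k) (Sigma.ι_desc _ _)

/-- The projection to the charts. -/
def proj : space c ⟶ base c :=
  Over.homMk (Sigma.desc fun k : Idx c => Sigma.ι (fun s => (piece c s).left) k.1)
    (Sigma.hom_ext _ _ fun k => by simp)

@[reassoc]
lemma inA_proj (k : Idx c) : inA c k ≫ proj c = inB c k.1 :=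
  Over.OverMorphism.ext (Sigma.ι_desc _ _)

lemma openImm_inA (k : Idx c) : IsOpenImmersion (inA c k).left :=
  (sigmaOpenCover fun k : Idx c => (piece c k.1).left).map_prop k

lemma openImm_inB (s : κ) : IsOpenImmersion (inB c s).left :=
  (sigmaOpenCover fun s => (piece c s).left).map_prop s

lemma exists_inA (x : (space c).left) : ∃ k, x ∈ Set.range (inA c k).left :=
  ⟨_, (sigmaOpenCover fun k : Idx c => (piece c k.1).left).covers x⟩

lemma exists_inB (x : (base c).left) : ∃ s, x ∈ Set.range (inB c s).left :=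
  ⟨_, (sigmaOpenCover fun s => (piece c s).left).covers x⟩

lemma mono_inB (s : κ) : Mono (inB c s) :=
  (Over.forget S).mono_of_mono_map (have := openImm_inB c s; inferInstanceAs (Mono (inB c s).left))

lemma mono_inA (k : Idx c) : Mono (inA c k) :=
  (Over.forget S).mono_of_mono_map (have := openImm_inA c k; inferInstanceAs (Mono (inA c k).left))

lemma eq_of_inB_eq {s s' : κ} {y : (piece c s).left} {y' : (piece c s').left}
    (h : (inB c s).left y = (inB c s').left y') : s = s' :=
  congrArg Sigma.fst ((sigmaι_eq_iff _ _ _ _ _).mp h)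

lemma eq_of_inA_eq {k k' : Idx c} {y : (piece c k.1).left} {y' : (piece c k'.1).left}
    (h : (inA c k).left y = (inA c k').left y') : k = k' :=
  congrArg Sigma.fst ((sigmaι_eq_iff _ _ _ _ _).mp h)

/-- An affine neighbourhood of a point, with a map into it. -/
lemma exists_affine_nhd (T : Over S) (U : T.left.Opens) {x : T.left} (hx : x ∈ U) :
    ∃ (A : CommRingCat.{u}) (j : Spec A ⟶ T.left), IsOpenImmersion j ∧ x ∈ Set.range j ∧
      Set.range j ⊆ (U : Set T.left) := by
  obtain ⟨V, hV, hxV, hVU⟩ := exists_isAffineOpen_mem_and_subset hx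
  refine ⟨_, hV.fromSpec, inferInstance, by rw [hV.range_fromSpec]; exact hxV, by rw [hV.range_fromSpec]; exact hVU⟩

/-- A map into the base near a point factors through one chart. -/
lemma exists_chart_lift {T : Over S} (t : T ⟶ base c) (U : T.left.Opens) {x : T.left} (hx : x ∈ U) :
    ∃ (s : κ) (C : CommRingCat.{u}) (_ : Algebra (c s).R C) (j : HomChart.tst (c s).p C ⟶ T)
      (k : ((c s).R : Type u) →ₐ[(c s).R] C), IsOpenImmersion j.left ∧ x ∈ Set.range j.left ∧
      Set.range j.left ⊆ (U : Set T.left) ∧ j ≫ t = (Over.map (c s).p).map (testMap k) ≫ inB c s := by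
  obtain ⟨s, hs⟩ := exists_inB c (t.left x)
  have := openImm_inB c s
  let U' : T.left.Opens := U ⊓ t.left ⁻¹ᵁ (inB c s).left.opensRange
  obtain ⟨C, j₀, hj₀, hxj, hjU⟩ := exists_affine_nhd T U' (x := x) ⟨hx, hs⟩
  let W : Over S := Over.mk (j₀ ≫ T.hom)
  let w : W ⟶ piece c s := Over.homMk (IsOpenImmersion.lift (inB c s).left (j₀ ≫ t.left) (by
      rintro _ ⟨y, rfl⟩
      exact (hjU ⟨y, rfl⟩).2)) (by
    show _ ≫ (piece c s).hom = j₀ ≫ T.hom
    rw [← Over.w (inB c s), IsOpenImmersion.lift_fac_assoc, Category.assoc, Over.w t])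
  obtain ⟨_, j', k, hj', hk⟩ := HomChart.exists_piece w (W := W) (𝟙 _)
  let i : W ⟶ T := Over.homMk j₀ rfl
  refine ⟨s, C, inferInstance, j' ≫ i, k, ?_, ?_, ?_, ?_⟩
  · show IsOpenImmersion (j'.left ≫ j₀)
    rw [hj']; erw [Category.id_comp]; exact hj₀
  · show x ∈ Set.range (j'.left ≫ j₀)
    rw [hj']; erw [Category.id_comp]; exact hxj
  · show Set.range (j'.left ≫ j₀) ⊆ _
    rw [hj']; erw [Category.id_comp]; exact fun y hy => (hjU hy).1
  · rw [Category.assoc, ← hk, Category.assoc]
    congr 1
    exact Over.OverMorphism.ext (IsOpenImmersion.lift_fac _ _ _).symm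

/-- A map over one chart whose image in the base is that of a copy is that copy. -/
lemma eq_copy (k : Idx c) {Z : Over S} (a : Z ⟶ space c) (b : Z ⟶ piece c k.1)
    (h : a ≫ proj c = b ≫ inB c k.1) (hr : Set.range a.left ⊆ Set.range (inA c k).left) :
    a = b ≫ inA c k := by
  have := openImm_inA c k
  let a' : Z ⟶ piece c k.1 := Over.homMk (IsOpenImmersion.lift (inA c k).left a.left hr) (by
    rw [← Over.w (inA c k), IsOpenImmersion.lift_fac_assoc, Over.w a])
  have ha : a' ≫ inA c k = a := Over.OverMorphism.ext (IsOpenImmersion.lift_fac _ _ _)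
  have := mono_inB c k.1
  rw [← ha]
  congr 1
  rw [← cancel_mono (inB c k.1), ← h, ← ha, Category.assoc, inA_proj]

/-- The constant family on a copy. -/
def famA (k : Idx c) : (AlgSp.yon S).obj (piece c k.1) ⟶ HomSheaf.sheaf G H :=
  HomSheaf.sec G H (HomConst.fam (c k.1).hP (c k.1).P' k.2.down) (HomConst.isHomFamily_fam (c k.1).hP _)

/-- The universal family. -/
theorem exists_univ : ∃ u : (AlgSp.yon S).obj (space c) ⟶ HomSheaf.sheaf G H,
    ∀ k, (AlgSp.yon S).map (inA c k) ≫ u = famA c k := by
  refine Groth.Agent.AlgSp.InfGlue.exists_glue (inA c) (fun k => have := openImm_inA c k; inferInstance)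
    (exists_inA c) (famA c) fun i j Z a b hab => ?_
  by_cases hij : i = j
  · subst hij
    have := mono_inA c i
    rw [(cancel_mono (inA c i)).1 hab]
  · have hZ : IsEmpty Z.left := ⟨fun z => hij (eq_of_inA_eq c (y := a.left z) (y' := b.left z)
      (congr($(congrArg CommaMorphism.left hab) z)))⟩
    obtain ⟨l, hl⟩ := Groth.Agent.AlgSp.exists_hom_of_isEmpty (G := HomSheaf.sheaf G H) hZ
    rw [hl ((AlgSp.yon S).map a ≫ famA c i), hl ((AlgSp.yon S).map b ≫ famA c j)]

/-- Two lifts with the same family and the same chart are equal. -/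
theorem lift_unique (u : (AlgSp.yon S).obj (space c) ⟶ HomSheaf.sheaf G H)
    (hu : ∀ k, (AlgSp.yon S).map (inA c k) ≫ u = famA c k) {T : Over S} (a b : T ⟶ space c)
    (hp : a ≫ proj c = b ≫ proj c) (he : (AlgSp.yon S).map a ≫ u = (AlgSp.yon S).map b ≫ u) : a = b := by
  have loc : ∀ x : T.left, ∃ (A : CommRingCat.{u}) (j : Spec A ⟶ T.left), IsOpenImmersion j ∧
      x ∈ Set.range j ∧ j ≫ a.left = j ≫ b.left := by
    intro x
    obtain ⟨k, hk⟩ := exists_inA c (a.left x)
    obtain ⟨k', hk'⟩ := exists_inA c (b.left x)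
    have := openImm_inA c k
    have := openImm_inA c k'
    let U : T.left.Opens := a.left ⁻¹ᵁ (inA c k).left.opensRange ⊓ b.left ⁻¹ᵁ (inA c k').left.opensRange
    obtain ⟨s, C, instC, j, m, hjo, hxj, hjU, hjm⟩ := exists_chart_lift c (a ≫ proj c) U (x := x) ⟨hk, hk'⟩
    obtain ⟨y, hy⟩ := hxj
    refine ⟨C, j.left, hjo, ⟨y, hy⟩, ?_⟩
    have hs : ∀ (k : Idx c) (a : T ⟶ space c), a ≫ proj c ∈ {t | j ≫ t = (Over.map (c s).p).map (testMap m) ≫ inB c s} →
        a.left x ∈ Set.range (inA c k).left → k.1 = s := by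
      intro k a ha hk
      obtain ⟨z, hz⟩ := hk
      have e1 : (j ≫ a ≫ proj c).left y = (inA c k ≫ proj c).left z := by
        show (proj c).left (a.left (j.left y)) = (proj c).left ((inA c k).left z)
        rw [hy, hz]
      rw [inA_proj] at e1
      have e2 : (j ≫ a ≫ proj c).left y =
          (inB c s).left (((Over.map (c s).p).map (testMap m)).left y) := by
        rw [show j ≫ a ≫ proj c = _ from ha]; rfl
      exact eq_of_inB_eq c (e1.symm.trans e2)
    obtain ⟨k₁, θ⟩ := k
    obtain ⟨k₂, θ'⟩ := k'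
    obtain rfl : k₁ = s := hs ⟨k₁, θ⟩ a hjm hk
    obtain rfl : k₂ = k₁ := hs ⟨k₂, θ'⟩ b (by rw [← hp]; exact hjm) hk'
    have ea : j ≫ a = (Over.map (c k₂).p).map (testMap m) ≫ inA c ⟨k₂, θ⟩ :=
      eq_copy c ⟨k₂, θ⟩ (j ≫ a) _ (by rw [Category.assoc]; exact hjm) (by
        rintro _ ⟨z, rfl⟩
        exact (hjU ⟨z, rfl⟩).1)
    have eb : j ≫ b = (Over.map (c k₂).p).map (testMap m) ≫ inA c ⟨k₂, θ'⟩ :=
      eq_copy c ⟨k₂, θ'⟩ (j ≫ b) _ (by rw [Category.assoc, ← hp]; exact hjm) (by
        rintro _ ⟨z, rfl⟩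
        exact (hjU ⟨z, rfl⟩).2)
    have ef : ∀ (θ : ULift.{u} ((c k₂).M' →+ (c k₂).M)) (a : T ⟶ space c),
        j ≫ a = (Over.map (c k₂).p).map (testMap m) ≫ inA c ⟨k₂, θ⟩ →
        HomSheaf.famOf G H ((AlgSp.yon S).map (j ≫ a) ≫ u) =
          (G ◁ (Over.map (c k₂).p).map (testMap m)) ≫ HomConst.fam (c k₂).hP (c k₂).P' θ.down := by
      intro θ a ha
      rw [ha, Functor.map_comp, Category.assoc, hu, HomSheaf.famOf_map, famA, HomSheaf.famOf_sec]
    have e3 := congrArg (HomSheaf.famOf G H) (congrArg ((AlgSp.yon S).map j ≫ ·) he)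
    simp only [← Functor.map_comp_assoc] at e3
    rw [ef θ a ea, ef θ' b eb] at e3
    have : Nonempty (Spec C) := ⟨y⟩
    have : Nontrivial C := PrimeSpectrum.nonempty_iff_nontrivial.mp ‹_›
    have h4 := HomConst.eq_of_fam_eq (c k₂).hP (c k₂).hP' m m _ _ e3
    obtain rfl : θ = θ' := ULift.ext _ _ h4
    exact congrArg CommaMorphism.left (ea.trans eb.symm)
  choose A j hj hx he' using loc
  exact Over.OverMorphism.ext (Scheme.Cover.hom_ext
    (Scheme.Cover.mkOfCovers (P := @IsOpenImmersion) (T.left : Type u) (fun x => Spec (A x)) j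
      (fun x => ⟨x, hx x⟩) hj) _ _ he')

/-- Every family over a chart is locally constant, so lifts to the representing scheme. -/
theorem lift_exists (u : (AlgSp.yon S).obj (space c) ⟶ HomSheaf.sheaf G H)
    (hu : ∀ k, (AlgSp.yon S).map (inA c k) ≫ u = famA c k) {T : Over S}
    (g : (AlgSp.yon S).obj T ⟶ HomSheaf.sheaf G H) (t : T ⟶ base c) :
    ∃ a : T ⟶ space c, (AlgSp.yon S).map a ≫ u = g ∧ a ≫ proj c = t := by
  have loc : ∀ x : T.left, ∃ (W : Over S) (j : W ⟶ T) (l : W ⟶ space c), IsOpenImmersion j.left ∧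
      x ∈ Set.range j.left ∧ (AlgSp.yon S).map l ≫ u = (AlgSp.yon S).map j ≫ g ∧ l ≫ proj c = j ≫ t := by
    intro x
    obtain ⟨s, C, instC, j, m, hjo, hxj, -, hjm⟩ := exists_chart_lift c t ⊤ (x := x) trivial
    obtain ⟨y, hy⟩ := hxj
    obtain ⟨d, k, k₀, hd, hk, θ, hθ⟩ := HomConst.exists_local_fam (c s).hP (c s).hP' (c s).fg
      (HomSheaf.famOf G H ((AlgSp.yon S).map j ≫ g)) (HomSheaf.isHomFamily_famOf G H _) y
    let l : HomChart.tst (c s).p (Localization.Away d) ⟶ HomChart.tst (c s).p C :=
      (Over.map (c s).p).map (testMap k)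
    have hl : l.left = Spec.map (CommRingCat.ofHom (algebraMap C (Localization.Away d))) := by
      show Spec.map (CommRingCat.ofHom k.toRingHom) = _
      rw [hk]
    have : IsOpenImmersion l.left := hl ▸ IsOpenImmersion.of_isLocalization d
    refine ⟨_, l ≫ j, (Over.map (c s).p).map (testMap k₀) ≫ inA c ⟨s, ⟨θ⟩⟩,
      inferInstanceAs (IsOpenImmersion (l.left ≫ j.left)), ?_, ?_, ?_⟩
    · obtain ⟨q, hq⟩ : y ∈ Set.range (Spec.map (CommRingCat.ofHom (algebraMap C (Localization.Away d)))) := by
        rw [show Set.range (Spec.map (CommRingCat.ofHom (algebraMap C (Localization.Away d)))) =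
          (PrimeSpectrum.basicOpen d : Set (PrimeSpectrum C)) from PrimeSpectrum.localization_away_comap_range _ d]
        exact hd
      refine ⟨q, ?_⟩
      show j.left (l.left q) = x
      rw [hl, hq, hy]
    · refine HomSheaf.hom_ext ?_
      rw [Functor.map_comp, Category.assoc, hu, HomSheaf.famOf_map, famA, HomSheaf.famOf_sec, Functor.map_comp,
        Category.assoc, HomSheaf.famOf_map]
      exact hθ.symm
    · rw [Category.assoc, inA_proj, Category.assoc, hjm, ← Category.assoc l, ← Functor.map_comp]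
      congr 2
      apply Over.OverMorphism.ext
      show Spec.map (CommRingCat.ofHom k₀.toRingHom) =
        Spec.map (CommRingCat.ofHom k.toRingHom) ≫ Spec.map (CommRingCat.ofHom m.toRingHom)
      rw [← Spec.map_comp, ← CommRingCat.ofHom_comp]
      congr 2
      exact RingHom.ext fun r => (k₀.commutes r).trans ((k.comp m).commutes r).symm
  choose W j l hj hx hl ht using loc
  obtain ⟨L, hL⟩ := Groth.Agent.AlgSp.InfGlue.exists_glue (T := T) j (fun x => have := hj x; inferInstance)
    (fun x => ⟨x, hx x⟩) (fun x => (AlgSp.yon S).map (l x)) fun x x' Z a b hab => by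
      rw [← Functor.map_comp, ← Functor.map_comp]
      congr 1
      refine lift_unique c u hu _ _ ?_ ?_
      · rw [Category.assoc, Category.assoc, ht, ht, reassoc_of% hab]
      · rw [Functor.map_comp, Functor.map_comp, Category.assoc, Category.assoc, hl, hl, ← Functor.map_comp_assoc,
          ← Functor.map_comp_assoc, hab]
  obtain ⟨a, ha⟩ := (AlgSp.yon S).map_surjective L
  refine ⟨a, Groth.Agent.AlgSp.InfGlue.hom_ext_cover j (fun x => have := hj x; inferInstance)
    (fun x => ⟨x, hx x⟩) _ _ fun x => ?_, (AlgSp.yon S).map_injective ?_⟩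
  · rw [ha, reassoc_of% (hL x), hl]
  · refine Groth.Agent.AlgSp.InfGlue.hom_ext_cover j (fun x => have := hj x; inferInstance)
      (fun x => ⟨x, hx x⟩) _ _ fun x => ?_
    rw [Functor.map_comp, ha, reassoc_of% (hL x), ← Functor.map_comp, ht, Functor.map_comp]

/-- The sheaf square. -/
theorem exists_isPullback {E : AlgSp.Sp S} (hE : IsTerminal E) :
    ∃ u : (AlgSp.yon S).obj (space c) ⟶ HomSheaf.sheaf G H, (∀ k, (AlgSp.yon S).map (inA c k) ≫ u = famA c k) ∧
      IsPullback u ((AlgSp.yon S).map (proj c)) (hE.from (HomSheaf.sheaf G H)) (hE.from ((AlgSp.yon S).obj (base c))) := by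
  obtain ⟨u, hu⟩ := exists_univ c
  refine ⟨u, hu, ?_⟩
  let P := pullback (hE.from (HomSheaf.sheaf G H)) (hE.from ((AlgSp.yon S).obj (base c)))
  let l : (AlgSp.yon S).obj (space c) ⟶ P := pullback.lift u ((AlgSp.yon S).map (proj c)) (hE.hom_ext _ _)
  have : Mono l := Groth.Agent.AlgSp.mono_of_yon _ fun T a b h => by
    obtain ⟨a', rfl⟩ := (AlgSp.yon S).map_surjective a
    obtain ⟨b', rfl⟩ := (AlgSp.yon S).map_surjective b
    congr 1
    refine lift_unique c u hu a' b' ((AlgSp.yon S).map_injective ?_) ?_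
    · have e := congrArg (· ≫ pullback.snd _ _) h
      simp only [l, Category.assoc] at e
      erw [pullback.lift_snd] at e
      simpa using e
    · have e := congrArg (· ≫ pullback.fst _ _) h
      simp only [l, Category.assoc] at e
      erw [pullback.lift_fst] at e
      exact e
  have hs : ∀ (T : Over S) (z : (AlgSp.yon S).obj T ⟶ P), ∃ a : T ⟶ space c, (AlgSp.yon S).map a ≫ l = z := by
    intro T z
    obtain ⟨t, ht⟩ := (AlgSp.yon S).map_surjective (z ≫ pullback.snd _ _)
    obtain ⟨a, ha, ha'⟩ := lift_exists c u hu (z ≫ pullback.fst _ _) t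
    refine ⟨a, pullback.hom_ext ?_ ?_⟩
    · rw [Category.assoc]
      erw [pullback.lift_fst]
      exact ha
    · rw [Category.assoc]
      erw [pullback.lift_snd]
      rw [← Functor.map_comp, ha', ht]
  have : IsIso l := by
    have : Sheaf.IsLocallySurjective l := Groth.Agent.AlgSp.isLocallySurjective_of_fppf_lift l fun T z => by
      obtain ⟨a, ha⟩ := hs T z
      exact ⟨T, 𝟙 T, (AlgSp.yon S).map a, inferInstanceAs (Flat (𝟙 T.left)),
        inferInstanceAs (Surjective (𝟙 T.left)), inferInstanceAs (LocallyOfFinitePresentation (𝟙 T.left)),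
        by rw [ha, CategoryTheory.Functor.map_id, Category.id_comp]⟩
    exact isIso_of_mono_of_epi l
  exact IsPullback.of_iso_pullback ⟨hE.hom_ext _ _⟩ (asIso l) (pullback.lift_fst _ _ _) (pullback.lift_snd _ _ _)

end Groth.Agent.DiagRig.HomRep
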