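import Groth.Agent.DiagRig.HomCharts
import Mathlib.CategoryTheory.Monoidal.Cartesian.Grp

/-! The group structure on the scheme of characters of a quasi-isotrivial group of multiplicative type. -/

universe u

open CategoryTheory MonoidalCategory CartesianMonoidalCategory MonObj GrpObj AlgebraicGeometry Limits Opposite
open Groth.Agent.RedPts

noncomputable section

namespace Groth.Agent.DiagRig.HomDual

set_option backward.isDefEq.respectTransparency.types false

variable {S : Scheme.{u}}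

lemma gm_comm {X : Over S} (a b : X ⟶ Red.Gm S) : a * b = b * a :=
  d_ext fun m => by rw [d_mul, d_mul, _root_.mul_comm]

variable (G : Over S) [GrpObj G]

lemma isHomFamily_mul {T : Over S} {φ ψ : G ⊗ T ⟶ Red.Gm S} (hφ : AutFam.IsHomFamily G (Red.Gm S) φ)
    (hψ : AutFam.IsHomFamily G (Red.Gm S) ψ) : AutFam.IsHomFamily G (Red.Gm S) (φ * ψ) := by
  intro X g₁ g₂ t
  rw [MonObj.comp_mul, MonObj.comp_mul, MonObj.comp_mul, hφ, hψ]
  rw [_root_.mul_assoc, _root_.mul_assoc, ← _root_.mul_assoc (lift g₂ t ≫ φ), gm_comm (lift g₂ t ≫ φ),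
    _root_.mul_assoc]

lemma isHomFamily_one {T : Over S} : AutFam.IsHomFamily G (Red.Gm S) (1 : G ⊗ T ⟶ Red.Gm S) := by
  intro X g₁ g₂ t
  rw [MonObj.comp_one, MonObj.comp_one, MonObj.comp_one, _root_.mul_one]

lemma isHomFamily_inv {T : Over S} {φ : G ⊗ T ⟶ Red.Gm S} (hφ : AutFam.IsHomFamily G (Red.Gm S) φ) :
    AutFam.IsHomFamily G (Red.Gm S) φ⁻¹ := by
  intro X g₁ g₂ t
  rw [GrpObj.comp_inv, GrpObj.comp_inv, GrpObj.comp_inv, hφ]
  exact (_root_.mul_inv_rev (lift g₁ t ≫ φ) (lift g₂ t ≫ φ)).trans (gm_comm _ _)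

/-- The group of character families. -/
def famSubgroup (T : Over S) : Subgroup (G ⊗ T ⟶ Red.Gm S) where
  carrier := {φ | AutFam.IsHomFamily G (Red.Gm S) φ}
  one_mem' := isHomFamily_one G
  mul_mem' := isHomFamily_mul G
  inv_mem' := isHomFamily_inv G

/-- The presheaf of groups of character families. -/
def pshGrp : (Over S)ᵒᵖ ⥤ GrpCat.{u} where
  obj T := GrpCat.of (famSubgroup G T.unop)
  map {T T'} f := GrpCat.ofHom
    { toFun := fun φ => ⟨(G ◁ f.unop) ≫ φ.1, HomSheaf.isHomFamily_whisker G (Red.Gm S) f.unop φ.2⟩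
      map_one' := Subtype.ext (MonObj.comp_one _)
      map_mul' := fun a b => Subtype.ext (MonObj.comp_mul _ _ _) }
  map_id T := GrpCat.hom_ext (MonoidHom.ext fun φ => Subtype.ext (by
    show (G ◁ 𝟙 _) ≫ φ.1 = φ.1
    simp))
  map_comp {T T' T''} f g := GrpCat.hom_ext (MonoidHom.ext fun φ => Subtype.ext (by
    show (G ◁ (g.unop ≫ f.unop)) ≫ φ.1 = (G ◁ g.unop) ≫ (G ◁ f.unop) ≫ φ.1
    simp))

variable {G} {A : Over S} {υ : G ⊗ A ⟶ Red.Gm S} (hυ : AutFam.RepresentsHom G (Red.Gm S) A υ)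

/-- The representing object represents the presheaf of groups. -/
def repBy : (pshGrp G ⋙ forget GrpCat).RepresentableBy A where
  homEquiv {T} :=
    { toFun := fun a => (⟨(G ◁ a) ≫ υ, HomSheaf.isHomFamily_whisker G (Red.Gm S) a hυ.1⟩ : famSubgroup G T)
      invFun := fun φ => (hυ.2 T (φ : famSubgroup G T).1 (φ : famSubgroup G T).2).choose
      left_inv := fun a => ((hυ.2 T _ (HomSheaf.isHomFamily_whisker G (Red.Gm S) a hυ.1)).choose_spec.2 a rfl).symm
      right_inv := fun φ => Subtype.ext (hυ.2 T (φ : famSubgroup G T).1 (φ : famSubgroup G T).2).choose_spec.1 }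
  homEquiv_comp f g := Subtype.ext (by
    show (G ◁ (f ≫ g)) ≫ υ = (G ◁ f) ≫ (G ◁ g) ≫ υ
    simp)

include hυ in
/-- The group law: pointwise product of characters. -/
theorem exists_grpObj : ∃ _ : GrpObj A, ∀ (T : Over S) (a b : T ⟶ A),
    (G ◁ (a * b)) ≫ υ = ((G ◁ a) ≫ υ) * ((G ◁ b) ≫ υ) := by
  let R := repBy hυ
  let inst : GrpObj A := GrpObj.ofRepresentableBy A (pshGrp G) R
  refine ⟨inst, fun T a b => ?_⟩
  have h : R.homEquiv (a * b) = (show famSubgroup G T from R.homEquiv a) * (show famSubgroup G T from R.homEquiv b) := by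
    show R.homEquiv (lift a b ≫ R.homEquiv.symm ((show famSubgroup G (A ⊗ A) from R.homEquiv (fst A A)) *
      (show famSubgroup G (A ⊗ A) from R.homEquiv (snd A A)))) = _
    rw [R.homEquiv_comp, Equiv.apply_symm_apply]
    refine Eq.trans (map_mul ((pshGrp G).map (lift a b).op).hom _ _) ?_
    exact congrArg₂ (· * ·) ((R.homEquiv_comp (lift a b) (fst A A)).symm.trans (by rw [lift_fst]))
      ((R.homEquiv_comp (lift a b) (snd A A)).symm.trans (by rw [lift_snd]))
  exact congrArg Subtype.val h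

/-- The product of constant families is the constant family of the sum. -/
theorem fam_mul {R : CommRingCat.{u}} {p : Spec R ⟶ S} {M : Type} [AddCommGroup M] {P : SplitPts p G M}
    (hP : P.Inj) {M' : Type} [AddCommGroup M'] (P' : SplitPts p (Red.Gm S) M') (θ θ' : M' →+ M) :
    HomConst.fam hP P' θ * HomConst.fam hP P' θ' = HomConst.fam hP P' (θ + θ') := by
  refine HomChart.Descr.hom_eq (P := P) (P' := P') ?_ (HomConst.descr_fam hP (θ + θ'))
  intro D _ _ k τ
  show lift _ _ ≫ (_ * _) = _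
  rw [MonObj.comp_mul]
  refine (congrArg₂ (· * ·) (HomConst.descr_fam hP θ D k τ) (HomConst.descr_fam hP θ' D k τ)).trans ?_
  rw [← gPt_mul]
  congr 1
  refine MonoidHom.ext fun y => ?_
  show HomChart.L k τ _ * HomChart.L k τ _ = HomChart.L k τ _
  rw [← map_mul]
  congr 1
  simp [HomConst.cst, MonoidAlgebra.single_mul_single, ofAdd_add]

lemma constMap_comp {U : Scheme.{u}} {I J K : Type u} (a : I → J) (b : J → K) :
    TwC.constMap U a ≫ TwC.constMap U b = TwC.constMap U (b ∘ a) :=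
  Over.OverMorphism.ext (Sigma.hom_ext _ _ fun i => by simp [TwC.constMap])

lemma constMap_id {U : Scheme.{u}} {I : Type u} : TwC.constMap U (id : I → I) = 𝟙 _ :=
  Over.OverMorphism.ext (Sigma.hom_ext _ _ fun i => by simp [TwC.constMap])

/-- Reindexing a constant scheme. -/
def constIso {U : Scheme.{u}} {I J : Type u} (e : I ≃ J) : TwC.const U I ≅ TwC.const U J where
  hom := TwC.constMap U e
  inv := TwC.constMap U e.symm
  hom_inv_id := by rw [constMap_comp, Equiv.symm_comp_self, constMap_id]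
  inv_hom_id := by rw [constMap_comp, Equiv.self_comp_symm, constMap_id]

lemma pt_constMap {U : Scheme.{u}} {I J : Type u} (a : I → J) (i : I) :
    TwC.pt U I i ≫ TwC.constMap U a = TwC.pt U J (a i) :=
  Over.OverMorphism.ext (by simp [TwC.pt, TwC.constMap])

/-- The scheme of characters is a twisted constant group. -/
theorem exists_dual (hc : ∀ x : S, ∃ c : HomRep.Chart G (Red.Gm S), Etale c.p ∧ x ∈ Set.range c.p) :
    ∃ (D : Over S) (_ : GrpObj D) (υ : G ⊗ D ⟶ Red.Gm S), AutFam.RepresentsHom G (Red.Gm S) D υ ∧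
      (∀ (X : Over S) (h : X ⟶ G) (a b : X ⟶ D), lift h (a * b) ≫ υ = (lift h a ≫ υ) * (lift h b ≫ υ)) ∧
      TwC.IsTwConstGrp TwC.Topology.etale D := by
  choose c he hx using hc
  obtain ⟨A, ⟨e⟩⟩ := HomRep.exists_rep c he (fun x => ⟨x, hx x⟩)
  have hυ := HomRep.representsHom_of_iso e
  obtain ⟨inst, hmul⟩ := exists_grpObj hυ
  refine ⟨A, inst, _, hυ, fun X h a b => ?_, fun x => ⟨Spec (c x).R, (c x).p, he x, hx x, ?_⟩⟩
  · have := congrArg (lift h (𝟙 X) ≫ ·) (hmul X a b)
    simpa [MonObj.comp_mul] using this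
  obtain ⟨i, hi⟩ := HomRep.exists_bc_iso e (c x)
  let N : Type u := Multiplicative (ULift.{u} ((c x).M' →+ (c x).M))
  let σ : HomRep.Idx (fun _ : PUnit.{u + 1} => c x) ≃ N :=
    { toFun := fun k => Multiplicative.ofAdd k.2
      invFun := fun n => ⟨PUnit.unit, n.toAdd⟩
      left_inv := fun k => rfl
      right_inv := fun n => rfl }
  refine ⟨N, inferInstance, i ≪≫ constIso σ, fun m n => ?_⟩
  have key : ∀ m : N, TwC.pt (Spec (c x).R) N m ≫ (i ≪≫ constIso σ).inv =
      TwC.pt (Spec (c x).R) _ (σ.symm m) ≫ i.inv := fun m => by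
    rw [Iso.trans_inv, ← Category.assoc]
    exact congrArg (· ≫ i.inv) (pt_constMap σ.symm m)
  rw [key, key, key]
  apply bcTr_injective
  rw [bcTr_mul]
  let j : HomChart.tst (c x).p ((c x).R : Type u) ⟶ (Over.map (c x).p).obj (𝟙_ (Over (Spec (c x).R))) :=
    Over.homMk (𝟙 (Spec (c x).R)) (by
      show 𝟙 _ ≫ 𝟙 _ ≫ (c x).p = (HomChart.tst (c x).p ((c x).R : Type u)).hom
      rw [Category.id_comp, Category.id_comp]
      exact (HomRep.piece_hom_eq (fun _ : PUnit.{u + 1} => c x) PUnit.unit).symm)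
  have : IsIso j.left := inferInstanceAs (IsIso (𝟙 (Spec (c x).R)))
  have : IsIso ((Over.forget S).map j) := this
  have : IsIso j := isIso_of_reflects_iso j (Over.forget S)
  rw [← cancel_epi j, MonObj.comp_mul]
  choose y hy hy' using hi
  have hj : ∀ k, j ≫ bcTr (c x).p (TwC.pt (Spec (c x).R) _ k ≫ i.inv) = y k := fun k => Over.OverMorphism.ext (by
    rw [hy, Over.comp_left, bcTr_left, Over.comp_left, Category.assoc]
    exact (Category.id_comp _).trans rfl)
  rw [hj, hj, hj]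
  have e1 : (G ◁ (y (σ.symm m) * y (σ.symm n))) ≫ HomSheaf.famOf G (Red.Gm S) e.hom =
      (G ◁ y (σ.symm (m * n))) ≫ HomSheaf.famOf G (Red.Gm S) e.hom := by
    rw [hmul, hy', hy', hy', fam_mul]
    rfl
  exact (hυ.2 _ _ (HomSheaf.isHomFamily_whisker G (Red.Gm S) (y (σ.symm m) * y (σ.symm n)) hυ.1)).unique rfl e1.symm

end Groth.Agent.DiagRig.HomDual
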