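import Groth.Agent.DiagRig.HomChart
import Groth.Agent.DiagRig.MultProp
import Groth.Agent.FpqcDesc.Props
import Groth.Agent.S1489
import Mathlib.AlgebraicGeometry.ValuativeCriterion
import Mathlib.AlgebraicGeometry.Morphisms.LocalFlatDescent

/-! Homomorphisms between split groups form a finite etale scheme when it is affine. -/

set_option linter.style.haveILetI false

universe u

open CategoryTheory MonoidalCategory CartesianMonoidalCategory MonObj GrpObj AlgebraicGeometry Limits

noncomputable section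

namespace Groth.Agent.DiagRig

variable {S : Scheme.{u}} {G H : Over S} [GrpObj G] [GrpObj H]

lemma red_eq_map {R : CommRingCat.{u}} {A : Type u} [CommRing A] [Algebra R A] {N : Type} [CommGroup N] (I : Ideal A)
    (d : MonoidAlgebra A N) :
    CharLift.red I d = MonoidAlgebra.mapAlgHom (M := N) (Ideal.Quotient.mkₐ R I) d := by
  ext n
  simp [CharLift.coeff_red]

set_option backward.isDefEq.respectTransparency.types false in
/-- Over a chart on which both groups split, the scheme of homomorphisms is finite etale. -/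
theorem finite_etale_hom_chart {Z : Over S} {υ : G ⊗ Z ⟶ H} (hυ : AutFam.RepresentsHom G H Z υ)
    [IsAffineHom Z.hom] [LocallyOfFinitePresentation Z.hom] {R : CommRingCat.{u}} (p : Spec R ⟶ S)
    {M : Type} [AddCommGroup M] (P : SplitPts p G M) (hP : P.Inj)
    {M' : Type} [AddCommGroup M'] (P' : SplitPts p H M') (hP' : P'.Inj) :
    IsFinite (pullback.snd Z.hom p) ∧ Etale (pullback.snd Z.hom p) := by
  let N := Multiplicative M
  let q := pullback.snd Z.hom p
  -- classification of points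
  have hcl : ∀ {C : Type u} [CommRing C] [Algebra R C] (F : Multiplicative M' →* MonoidAlgebra C N),
      (∀ y, CharLift.GL (F y)) → ∃ v : HomChart.tst p C ⟶ Z, HomChart.Descr p P P' ((G ◁ v) ≫ υ) F := by
    intro C _ _ F hF
    obtain ⟨φ, hφ⟩ := HomChart.exists_family P P' hP F
    obtain ⟨v, hv, -⟩ := hυ.2 _ φ (hφ.isHomFamily hF)
    exact ⟨v, by rw [hv]; exact hφ⟩
  have hcl' : ∀ {C : Type u} [CommRing C] [Algebra R C] (v : HomChart.tst p C ⟶ Z),
      ∃ F, HomChart.Descr p P P' ((G ◁ v) ≫ υ) F ∧ ∀ y, CharLift.GL (F y) := by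
    intro C _ _ v
    obtain ⟨F, hF⟩ := HomChart.exists_descr p P P' ((G ◁ v) ≫ υ)
    refine ⟨F, hF, fun y => hF.isGL hP' (fun X a b t => ?_) y⟩
    simp only [lift_whiskerLeft_assoc]
    exact hυ.1 X a b (t ≫ v)
  have hinj : ∀ {C : Type u} [CommRing C] [Algebra R C] (v v' : HomChart.tst p C ⟶ Z)
      (F : Multiplicative M' →* MonoidAlgebra C N), (∀ y, CharLift.GL (F y)) →
      HomChart.Descr p P P' ((G ◁ v) ≫ υ) F → HomChart.Descr p P P' ((G ◁ v') ≫ υ) F → v = v' := by
    intro C _ _ v v' F hF h h'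
    exact (hυ.2 _ _ (h.isHomFamily hF)).unique rfl (h.hom_eq h').symm
  -- the translation between points of the pullback and points of Z
  have hsnd : ∀ {C : Type u} [CommRing C] [Algebra R C] (l : Spec (CommRingCat.of C) ⟶ pullback Z.hom p),
      l ≫ q = Spec.map (CommRingCat.ofHom (algebraMap R C)) →
      ∃ v : HomChart.tst p C ⟶ Z, v.left = l ≫ pullback.fst _ _ := fun l hl =>
    ⟨Over.homMk (l ≫ pullback.fst _ _) (by
      show (l ≫ pullback.fst _ _) ≫ Z.hom = _ ≫ p
      rw [Category.assoc, pullback.condition, reassoc_of% hl]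
      rfl), rfl⟩
  have hpush : ∀ {C C' : Type u} [CommRing C] [Algebra R C] [CommRing C'] [Algebra R C'] (m : C →ₐ[R] C')
      (v : HomChart.tst p C ⟶ Z) (F : Multiplicative M' →* MonoidAlgebra C N),
      HomChart.Descr p P P' ((G ◁ v) ≫ υ) F →
      HomChart.Descr p P P' ((G ◁ ((Over.map p).map (testMap m) ≫ v)) ≫ υ)
        ((MonoidAlgebra.mapAlgHom (M := N) m).toRingHom.toMonoidHom.comp F) := by
    intro C C' _ _ _ _ m v F h
    rw [whiskerLeft_comp, Category.assoc]
    exact h.push m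
  refine ⟨?_, ?_⟩
  · have : IsAffineHom q := inferInstance
    have : LocallyOfFiniteType q := inferInstance
    have hve : ValuativeCriterion.Existence q := by
      rintro ⟨V, K, i₁, i₂, sq⟩
      letI : Algebra R V := (Spec.preimage i₂).hom.toAlgebra
      letI : Algebra R K := ((algebraMap V K).comp (algebraMap R V)).toAlgebra
      let m : V →ₐ[R] K := { algebraMap V K with commutes' := fun _ => rfl }
      have hi₂ : Spec.map (CommRingCat.ofHom (algebraMap R V)) = i₂ := Spec.map_preimage _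
      have hK : i₁ ≫ q = Spec.map (CommRingCat.ofHom (algebraMap R K)) := by
        rw [sq.w, ← hi₂, ← Spec.map_comp]
        rfl
      obtain ⟨vK, hvK⟩ := hsnd i₁ hK
      obtain ⟨F, hF, hGL⟩ := hcl' vK
      choose n hn using fun y => HomChart.gl_exists_single (hGL y)
      have hinjs : ∀ a b : N, MonoidAlgebra.single a (1 : K) = MonoidAlgebra.single b 1 → a = b := fun a b h =>
        MonoidAlgebra.single_left_injective one_ne_zero h
      let θ : Multiplicative M' →* N :=
        { toFun := n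
          map_one' := hinjs _ _ (by rw [← hn, map_one, MonoidAlgebra.one_def])
          map_mul' := fun a b => hinjs _ _ (by
            rw [← hn, map_mul, hn, hn, MonoidAlgebra.single_mul_single, _root_.mul_one]) }
      let FV : Multiplicative M' →* MonoidAlgebra V N := (MonoidAlgebra.of V N).comp θ
      have hFV : ∀ y, CharLift.GL (FV y) := fun y => ⟨by simp [FV, MonoidAlgebra.single_mul_single], by simp [FV]⟩
      obtain ⟨v, hv⟩ := hcl FV hFV
      have hr := hpush m v FV hv
      rw [show (MonoidAlgebra.mapAlgHom (M := N) m).toRingHom.toMonoidHom.comp FV = F from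
        MonoidHom.ext fun y => by rw [hn]; simp [FV, θ]] at hr
      have hvv := hinj _ _ F hGL hr hF
      let l : Spec (CommRingCat.of V) ⟶ pullback Z.hom p := pullback.lift v.left i₂ (by
        rw [Over.w v, ← hi₂]; rfl)
      refine ⟨⟨⟨l, ?_, pullback.lift_snd _ _ _⟩⟩⟩
      apply pullback.hom_ext
      · rw [Category.assoc, pullback.lift_fst, ← hvK, ← hvv]
        rfl
      · rw [Category.assoc, pullback.lift_snd]
        exact sq.w.symm
    have : QuasiCompact q := inferInstance
    have : UniversallyClosed q := UniversallyClosed.of_valuativeCriterion q hve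
    have : IsProper q := {}
    exact IsFinite.iff_isProper_and_isAffineHom.mpr ⟨this, inferInstance⟩
  · rw [Groth.Agent.S1489.result]
    refine ⟨inferInstance, fun A _ I hI a b hab => ?_⟩
    letI : Algebra R A := (Spec.preimage b).hom.toAlgebra
    have hb : Spec.map (CommRingCat.ofHom (algebraMap R A)) = b := Spec.map_preimage _
    let m := Ideal.Quotient.mkₐ R I
    have ha : a ≫ q = Spec.map (CommRingCat.ofHom (algebraMap R (A ⧸ I))) := by
      rw [← hab, ← hb, ← Spec.map_comp]
      rfl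
    obtain ⟨v₀, hv₀⟩ := hsnd a ha
    obtain ⟨F₀, hF₀, hGL₀⟩ := hcl' v₀
    have hnil : IsNilpotent I := ⟨2, hI⟩
    obtain ⟨F, hFGL, hFred⟩ := CharLift.exists_lift_hom hnil F₀ hGL₀
    obtain ⟨v, hv⟩ := hcl F hFGL
    have hr := hpush m v F hv
    rw [show (MonoidAlgebra.mapAlgHom (M := N) m).toRingHom.toMonoidHom.comp F = F₀ from
      MonoidHom.ext fun y => (red_eq_map I (F y)).symm.trans (hFred y)] at hr
    have hvv := hinj _ _ F₀ hGL₀ hr hF₀
    let l : Spec (CommRingCat.of A) ⟶ pullback Z.hom p := pullback.lift v.left b (by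
      rw [Over.w v, ← hb]; rfl)
    refine ⟨l, ⟨?_, pullback.lift_snd _ _ _⟩, fun l' hl' => ?_⟩
    · apply pullback.hom_ext
      · rw [Category.assoc, pullback.lift_fst, ← hv₀, ← hvv]
        rfl
      · rw [Category.assoc, pullback.lift_snd]
        exact hab
    · obtain ⟨v', hv'⟩ := hsnd l' (hl'.2.trans hb.symm)
      obtain ⟨F', hF', hGL'⟩ := hcl' v'
      have hv'v : (Over.map p).map (testMap m) ≫ v' = v₀ := by
        apply Over.OverMorphism.ext
        show Spec.map _ ≫ v'.left = v₀.left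
        rw [hv', hv₀, ← Category.assoc]
        exact congrArg (· ≫ pullback.fst Z.hom p) hl'.1
      have hr' := hpush m v' F' hF'
      rw [hv'v] at hr'
      have e0 := hr'.unique hP' hF₀
      have hFF : F' = F := MonoidHom.ext fun y => (hGL' y).eq_of_red_eq hnil (hFGL y)
        (((red_eq_map I (F' y)).trans (DFunLike.congr_fun e0 y)).trans (hFred y).symm)
      subst hFF
      have := hinj _ _ F' hGL' hF' hv
      apply pullback.hom_ext
      · rw [pullback.lift_fst, ← hv', this]
      · rw [pullback.lift_snd]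
        exact hl'.2

set_option backward.isDefEq.respectTransparency.types false in
/-- Properties of morphisms checked on fpqc charts of the base. -/
theorem prop_of_charts (Pr : MorphismProperty Scheme.{u}) [Pr.IsStableUnderBaseChange] [IsZariskiLocalAtTarget Pr]
    [Pr.DescendsAlong (@Surjective ⊓ @Flat ⊓ @QuasiCompact)] {X : Scheme.{u}} (f : X ⟶ S)
    (h : ∀ W : S.affineOpens, ∃ (κ : Type u) (_ : Finite κ) (T : κ → CommRingCat.{u}) (t : ∀ k, Γ(S, W) ⟶ T k),
      (∀ k, Flat (Spec.map (t k))) ∧ (∀ z, ∃ k q, (Spec.map (t k)).base q = z) ∧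
        ∀ k, Pr (pullback.snd f (Spec.map (t k) ≫ W.2.fromSpec))) : Pr f := by
  let 𝒲 : S.OpenCover := Scheme.Cover.mkOfCovers S.affineOpens (fun W => Spec Γ(S, W)) (fun W => W.2.fromSpec)
    (fun x => by
      obtain ⟨W, hW, hxW, -⟩ := exists_isAffineOpen_mem_and_subset (X := S) (x := x) (U := ⊤) trivial
      obtain ⟨q, hq⟩ := hW.range_fromSpec.ge hxW
      exact ⟨⟨W, hW⟩, q, hq⟩) (fun W => W.2.isOpenImmersion_fromSpec)
  refine IsZariskiLocalAtTarget.of_openCover (P := Pr) 𝒲 fun (W : S.affineOpens) => ?_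
  show Pr (pullback.snd f W.2.fromSpec)
  obtain ⟨κ, _, T, t, hfl, hsurj, hP⟩ := h W
  let π : (∐ fun k => Spec (T k)) ⟶ Spec Γ(S, W) := Sigma.desc fun k => Spec.map (t k)
  have : Flat π := (IsZariskiLocalAtSource.iff_of_openCover (P := @Flat) (sigmaOpenCover _)).mpr fun k => by
    show Flat (Sigma.ι (fun k => Spec (T k)) k ≫ Sigma.desc _)
    rw [Sigma.ι_desc]
    exact hfl k
  have : Surjective π := ⟨fun w => by
    obtain ⟨k, q, hq⟩ := hsurj w
    exact ⟨(Sigma.ι (fun k => Spec (T k)) k).base q, by rw [← Scheme.Hom.comp_apply, Sigma.ι_desc, hq]⟩⟩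
  have : CompactSpace (∐ fun k => Spec (T k) : Scheme.{u}) := (sigmaMk _).compactSpace
  have : QuasiCompact π := inferInstance
  refine MorphismProperty.of_pullback_snd_of_descendsAlong (P := Pr)
    (Q := @Surjective ⊓ @Flat ⊓ @QuasiCompact) (g := π)
    ⟨⟨inferInstance, inferInstance⟩, inferInstance⟩ ?_
  rw [← pullbackLeftPullbackSndIso_hom_snd, MorphismProperty.cancel_left_of_respectsIso (P := Pr)]
  refine IsZariskiLocalAtTarget.of_openCover (P := Pr) (sigmaOpenCover _) fun (k : κ) => ?_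
  show Pr (pullback.snd (pullback.snd f (π ≫ W.2.fromSpec)) (Sigma.ι (fun k => Spec (T k)) k))
  rw [← pullbackLeftPullbackSndIso_hom_snd, MorphismProperty.cancel_left_of_respectsIso (P := Pr)]
  have key : ∀ q, q = Spec.map (t k) ≫ W.2.fromSpec → Pr (pullback.snd f q) := by
    rintro _ rfl
    exact hP k
  exact key _ (by rw [Sigma.ι_desc_assoc])

end Groth.Agent.DiagRig

namespace Groth.Agent.DiagRig

variable {S : Scheme.{u}} {G H : Over S} [GrpObj G] [GrpObj H]

set_option backward.isDefEq.respectTransparency.types false in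
/-- Common fpqc charts for two split groups. -/
theorem exists_common_fpqc (hG : SplitFpqc G) (hH : SplitFpqc H) (W : S.affineOpens) :
    ∃ (κ : Type u) (_ : Finite κ) (T : κ → CommRingCat.{u}) (t : ∀ k, Γ(S, W) ⟶ T k),
      (∀ k, Flat (Spec.map (t k))) ∧ (∀ z, ∃ k q, (Spec.map (t k)).base q = z) ∧
        ∀ k, ∃ (M M' : Type) (_ : AddCommGroup M) (_ : AddCommGroup M'),
          ∃ (P : SplitPts (Spec.map (t k) ≫ W.2.fromSpec) G M) (P' : SplitPts (Spec.map (t k) ≫ W.2.fromSpec) H M'),
            P.Inj ∧ P'.Inj := by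
  obtain ⟨A, hA, T, t, ft, st, ct⟩ := hG W
  obtain ⟨B, hB, T', t', ft', st', ct'⟩ := hH W
  let R := Γ(S, W.1)
  letI iA : ∀ a, Algebra R (T a) := fun a => (t a).hom.toAlgebra
  letI iB : ∀ b, Algebra R (T' b) := fun b => (t' b).hom.toAlgebra
  let T₂ : A × B → CommRingCat.{u} := fun k => CommRingCat.of (TensorProduct R (T k.1) (T' k.2))
  let l : ∀ k : A × B, T k.1 ⟶ T₂ k := fun k => CommRingCat.ofHom Algebra.TensorProduct.includeLeftRingHom
  let r : ∀ k : A × B, T' k.2 ⟶ T₂ k := fun k =>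
    CommRingCat.ofHom (Algebra.TensorProduct.includeRight (R := R) (A := T k.1) (B := T' k.2)).toRingHom
  have hlr : ∀ k : A × B, t k.1 ≫ l k = t' k.2 ≫ r k := fun k =>
    CommRingCat.hom_ext (RingHom.ext fun x => ((Algebra.TensorProduct.includeRight (R := R) (A := T k.1)
      (B := T' k.2)).commutes x).symm)
  have e3 : ∀ k : A × B, Spec.map (t k.1 ≫ l k) = (pullbackSpecIso R (T k.1) (T' k.2)).inv ≫
      pullback.fst _ _ ≫ Spec.map (t k.1) := fun k => by
    rw [pullbackSpecIso_inv_fst_assoc, Spec.map_comp]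
  refine ⟨A × B, inferInstance, T₂, fun k => t k.1 ≫ l k, fun k => ?_, fun z => ?_, fun k => ?_⟩
  · rw [e3]
    have := ft k.1
    have : Flat (Spec.map (CommRingCat.ofHom (algebraMap R (T' k.2)))) := ft' k.2
    infer_instance
  · obtain ⟨a, x, hx⟩ := st z
    obtain ⟨b, x', hx'⟩ := st' z
    obtain ⟨w, hw, -⟩ := Scheme.Pullback.exists_preimage_pullback
      (f := Spec.map (CommRingCat.ofHom (algebraMap R (T a)))) (g := Spec.map (CommRingCat.ofHom (algebraMap R (T' b))))
      x x' (hx.trans hx'.symm)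
    refine ⟨⟨a, b⟩, (pullbackSpecIso R (T a) (T' b)).hom.base w, ?_⟩
    rw [e3 ⟨a, b⟩, ← Scheme.Hom.comp_apply, Iso.hom_inv_id_assoc, Scheme.Hom.comp_apply, hw]
    exact hx
  · obtain ⟨M, i₁, P, hP⟩ := ct k.1
    obtain ⟨M', i₂, P', hP'⟩ := ct' k.2
    have e1 : Spec.map (l k) ≫ Spec.map (t k.1) ≫ W.2.fromSpec = Spec.map (t k.1 ≫ l k) ≫ W.2.fromSpec := by
      rw [Spec.map_comp, Category.assoc]
    have e2 : Spec.map (r k) ≫ Spec.map (t' k.2) ≫ W.2.fromSpec = Spec.map (t k.1 ≫ l k) ≫ W.2.fromSpec := by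
      rw [hlr, Spec.map_comp, Category.assoc]
    have key : ∀ q, Spec.map (l k) ≫ Spec.map (t k.1) ≫ W.2.fromSpec = q →
        Spec.map (r k) ≫ Spec.map (t' k.2) ≫ W.2.fromSpec = q →
        (∃ P : SplitPts q G M, P.Inj) ∧ (∃ P' : SplitPts q H M', P'.Inj) := fun q h1 h2 =>
      ⟨h1 ▸ ⟨P.restrict _, hP.restrict _⟩, h2 ▸ ⟨P'.restrict _, hP'.restrict _⟩⟩
    obtain ⟨⟨Q, hQ⟩, ⟨Q', hQ'⟩⟩ := key _ e1 e2
    exact ⟨M, M', i₁, i₂, Q, Q', hQ, hQ'⟩

end Groth.Agent.DiagRig
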