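import Groth.Agent.DiagRig.HomAvg
import Groth.Agent.DiagRig.Rigid
import Groth.Agent.DiagRig.ConjLift
import Groth.Agent.DiagRig.Diag

/-! Lifting homomorphisms from groups of multiplicative type into smooth groups along nilpotent ideals. -/

universe u

open CategoryTheory MonoidalCategory CartesianMonoidalCategory MonObj GrpObj AlgebraicGeometry Limits
open scoped TensorProduct

set_option linter.style.haveILetI false

noncomputable section

namespace Groth.Agent.DiagRig

variable {R : CommRingCat.{u}}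

set_option backward.isDefEq.respectTransparency.types false in
/-- Points glue along a finite faithfully flat family of algebras. -/
theorem exists_glue_algebra (A : Type u) [CommRing A] [Algebra R A] {κ : Type u} [Finite κ] (B : κ → Type u)
    [∀ i, CommRing (B i)] [∀ i, Algebra R (B i)] [∀ i, Algebra A (B i)] [∀ i, IsScalarTower R A (B i)]
    [∀ i, Module.Flat A (B i)] (hsurj : ∀ q : PrimeSpectrum A, ∃ i r, PrimeSpectrum.comap (algebraMap A (B i)) r = q)
    {Z : Over (Spec R)} (g : ∀ i, specOver (R := R) (B i) ⟶ Z)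
    (h : ∀ (i j : κ) (C : Type u) [CommRing C] [Algebra R C] [Algebra A C] [IsScalarTower R A C]
      (a : B i →ₐ[A] C) (b : B j →ₐ[A] C), push (a.restrictScalars R) (g i) = push (b.restrictScalars R) (g j)) :
    ∃ g₀ : specOver (R := R) A ⟶ Z, ∀ i, push (IsScalarTower.toAlgHom R A (B i)) g₀ = g i := by
  let Y : κ → Scheme.{u} := fun i => Spec (CommRingCat.of (B i))
  let π : (∐ Y) ⟶ Spec (CommRingCat.of A) := Sigma.desc fun i => Spec.map (CommRingCat.ofHom (algebraMap A (B i)))
  have hι : ∀ i, Sigma.ι Y i ≫ π = Spec.map (CommRingCat.ofHom (algebraMap A (B i))) := fun i => Sigma.ι_desc _ i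
  have : Flat π := (IsZariskiLocalAtSource.iff_of_openCover (P := @Flat) (sigmaOpenCover Y)).mpr fun i => by
    show Flat (Sigma.ι Y i ≫ Sigma.desc _)
    rw [Sigma.ι_desc]
    exact HasRingHomProperty.Spec_iff.mpr (RingHom.flat_algebraMap_iff.mpr inferInstance)
  have : Surjective π := ⟨fun q => by
    obtain ⟨i, r, hr⟩ := hsurj q
    refine ⟨(Sigma.ι Y i).base r, ?_⟩
    rw [← Scheme.Hom.comp_apply, hι]
    exact hr⟩
  have : CompactSpace (∐ Y : Scheme.{u}) := (sigmaMk Y).compactSpace
  have : QuasiCompact π := inferInstance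
  let gY : (∐ Y) ⟶ Z.left := Sigma.desc fun i => (g i).left
  have key : ∀ (i j : κ) (W : Scheme.{u}) (a : W ⟶ Y i) (b : W ⟶ Y j),
      a ≫ Spec.map (CommRingCat.ofHom (algebraMap A (B i))) =
        b ≫ Spec.map (CommRingCat.ofHom (algebraMap A (B j))) → a ≫ (g i).left = b ≫ (g j).left := by
    intro i j W a b hab
    let C := B i ⊗[A] B j
    let l := pullback.lift a b hab ≫ (pullbackSpecIso A (B i) (B j)).hom
    let la : B i →ₐ[A] C := Algebra.TensorProduct.includeLeft
    let lb : B j →ₐ[A] C := Algebra.TensorProduct.includeRight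
    have e1 : l ≫ Spec.map (CommRingCat.ofHom la.toRingHom) = a := by
      rw [Category.assoc]
      show pullback.lift a b hab ≫ (pullbackSpecIso A (B i) (B j)).hom ≫
        Spec.map (CommRingCat.ofHom (Algebra.TensorProduct.includeLeftRingHom : B i →+* C)) = a
      rw [pullbackSpecIso_hom_fst]
      exact pullback.lift_fst _ _ _
    have e2 : l ≫ Spec.map (CommRingCat.ofHom lb.toRingHom) = b := by
      rw [Category.assoc]
      refine (congrArg (pullback.lift a b hab ≫ ·) (pullbackSpecIso_hom_snd A (B i) (B j))).trans ?_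
      exact pullback.lift_snd _ _ _
    have e := congrArg CommaMorphism.left (h i j C la lb)
    rw [← e1, ← e2, Category.assoc, Category.assoc]
    exact congrArg (l ≫ ·) e
  have hov : pullback.fst π π ≫ gY = pullback.snd π π ≫ gY := by
    refine hom_ext_of_forall _ _ fun w => ?_
    obtain ⟨(i : κ), z, hz⟩ := (sigmaOpenCover Y).exists_eq ((pullback.fst π π).base w)
    obtain ⟨(j : κ), z', hz'⟩ := (sigmaOpenCover Y).exists_eq ((pullback.snd π π).base w)
    let O : (pullback π π).Opens :=
      pullback.fst π π ⁻¹ᵁ (Sigma.ι Y i).opensRange ⊓ pullback.snd π π ⁻¹ᵁ (Sigma.ι Y j).opensRange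
    refine ⟨O, ⟨⟨z, hz⟩, ⟨z', hz'⟩⟩, ?_⟩
    have hra : Set.range (O.ι ≫ pullback.fst π π).base ⊆ Set.range (Sigma.ι Y i).base := by
      rintro _ ⟨y, rfl⟩; exact y.2.1
    have hrb : Set.range (O.ι ≫ pullback.snd π π).base ⊆ Set.range (Sigma.ι Y j).base := by
      rintro _ ⟨y, rfl⟩; exact y.2.2
    let a := IsOpenImmersion.lift (Sigma.ι Y i) (O.ι ≫ pullback.fst π π) hra
    let b := IsOpenImmersion.lift (Sigma.ι Y j) (O.ι ≫ pullback.snd π π) hrb
    have hab := key i j _ a b (by
      rw [← hι i, ← hι j, IsOpenImmersion.lift_fac_assoc, IsOpenImmersion.lift_fac_assoc, Category.assoc,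
        Category.assoc, pullback.condition])
    have ei : Sigma.ι Y i ≫ gY = (g i).left := Sigma.ι_desc _ i
    have ej : Sigma.ι Y j ≫ gY = (g j).left := Sigma.ι_desc _ j
    rw [← ei, ← ej, IsOpenImmersion.lift_fac_assoc, IsOpenImmersion.lift_fac_assoc] at hab
    simpa using hab
  let gA : Spec (CommRingCat.of A) ⟶ Z.left := EffectiveEpi.desc π gY (fun {W} a b hab => by
    have h : pullback.lift a b hab ≫ pullback.fst π π ≫ gY = pullback.lift a b hab ≫ pullback.snd π π ≫ gY :=
      congrArg (pullback.lift a b hab ≫ ·) hov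
    rwa [pullback.lift_fst_assoc, pullback.lift_snd_assoc] at h)
  have hfac : π ≫ gA = gY := EffectiveEpi.fac ..
  have : Epi π := inferInstance
  refine ⟨Over.homMk gA ?_, fun i => ?_⟩
  · show gA ≫ Z.hom = Spec.map (CommRingCat.ofHom (algebraMap R A))
    rw [← cancel_epi π, ← Category.assoc, hfac]
    refine Sigma.hom_ext _ _ fun i => ?_
    rw [Sigma.ι_desc_assoc, reassoc_of% hι i, ← Spec.map_comp]
    refine (Over.w (g i)).trans ?_
    exact congrArg (fun f => Spec.map (CommRingCat.ofHom f)) (IsScalarTower.algebraMap_eq R A (B i))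
  · apply Over.OverMorphism.ext
    show Spec.map (CommRingCat.ofHom (algebraMap A (B i))) ≫ gA = (g i).left
    rw [← hι i, Category.assoc, hfac, Sigma.ι_desc]

set_option backward.isDefEq.respectTransparency.types false in
/-- Points agreeing on a flat cover of the base agree. -/
lemma push_ext {A : Type u} [CommRing A] [Algebra R A] {κ : Type u} (T : κ → Type u) [∀ i, CommRing (T i)]
    [∀ i, Algebra R (T i)] [∀ i, Flat (specP R (T i))]
    (hsurj : ∀ s : (Spec R : Scheme.{u}), ∃ i z, (specP R (T i)).base z = s) {Z : Over (Spec R)}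
    (a b : specOver (R := R) A ⟶ Z)
    (h : ∀ (i : κ), push (Algebra.TensorProduct.includeLeft : A →ₐ[R] A ⊗[R] T i) a =
      push (Algebra.TensorProduct.includeLeft : A →ₐ[R] A ⊗[R] T i) b) : a = b := by
  refine ext_cover T hsurj a b fun i X' k z hz => ?_
  let l : X'.left ⟶ Spec (CommRingCat.of (A ⊗[R] T i)) :=
    pullback.lift k.left z ((Over.w k).trans hz.symm) ≫ (pullbackSpecIso R A (T i)).hom
  have hl : l ≫ Spec.map (CommRingCat.ofHom (Algebra.TensorProduct.includeLeft : A →ₐ[R] A ⊗[R] T i).toRingHom) = k.left := by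
    rw [Category.assoc]
    show pullback.lift k.left z _ ≫ (pullbackSpecIso R A (T i)).hom ≫
      Spec.map (CommRingCat.ofHom (Algebra.TensorProduct.includeLeftRingHom : A →+* A ⊗[R] T i)) = _
    rw [pullbackSpecIso_hom_fst]
    exact pullback.lift_fst _ _ _
  apply Over.OverMorphism.ext
  show k.left ≫ a.left = k.left ≫ b.left
  rw [← hl, Category.assoc, Category.assoc]
  exact congrArg (l ≫ ·) (congrArg CommaMorphism.left (h i))

variable {G H : Over (Spec R)}

/-- An affine scheme as a test object. -/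
def specIso (X : Over (Spec R)) [IsAffine X.left] :
    letI := algΓR (R := (R : Type u)) X
    X ≅ specOver (R := R) Γ(X.left, ⊤) :=
  letI := algΓR (R := (R : Type u)) X
  Over.isoMk X.left.isoSpec (Over.w (toSpecΓOver (R := (R : Type u)) X))

lemma exists_push_eq {R : CommRingCat.{u}} {H : Over (Spec R)} {A : Type u} [CommRing A] [Algebra R A]
    (x₀ : specOver (R := R) A ⟶ H) [IsIso x₀] {Z : Type u} [CommRing Z] [Algebra R Z]
    (x : specOver (R := R) Z ⟶ H) : ∃ φ : A →ₐ[R] Z, push φ x₀ = x := by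
  let y : specOver (R := R) Z ⟶ specOver (R := R) A := x ≫ inv x₀
  let φ : CommRingCat.of A ⟶ CommRingCat.of Z := Spec.preimage y.left
  have hy : Spec.map φ ≫ Spec.map (CommRingCat.ofHom (algebraMap R A)) = Spec.map (CommRingCat.ofHom (algebraMap R Z)) := by
    rw [Spec.map_preimage]; exact Over.w y
  let φ' : A →ₐ[R] Z := AlgHom.mk φ.hom (fun r => by
    have hy' := hy
    rw [← Spec.map_comp] at hy'
    exact congr($(Spec.map_injective hy') r))
  have e : testMap (R := R) φ' = y := by
    apply Over.OverMorphism.ext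
    exact Spec.map_preimage _
  exact ⟨φ', by rw [push, e, Category.assoc, IsIso.inv_hom_id, Category.comp_id]⟩

variable [GrpObj G] [GrpObj H]

set_option maxHeartbeats 1000000 in
set_option backward.isDefEq.respectTransparency.types false in
/-- A morphism which is a homomorphism modulo a square-zero ideal is congruent to a homomorphism. -/
theorem exists_hom_of_cong (hH : SplitLoc H) [IsAffine H.left] {J : Ideal R} (hJ : J * J = ⊥) (F : H ⟶ G)
    (h0 : CongMod (mF F) (cF F) J) : ∃ F' : H ⟶ G, IsMonHom F' ∧ CongMod F' F J := by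
  classical
  -- charts carrying an affine neighbourhood of the unit
  obtain ⟨S', f, hf, hsurj', ⟨W, hWc, hW⟩, hloc⟩ := hH
  choose c hc using exists_chart (G := G) f hloc
  obtain ⟨Fs, hFs⟩ := hWc.elim_finite_subcover (fun s' : S' => Set.range (c s').j.base)
    (fun s' => (c s').j.isOpenEmbedding.isOpen_range) (fun x _ => Set.mem_iUnion.mpr ⟨x, hc x⟩)
  let κ := {x // x ∈ Fs}
  let T : κ → Type u := fun a => (c a.1).T
  have hflat : ∀ a, Flat (specP R (T a)) := fun a => by
    show Flat (Spec.map (CommRingCat.ofHom (algebraMap R (c a.1).T)))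
    rw [← (c a.1).hj]; infer_instance
  have hsurj : ∀ s : (Spec R : Scheme.{u}), ∃ a z, (specP R (T a)).base z = s := fun s => by
    obtain ⟨x, hx, hxs⟩ := hW.ge (Set.mem_univ s)
    obtain ⟨y, hy⟩ := Set.mem_iUnion₂.mp (hFs hx)
    obtain ⟨hyF, z, hz⟩ := hy
    refine ⟨⟨y, hyF⟩, z, ?_⟩
    show (Spec.map (CommRingCat.ofHom (algebraMap R (c y).T))).base z = s
    rw [← (c y).hj, Scheme.Hom.comp_apply, hz, hxs]
  have h1 : ∀ (a : κ) (C : Type u) [CommRing C] [Algebra R C] [Algebra (T a) C] [IsScalarTower R (T a) C],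
      Set.range (1 : specOver (R := R) C ⟶ G).left.base ⊆ (c a.1).V := fun a C _ _ _ _ => by
    rw [← push_one (R := R) (G := G) (IsScalarTower.toAlgHom R (T a) C)]
    rintro _ ⟨w, rfl⟩
    exact (c a.1).h1 ⟨_, rfl⟩
  -- the universal point
  let A : Type u := Γ(H.left, ⊤)
  letI : Algebra R A := algΓR (R := (R : Type u)) H
  let x₀ : specOver (R := R) A ⟶ H := (specIso H).inv
  let B : κ → Type u := fun a => A ⊗[R] T a
  letI instTB : ∀ a, Algebra (T a) (B a) := fun a => Algebra.TensorProduct.rightAlgebra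
  haveI : ∀ a, IsScalarTower R (T a) (B a) := fun a => IsScalarTower.of_algebraMap_eq fun r => by
    show algebraMap R (A ⊗[R] T a) r = (Algebra.TensorProduct.includeRight : T a →ₐ[R] A ⊗[R] T a) (algebraMap R _ r)
    rw [AlgHom.commutes]
  have ex : ∀ a, ∃ g, IsAvg2 hJ (c a.1).P F (push (IsScalarTower.toAlgHom R A (B a)) x₀) g := fun a =>
    exists_isAvg2 hJ (c a.1).P h0 (c a.1).V (c a.1).hV (h1 a (B a)) _
  choose g hg using ex
  haveI : ∀ a, Module.Flat A (B a) := fun a => by
    have : Module.Flat R (T a) :=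
      RingHom.flat_algebraMap_iff.mp (HasRingHomProperty.Spec_iff.mp (hflat a))
    show Module.Flat A (A ⊗[R] T a)
    infer_instance
  have hsurjB : ∀ q : PrimeSpectrum A, ∃ a r, PrimeSpectrum.comap (algebraMap A (B a)) r = q := fun q => by
    obtain ⟨a, z, hz⟩ := hsurj ((Spec.map (CommRingCat.ofHom (algebraMap R A))).base q)
    obtain ⟨w, hw, -⟩ := Scheme.Pullback.exists_preimage_pullback (f := Spec.map (CommRingCat.ofHom (algebraMap R A)))
      (g := specP R (T a)) q z hz.symm
    refine ⟨a, (pullbackSpecIso R A (T a)).hom.base w, ?_⟩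
    show (Spec.map (CommRingCat.ofHom (Algebra.TensorProduct.includeLeftRingHom : A →+* A ⊗[R] T a))).base _ = q
    rw [← Scheme.Hom.comp_apply, pullbackSpecIso_hom_fst]
    exact hw
  obtain ⟨g₀, hg₀⟩ := exists_glue_algebra A B hsurjB g (by
    intro a b C _ _ _ _ la lb
    letI : Algebra (B a) C := la.toRingHom.toAlgebra
    letI : Algebra (B b) C := lb.toRingHom.toAlgebra
    letI : Algebra (T a) C := (la.toRingHom.comp (algebraMap (T a) (B a))).toAlgebra
    letI : Algebra (T b) C := (lb.toRingHom.comp (algebraMap (T b) (B b))).toAlgebra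
    haveI : IsScalarTower R (B a) C := IsScalarTower.of_algebraMap_eq fun r => ((la.restrictScalars R).commutes r).symm
    haveI : IsScalarTower R (B b) C := IsScalarTower.of_algebraMap_eq fun r => ((lb.restrictScalars R).commutes r).symm
    haveI : IsScalarTower (T a) (B a) C := IsScalarTower.of_algebraMap_eq fun _ => rfl
    haveI : IsScalarTower (T b) (B b) C := IsScalarTower.of_algebraMap_eq fun _ => rfl
    haveI : IsScalarTower R (T a) C := IsScalarTower.of_algebraMap_eq fun r => by
      show algebraMap R C r = la (algebraMap (T a) (B a) (algebraMap R (T a) r))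
      rw [← IsScalarTower.algebraMap_apply R (T a) (B a)]
      exact ((la.restrictScalars R).commutes r).symm
    haveI : IsScalarTower R (T b) C := IsScalarTower.of_algebraMap_eq fun r => by
      show algebraMap R C r = lb (algebraMap (T b) (B b) (algebraMap R (T b) r))
      rw [← IsScalarTower.algebraMap_apply R (T b) (B b)]
      exact ((lb.restrictScalars R).commutes r).symm
    have ea : IsScalarTower.toAlgHom R (B a) C = la.restrictScalars R := AlgHom.ext fun _ => rfl
    have eb : IsScalarTower.toAlgHom R (B b) C = lb.restrictScalars R := AlgHom.ext fun _ => rfl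
    have e : (la.restrictScalars R).comp (IsScalarTower.toAlgHom R A (B a)) =
        (lb.restrictScalars R).comp (IsScalarTower.toAlgHom R A (B b)) :=
      AlgHom.ext fun c => (la.commutes c).trans (lb.commutes c).symm
    have ha := (hg a).push_tower hJ (c a.1).P (T'' := C)
    have hb := (hg b).push_tower hJ (c b.1).P (T'' := C)
    rw [push_push, ea] at ha
    rw [push_push, eb, ← e] at hb
    exact avg2_indep hJ (c a.1).P h0 (c a.1).V (c a.1).hV (h1 a C) (c b.1).P (c a.1).hP ha hb)
  -- the corrected morphism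
  let gH : H ⟶ G := (specIso H).hom ≫ g₀
  obtain ⟨F', hF'd⟩ : ∃ F' : H ⟶ G, F' = gH⁻¹ * F := ⟨_, rfl⟩
  have hg' : ∀ (a : κ) (C : Type u) [CommRing C] [Algebra R C] [Algebra (T a) C] [IsScalarTower R (T a) C]
      (x : specOver (R := R) C ⟶ H), IsAvg2 hJ (c a.1).P F x (x ≫ gH) := by
    intro a C _ _ _ _ x
    obtain ⟨φ, rfl⟩ := exists_push_eq x₀ x
    let ψ : B a →ₐ[R] C := Algebra.TensorProduct.lift φ (IsScalarTower.toAlgHom R (T a) C) fun _ _ => Commute.all _ _
    letI : Algebra (B a) C := ψ.toRingHom.toAlgebra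
    haveI : IsScalarTower R (B a) C := IsScalarTower.of_algebraMap_eq fun r => (ψ.commutes r).symm
    haveI : IsScalarTower (T a) (B a) C := IsScalarTower.of_algebraMap_eq fun t => by
      show algebraMap (T a) C t = ψ ((Algebra.TensorProduct.includeRight : T a →ₐ[R] A ⊗[R] T a) t)
      refine Eq.symm ((Algebra.TensorProduct.lift_tmul φ (IsScalarTower.toAlgHom R (T a) C) _ (1 : A) t).trans ?_)
      rw [map_one φ]
      exact _root_.one_mul _
    have hψ : (IsScalarTower.toAlgHom R (B a) C).comp (IsScalarTower.toAlgHom R A (B a)) = φ := AlgHom.ext fun z => by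
      show ψ (z ⊗ₜ[R] (1 : T a)) = φ z
      refine (Algebra.TensorProduct.lift_tmul φ (IsScalarTower.toAlgHom R (T a) C) _ z (1 : T a)).trans ?_
      rw [map_one (IsScalarTower.toAlgHom R (T a) C)]
      exact _root_.mul_one _
    have h := (hg a).push_tower hJ (c a.1).P (T'' := C)
    rw [push_push, hψ] at h
    have e : push φ x₀ ≫ gH = push (IsScalarTower.toAlgHom R (B a) C) (g a) := by
      rw [← hg₀ a, push_push, hψ, push, push, Category.assoc, show x₀ ≫ gH = g₀ from Iso.inv_hom_id_assoc _ _]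
    rw [e]; exact h
  have hF' : ∀ (a : κ) (C : Type u) [CommRing C] [Algebra R C] [Algebra (T a) C] [IsScalarTower R (T a) C]
      (x y : specOver (R := R) C ⟶ H), (x * y) ≫ F' = (x ≫ F') * (y ≫ F') := fun a C _ _ _ _ x y => by
    simp only [hF'd, MonObj.comp_mul, GrpObj.comp_inv]
    exact avg2_mul hJ (c a.1).P h0 (c a.1).V (c a.1).hV (h1 a C) (hg' a C x) (hg' a C y) (hg' a C (x * y))
  have hmul : (fst H H * snd H H) ≫ F' = (fst H H ≫ F') * (snd H H ≫ F') := by
    have : IsAffine (H ⊗ H).left := inferInstanceAs (IsAffine (pullback H.hom H.hom))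
    letI : Algebra R Γ((H ⊗ H).left, ⊤) := algΓR (R := (R : Type u)) (H ⊗ H)
    rw [← cancel_epi (specIso (H ⊗ H)).inv]
    refine push_ext T hsurj _ _ fun a => ?_
    letI : Algebra (T a) (Γ((H ⊗ H).left, ⊤) ⊗[R] T a) := Algebra.TensorProduct.rightAlgebra
    haveI : IsScalarTower R (T a) (Γ((H ⊗ H).left, ⊤) ⊗[R] T a) := IsScalarTower.of_algebraMap_eq fun r => by
      show algebraMap R (Γ((H ⊗ H).left, ⊤) ⊗[R] T a) r =
        (Algebra.TensorProduct.includeRight : T a →ₐ[R] Γ((H ⊗ H).left, ⊤) ⊗[R] T a) (algebraMap R _ r)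
      rw [AlgHom.commutes]
    rw [push, push]
    simp only [← Category.assoc]
    rw [MonObj.comp_mul, MonObj.comp_mul]
    simp only [← Category.assoc]
    exact hF' a _ _ _
  refine ⟨F', isMonHom_of_pts F' fun X x y => ?_, ?_⟩
  · have h := congrArg (lift x y ≫ ·) hmul
    simpa only [← Category.assoc, MonObj.comp_mul, lift_fst, lift_snd] using h
  · intro C _ _ hC x
    rw [hF'd]
    rw [MonObj.comp_mul, GrpObj.comp_inv]
    suffices h : x ≫ gH = 1 by rw [h, inv_one, _root_.one_mul]
    refine push_ext T hsurj _ _ fun a => ?_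
    letI : Algebra (T a) (C ⊗[R] T a) := Algebra.TensorProduct.rightAlgebra
    haveI : IsScalarTower R (T a) (C ⊗[R] T a) := IsScalarTower.of_algebraMap_eq fun r => by
      show algebraMap R (C ⊗[R] T a) r = (Algebra.TensorProduct.includeRight : T a →ₐ[R] C ⊗[R] T a) (algebraMap R _ r)
      rw [AlgHom.commutes]
    have h := IsAvg.congr_one hJ (mF F) (cF F) h0 (hg' a (C ⊗[R] T a) (push Algebra.TensorProduct.includeLeft x))
    have hI : J.map (algebraMap R (C ⊗[R] T a)) = ⊥ := by
      rw [eq_bot_iff, Ideal.map_le_iff_le_comap]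
      intro r hr
      show algebraMap R (C ⊗[R] T a) r = 0
      rw [← (Algebra.TensorProduct.includeLeft : C →ₐ[R] C ⊗[R] T a).commutes, hC r hr, map_zero]
    let q := Ideal.Quotient.mkₐ R (J.map (algebraMap R (C ⊗[R] T a)))
    let r : (C ⊗[R] T a) ⧸ J.map (algebraMap R (C ⊗[R] T a)) →ₐ[R] C ⊗[R] T a :=
      Ideal.Quotient.liftₐ _ (AlgHom.id R _) fun z hz => by rw [hI, Ideal.mem_bot] at hz; exact hz
    have h' := congrArg (push r) h
    rw [push_push, push_one, show r.comp q = AlgHom.id R (C ⊗[R] T a) from AlgHom.ext fun _ => rfl, push_id] at h'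
    rw [push_comp, h', push_one]

omit [GrpObj G] [GrpObj H] in
set_option backward.isDefEq.respectTransparency.types false in
/-- A morphism to a smooth scheme over `R/J` lifts over `R` from an affine scheme. -/
theorem exists_morphism_lift {J : Ideal R} (hJ : IsNilpotent J) (hG : Smooth G.hom) [IsAffine H.left]
    (f₀ : (Over.map (Spec.map (CommRingCat.ofHom (Ideal.Quotient.mk J)))).obj
      (Red.bc (Spec.map (CommRingCat.ofHom (Ideal.Quotient.mk J))) H) ⟶ G) :
    ∃ F : H ⟶ G, bcTr (Spec.map (CommRingCat.ofHom (Ideal.Quotient.mk J))) (𝟙 _) ≫ F = f₀ := by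
  obtain ⟨m, hm⟩ := hJ
  let q : Spec (CommRingCat.of (R ⧸ J)) ⟶ Spec R := Spec.map (CommRingCat.ofHom (Ideal.Quotient.mk J))
  letI : Algebra R Γ(H.left, ⊤) := algΓR (R := (R : Type u)) H
  let A := Γ(H.left, ⊤)
  let I : Ideal A := J.map (algebraMap R A)
  have hI : I ^ (m + 1) = ⊥ := by
    rw [← Ideal.map_pow, pow_succ, hm, zero_mul, Ideal.zero_eq_bot, Ideal.map_bot]
  let χ : R ⧸ J →+* A ⧸ I := Ideal.quotientMap I (algebraMap R A) Ideal.le_comap_map
  let e : specOver (R := R) (A ⧸ I) ⟶ (Over.map q).obj (Red.bc q H) :=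
    Over.homMk (pullback.lift (Spec.map (CommRingCat.ofHom (Ideal.Quotient.mk I)) ≫ (specIso H).inv.left)
      (Spec.map (CommRingCat.ofHom χ)) (by
        rw [Category.assoc, Over.w (specIso H).inv]
        show Spec.map _ ≫ Spec.map _ = Spec.map _ ≫ Spec.map _
        rw [← Spec.map_comp, ← Spec.map_comp]
        rfl)) (by
      show pullback.lift _ _ _ ≫ pullback.snd H.hom q ≫ q = Spec.map _
      rw [pullback.lift_snd_assoc, ← Spec.map_comp]
      rfl)
  obtain ⟨l, hl, hlf⟩ := exists_lift_nilpotent G.hom m A I hI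
    (Spec.map (CommRingCat.ofHom (algebraMap R A))) (e ≫ f₀).left (by
      rw [Over.w (e ≫ f₀), ← Spec.map_comp]
      rfl)
  let F : H ⟶ G := (specIso H).hom ≫ Over.homMk l hlf
  refine ⟨F, ?_⟩
  -- the closed subscheme `H₀` maps to `Spec (A / I)`
  let W : Over (Spec R) := (Over.map q).obj (Red.bc q H)
  let i : W ⟶ H := bcTr q (𝟙 _)
  have : IsAffine W.left := inferInstanceAs (IsAffine (pullback H.hom q))
  letI : Algebra R Γ(W.left, ⊤) := algΓR (R := (R : Type u)) W
  let wb : specOver (R := R) Γ(W.left, ⊤) ⟶ H := (specIso W).inv ≫ i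
  obtain ⟨φ, hφ⟩ := exists_push_eq (specIso H).inv wb
  have hker : ∀ a ∈ I, φ a = 0 := by
    suffices hle : I ≤ RingHom.ker φ.toRingHom from fun a ha => hle ha
    rw [Ideal.map_le_iff_le_comap]
    intro r hr
    show φ (algebraMap R A r) = 0
    rw [AlgHom.commutes]
    let ψ : CommRingCat.of (R ⧸ J) ⟶ CommRingCat.of Γ(W.left, ⊤) :=
      Spec.preimage ((specIso W).inv.left ≫ (Red.bc q H).hom)
    have hw : CommRingCat.ofHom (Ideal.Quotient.mk J) ≫ ψ = CommRingCat.ofHom (algebraMap R Γ(W.left, ⊤)) := by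
      apply Spec.map_injective
      rw [Spec.map_comp, Spec.map_preimage, Category.assoc]
      exact Over.w (specIso W).inv
    have := congr($hw r)
    refine this.symm.trans ?_
    show ψ (Ideal.Quotient.mk J r) = 0
    rw [Ideal.Quotient.eq_zero_iff_mem.mpr hr, map_zero]
  let φ' : A ⧸ I →ₐ[R] Γ(W.left, ⊤) := Ideal.Quotient.liftₐ I φ hker
  have hφ' : φ'.comp (Ideal.Quotient.mkₐ R I) = φ := AlgHom.ext fun _ => rfl
  rw [← cancel_epi (specIso W).inv, ← Category.assoc]
  show wb ≫ F = (specIso W).inv ≫ f₀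
  have he : testMap φ' ≫ e = (specIso W).inv := by
    have : Mono (pullback.fst H.hom q) := inferInstance
    apply Over.OverMorphism.ext
    rw [← cancel_mono (pullback.fst H.hom q)]
    have h2 := congrArg CommaMorphism.left hφ
    show (testMap φ').left ≫ pullback.lift _ _ _ ≫ pullback.fst H.hom q = (specIso W).inv.left ≫ pullback.fst H.hom q
    rw [pullback.lift_fst]
    refine Eq.trans ?_ (h2.trans ?_)
    · show Spec.map _ ≫ Spec.map _ ≫ _ = Spec.map _ ≫ _
      rw [← Category.assoc, ← Spec.map_comp]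
      rfl
    · show (specIso W).inv.left ≫ (bcTr q (𝟙 _)).left = _
      rw [bcTr_left]
      exact congrArg ((specIso W).inv.left ≫ ·) (Category.id_comp _)
  rw [← hφ, ← he, push, Category.assoc, Iso.inv_hom_id_assoc, Category.assoc]
  apply Over.OverMorphism.ext
  show Spec.map (CommRingCat.ofHom φ.toRingHom) ≫ l = Spec.map (CommRingCat.ofHom φ'.toRingHom) ≫ (e ≫ f₀).left
  rw [← hl, ← Category.assoc, ← Spec.map_comp]
  rfl

end Groth.Agent.DiagRig
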