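import Groth.Agent.DiagRig.FibConn
import Groth.Agent.GrpdLib.FamDescent
import Groth.Agent.AlgSpCov.QCImmDescent

/-! Descent of quasi-compact immersions along fpqc covers. -/

universe u

open CategoryTheory MonoidalCategory CartesianMonoidalCategory MonObj GrpObj AlgebraicGeometry Limits

noncomputable section

namespace Groth.Agent.DiagRig

variable {S S' : Scheme.{u}}

/-- The covering condition for the first projection. -/
lemma cov_fst {T : Scheme.{u}} (t : T ⟶ S) (f : S' ⟶ S)
    (hcov : ∀ V : S.Opens, IsAffineOpen V → ∃ W : S'.Opens, IsCompact (W : Set S') ∧ f.base '' (W : Set S') = (V : Set S))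
    (V : T.Opens) (hV : IsAffineOpen V) :
    ∃ W : (pullback t f).Opens, IsCompact (W : Set (pullback t f : Scheme.{u})) ∧
      (pullback.fst t f).base '' (W : Set (pullback t f : Scheme.{u})) = (V : Set T) := by
  obtain ⟨W, hW, hWV⟩ := cov_pullback f t hcov V hV
  refine ⟨(pullbackSymmetry t f).hom ⁻¹ᵁ W, (pullbackSymmetry t f).hom.homeomorph.isCompact_preimage.mpr hW, ?_⟩
  rw [← pullbackSymmetry_hom_comp_snd t f, Scheme.Hom.comp_base, TopCat.coe_comp, Set.image_comp]
  refine Eq.trans (congrArg _ (Set.image_preimage_eq _ ?_)) hWV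
  exact (pullbackSymmetry t f).hom.homeomorph.surjective

variable {X X' : Scheme.{u}} (f : X' ⟶ X)

set_option backward.isDefEq.respectTransparency.types false in
lemma singleton_mem_fpqc [Flat f]
    (hcov : ∀ V : X.Opens, IsAffineOpen V → ∃ W : X'.Opens, IsCompact (W : Set X') ∧ f.base '' (W : Set X') = (V : Set X)) :
    Presieve.ofArrows (fun _ : PUnit.{u + 1} => X') (fun _ => f) ∈ Scheme.fpqcPrecoverage X := by
  let E : PreZeroHypercover.{u} X := { I₀ := PUnit, X := fun _ => X', f := fun _ => f }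
  have hq : QuasiCompactCover E := HTopLib.quasiCompactCover_of_compact_images E fun V hV => by
    obtain ⟨W, hW, hWV⟩ := hcov V hV
    exact ⟨PUnit, inferInstance, fun _ => PUnit.unit, fun _ => (W : Set X'), fun _ => hW,
      (Set.iUnion_const _).trans hWV⟩
  exact (HTopLib.mem_fpqcPrecoverage_iff E).mpr ⟨hq, fun _ => ‹Flat f›⟩

set_option backward.isDefEq.respectTransparency.types false in
/-- A quasi-compact immersion whose points are stable along an fpqc cover descends. -/
theorem exists_descend_immersion [Flat f] [Surjective f]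
    (hcov : ∀ V : X.Opens, IsAffineOpen V → ∃ W : X'.Opens, IsCompact (W : Set X') ∧ f.base '' (W : Set X') = (V : Set X))
    {Z' : Scheme.{u}} (j : Z' ⟶ X') [IsImmersion j] [QuasiCompact j]
    (hst : ∀ (T : Scheme.{u}) (a b : T ⟶ X'), a ≫ f = b ≫ f → (∃ y, y ≫ j = a) → ∃ y, y ≫ j = b) :
    ∃ (Z : Scheme.{u}) (i : Z ⟶ X) (k : Z' ⟶ Z), IsImmersion i ∧ IsPullback k j i f := by
  let A : Set X := f.base '' Set.range j.base
  have hsat : f.base ⁻¹' A = Set.range j.base := by
    refine Set.Subset.antisymm ?_ (Set.subset_preimage_image _ _)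
    rintro v ⟨_, ⟨w, rfl⟩, e⟩
    obtain ⟨z, hz1, hz2⟩ := Scheme.Pullback.exists_preimage_pullback (f := f) (g := f) (j.base w) v e
    obtain ⟨q, hq1, -⟩ := Scheme.Pullback.exists_preimage_pullback (f := pullback.fst f f) (g := j) z w hz1
    obtain ⟨y, hy⟩ := hst _ (pullback.fst (pullback.fst f f) j ≫ pullback.fst f f)
      (pullback.fst (pullback.fst f f) j ≫ pullback.snd f f) (by rw [Category.assoc, Category.assoc, pullback.condition])
      ⟨pullback.snd _ _, pullback.condition.symm⟩
    refine ⟨y.base q, ?_⟩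
    rw [← Scheme.Hom.comp_apply, hy, Scheme.Hom.comp_apply, hq1, hz2]
  have hclo : f.base ⁻¹' closure A = closure (Set.range j.base) := by
    refine Set.Subset.antisymm (fun v hv => ?_) ?_
    · obtain ⟨U, hU, hvU, -⟩ := exists_isAffineOpen_mem_and_subset (X := X) (x := f.base v) (U := ⊤) trivial
      obtain ⟨W, hWc, hW⟩ := hcov U hU
      have hWU : W ≤ f ⁻¹ᵁ U := fun x hx => hW.le ⟨x, hx, rfl⟩
      let g : ((j ⁻¹ᵁ W : Z'.Opens) : Scheme.{u}) ⟶ (U : Scheme.{u}) :=
        (j ∣_ W) ≫ f.resLE U W hWU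
      have hg : g ≫ U.ι = (j ⁻¹ᵁ W).ι ≫ j ≫ f := by
        rw [Category.assoc, Scheme.Hom.resLE_comp_ι, morphismRestrict_ι_assoc]
      have hgy : ∀ y, U.ι.base (g.base y) = f.base (j.base ((j ⁻¹ᵁ W).ι.base y)) := fun y => by
        rw [← Scheme.Hom.comp_apply, hg]; rfl
      have : CompactSpace (j ⁻¹ᵁ W : Z'.Opens) := isCompact_iff_compactSpace.mp (j.isCompact_preimage hWc)
      have : IsAffine U := hU
      have hmem : (⟨f.base v, hvU⟩ : U) ∈ closure (Set.range g.base) := by
        rw [U.ι.isOpenEmbedding.isInducing.closure_eq_preimage_closure_image]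
        refine closure_mono ?_ (U.2.closure_inter ⟨hv, hvU⟩)
        rintro a ⟨ha, haU⟩
        obtain ⟨x, hxW, hxa⟩ := hW.ge haU
        obtain ⟨z, hz⟩ : x ∈ Set.range j.base := hsat ▸ (show x ∈ f.base ⁻¹' A from (hxa ▸ ha : f.base x ∈ A))
        exact ⟨_, ⟨⟨z, show j.base z ∈ W from hz ▸ hxW⟩, rfl⟩, (hgy _).trans (by
          show f.base (j.base z) = a
          rw [hz, hxa])⟩
      obtain ⟨y, hy⟩ := AlgSpCov.exists_specializes_of_mem_closure_range g hmem
      have hy' : f.base (j.base ((j ⁻¹ᵁ W).ι.base y)) ⤳ f.base v := by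
        rw [← hgy]; exact hy.map U.ι.continuous
      obtain ⟨v', hv', hv''⟩ := Flat.generalizingMap f hy'
      have : v' ∈ Set.range j.base := hsat ▸ ⟨_, ⟨_, rfl⟩, hv''.symm⟩
      exact hv'.mem_closed isClosed_closure (subset_closure this)
    · nth_rw 1 [← hsat]
      exact f.continuous.closure_preimage_subset _
  have hcob : f.base ⁻¹' coborder A = coborder (Set.range j.base) := by
    rw [coborder_eq_union_closure_compl, coborder_eq_union_closure_compl, Set.preimage_union, Set.preimage_compl,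
      hsat, hclo]
  have hmem := singleton_mem_fpqc f hcov
  let O : X.Opens := ⟨coborder A, GrpdLib.FamDescent.isOpen_of_isOpen_preimage hmem _ fun _ => by
    rw [show f ⁻¹' coborder A = coborder (Set.range j.base) from hcob]
    exact j.isLocallyClosed_range.isOpen_coborder⟩
  let OV : X'.Opens := f ⁻¹ᵁ O
  have hOV : (OV : Set X') = coborder (Set.range j.base) := hcob
  have hr' : Set.range j.base ⊆ Set.range OV.ι.base := fun x hx =>
    (Scheme.Opens.range_ι OV).ge (hcob.ge (subset_coborder hx))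
  let w : Z' ⟶ OV := IsOpenImmersion.lift OV.ι j hr'
  have hw : w ≫ OV.ι = j := IsOpenImmersion.lift_fac _ _ _
  have hci : IsClosedImmersion w := by
    have : IsPreimmersion (w ≫ OV.ι) := by rw [hw]; infer_instance
    have : IsPreimmersion w := IsPreimmersion.of_comp _ OV.ι
    refine .of_isPreimmersion _ ?_
    have hr : Set.range w.base = OV.ι.base ⁻¹' Set.range j.base := by
      rw [show (j.base : Z' → X') = OV.ι.base ∘ w.base from funext fun x => congr($(hw) x).symm, Set.range_comp,
        Set.preimage_image_eq _ OV.ι.injective]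
    rw [hr]
    exact isClosed_preimage_val_coborder (s := Set.range j.base) |>.preimage
      (f := fun x : OV.toScheme => (⟨x.1, hOV ▸ x.2⟩ : ↥(coborder (Set.range j.base))))
      (Continuous.subtype_mk continuous_subtype_val _)
  have hcovO : ∀ V : (O : Scheme.{u}).Opens, IsAffineOpen V → ∃ W : (OV : Scheme.{u}).Opens,
      IsCompact (W : Set (OV : Scheme.{u})) ∧ (f ∣_ O).base '' (W : Set (OV : Scheme.{u})) = (V : Set (O : Scheme.{u})) := by
    intro V hV
    obtain ⟨W, hWc, hW⟩ := hcov (O.ι ''ᵁ V) (hV.image_of_isOpenImmersion O.ι)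
    have hWO : (W : Set X') ⊆ Set.range OV.ι.base := fun x hx => by
      rw [Scheme.Opens.range_ι]
      obtain ⟨o, -, ho⟩ : f.base x ∈ O.ι ''ᵁ V := hW.le ⟨x, hx, rfl⟩
      exact show f.base x ∈ O from ho ▸ o.2
    refine ⟨OV.ι ⁻¹ᵁ W, OV.ι.isOpenEmbedding.isInducing.isCompact_preimage' hWc hWO, ?_⟩
    apply O.ι.injective.image_injective
    rw [← Set.image_comp, show (O.ι.base ∘ (f ∣_ O).base : _ → X) = f.base ∘ OV.ι.base from
      funext fun x => congr($(morphismRestrict_ι f O) x), Set.image_comp, Scheme.Hom.coe_preimage,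
      Set.image_preimage_eq_of_subset hWO, hW]
    rfl
  have sqO : IsPullback OV.ι (f ∣_ O) f O.ι := isPullback_morphismRestrict f O |>.flip
  have hfl : Flat (f ∣_ O) := inferInstance
  have hmemO := singleton_mem_fpqc (f ∣_ O) hcovO
  have key : ∀ {T : Scheme.{u}} (x y : T ⟶ OV), x ≫ (f ∣_ O) = y ≫ (f ∣_ O) →
      w.ker.comap y ≤ w.ker.comap x := fun {T} x y h => by
    obtain ⟨z, hz⟩ := hst _ (pullback.fst x w ≫ x ≫ OV.ι) (pullback.fst x w ≫ y ≫ OV.ι)
      (by simp only [Category.assoc, sqO.w, reassoc_of% h])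
      ⟨pullback.snd x w, by rw [← Category.assoc, pullback.condition, Category.assoc, hw]⟩
    have hz' : z ≫ w = pullback.fst x w ≫ y := by
      rw [← cancel_mono OV.ι, Category.assoc, hw, hz, Category.assoc]
    rw [← Scheme.IdealSheafData.ker_fst_of_isClosedImmersion, ← Scheme.IdealSheafData.ker_fst_of_isClosedImmersion]
    have e : pullback.lift (pullback.fst x w) z hz'.symm ≫ pullback.fst y w = pullback.fst x w :=
      pullback.lift_fst _ _ _
    conv_rhs => rw [← e]
    exact Scheme.Hom.le_ker_comp _ _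
  obtain ⟨J, hJ⟩ := GrpdLib.FamDescent.exists_comap_eq hmemO (fun _ => w.ker)
    fun _ _ x y h => le_antisymm (key y x h.symm) (key x y h)
  let P := pullback.fst (f ∣_ O) J.subschemeι
  have hker : P.ker = w.ker := hJ PUnit.unit
  let e : Z' ⟶ pullback (f ∣_ O) J.subschemeι := IsClosedImmersion.lift P w hker.le
  have he : e ≫ P = w := IsClosedImmersion.lift_fac _ _ _
  have : IsIso e := ⟨IsClosedImmersion.lift w P hker.ge,
    by rw [← cancel_mono w, Category.assoc, IsClosedImmersion.lift_fac, he, Category.id_comp],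
    by rw [← cancel_mono P, Category.assoc, he, IsClosedImmersion.lift_fac, Category.id_comp]⟩
  refine ⟨_, J.subschemeι ≫ O.ι, e ≫ pullback.snd (f ∣_ O) J.subschemeι, inferInstance, ?_⟩
  have h1 : IsPullback (e ≫ pullback.snd (f ∣_ O) J.subschemeι) w J.subschemeι (f ∣_ O) :=
    IsPullback.of_iso (IsPullback.of_hasPullback (f ∣_ O) J.subschemeι).flip (asIso e).symm (Iso.refl _) (Iso.refl _) (Iso.refl _)
      (by simp [P]) (by simp [← he, P]) (by simp) (by simp)
  have h2 := h1.paste_vert sqO.flip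
  rwa [hw] at h2

end Groth.Agent.DiagRig
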