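import Groth.Agent.DiagRig.EqLocus
import Groth.Agent.DiagRig.Agree

/-! The locus where a family of morphisms out of a split group lands in a closed subscheme. -/

universe u

open CategoryTheory MonoidalCategory CartesianMonoidalCategory MonObj GrpObj AlgebraicGeometry Limits
open scoped TensorProduct

noncomputable section

namespace Groth.Agent.DiagRig

variable {S : Scheme.{u}}

variable {X H W E : Over S} [GrpObj H] (f : X ⊗ H ⟶ W) (e : E ⟶ W)

/-- The two morphisms agree over `x`. -/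
def InOn ⦃T : Scheme.{u}⦄ (x : T ⟶ X.left) : Prop :=
  ∀ (Y : Over S) (z : Y.left ⟶ T) (hz : (z ≫ x) ≫ X.hom = Y.hom) (h : Y ⟶ H),
    ∃ y : Y ⟶ E, y ≫ e = lift (Over.homMk (z ≫ x) hz) h ≫ f

omit [GrpObj H] in
lemma InOn.apply {f : X ⊗ H ⟶ W} {e : E ⟶ W} {T : Scheme.{u}} {x : T ⟶ X.left} (hx : InOn f e x) {Y : Over S} (a : Y ⟶ X)
    (z : Y.left ⟶ T) (ez : z ≫ x = a.left) (h : Y ⟶ H) : ∃ y : Y ⟶ E, y ≫ e = lift a h ≫ f := by
  have hz : (z ≫ x) ≫ X.hom = Y.hom := by rw [ez, Over.w a]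
  have := hx Y z hz h
  rwa [show Over.homMk (z ≫ x) hz = a from Over.OverMorphism.ext ez] at this

omit [GrpObj H] in
lemma InOn.comp {f : X ⊗ H ⟶ W} {e : E ⟶ W} {T T' : Scheme.{u}} (c : T' ⟶ T) {x : T ⟶ X.left} (hx : InOn f e x) :
    InOn f e (c ≫ x) :=
  fun _ z _ h => hx.apply _ (z ≫ c) (Category.assoc _ _ _) h

omit [GrpObj H] in
lemma InOn.glue [Mono e] {T : Scheme.{u}} (𝒰 : Scheme.OpenCover.{u} T) (x : T ⟶ X.left)
    (hx : ∀ i, InOn f e (𝒰.f i ≫ x)) : InOn f e x := by
  intro Y z hz h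
  refine exists_lift_of_local e _ fun w => ?_
  obtain ⟨i, q, hq⟩ := 𝒰.exists_eq (z.base w)
  obtain ⟨w', hw', -⟩ := Scheme.Pullback.exists_preimage_pullback w q hq.symm
  let k : Over.mk ((pullback.fst z (𝒰.f i)) ≫ Y.hom) ⟶ Y := Over.homMk (pullback.fst z (𝒰.f i))
  obtain ⟨y, hy⟩ := (hx i).apply (k ≫ Over.homMk (z ≫ x) hz) (pullback.snd z (𝒰.f i)) (by
    show pullback.snd z (𝒰.f i) ≫ 𝒰.f i ≫ x = pullback.fst z (𝒰.f i) ≫ z ≫ x
    rw [pullback.condition_assoc]) (k ≫ h)
  rw [← comp_lift, Category.assoc] at hy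
  exact ⟨_, k, inferInstanceAs (IsOpenImmersion (pullback.fst z (𝒰.f i))), ⟨w', hw'⟩, y, hy⟩

set_option backward.isDefEq.respectTransparency.types false in
omit [GrpObj H] in
/-- Agreement descends along flat jointly surjective families. -/
lemma InOn.descend [Mono e] {T : Scheme.{u}} (x : T ⟶ X.left) {κ : Type u} [Finite κ] (B : κ → Scheme.{u})
    (b : ∀ k, B k ⟶ T) [∀ k, Flat (b k)] [∀ k, QuasiCompact (b k)] (hsurj : ∀ t, ∃ k q, (b k).base q = t)
    (hx : ∀ k, InOn f e (b k ≫ x)) : InOn f e x := by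
  intro Y z hz h
  let Z : κ → Scheme.{u} := fun k => pullback z (b k)
  let π : (∐ Z) ⟶ Y.left := Sigma.desc fun k => pullback.fst _ _
  have hι : ∀ k, Sigma.ι Z k ≫ π = pullback.fst z (b k) := fun k => Sigma.ι_desc _ k
  have : Flat π := (IsZariskiLocalAtSource.iff_of_openCover (P := @Flat) (sigmaOpenCover Z)).mpr fun k => by
    show Flat (Sigma.ι Z k ≫ π)
    rw [hι]
    infer_instance
  have : Surjective π := ⟨fun y => by
    obtain ⟨k, q, hq⟩ := hsurj (z.base y)
    obtain ⟨w, hw, -⟩ := Scheme.Pullback.exists_preimage_pullback y q hq.symm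
    exact ⟨(Sigma.ι Z k).base w, by rw [← Scheme.Hom.comp_apply, hι, hw]⟩⟩
  have : QuasiCompact π := ⟨fun U hUo hUc => by
    have e' : π.base ⁻¹' U = ⋃ k, (Sigma.ι Z k).base '' ((pullback.fst z (b k)).base ⁻¹' U) := by
      ext w
      obtain ⟨k, y, rfl⟩ := (sigmaOpenCover Z).exists_eq w
      constructor
      · intro hh
        refine Set.mem_iUnion.mpr ⟨k, y, ?_, rfl⟩
        show (pullback.fst z (b k)).base y ∈ U
        rw [← hι k, Scheme.Hom.comp_apply]
        exact hh
      · intro hh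
        obtain ⟨k', y', hy', e''⟩ := Set.mem_iUnion.mp hh
        show π.base _ ∈ U
        rw [show ((sigmaOpenCover Z).f k).base y = (Sigma.ι Z k').base y' from e''.symm, ← Scheme.Hom.comp_apply, hι]
        exact hy'
    show IsCompact (π.base ⁻¹' U)
    rw [e']
    exact isCompact_iUnion fun k =>
      ((pullback.fst z (b k)).isCompact_preimage (U := ⟨U, hUo⟩) hUc).image (Sigma.ι Z k).continuous⟩
  let Y' : Over S := Over.mk (π ≫ Y.hom)
  let l : Y' ⟶ Y := Over.homMk π
  have : Flat l.left := ‹Flat π›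
  have : Surjective l.left := ‹Surjective π›
  have : QuasiCompact l.left := ‹QuasiCompact π›
  have key : ∀ k, ∃ y : Z k ⟶ E.left, y ≫ e.left = pullback.fst z (b k) ≫ (lift (Over.homMk (z ≫ x) hz) h ≫ f).left ∧
      y ≫ E.hom = pullback.fst z (b k) ≫ Y.hom := fun k => by
    let lk : Over.mk (pullback.fst z (b k) ≫ Y.hom) ⟶ Y := Over.homMk (pullback.fst z (b k))
    obtain ⟨y, hy⟩ := (hx k).apply (lk ≫ Over.homMk (z ≫ x) hz) (pullback.snd z (b k)) (by
      show pullback.snd z (b k) ≫ b k ≫ x = pullback.fst z (b k) ≫ z ≫ x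
      rw [pullback.condition_assoc]) (lk ≫ h)
    rw [← comp_lift, Category.assoc] at hy
    exact ⟨y.left, congrArg CommaMorphism.left hy, Over.w y⟩
  choose y hy hyh using key
  let ys : Y' ⟶ E := Over.homMk (Sigma.desc y) (by
    refine Sigma.hom_ext _ _ fun k => ?_
    show Sigma.ι Z k ≫ Sigma.desc y ≫ E.hom = Sigma.ι Z k ≫ π ≫ Y.hom
    rw [Sigma.ι_desc_assoc, hyh, reassoc_of% hι])
  refine exists_lift_of_fpqc e _ l ⟨ys, ?_⟩
  ext1
  refine Sigma.hom_ext _ _ fun k => ?_
  show Sigma.ι Z k ≫ Sigma.desc y ≫ e.left = Sigma.ι Z k ≫ π ≫ _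
  rw [Sigma.ι_desc_assoc, hy, reassoc_of% hι]

/-- The chart: over a split test ring, agreement is given by an ideal. -/
lemma exists_chart_ideal_in [IsClosedImmersion e.left] {Q : CommRingCat.{u}} (a : Spec Q ⟶ X.left) {p : Spec Q ⟶ S}
    (hp : a ≫ X.hom = p) {M : Type} [AddCommGroup M] (P : SplitPts p H M) :
    ∃ I : Ideal Q, (LocallyOfFinitePresentation e.left → I.FG) ∧ ∀ (D : CommRingCat.{u}) (φ : Q ⟶ D),
      InOn f e (Spec.map φ ≫ a) ↔ I ≤ RingHom.ker φ.hom := by
  classical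
  let U : Over S := (Over.map p).obj (specOver (R := Q) (MonoidAlgebra Q (Multiplicative M)))
  let xu : U ⟶ X := Over.homMk (Spec.map (CommRingCat.ofHom (algebraMap Q (MonoidAlgebra Q (Multiplicative M)))) ≫ a) (by
    show (_ ≫ a) ≫ X.hom = Spec.map _ ≫ p
    rw [Category.assoc, hp])
  let hu : U ⟶ H := gPt p P (MonoidAlgebra.of Q (Multiplicative M))
  let wf := lift xu hu ≫ f
  obtain ⟨J, hJfg, hJ⟩ := exists_ideal_factor_fg e.left
    (CommRingCat.of (MonoidAlgebra Q (Multiplicative M))) wf.left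
  obtain ⟨s, hsJ, hsfin⟩ : ∃ s : Set (MonoidAlgebra Q (Multiplicative M)), Ideal.span s = J ∧
      (J.FG → s.Finite) := by
    by_cases hfg : J.FG
    · obtain ⟨t, ht⟩ := hfg
      exact ⟨t, ht, fun _ => t.finite_toSet⟩
    · exact ⟨J, Ideal.span_eq J, fun h => absurd h hfg⟩
  let I : Ideal Q := Ideal.span {c | ∃ z ∈ s, ∃ n ∈ z.coeff.support, z.coeff n = c}
  refine ⟨I, fun hlft => ?_, fun D φ => ⟨fun h => ?_, fun hI => ?_⟩⟩
  · refine Submodule.fg_span ?_
    have h1 : {c | ∃ z ∈ s, ∃ n ∈ z.coeff.support, z.coeff n = c} =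
        ⋃ z ∈ s, (fun n => z.coeff n) '' (z.coeff.support : Set (Multiplicative M)) := by
      ext c; simp
    rw [h1]
    exact (hsfin (hJfg hlft)).biUnion fun z _ => z.coeff.support.finite_toSet.image _
  · -- evaluate at the universal point over `D`
    let _ : Algebra Q D := φ.hom.toAlgebra
    let ψ : MonoidAlgebra Q (Multiplicative M) →ₐ[Q] MonoidAlgebra D (Multiplicative M) :=
      MonoidAlgebra.mapAlgHom (M := (Multiplicative M)) (Algebra.ofId Q D)
    let k : (Over.map p).obj (specOver (R := Q) (MonoidAlgebra D (Multiplicative M))) ⟶ U := (Over.map p).map (testMap ψ)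
    have h1 := h.apply (k ≫ xu) (Spec.map (CommRingCat.ofHom (algebraMap D (MonoidAlgebra D (Multiplicative M))))) (by
      show Spec.map _ ≫ Spec.map φ ≫ a = Spec.map _ ≫ Spec.map _ ≫ a
      rw [← Spec.map_comp_assoc, ← Spec.map_comp_assoc]
      congr 2
      refine CommRingCat.hom_ext (RingHom.ext fun q => ?_)
      exact (ψ.commutes q).symm) (k ≫ hu)
    obtain ⟨y, hy⟩ := h1
    rw [← comp_lift, Category.assoc] at hy
    have h2 := (hJ _ (CommRingCat.ofHom ψ.toRingHom)).mp ⟨y.left, congrArg CommaMorphism.left hy⟩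
    rw [Ideal.span_le]
    rintro _ ⟨z, hz, n, -, rfl⟩
    have h3 : ψ z = 0 := h2 (hsJ ▸ Ideal.subset_span hz)
    have h4 := congrArg (fun w : MonoidAlgebra D (Multiplicative M) => w.coeff n) h3
    simp [ψ] at h4
    exact h4
  · intro Y z hz h
    let φY : Q ⟶ Γ(Y.left, ⊤) := (Scheme.ΓSpecIso Q).inv ≫ (z ≫ Spec.map φ).appTop
    have hY : (z ≫ Spec.map φ) ≫ p = Y.hom := by rw [← hp, ← hz]; simp [Category.assoc]
    let Y₀ : Over (Spec Q) := Over.mk (z ≫ Spec.map φ)
    let eY : (Over.map p).obj Y₀ ≅ Y := Over.isoMk (Iso.refl _) ((Category.id_comp _).trans hY.symm)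
    obtain ⟨φ', hφ', q, t, hq⟩ := eq_gPt_of_toSpecΓ P (eY.hom ≫ h)
    let _ : Algebra Q Γ(Y₀.left, ⊤) := φ'.hom.toAlgebra
    let L := MonoidAlgebra.lift Q Γ(Y₀.left, ⊤) (Multiplicative M) t
    let k : Y ⟶ U := eY.inv ≫ (Over.map p).map (q ≫ testMap L)
    have hh : k ≫ hu = h := by
      rw [Category.assoc, Functor.map_comp, Category.assoc, testMap_gPt,
        show L.toRingHom.toMonoidHom.comp (MonoidAlgebra.of Q (Multiplicative M)) = t by ext m; simp [L], ← hq,
        Iso.inv_hom_id_assoc]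
    have hx : k ≫ xu = Over.homMk (z ≫ Spec.map φ ≫ a) hz := by
      ext1
      show (𝟙 _ ≫ q.left ≫ Spec.map (CommRingCat.ofHom L.toRingHom)) ≫ Spec.map _ ≫ a = z ≫ Spec.map φ ≫ a
      rw [Category.id_comp, ← Category.assoc, ← Category.assoc z]
      congr 1
      exact Over.w (q ≫ testMap L)
    have hker : J ≤ RingHom.ker L.toRingHom := by
      rw [← hsJ, Ideal.span_le]
      intro w hw
      rw [SetLike.mem_coe, RingHom.mem_ker]
      show MonoidAlgebra.lift Q Γ(Y₀.left, ⊤) (Multiplicative M) t w = 0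
      rw [MonoidAlgebra.lift_apply]
      refine Finset.sum_eq_zero fun n hn => ?_
      show w.coeff n • t n = 0
      have h0 : φ (w.coeff n) = 0 := hI (Ideal.subset_span ⟨w, hw, n, hn, rfl⟩)
      have h5 : φ' = φ ≫ (Scheme.ΓSpecIso D).inv ≫ z.appTop := by
        have h3 := congrArg (fun f => f.appTop) hφ'
        simp only [Scheme.Hom.comp_appTop, Scheme.toSpecΓ_appTop] at h3
        rw [Scheme.ΓSpecIso_inv_naturality_assoc]
        have h6 : (Scheme.ΓSpecIso Q).inv ≫ (Spec.map φ).appTop ≫ z.appTop =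
            (Scheme.ΓSpecIso Q).inv ≫ Y₀.hom.appTop := by rw [← Scheme.Hom.comp_appTop]; rfl
        rw [h6, ← h3, ← Category.assoc, ← Scheme.ΓSpecIso_inv_naturality, Category.assoc, Iso.inv_hom_id,
          Category.comp_id]
      rw [Algebra.smul_def, show algebraMap Q Γ(Y₀.left, ⊤) (w.coeff n) = φ' (w.coeff n) from rfl, h5]
      show ((Scheme.ΓSpecIso D).inv ≫ z.appTop) (φ (w.coeff n)) * _ = 0
      rw [h0, map_zero, zero_mul]
    obtain ⟨l, hl⟩ := (hJ _ (CommRingCat.ofHom L.toRingHom)).mpr hker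
    let yl : Y ⟶ E := Over.homMk ((𝟙 _ ≫ q.left) ≫ l) (by
      rw [Category.assoc, ← Over.w e, ← Category.assoc l, hl, ← Category.assoc]
      show ((𝟙 _ ≫ q.left) ≫ (Spec.map (CommRingCat.ofHom L.toRingHom) ≫ wf.left)) ≫ W.hom = Y.hom
      rw [← Over.w (k ≫ wf)]
      show _ = ((𝟙 _ ≫ q.left ≫ Spec.map (CommRingCat.ofHom L.toRingHom)) ≫ wf.left) ≫ W.hom
      simp only [Category.assoc])
    refine ⟨yl, ?_⟩
    rw [← hh, ← hx, ← comp_lift, Category.assoc]
    ext1
    show ((𝟙 _ ≫ q.left) ≫ l) ≫ e.left =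
      (𝟙 _ ≫ q.left ≫ Spec.map (CommRingCat.ofHom L.toRingHom)) ≫ wf.left
    simp only [Category.assoc, hl]

set_option backward.isDefEq.respectTransparency.types false in
/-- Agreement is given by an ideal on small affine opens. -/
lemma isRep_inOn [IsClosedImmersion e.left] (hH : SplitFpqc H) (U : X.left.affineOpens) (V : S.affineOpens)
    (hUV : U.1 ≤ X.hom ⁻¹ᵁ V.1) : ∃ I₀ : Ideal Γ(X.left, U), (LocallyOfFinitePresentation e.left → I₀.FG) ∧
      ∀ (C : CommRingCat.{u}) (φ : Γ(X.left, U) ⟶ C),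
        InOn f e (Spec.map φ ≫ U.2.fromSpec) ↔ I₀ ≤ RingHom.ker φ.hom := by
  classical
  obtain ⟨κ, _, T, t, hflat, hsurj, hsplit⟩ := hH V
  let R : Type u := Γ(S, V)
  let A : Type u := Γ(X.left, U)
  let _ : Algebra R A := (X.hom.appLE V.1 U.1 hUV).hom.toAlgebra
  let _ : ∀ k, Algebra R (T k) := fun k => (t k).hom.toAlgebra
  let B : κ → Type u := fun k => A ⊗[R] T k
  have eA : Spec.map (CommRingCat.ofHom (algebraMap R A)) ≫ V.2.fromSpec = U.2.fromSpec ≫ X.hom :=
    V.2.SpecMap_appLE_fromSpec X.hom U.2 hUV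
  have hTflat : ∀ k, Module.Flat R (T k) := fun k => by
    have h : (t k).hom.Flat := (HasRingHomProperty.Spec_iff (P := @Flat)).mp (hflat k)
    exact RingHom.flat_algebraMap_iff.mp h
  have : ∀ k, Module.Flat A (B k) := fun k => inferInstance
  let bA : ∀ k, Spec (CommRingCat.of (B k)) ⟶ Spec (CommRingCat.of A) := fun k =>
    Spec.map (CommRingCat.ofHom (algebraMap A (B k)))
  let bT : ∀ k, Spec (CommRingCat.of (B k)) ⟶ Spec (T k) := fun k =>
    Spec.map (CommRingCat.ofHom (Algebra.TensorProduct.includeRight : T k →ₐ[R] B k).toRingHom)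
  have hbT : ∀ k, bT k ≫ Spec.map (t k) = bA k ≫ Spec.map (CommRingCat.ofHom (algebraMap R A)) := fun k => by
    rw [← Spec.map_comp, ← Spec.map_comp]
    congr 1
    ext r
    exact ((Algebra.TensorProduct.includeRight : T k →ₐ[R] B k).commutes r).trans
      (IsScalarTower.algebraMap_apply R A (B k) r)
  have hbAsurj : ∀ z, ∃ k q, (bA k).base q = z := by
    intro z
    obtain ⟨k, q, hq⟩ := hsurj ((Spec.map (CommRingCat.ofHom (algebraMap R A))).base z)
    obtain ⟨w, hw, -⟩ := Scheme.Pullback.exists_preimage_pullback z q hq.symm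
    refine ⟨k, (pullbackSpecIso R A (T k)).hom.base w, ?_⟩
    rw [← hw, ← Scheme.Hom.comp_apply]
    exact congr($(pullbackSpecIso_hom_fst R A (T k)).base w)
  have hchart : ∀ k, ∃ I : Ideal (B k), (LocallyOfFinitePresentation e.left → I.FG) ∧ ∀ (D : CommRingCat.{u}) (φ : CommRingCat.of (B k) ⟶ D),
      InOn f e (Spec.map φ ≫ bA k ≫ U.2.fromSpec) ↔ I ≤ RingHom.ker φ.hom := fun k => by
    obtain ⟨M, _, P, -⟩ := hsplit k
    refine exists_chart_ideal_in f e (bA k ≫ U.2.fromSpec) (p := bT k ≫ Spec.map (t k) ≫ V.2.fromSpec) ?_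
      (P.restrict (bT k))
    rw [reassoc_of% hbT, eA, Category.assoc]
  choose I hIfg hI using hchart
  have compat : ∀ j k, ∀ x ∈ I k, (1 : B j ⧸ I j) ⊗ₜ[A] x = (0 : (B j ⧸ I j) ⊗[A] B k) := by
    intro j k x hx
    let D := (B j ⧸ I j) ⊗[A] B k
    let φk : B k →ₐ[A] D := Algebra.TensorProduct.includeRight
    let φj : B j →+* D := (Algebra.TensorProduct.includeLeftRingHom : (B j ⧸ I j) →+* D).comp (Ideal.Quotient.mk (I j))
    have hj : InOn f e (Spec.map (CommRingCat.ofHom (R := B j) (S := D) φj) ≫ bA j ≫ U.2.fromSpec) := by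
      refine (hI j _ _).mpr fun y hy => ?_
      rw [RingHom.mem_ker]
      show Algebra.TensorProduct.includeLeftRingHom (Ideal.Quotient.mk (I j) y) = 0
      rw [Ideal.Quotient.eq_zero_iff_mem.mpr hy, map_zero]
    have e : Spec.map (CommRingCat.ofHom (R := B j) (S := D) φj) ≫ bA j = Spec.map (CommRingCat.ofHom φk.toRingHom) ≫ bA k := by
      rw [← Spec.map_comp, ← Spec.map_comp]
      congr 1
      ext a
      show φj (algebraMap A (B j) a) = φk (algebraMap A (B k) a)
      rw [φk.commutes]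
      rfl
    rw [← Category.assoc, e, Category.assoc] at hj
    exact (hI k _ _).mp hj hx
  let I' : Ideal A := ⨅ j, (I j).comap (algebraMap A (B j))
  obtain ⟨I₀, hI₀le, hI₀fg, hI₀map⟩ : ∃ I₀ : Ideal A, I₀ ≤ I' ∧ (LocallyOfFinitePresentation e.left → I₀.FG) ∧
      ∀ k, I k ≤ I₀.map (algebraMap A (B k)) := by
    by_cases hlft : LocallyOfFinitePresentation e.left
    · have hk : ∀ k, ∃ J₀ : Ideal A, J₀.FG ∧ J₀ ≤ I' ∧ I k ≤ J₀.map (algebraMap A (B k)) := by
        intro k
        obtain ⟨t, ht⟩ := hIfg k hlft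
        have hmem : ∀ x : t, ∃ J₀ : Ideal A, J₀.FG ∧ J₀ ≤ I' ∧ x.1 ∈ J₀.map (algebraMap A (B k)) := by
          intro x
          have hx : x.1 ∈ Submodule.span (B k) (algebraMap A (B k) '' (I' : Set A)) :=
            le_map_of_compatible B I compat k (ht ▸ Ideal.subset_span x.2)
          obtain ⟨u, hu, hxu⟩ := Submodule.mem_span_finite_of_mem_span hx
          choose v hv hvu using fun y : u => hu y.2
          refine ⟨Ideal.span (u.attach.image v), Submodule.fg_span (Finset.finite_toSet _), ?_, ?_⟩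
          · rw [Ideal.span_le]
            intro a ha
            obtain ⟨y, hy, rfl⟩ := Finset.mem_image.mp ha
            exact hv y
          · rw [Ideal.map_span]
            refine Submodule.span_mono ?_ hxu
            intro y hy
            exact ⟨v ⟨y, hy⟩, Finset.mem_coe.mpr (Finset.mem_image_of_mem v (Finset.mem_attach _ _)), hvu ⟨y, hy⟩⟩
        choose J₀ h₁ h₂ h₃ using hmem
        refine ⟨⨆ x, J₀ x, Submodule.fg_iSup _ h₁, iSup_le h₂, ?_⟩
        rw [← ht, Ideal.span_le]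
        intro x hx
        exact Ideal.map_mono (le_iSup J₀ ⟨x, hx⟩) (h₃ ⟨x, hx⟩)
      choose J₀ h₁ h₂ h₃ using hk
      exact ⟨⨆ k, J₀ k, iSup_le h₂, fun _ => Submodule.fg_iSup _ h₁,
        fun k => (h₃ k).trans (Ideal.map_mono (le_iSup J₀ k))⟩
    · exact ⟨I', le_rfl, fun h => absurd h hlft, fun k => le_map_of_compatible B I compat k⟩
  refine ⟨I₀, hI₀fg, fun C φ => ⟨fun h => ?_, fun h => ?_⟩⟩
  · let _ : Algebra A C := φ.hom.toAlgebra
    have : Module.FaithfullyFlat C (Π k, C ⊗[A] B k) := by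
      have : ∀ k, Module.Flat C (C ⊗[A] B k) := fun k => inferInstance
      cases nonempty_fintype κ
      have : Module.Flat C (Π k, C ⊗[A] B k) :=
        Module.Flat.of_linearEquiv (DFinsupp.linearEquivFunOnFintype (R := C)).symm
      refine Module.FaithfullyFlat.of_comap_surjective fun c => ?_
      obtain ⟨k, q, hq⟩ := hbAsurj ((Spec.map φ).base c)
      obtain ⟨w, hw, -⟩ := Scheme.Pullback.exists_preimage_pullback (f := Spec.map φ) (g := bA k) c q hq.symm
      let r : PrimeSpectrum (C ⊗[A] B k) := (pullbackSpecIso A C (B k)).hom.base w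
      have hr : PrimeSpectrum.comap (algebraMap C (C ⊗[A] B k)) r = c := by
        rw [← hw]
        exact congr($(pullbackSpecIso_hom_fst A C (B k)).base w)
      refine ⟨PrimeSpectrum.comap (Pi.evalRingHom (fun k => C ⊗[A] B k) k) r, ?_⟩
      rw [← hr]
      rfl
    intro a ha
    rw [RingHom.mem_ker]
    refine FaithfulSMul.algebraMap_injective C (Π k, C ⊗[A] B k) ?_
    rw [map_zero]
    ext k
    have h1 : InOn f e (Spec.map (CommRingCat.ofHom
        (Algebra.TensorProduct.includeRight : B k →ₐ[A] C ⊗[A] B k).toRingHom) ≫ bA k ≫ U.2.fromSpec) := by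
      have e : Spec.map (CommRingCat.ofHom (Algebra.TensorProduct.includeRight : B k →ₐ[A] C ⊗[A] B k).toRingHom) ≫
          bA k = Spec.map (CommRingCat.ofHom (algebraMap C (C ⊗[A] B k))) ≫ Spec.map φ := by
        rw [← Spec.map_comp, ← Spec.map_comp]
        congr 1
        ext r
        exact ((Algebra.TensorProduct.includeRight : B k →ₐ[A] C ⊗[A] B k).commutes r).trans
          (IsScalarTower.algebraMap_apply A C (C ⊗[A] B k) r)
      rw [← Category.assoc, e, Category.assoc]
      exact h.comp _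
    have h2 := (hI k _ _).mp h1 ((Submodule.mem_iInf _).mp (hI₀le ha) k)
    show algebraMap C (C ⊗[A] B k) (φ a) = 0
    rw [← h2]
    show algebraMap C (C ⊗[A] B k) (algebraMap A C a) = Algebra.TensorProduct.includeRight (algebraMap A (B k) a)
    rw [AlgHom.commutes, ← IsScalarTower.algebraMap_apply]
  · let _ : Algebra A C := φ.hom.toAlgebra
    have hbflat : ∀ k, Flat (pullback.fst (Spec.map φ) (bA k)) := fun k => by
      have : Flat (bA k) := (HasRingHomProperty.Spec_iff (P := @Flat)).mpr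
        (RingHom.flat_algebraMap_iff.mpr (inferInstance : Module.Flat A (B k)))
      infer_instance
    have : Mono e := Over.mono_of_mono_left e
    refine InOn.descend f e _ _ (fun k => pullback.fst (Spec.map φ) (bA k)) (fun c => ?_) (fun k => ?_)
    · obtain ⟨k, q, hq⟩ := hbAsurj ((Spec.map φ).base c)
      obtain ⟨w, hw, -⟩ := Scheme.Pullback.exists_preimage_pullback (f := Spec.map φ) (g := bA k) c q hq.symm
      exact ⟨k, w, hw⟩
    · rw [reassoc_of% pullback.condition]
      have hle : I k ≤ RingHom.ker (Algebra.TensorProduct.includeRight : B k →ₐ[A] C ⊗[A] B k).toRingHom := by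
        refine (hI₀map k).trans ?_
        rw [Ideal.map_le_iff_le_comap]
        intro a ha
        show Algebra.TensorProduct.includeRight (algebraMap A (B k) a) = 0
        rw [AlgHom.commutes, IsScalarTower.algebraMap_apply A C (C ⊗[A] B k)]
        rw [show algebraMap A C a = 0 from h ha, map_zero]
      have h1 := (hI k _ (CommRingCat.ofHom
        (Algebra.TensorProduct.includeRight : B k →ₐ[A] C ⊗[A] B k).toRingHom)).mpr hle
      have e : (pullbackSpecIso A C (B k)).hom ≫ Spec.map (CommRingCat.ofHom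
          (Algebra.TensorProduct.includeRight : B k →ₐ[A] C ⊗[A] B k).toRingHom) =
          pullback.snd (Spec.map φ) (bA k) := pullbackSpecIso_hom_snd A C (B k)
      have h2 := h1.comp (pullbackSpecIso A C (B k)).hom
      rw [← Category.assoc, e] at h2
      exact h2

set_option backward.isDefEq.respectTransparency.types false in
/-- The agreement locus is a closed subscheme. -/
theorem exists_closed_inLocus [IsClosedImmersion e.left] (hH : SplitFpqc H) :
    ∃ (Z : Over S) (i : Z ⟶ X), IsClosedImmersion i.left ∧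
      (LocallyOfFinitePresentation e.left → LocallyOfFinitePresentation i.left) ∧
      ∀ (T : Over S) (x : T ⟶ X), (∃ z : T ⟶ Z, z ≫ i = x) ↔
        ∀ (T' : Over S) (k : T' ⟶ T) (h : T' ⟶ H), ∃ y : T' ⟶ E, y ≫ e = lift (k ≫ x) h ≫ f := by
  have : Mono e := Over.mono_of_mono_left e
  have hgood : GrpScheme.ClosedRep.IsGood (InOn f e) :=
    { comp := fun c x hx => hx.comp c, glue := fun 𝒰 x hx => InOn.glue f e 𝒰 x hx }
  obtain ⟨Z, i, hi, hZ⟩ := GrpScheme.ClosedRep.exists_closed hgood fun U x hx => by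
    obtain ⟨V, hV, hxV, -⟩ := exists_isAffineOpen_mem_and_subset (X := S) (x := X.hom.base x) (U := ⊤) trivial
    obtain ⟨r, hr, hxr⟩ := U.2.exists_basicOpen_le (V := X.hom ⁻¹ᵁ V) ⟨x, hxV⟩ hx
    obtain ⟨I, -, hI⟩ := isRep_inOn f e hH (X.left.affineBasicOpen r) ⟨V, hV⟩ hr
    exact ⟨r, hxr, I, hI⟩
  refine ⟨Over.mk (i ≫ X.hom), Over.homMk i rfl, hi, fun hlft => ?_, fun T x => ⟨?_, fun h => ?_⟩⟩
  · have key : ∀ x : X.left, ∃ U : X.left.affineOpens, x ∈ U.1 ∧ LocallyOfFinitePresentation (i ∣_ U.1) := by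
      intro x
      obtain ⟨V, hV, hxV, -⟩ := exists_isAffineOpen_mem_and_subset (X := S) (x := X.hom.base x) (U := ⊤) trivial
      obtain ⟨U, hU, hxU, hUV⟩ := exists_isAffineOpen_mem_and_subset (X := X.left) (x := x) (U := X.hom ⁻¹ᵁ V) hxV
      refine ⟨⟨U, hU⟩, hxU, ?_⟩
      obtain ⟨I, hIfg, hI⟩ := isRep_inOn f e hH ⟨U, hU⟩ ⟨V, hV⟩ hUV
      obtain ⟨I₁, iso, hiso⟩ := IsClosedImmersion.Spec_iff.mp
        (inferInstance : IsClosedImmersion (pullback.fst hU.fromSpec i))
      have h1 : I₁ = I := GrpScheme.ClosedRep.eq_of_forall_ker (A := Γ(X.left, U)) fun D ψ => by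
        rw [← hI D ψ, hZ]
        refine ⟨fun h => ?_, fun ⟨l, hl⟩ => ?_⟩
        · let k : CommRingCat.of (Γ(X.left, U) ⧸ I₁) ⟶ D :=
            CommRingCat.ofHom (Ideal.Quotient.lift I₁ ψ.hom fun a ha => h ha)
          refine ⟨Spec.map k ≫ iso.inv ≫ pullback.snd hU.fromSpec i, ?_⟩
          rw [Category.assoc, Category.assoc, ← pullback.condition, hiso, Category.assoc, Iso.inv_hom_id_assoc,
            ← Spec.map_comp_assoc]
          rfl
        · let m := pullback.lift (Spec.map ψ) l hl.symm ≫ iso.hom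
          have hm : m ≫ Spec.map (CommRingCat.ofHom (Ideal.Quotient.mk I₁)) = Spec.map ψ := by
            rw [Category.assoc, ← hiso, pullback.lift_fst]
          rw [← Spec.map_preimage m, ← Spec.map_comp] at hm
          intro a ha
          rw [RingHom.mem_ker, ← Spec.map_injective hm]
          show (Spec.preimage m).hom (Ideal.Quotient.mk I₁ a) = 0
          rw [Ideal.Quotient.eq_zero_iff_mem.mpr ha, map_zero]
      have h2 : LocallyOfFinitePresentation (Spec.map (CommRingCat.ofHom (Ideal.Quotient.mk I₁))) := by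
        refine (HasRingHomProperty.Spec_iff (P := @LocallyOfFinitePresentation)).mpr ?_
        have : Algebra.FinitePresentation Γ(X.left, U) (Γ(X.left, U) ⧸ I₁) :=
          .quotient (h1 ▸ hIfg hlft)
        exact RingHom.finitePresentation_algebraMap.mpr this
      have h3 : LocallyOfFinitePresentation (pullback.fst hU.fromSpec i) := by rw [hiso]; infer_instance
      have h5 : LocallyOfFinitePresentation (pullback.snd i hU.fromSpec) := by
        rw [← pullbackSymmetry_hom_comp_fst]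
        infer_instance
      have h6 : ∀ b, b = hU.isoSpec.hom ≫ hU.fromSpec → LocallyOfFinitePresentation (pullback.snd i b) := by
        rintro _ rfl
        rw [← pullbackLeftPullbackSndIso_inv_snd_snd i hU.fromSpec hU.isoSpec.hom]
        infer_instance
      rw [← MorphismProperty.cancel_left_of_respectsIso (P := @LocallyOfFinitePresentation)
        (pullbackRestrictIsoRestrict i U).hom, pullbackRestrictIsoRestrict_hom_morphismRestrict]
      exact h6 _ hU.isoSpec_hom_fromSpec.symm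
    choose U hxU hU using key
    exact IsZariskiLocalAtTarget.of_iSup_eq_top (fun x => (U x).1) (top_le_iff.mp fun x _ =>
      TopologicalSpace.Opens.mem_iSup.mpr ⟨x, hxU x⟩) hU
  · rintro ⟨z, rfl⟩ T' k h
    exact ((hZ _ _).mpr ⟨z.left, rfl⟩).apply _ k.left rfl h
  · have hx : InOn f e x.left := fun Y z hz h' => by
      let k : Y ⟶ T := Over.homMk z (by rw [← Over.w x, ← Category.assoc, hz])
      rw [show Over.homMk (z ≫ x.left) hz = k ≫ x from Over.OverMorphism.ext rfl]
      exact h Y k h'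
    obtain ⟨z, hz⟩ := (hZ _ _).mp hx
    exact ⟨Over.homMk z (by show z ≫ i ≫ X.hom = T.hom; rw [reassoc_of% hz, Over.w]), Over.OverMorphism.ext hz⟩

end Groth.Agent.DiagRig
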