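import Mathlib.RingTheory.RootsOfUnity.AlgebraicallyClosed
import Mathlib.LinearAlgebra.FreeModule.PID
import Mathlib.Algebra.Module.Torsion.Basic
import Mathlib.LinearAlgebra.LinearIndependent.Basic
import Mathlib.Algebra.MonoidAlgebra.Basic
import Mathlib.GroupTheory.Finiteness

/-! Torsion points in the closure of the powers of a point of a diagonalisable group. -/

universe u

namespace Groth.Agent.DiagRig

/-- The evaluation of `L[Q]` at all powers is injective, for a subgroup `Q` of `Lˣ`. -/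
lemma eval_powers_injective {L : Type u} [Field L] (Q : Subgroup Lˣ) (x : MonoidAlgebra L Q)
    (h : ∀ j : ℕ, MonoidAlgebra.lift L L Q (((Units.coeHom L).comp Q.subtype).comp (powMonoidHom j)) x = 0) : x = 0 := by
  classical
  let χ : Q → (Multiplicative ℕ →* L) := fun q => powersHom L ((q : Lˣ) : L)
  have hχ : Function.Injective χ := fun a b e => by
    have := DFunLike.congr_fun e (Multiplicative.ofAdd 1)
    simp [χ] at this
    exact Subtype.ext (Units.ext this)
  have li : LinearIndependent L (fun q : Q => ((χ q : Multiplicative ℕ →* L) : Multiplicative ℕ → L)) :=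
    (linearIndependent_monoidHom (Multiplicative ℕ) L).comp χ hχ
  have h0 : Finsupp.linearCombination L (fun q : Q => ((χ q : Multiplicative ℕ →* L) : Multiplicative ℕ → L)) x.coeff = 0 := by
    funext j
    rw [Pi.zero_apply, ← h j.toAdd, Finsupp.linearCombination_apply, Finsupp.sum, Finset.sum_apply,
      MonoidAlgebra.lift_apply, Finsupp.sum]
    refine Finset.sum_congr rfl fun q _ => ?_
    simp [χ]
  exact MonoidAlgebra.coeff_injective ((linearIndependent_iff.mp li _ h0).trans MonoidAlgebra.coeff_zero.symm)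

/-- A nontrivial finitely generated subgroup of `Lˣ` has a nontrivial character with values of finite order. -/
lemma exists_finite_order_char {L : Type u} [Field L] [IsAlgClosed L] (Q : Subgroup Lˣ)
    [Module.Finite ℤ (Additive Q)] (hQ : ∃ q : Q, q ≠ 1) :
    ∃ χ : Q →* Lˣ, χ ≠ 1 ∧ ∀ q, IsOfFinOrder (χ q) := by
  by_cases hfin : ∀ q : Q, IsOfFinOrder q
  · refine ⟨Q.subtype, fun e => ?_, fun q => (Q.subtype.isOfFinOrder (hfin q))⟩
    obtain ⟨q, hq⟩ := hQ
    exact hq (Subtype.ext (DFunLike.congr_fun e q))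
  · simp only [not_forall] at hfin
    obtain ⟨q₀, hq₀⟩ := hfin
    let T := Submodule.torsion ℤ (Additive Q)
    let b := Module.Free.chooseBasis ℤ (Additive Q ⧸ T)
    have hne : T.mkQ (Additive.ofMul q₀) ≠ 0 := by
      intro e
      rw [Submodule.mkQ_apply, Submodule.Quotient.mk_eq_zero] at e
      obtain ⟨a, ha⟩ := e
      apply hq₀
      refine isOfFinOrder_iff_zpow_eq_one.mpr ⟨(a : ℤ), nonZeroDivisors.ne_zero a.2, ?_⟩
      simpa [Submonoid.smul_def, ← ofMul_zpow] using ha
    obtain ⟨i, hi⟩ : ∃ i, b.repr (T.mkQ (Additive.ofMul q₀)) i ≠ 0 := by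
      by_contra hall
      simp only [not_exists, not_not] at hall
      exact hne (b.repr.map_eq_zero_iff.mp (Finsupp.ext hall))
    obtain ⟨x, hx⟩ : ∃ x, T.mkQ x = b i := T.mkQ_surjective _
    obtain ⟨ℓ, hℓ1, hℓ⟩ : ∃ ℓ : ℕ, 1 < ℓ ∧ (ℓ : L) ≠ 0 := by
      by_cases h2 : (2 : L) = 0
      · refine ⟨3, by omega, fun h3 => ?_⟩
        have : (1 : L) = 0 := by push_cast at h3; linear_combination h3 - h2
        exact one_ne_zero this
      · exact ⟨2, by omega, by exact_mod_cast h2⟩
    have : NeZero (ℓ : L) := ⟨hℓ⟩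
    have : NeZero ℓ := ⟨by omega⟩
    obtain ⟨ζ, hζ⟩ := HasEnoughRootsOfUnity.exists_primitiveRoot L ℓ
    let z : Lˣ := (hζ.isUnit (by omega)).unit
    let χ : Q →* Lˣ := (zpowersHom Lˣ z).comp
      (AddMonoidHom.toMultiplicativeRight (((Finsupp.applyAddHom i).comp b.repr.toLinearMap.toAddMonoidHom).comp
        T.mkQ.toAddMonoidHom))
    have hval : ∀ q : Q, χ q = z ^ (b.repr (T.mkQ (Additive.ofMul q)) i) := fun q => rfl
    have hz : z ^ ℓ = 1 := Units.ext (by simpa [z] using hζ.pow_eq_one)
    refine ⟨χ, fun e => ?_, fun q => ?_⟩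
    · have h1 := DFunLike.congr_fun e x.toMul
      rw [hval, ofMul_toMul, hx, b.repr_self, Finsupp.single_eq_same, zpow_one] at h1
      exact hζ.ne_one hℓ1 (by simpa [z] using congrArg Units.val h1)
    · rw [hval]
      exact (isOfFinOrder_iff_pow_eq_one.mpr ⟨ℓ, by omega, hz⟩).zpow

lemma mem_valuationSubring_of_isOfFinOrder {L : Type u} [Field L] (B : ValuationSubring L) {x : L}
    (hx : IsOfFinOrder x) : x ∈ B := by
  obtain ⟨n, hn, hxn⟩ := isOfFinOrder_iff_pow_eq_one.mp hx
  rcases B.mem_or_inv_mem x with h | h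
  · exact h
  · have : x = x⁻¹ ^ (n - 1) := by
      rw [inv_pow]
      apply eq_inv_of_mul_eq_one_left
      rw [← pow_succ', show n - 1 + 1 = n by omega, hxn]
    rw [this]
    exact pow_mem h _

end Groth.Agent.DiagRig
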