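import Groth.Agent.DiagRig.FibreIso
import Mathlib.RingTheory.Nakayama
import Mathlib.RingTheory.Ideal.MinimalPrime.Localization

/-! Triviality of a morphism with section near a fibre which is a single point. -/

universe u

open CategoryTheory AlgebraicGeometry Limits

noncomputable section

namespace Groth.Agent.DiagRig

lemma exists_away_retraction {R A : Type u} [CommRing R] [CommRing A] (φ : R →+* A) (hφ : φ.FiniteType)
    (ε : A →+* R) (hε : ε.comp φ = RingHom.id R) (m : Ideal A) [m.IsPrime]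
    (h : ∀ (B : Type u) [CommRing B] (β : A →+* B) (γ : (m.comap φ).ResidueField →+* B),
      β.comp φ = γ.comp (algebraMap R _) → β = (β.comp φ).comp ε) :
    ∃ a, a ∉ m ∧ ∀ x, a * (x - φ (ε x)) = 0 := by
  classical
  algebraize [φ]
  have hε' : ∀ r, ε (algebraMap R A r) = r := fun r => DFunLike.congr_fun hε r
  have hfg : (RingHom.ker ε).FG := by
    obtain ⟨s, hs⟩ := (inferInstance : Algebra.FiniteType R A).out
    refine ⟨s.image fun a => a - φ (ε a), le_antisymm ?_ ?_⟩
    · rw [Ideal.span_le]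
      intro x hx
      obtain ⟨a, -, rfl⟩ := Finset.mem_image.mp hx
      simp [RingHom.mem_ker, ← RingHom.algebraMap_toAlgebra φ, hε']
    · intro a ha
      have : a - φ (ε a) ∈ Ideal.span (s.image fun a => a - φ (ε a) : Set A) := by
        have ha' : a ∈ Algebra.adjoin R (s : Set A) := hs ▸ Algebra.mem_top
        clear ha
        induction ha' using Algebra.adjoin_induction with
        | mem x hx => exact Ideal.subset_span (Finset.mem_image_of_mem _ hx)
        | algebraMap r => simp [← RingHom.algebraMap_toAlgebra φ, hε']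
        | add x y _ _ hx hy => rw [map_add, map_add, add_sub_add_comm]; exact add_mem hx hy
        | mul x y _ _ hx hy =>
          rw [map_mul, map_mul, show x * y - φ (ε x) * φ (ε y) = (x - φ (ε x)) * y + φ (ε x) * (y - φ (ε y)) by ring]
          exact add_mem (Ideal.mul_mem_right _ _ hx) (Ideal.mul_mem_left _ _ hy)
      rwa [RingHom.mem_ker.mp ha, map_zero, sub_zero] at this
  let q := m.comap φ
  let M := Algebra.algebraMapSubmonoid A q.primeCompl
  let L := Localization M
  let I := (q.map φ).map (algebraMap A L)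
  let β : A →+* L ⧸ I := (Ideal.Quotient.mk I).comp (algebraMap A L)
  have hf₁ : q ≤ RingHom.ker (β.comp φ) := fun r hr =>
    Ideal.Quotient.eq_zero_iff_mem.mpr (Ideal.mem_map_of_mem _ (Ideal.mem_map_of_mem _ hr))
  have hf₂ : q.primeCompl ≤ (IsUnit.submonoid (L ⧸ I)).comap (β.comp φ) := fun r hr =>
    (IsLocalization.map_units L (⟨φ r, Submonoid.mem_map_of_mem _ hr⟩ : M)).map (Ideal.Quotient.mk I)
  have hβ := h (L ⧸ I) β (Ideal.ResidueField.lift q (β.comp φ) hf₁ hf₂)
    (RingHom.ext fun r => (Ideal.ResidueField.lift_algebraMap q (β.comp φ) hf₁ hf₂ r).symm)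
  let Am := Localization.AtPrime m
  let J' := (RingHom.ker ε).map (algebraMap A Am)
  have hJ : J' = ⊥ := by
    refine Submodule.eq_bot_of_le_smul_of_le_jacobson_bot (m.map (algebraMap A Am)) J' (hfg.map _) ?_ ?_
    · rw [Ideal.map_le_iff_le_comap]
      intro a ha
      have h1 : β a = 0 := by rw [hβ]; simp [RingHom.mem_ker.mp ha]
      obtain ⟨c, hc, hca⟩ := (IsLocalization.algebraMap_mem_map_algebraMap_iff M L (q.map φ) a).mp
        (Ideal.Quotient.eq_zero_iff_mem.mp h1)
      obtain ⟨b, hb, rfl⟩ := hc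
      have h2 : ∀ x ∈ q.map φ, x - φ (ε x) ∈ m * RingHom.ker ε := by
        intro x hx
        induction hx using Submodule.span_induction with
        | mem x hx =>
          obtain ⟨r, -, rfl⟩ := hx
          simp [← RingHom.algebraMap_toAlgebra φ, hε']
        | zero => simp
        | add x y _ _ hx hy => rw [map_add, map_add, add_sub_add_comm]; exact add_mem hx hy
        | smul z x hx' hx =>
          simp only [smul_eq_mul, map_mul] at hx' ⊢
          rw [show z * x - φ (ε z) * φ (ε x) = x * (z - φ (ε z)) + φ (ε z) * (x - φ (ε x)) by ring]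
          refine add_mem (Ideal.mul_mem_mul (Ideal.map_comap_le hx') ?_) (Ideal.mul_mem_left _ _ hx)
          simp [RingHom.mem_ker, ← RingHom.algebraMap_toAlgebra φ, hε']
      have h3 := h2 _ hca
      rw [map_mul, map_mul, RingHom.mem_ker.mp ha, map_zero, mul_zero, sub_zero] at h3
      have h4 := Ideal.mem_map_of_mem (algebraMap A Am) h3
      rw [Ideal.map_mul, map_mul] at h4
      have hu : IsUnit (algebraMap A Am (φ b)) := IsLocalization.map_units Am (⟨φ b, hb⟩ : m.primeCompl)
      exact (Ideal.unit_mul_mem_iff_mem _ hu).mp h4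
    · rw [Localization.AtPrime.map_eq_maximalIdeal, IsLocalRing.jacobson_eq_maximalIdeal ⊥ bot_ne_top]
  obtain ⟨s, hs⟩ := hfg
  have hz : ∀ x ∈ s, ∃ a : m.primeCompl, (a : A) * x = 0 := fun x hx =>
    (IsLocalization.map_eq_zero_iff m.primeCompl Am x).mp
      ((Ideal.mem_bot).mp (hJ ▸ Ideal.mem_map_of_mem _ (hs ▸ Ideal.subset_span hx)))
  choose! a ha using hz
  refine ⟨∏ x ∈ s, (a x : A), (∏ x ∈ s, a x : m.primeCompl).2 |> fun h => by simpa using h, fun x => ?_⟩
  have hx : x - φ (ε x) ∈ Ideal.span (s : Set A) := hs.symm ▸ (by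
    simp [RingHom.mem_ker, ← RingHom.algebraMap_toAlgebra φ, hε'] : x - φ (ε x) ∈ RingHom.ker ε)
  generalize x - φ (ε x) = w at hx ⊢
  induction hx using Submodule.span_induction with
  | mem y hy =>
    obtain ⟨c, hc⟩ := Finset.dvd_prod_of_mem (fun x => (a x : A)) hy
    rw [hc, mul_comm _ c, mul_assoc, ha y hy, mul_zero]
  | zero => simp
  | add y z _ _ hy hz => rw [mul_add, hy, hz, add_zero]
  | smul c y _ hy => rw [smul_eq_mul, mul_left_comm, hy, mul_zero]

/-- Near a fibre which is a monomorphism, a morphism with section is inverse to the section. -/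
theorem exists_open_trivial {K S : Scheme.{u}} (f : K ⟶ S) [LocallyOfFiniteType f] (e : S ⟶ K)
    (he : e ≫ f = 𝟙 S) (s : S)
    (hmono : ∀ (L : Type u) [Field L] (g : Spec (CommRingCat.of L) ⟶ S), g.base (IsLocalRing.closedPoint L) = s →
      ∀ (X : Scheme.{u}) (x y : X ⟶ K) (z : X ⟶ Spec (CommRingCat.of L)), x ≫ f = z ≫ g → y ≫ f = z ≫ g → x = y) :
    (∀ k, f.base k = s → k = e.base s) ∧ ∃ W : K.Opens, e.base s ∈ W ∧ W.ι ≫ f ≫ e = W.ι := by
  have hpt : ∀ k, f.base k = s → k = e.base s := by
    intro k hk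
    subst hk
    have h := hmono _ (S.fromSpecResidueField (f.base k)) (Scheme.fromSpecResidueField_apply _ _) _
      (K.fromSpecResidueField k)
      (K.fromSpecResidueField k ≫ f ≫ e) (Spec.map (f.residueFieldMap k))
      (f.SpecMap_residueFieldMap_fromSpecResidueField k).symm
      (by rw [Category.assoc, Category.assoc, he, Category.comp_id]
          exact (f.SpecMap_residueFieldMap_fromSpecResidueField k).symm)
    have h' := congr(($h).base (IsLocalRing.closedPoint (K.residueField k)))
    have e1 := Scheme.fromSpecResidueField_apply k (IsLocalRing.closedPoint (K.residueField k))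
    exact e1.symm.trans (h'.trans (congrArg (fun y => e.base (f.base y)) e1))
  refine ⟨hpt, ?_⟩
  have hfe : f.base (e.base s) = s := by rw [← Scheme.Hom.comp_apply, he]; rfl
  obtain ⟨U₀, hU₀, hs₀, -⟩ := exists_isAffineOpen_mem_and_subset (X := S) (x := s) (U := ⊤) trivial
  obtain ⟨V₀, hV₀, hk₀, hV₀U⟩ := exists_isAffineOpen_mem_and_subset (X := K) (x := e.base s) (U := f ⁻¹ᵁ U₀)
    (show f.base (e.base s) ∈ U₀ by rw [hfe]; exact hs₀)
  obtain ⟨g, hgle, hgs⟩ := hU₀.exists_basicOpen_le (V := e ⁻¹ᵁ V₀) ⟨s, hk₀⟩ hs₀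
  let U := S.basicOpen g
  let V := K.basicOpen (f.appLE U₀ V₀ (show V₀ ≤ f ⁻¹ᵁ U₀ from hV₀U) g)
  have hU : IsAffineOpen U := hU₀.basicOpen g
  have hV : IsAffineOpen V := hV₀.basicOpen _
  have hVeq : V = V₀ ⊓ f ⁻¹ᵁ U := Scheme.basicOpen_appLE _ _ _ _ _
  have hUe : U ≤ e ⁻¹ᵁ V := fun x hx => by
    show e.base x ∈ V
    rw [hVeq]
    exact ⟨hgle hx, show f.base (e.base x) ∈ U by rw [← Scheme.Hom.comp_apply, he]; exact hx⟩
  have hVf : V ≤ f ⁻¹ᵁ U := hVeq.le.trans inf_le_right
  let φ := f.appLE U V hVf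
  let ε := e.appLE V U hUe
  have hf : Spec.map φ ≫ hU.fromSpec = hV.fromSpec ≫ f := hU.SpecMap_appLE_fromSpec f hV hVf
  have hes : Spec.map ε ≫ hV.fromSpec = hU.fromSpec ≫ e := hV.SpecMap_appLE_fromSpec e hU hUe
  have hid : φ ≫ ε = 𝟙 _ := by
    have : Spec.map (φ ≫ ε) ≫ hU.fromSpec = 𝟙 _ ≫ hU.fromSpec := by
      rw [Spec.map_comp, Category.assoc, hf, reassoc_of% hes, he, Category.comp_id, Category.id_comp]
    rw [cancel_mono, ← Spec.map_id] at this
    exact Spec.map_injective this
  let k : V := ⟨e.base s, hUe hgs⟩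
  let m : Spec Γ(K, V) := hV.primeIdealOf k
  have hms : hU.fromSpec.base ((Spec.map φ).base m) = s := by
    rw [← Scheme.Hom.comp_apply, hf, Scheme.Hom.comp_apply]
    exact (congrArg f.base (hV.fromSpec_primeIdealOf k)).trans hfe
  obtain ⟨a, ham, ha⟩ := exists_away_retraction φ.hom (f.finiteType_appLE hU hV hVf) ε.hom
    (congrArg CommRingCat.Hom.hom hid) m.asIdeal (fun B _ β γ hβγ => by
      let q := m.asIdeal.comap φ.hom
      have h1 : Spec.map (CommRingCat.ofHom β) ≫ hV.fromSpec ≫ f =
          Spec.map (CommRingCat.ofHom γ) ≫ Spec.map (CommRingCat.ofHom (algebraMap _ q.ResidueField)) ≫ hU.fromSpec := by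
        rw [← hf, ← Spec.map_comp_assoc, ← Spec.map_comp_assoc]
        exact congrArg (fun r => Spec.map (CommRingCat.ofHom r) ≫ hU.fromSpec) hβγ
      have hg : (Spec.map (CommRingCat.ofHom (algebraMap _ q.ResidueField)) ≫ hU.fromSpec).base
          (IsLocalRing.closedPoint q.ResidueField) = s := by
        refine Eq.trans ?_ hms
        show hU.fromSpec.base _ = _
        congr 1
        apply PrimeSpectrum.ext
        show Ideal.comap (algebraMap Γ(S, U) q.ResidueField) (IsLocalRing.maximalIdeal _) = q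
        rw [IsLocalRing.maximalIdeal_eq_bot, ← RingHom.ker_eq_comap_bot, Ideal.ker_algebraMap_residueField]
      have h2 := hmono q.ResidueField (Spec.map (CommRingCat.ofHom (algebraMap _ q.ResidueField)) ≫ hU.fromSpec) hg _
        (Spec.map (CommRingCat.ofHom β) ≫ hV.fromSpec)
        (Spec.map (CommRingCat.ofHom ((β.comp φ.hom).comp ε.hom)) ≫ hV.fromSpec)
        (Spec.map (CommRingCat.ofHom γ)) (by rw [Category.assoc]; exact h1) (by
          rw [← h1]
          show Spec.map (ε ≫ φ ≫ CommRingCat.ofHom β) ≫ hV.fromSpec ≫ f = _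
          simp only [Spec.map_comp, Category.assoc, ← hf]
          rw [← Spec.map_comp_assoc φ ε, hid, Spec.map_id, Category.id_comp])
      rw [cancel_mono] at h2
      exact congrArg CommRingCat.Hom.hom (Spec.map_injective h2))
  let W := K.basicOpen a
  have hW : IsAffineOpen W := hV.basicOpen a
  have hWm : e.base s ∈ W := by
    have : m ∈ hV.fromSpec ⁻¹ᵁ W := by
      rw [hV.fromSpec_preimage_basicOpen]; exact ham
    have h' : hV.fromSpec.base m ∈ W := this
    rwa [show hV.fromSpec.base m = e.base s from hV.fromSpec_primeIdealOf k] at h'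
  refine ⟨W, hWm, ?_⟩
  let res := K.presheaf.map (homOfLE (K.basicOpen_le a)).op
  have hres : Spec.map res ≫ hV.fromSpec = hW.fromSpec :=
    hV.map_fromSpec hW (homOfLE (K.basicOpen_le a)).op
  have hu : IsUnit (res a) := RingedSpace.isUnit_res_basicOpen K.toLocallyRingedSpace.toRingedSpace a
  have hr : ε ≫ φ ≫ res = res := by
    ext x
    have := congrArg res (ha x)
    rw [map_mul, map_zero, hu.mul_right_eq_zero, map_sub, sub_eq_zero] at this
    exact this.symm
  have : hW.fromSpec ≫ f ≫ e = hW.fromSpec := by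
    rw [← hres]
    simp only [Category.assoc]
    rw [← reassoc_of% hf, ← hes, ← Spec.map_comp_assoc, ← Spec.map_comp_assoc, hr]
  rw [← IsAffineOpen.isoSpec_inv_ι, Category.assoc, cancel_epi] at this
  exact this

end Groth.Agent.DiagRig
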