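import Groth.Agent.DiagRig.Kernel
import Groth.Agent.DiagRig.KernelTorsion
import Groth.Agent.DiagRig.LocalTrivial
import Mathlib.RingTheory.Valuation.LocalSubring
import Mathlib.AlgebraicGeometry.PullbackCarrier

/-! A kernel trivial at a point is trivial near the point. -/

universe u

open CategoryTheory MonoidalCategory CartesianMonoidalCategory MonObj GrpObj AlgebraicGeometry Limits

noncomputable section

namespace Groth.Agent.DiagRig

variable {S : Scheme.{u}} {H G : Over S} [GrpObj H] [GrpObj G] (u : H ⟶ G) [IsMonHom u]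

lemma gPt_one_nhd {R : CommRingCat.{u}} {p : Spec R ⟶ S} {M : Type} [AddCommGroup M] (P : SplitPts p H M)
    {T : Type u} [CommRing T] [Algebra R T] : gPt p P (1 : Multiplicative M →* T) = 1 := by
  rw [gPt, MonoidHom.comp_one, P.σ_one]

lemma gPt_pow {R : CommRingCat.{u}} {p : Spec R ⟶ S} {M : Type} [AddCommGroup M] (P : SplitPts p H M)
    {T : Type u} [CommRing T] [Algebra R T] (t : Multiplicative M →* T) (n : ℕ) :
    gPt p P (t ^ n) = gPt p P t ^ n := by
  induction n with
  | zero => rw [pow_zero, pow_zero, gPt_one_nhd]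
  | succ n ih => rw [pow_succ, pow_succ, gPt_mul, ih]

lemma compHom_pow {X : Over S} (a : X ⟶ H) (n : ℕ) : (a ^ n) ≫ u = (a ≫ u) ^ n := by
  induction n with
  | zero => rw [pow_zero, pow_zero, MonObj.one_comp]
  | succ n ih => rw [pow_succ, pow_succ, MonObj.mul_comp, ih]

variable [IsSeparated G.hom]

/-- In the split case: a point of the kernel over a generalisation of a prime where the kernel is trivial nearby is the unit. -/
theorem eq_one_of_specializes {R : CommRingCat.{u}} {p : Spec R ⟶ S} {M : Type} [AddCommGroup M]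
    (hfg : AddGroup.FG M) (P : SplitPts p H M) (hP : P.Inj) (W : (kerOb u).left.Opens)
    (hW : W.ι ≫ (kerOb u).hom ≫ (kerUnit u).left = W.ι) (q : Ideal R) [q.IsPrime]
    (hWq : ∀ k, (kerOb u).hom.base k = p.base ⟨q, ‹_›⟩ → k ∈ W)
    {L : Type u} [Field L] [IsAlgClosed L] [Algebra R L] (hker : RingHom.ker (algebraMap R L) ≤ q)
    (tt : Multiplicative M →* L) (htt : gPt p P tt ≫ u = 1) : tt = 1 := by
  classical
  by_contra hne
  let Q : Subgroup Lˣ := tt.toHomUnits.range
  let π : Multiplicative M →* Q := tt.toHomUnits.rangeRestrict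
  have hπ : Function.Surjective π := tt.toHomUnits.rangeRestrict_surjective
  have : Module.Finite ℤ M := Module.Finite.iff_addGroup_fg.mpr hfg
  have : Module.Finite ℤ (Additive Q) :=
    Module.Finite.of_surjective (MonoidHom.toAdditiveRight π).toIntLinearMap hπ
  have hQ : ∃ x : Q, x ≠ 1 := by
    by_contra hall
    simp only [not_exists, not_not] at hall
    apply hne
    ext m
    exact congrArg (fun x : Q => ((x : Lˣ) : L)) (hall (π m))
  -- the universal point of the closure
  let tu : Multiplicative M →* MonoidAlgebra L Q := (MonoidAlgebra.of L Q).comp π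
  have htu : gPt p P tu ≫ u = 1 := by
    let ψ : ∀ _ : ℕ, MonoidAlgebra L Q →+* L := fun j =>
      (MonoidAlgebra.lift L L Q (((Units.coeHom L).comp Q.subtype).comp (powMonoidHom j))).toRingHom
    refine eq_of_jointly_injective (gPt p P tu ≫ u) 1 (fun _ : ℕ => L) ψ (eval_powers_injective Q) fun j => ?_
    let k : MonoidAlgebra L Q →ₐ[R] L := { ψ j with commutes' := fun r => by simp [ψ] }
    have h1 : k.toRingHom.toMonoidHom.comp tu = tt ^ j := by
      ext m
      simp [k, ψ, tu, π]
      rfl
    have h2 : (Over.map p).map (testMap k) ≫ gPt p P tu ≫ u = (Over.map p).map (testMap k) ≫ 1 := by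
      rw [← Category.assoc, testMap_gPt, h1, gPt_pow, compHom_pow, htt, one_pow, MonObj.comp_one]
    exact congr($(h2).left)
  obtain ⟨χ, hχ, hfin⟩ := exists_finite_order_char Q hQ
  let t' : Multiplicative M →* L := (Units.coeHom L).comp (χ.comp π)
  have ht' : gPt p P t' ≫ u = 1 := by
    let k : MonoidAlgebra L Q →ₐ[R] L := (MonoidAlgebra.lift L L Q ((Units.coeHom L).comp χ)).restrictScalars R
    have h1 : k.toRingHom.toMonoidHom.comp tu = t' := by
      ext m
      simp [k, tu, t']
    rw [← h1, ← testMap_gPt, Category.assoc, htu, MonObj.comp_one]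
  -- a valuation ring centred at `q`
  let g : Localization.AtPrime q →+* L := IsLocalization.lift (M := q.primeCompl) (g := algebraMap R L)
    fun y => IsUnit.mk0 _ fun e => y.2 (hker e)
  obtain ⟨B, hB, hloc⟩ := IsLocalRing.exists_factor_valuationRing g
  let gB : Localization.AtPrime q →+* B := g.codRestrict B.toSubring hB
  letI : Algebra R B := (gB.comp (algebraMap R _)).toAlgebra
  let kBL : B →ₐ[R] L := { B.subtype with
    commutes' := fun r => IsLocalization.lift_eq _ r }
  have hmem : ∀ m, t' m ∈ B := fun m =>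
    mem_valuationSubring_of_isOfFinOrder B ((Units.coeHom L).isOfFinOrder (hfin _))
  let tB : Multiplicative M →* B := t'.codRestrict B.toSubring hmem
  have h1 : kBL.toRingHom.toMonoidHom.comp tB = t' := rfl
  have htB : gPt p P tB ≫ u = 1 := by
    refine eq_of_jointly_injective (gPt p P tB ≫ u) 1 (fun _ : Unit => L) (fun _ => kBL.toRingHom)
      (fun x hx => Subtype.ext (hx ())) fun _ => ?_
    have h2 : (Over.map p).map (testMap kBL) ≫ gPt p P tB ≫ u = (Over.map p).map (testMap kBL) ≫ 1 := by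
      rw [← Category.assoc, testMap_gPt, h1, ht', MonObj.comp_one]
    exact congr($(h2).left)
  obtain ⟨k, hk⟩ := exists_kerLift u (gPt p P tB) htB
  let c : Spec (CommRingCat.of B) := IsLocalRing.closedPoint B
  have hc : (kerOb u).hom.base (k.left.base c) = p.base ⟨q, ‹_›⟩ := by
    refine (congr(($(Over.w k)).base c)).trans ?_
    show p.base ((Spec.map (CommRingCat.ofHom (algebraMap R B))).base c) = _
    congr 1
    apply PrimeSpectrum.ext
    show Ideal.comap (gB.comp (algebraMap R _)) (IsLocalRing.maximalIdeal B) = q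
    have hlocal : IsLocalHom gB := hloc
    rw [← Ideal.comap_comap, show Ideal.comap gB (IsLocalRing.maximalIdeal B) = IsLocalRing.maximalIdeal _ from ((IsLocalRing.local_hom_TFAE gB).out 0 4).mp hlocal]
    exact Localization.AtPrime.comap_maximalIdeal
  have hrange : Set.range k.left.base ⊆ Set.range W.ι.base := by
    rintro _ ⟨z, rfl⟩
    rw [Scheme.Opens.range_ι]
    exact ((IsLocalRing.specializes_closedPoint (z : PrimeSpectrum B)).map k.left.continuous).mem_open W.isOpen
      (hWq _ hc)
  have hk1 : k.left ≫ (kerOb u).hom ≫ (kerUnit u).left = k.left := by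
    rw [← IsOpenImmersion.lift_fac W.ι k.left hrange, Category.assoc, hW]
  have htB1 : tB = 1 := gPt_injective P hP (by rw [← hk, eq_one_of_unit u k hk1, gPt_one_nhd])
  apply hχ
  ext x
  obtain ⟨m, rfl⟩ := hπ x
  exact congrArg Subtype.val (DFunLike.congr_fun htB1 m)

/-- If the kernel is trivial on the fibre at `s`, it is trivial near `s`. -/
theorem exists_nhd_kernel_trivial (hH : SGA3x.IsMultTypeFT H) (s : S)
    (hs : Mono ((Over.pullback (S.fromSpecResidueField s)).map u).left) :
    ∃ U : S.Opens, s ∈ U ∧ ((kerOb u).hom ⁻¹ᵁ U).ι ≫ (kerOb u).hom ≫ (kerUnit u).left =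
      ((kerOb u).hom ⁻¹ᵁ U).ι := by
  have := multType_locallyOfFiniteType H hH
  have := multType_isAffineHom H hH
  obtain ⟨hpt, W, hsW, hW⟩ := exists_open_trivial (kerOb u).hom (kerUnit u).left (kerUnit_w u) s
    (fun L _ g hg X x y z hx hy => kernel_fibre_eq u s hs L g hg X x y z hx hy)
  obtain ⟨S', f, hf, hsurj, -, hloc⟩ := hH
  have claim : ∀ x : (kerOb u).left, (kerOb u).hom.base x ⤳ s → x ∈ W := by
    intro x hx
    obtain ⟨s', hs'⟩ := f.surjective s
    obtain ⟨t', ht's', ht'⟩ := Flat.generalizingMap f (hs'.symm ▸ hx)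
    obtain ⟨V, hV, M, _, hfg, ⟨e⟩⟩ := hloc s'
    obtain ⟨W', hW', hsW', -⟩ := exists_isAffineOpen_mem_and_subset (X := V.toScheme) (x := (⟨s', hV⟩ : V))
      (U := ⊤) trivial
    let R := Γ(V.toScheme, W')
    let j : Spec R ⟶ V.toScheme := hW'.fromSpec
    let p : Spec R ⟶ S := j ≫ V.ι ≫ f
    let P : SplitPts p H M := (SplitPts.ofIso _ e).restrict j
    have hP : P.Inj := SplitPts.Inj.restrict (SplitPts.ofIso_inj e) j
    let jS : Spec R ⟶ S' := j ≫ V.ι
    have hs'r : s' ∈ jS.opensRange := by
      obtain ⟨z, hz⟩ := hW'.range_fromSpec.ge hsW'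
      exact ⟨z, congrArg Subtype.val hz⟩
    obtain ⟨(qs : PrimeSpectrum R), hqs⟩ := hs'r
    obtain ⟨qt, hqt⟩ := ht's'.mem_open jS.opensRange.isOpen ⟨qs, hqs⟩
    have hle : qt.asIdeal ≤ qs.asIdeal := by
      rw [← hqs, ← hqt] at ht's'
      exact (PrimeSpectrum.le_iff_specializes qt qs).mpr
        ((jS.isOpenEmbedding.isInducing.specializes_iff).mp ht's')
    obtain ⟨z, hz1, hz2⟩ := Scheme.Pullback.exists_preimage_pullback (f := (kerOb u).hom) (g := p) x qt (by
      show _ = f.base (jS.base qt)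
      rw [hqt]; exact ht'.symm)
    let κ : CommRingCat.{u} := (pullback (kerOb u).hom p).residueField z
    letI : Field κ := inferInstanceAs (Field ((pullback (kerOb u).hom p).residueField z))
    let L := AlgebraicClosure κ
    let zL : Spec (CommRingCat.of L) ⟶ pullback (kerOb u).hom p :=
      Spec.map (CommRingCat.ofHom (algebraMap κ L)) ≫ (pullback (kerOb u).hom p).fromSpecResidueField z
    let c : Spec (CommRingCat.of L) := IsLocalRing.closedPoint L
    have hzL : zL.base c = z := by
      rw [Scheme.Hom.comp_apply]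
      exact Scheme.fromSpecResidueField_apply z ((Spec.map (CommRingCat.ofHom (algebraMap κ L))).base c)
    let φ : R ⟶ CommRingCat.of L := Spec.preimage (zL ≫ pullback.snd _ _)
    letI : Algebra R L := φ.hom.toAlgebra
    have hφ : Spec.map φ = zL ≫ pullback.snd _ _ := Spec.map_preimage _
    let d : (Over.map p).obj (specOver (R := R) L) ⟶ kerOb u := Over.homMk (zL ≫ pullback.fst _ _) (by
      show (zL ≫ pullback.fst _ _) ≫ (kerOb u).hom = Spec.map φ ≫ p
      rw [hφ, Category.assoc, Category.assoc, pullback.condition]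
      simp only [zL, Category.assoc])
    obtain ⟨tt, htt⟩ := gPt_surjective P (d ≫ kerι u)
    have hker : RingHom.ker (algebraMap R L) ≤ qs.asIdeal := by
      refine le_trans (le_of_eq ?_) hle
      have h1 : (Spec.map φ).base c = qt := by
        rw [hφ, Scheme.Hom.comp_apply, hzL, hz2]
      rw [← h1]
      show RingHom.ker φ.hom = Ideal.comap φ.hom (IsLocalRing.maximalIdeal L)
      rw [IsLocalRing.maximalIdeal_eq_bot, ← RingHom.ker_eq_comap_bot]
    have hfs : p.base qs = s := by
      show f.base (jS.base qs) = s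
      rw [hqs]; exact hs'
    have : qs.asIdeal.IsPrime := qs.isPrime
    have htt1 : tt = 1 := eq_one_of_specializes u hfg P hP W hW qs.asIdeal
      (fun k hk => (hpt k (hk.trans hfs)) ▸ hsW) hker tt (by rw [htt, kerι_comp'])
    rw [htt1, gPt_one_nhd] at htt
    have hd : d = toUnit _ ≫ kerUnit u := by
      have : Mono (kerι u) := Over.mono_of_mono_left _
      rw [← cancel_mono (kerι u), ← htt, Category.assoc, kerUnit_ι, MonObj.comp_one]
    have hxe : x = (kerUnit u).left.base ((kerOb u).hom.base x) := by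
      have h2 := congr(($hd).left.base c)
      have hdx : d.left.base c = x := by
        show (zL ≫ pullback.fst _ _).base c = x
        rw [Scheme.Hom.comp_apply, hzL, hz1]
      have hwd : ((Over.map p).obj (specOver (R := R) L)).hom.base c = (kerOb u).hom.base x := by
        rw [← Over.w d, Scheme.Hom.comp_apply]
        exact congrArg (kerOb u).hom.base hdx
      exact hdx.symm.trans (h2.trans (congrArg (kerUnit u).left.base hwd))
    rw [hxe]
    exact (hx.map (kerUnit u).left.continuous).mem_open W.isOpen hsW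
  -- spreading out
  obtain ⟨U₀, hU₀, hs₀, -⟩ := exists_isAffineOpen_mem_and_subset (X := S) (x := s) (U := ⊤) trivial
  let V₀ := (kerOb u).hom ⁻¹ᵁ U₀
  have hV₀ : IsAffineOpen V₀ := hU₀.preimage _
  let φ := (kerOb u).hom.appLE U₀ V₀ le_rfl
  have hφ : Spec.map φ ≫ hU₀.fromSpec = hV₀.fromSpec ≫ (kerOb u).hom :=
    hU₀.SpecMap_appLE_fromSpec _ hV₀ le_rfl
  obtain ⟨I, hI⟩ := (PrimeSpectrum.isClosed_iff_zeroLocus_ideal _).mp
    ((W.isOpen.preimage hV₀.fromSpec.continuous).isClosed_compl)
  let q := hU₀.primeIdealOf ⟨s, hs₀⟩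
  by_cases hq : I.comap φ.hom ≤ q.asIdeal
  · exfalso
    obtain ⟨t, ht, htq⟩ := Ideal.exists_minimalPrimes_le hq
    obtain ⟨P, hPp, hIP, hPt⟩ := Ideal.exists_comap_eq_of_mem_minimalPrimes φ.hom t ht
    let Pp : Spec Γ((kerOb u).left, V₀) := ⟨P, hPp⟩
    have hnot : hV₀.fromSpec.base Pp ∉ W := hI.ge (show Pp ∈ PrimeSpectrum.zeroLocus I from hIP)
    refine hnot (claim _ ?_)
    rw [← Scheme.Hom.comp_apply, ← hφ, Scheme.Hom.comp_apply]
    have hsp : (Spec.map φ).base Pp ⤳ q := (PrimeSpectrum.le_iff_specializes _ _).mp (by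
      show Ideal.comap φ.hom P ≤ q.asIdeal
      rw [hPt]; exact htq)
    simpa only [q, hU₀.fromSpec_primeIdealOf ⟨s, hs₀⟩] using hsp.map hU₀.fromSpec.continuous
  · obtain ⟨r, hr, hrq⟩ := SetLike.not_le_iff_exists.mp hq
    refine ⟨S.basicOpen r, ?_, ?_⟩
    · have h1 : q ∈ hU₀.fromSpec ⁻¹ᵁ S.basicOpen r := by
        rw [hU₀.fromSpec_preimage_basicOpen]; exact hrq
      have h2 : hU₀.fromSpec.base q ∈ S.basicOpen r := h1
      simpa only [q, hU₀.fromSpec_primeIdealOf ⟨s, hs₀⟩] using h2
    · have hsub : (kerOb u).hom ⁻¹ᵁ S.basicOpen r ≤ W := by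
        intro x hx
        obtain ⟨y, rfl⟩ := hV₀.range_fromSpec.ge (show x ∈ V₀ from S.basicOpen_le r hx)
        by_contra hnot
        have hy : y ∈ PrimeSpectrum.zeroLocus (I : Set Γ((kerOb u).left, V₀)) := hI.le hnot
        have h1 : hV₀.fromSpec.base y ∈ V₀ ⊓ (kerOb u).hom ⁻¹ᵁ S.basicOpen r := ⟨S.basicOpen_le r hx, hx⟩
        rw [← Scheme.basicOpen_appLE (kerOb u).hom V₀ U₀ le_rfl r] at h1
        have h2 : y ∈ hV₀.fromSpec ⁻¹ᵁ (kerOb u).left.basicOpen (φ r) := h1
        rw [hV₀.fromSpec_preimage_basicOpen] at h2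
        exact h2 (hy hr)
      rw [← Scheme.homOfLE_ι _ hsub, Category.assoc, hW]

end Groth.Agent.DiagRig
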