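import Groth.Agent.DiagRig.CentralCongr
import Groth.Agent.DiagRig.AgreeLocus
import Groth.Agent.DiagRig.CoeffIdeal
import Groth.Agent.DiagRig.LocTorsion
import Groth.Agent.DiagRig.CharHom
import Groth.Agent.DiagRig.BCLoc

/-! Fibrewise containment of a central subgroup of multiplicative type spreads to the local ring. -/

universe u

open CategoryTheory MonoidalCategory CartesianMonoidalCategory MonObj GrpObj AlgebraicGeometry Limits
open Groth.Agent.RedPts

noncomputable section

namespace Groth.Agent.DiagRig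

/-- The characters of finite order are dense. -/
lemma exists_torsion_ne_zero {L : Type u} [Field L] [IsAlgClosed L] {M : Type} [AddCommGroup M] (hfg : AddGroup.FG M)
    (f : MonoidAlgebra L (Multiplicative M)) (t : Multiplicative M →* L)
    (h : MonoidAlgebra.lift L L (Multiplicative M) t f ≠ 0) :
    ∃ (χ : Multiplicative M →* L) (n : ℕ), n ≠ 0 ∧ (∀ m, χ m ^ n = 1) ∧
      MonoidAlgebra.lift L L (Multiplicative M) χ f ≠ 0 := by
  classical
  let tu : Multiplicative M →* Lˣ := t.toHomUnits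
  let Q := tu.range
  let π : Multiplicative M →* Q := tu.rangeRestrict
  have : Module.Finite ℤ M := Module.Finite.iff_addGroup_fg.mpr hfg
  have : Module.Finite ℤ (Additive Q) := by
    refine Module.Finite.of_surjective (M := M) (MonoidHom.toAdditiveRight π).toIntLinearMap ?_
    intro q
    obtain ⟨m, hm⟩ := tu.rangeRestrict_surjective q.toMul
    exact ⟨m.toAdd, congrArg Additive.ofMul hm⟩
  let F : MonoidAlgebra L Q := MonoidAlgebra.mapDomainAlgHom L L π f
  have hcomp : ∀ (χ : Q →* L), MonoidAlgebra.lift L L Q χ F = MonoidAlgebra.lift L L (Multiplicative M) (χ.comp π) f := by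
    intro χ
    show ((MonoidAlgebra.lift L L Q χ).comp (MonoidAlgebra.mapDomainAlgHom L L π)) f = _
    congr 1
    apply MonoidAlgebra.algHom_ext
    · intro x; simp
    · exact Subsingleton.elim _ _
  have hF : F ≠ 0 := by
    intro h0
    refine h ?_
    have e : t = ((Units.coeHom L).comp Q.subtype).comp π := by ext m; rfl
    rw [e, ← hcomp, h0, map_zero]
  obtain ⟨χ, hχ, hne⟩ : ∃ χ : Q →* Lˣ, IsOfFinOrder χ ∧ MonoidAlgebra.lift L L Q ((Units.coeHom L).comp χ) F ≠ 0 := by
    by_contra hc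
    push Not at hc
    exact hF (eval_torsion_injective Q F hc)
  obtain ⟨n, hn, hχn⟩ := isOfFinOrder_iff_pow_eq_one.mp hχ
  refine ⟨((Units.coeHom L).comp χ).comp π, n, by omega, fun m => ?_, by rwa [← hcomp]⟩
  show ((χ (π m) : Lˣ) : L) ^ n = 1
  rw [← Units.val_pow_eq_pow_val, show χ (π m) ^ n = (χ ^ n) (π m) from rfl, hχn]
  rfl

namespace LeLocal

variable {S : Scheme.{u}} {H₁ H₂ G : Over S} [GrpObj H₁] [GrpObj H₂] [GrpObj G] (i₁ : H₁ ⟶ G) (i₂ : H₂ ⟶ G)
  {R : CommRingCat.{u}} (p : Spec R ⟶ S) {M : Type} [AddCommGroup M] (P : SplitPts p H₁ M)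

/-- The point with character `t` lies in `H₂`. -/
def Lifts {T : Type u} [CommRing T] [Algebra R T] (t : Multiplicative M →* T) : Prop :=
  ∃ y : (Over.map p).obj (specOver (R := R) T) ⟶ H₂, y ≫ i₂ = gPt p P t ≫ i₁

/-- The points of the test scheme lying in `H₂`. -/
def rg {T : Type u} [CommRing T] [Algebra R T] (t : Multiplicative M →* T) : Set (PrimeSpectrum T) :=
  (gPt p P t ≫ i₁).left.base ⁻¹' Set.range i₂.left.base

lemma Lifts.map {T T' : Type u} [CommRing T] [Algebra R T] [CommRing T'] [Algebra R T'] {t : Multiplicative M →* T}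
    (h : Lifts i₁ i₂ p P t) (k : T →ₐ[R] T') : Lifts i₁ i₂ p P (k.toRingHom.toMonoidHom.comp t) := by
  obtain ⟨y, hy⟩ := h
  exact ⟨(Over.map p).map (testMap k) ≫ y, by rw [Category.assoc, hy, ← Category.assoc, testMap_gPt]⟩

lemma mem_rg_map {T T' : Type u} [CommRing T] [Algebra R T] [CommRing T'] [Algebra R T'] (t : Multiplicative M →* T)
    (k : T →ₐ[R] T') (z : PrimeSpectrum T') :
    z ∈ rg i₁ i₂ p P (k.toRingHom.toMonoidHom.comp t) ↔ PrimeSpectrum.comap k.toRingHom z ∈ rg i₁ i₂ p P t := by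
  have h : gPt p P (k.toRingHom.toMonoidHom.comp t) ≫ i₁ = (Over.map p).map (testMap k) ≫ gPt p P t ≫ i₁ := by
    rw [← Category.assoc, testMap_gPt]
  show ((gPt p P (k.toRingHom.toMonoidHom.comp t) ≫ i₁).left.base z ∈ Set.range i₂.left.base) ↔ _
  rw [h, Over.comp_left]
  exact Iff.rfl

lemma rg_of_lifts {T : Type u} [CommRing T] [Algebra R T] {t : Multiplicative M →* T}
    (h : Lifts i₁ i₂ p P t) : rg i₁ i₂ p P t = Set.univ := by
  obtain ⟨y, hy⟩ := h
  refine Set.eq_univ_of_forall fun z => ?_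
  show (gPt p P t ≫ i₁).left.base z ∈ Set.range i₂.left.base
  rw [← hy, Over.comp_left]
  exact ⟨y.left.base z, rfl⟩

variable [IsImmersion i₂.left]

lemma isLocallyClosed_rg {T : Type u} [CommRing T] [Algebra R T] (t : Multiplicative M →* T) :
    IsLocallyClosed (rg i₁ i₂ p P t) :=
  i₂.left.isLocallyClosed_range.preimage (gPt p P t ≫ i₁).left.continuous

lemma lifts_mul [IsMonHom i₁] [IsMonHom i₂] {T : Type u} [CommRing T] [Algebra R T] {s t : Multiplicative M →* T}
    (hs : Lifts i₁ i₂ p P s) (ht : Lifts i₁ i₂ p P t) : Lifts i₁ i₂ p P (s * t) := by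
  obtain ⟨y, hy⟩ := hs
  obtain ⟨y', hy'⟩ := ht
  exact ⟨y * y', by rw [MonObj.mul_comp, hy, hy', gPt_mul, MonObj.mul_comp]⟩

variable (hlfp : LocallyOfFinitePresentation (pullback.fst i₁.left i₂.left))

set_option backward.isDefEq.respectTransparency.types false in
include hlfp in
/-- Where the lifting locus is closed, lifting is described by a finitely generated ideal. -/
theorem exists_ideal {T : Type u} [CommRing T] [Algebra R T] (t : Multiplicative M →* T)
    (hcl : IsClosed (rg i₁ i₂ p P t)) :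
    ∃ I : Ideal T, I.FG ∧ PrimeSpectrum.zeroLocus (I : Set T) = rg i₁ i₂ p P t ∧
      ∀ (T' : Type u) [CommRing T'] [Algebra R T'] (k : T →ₐ[R] T'),
        Lifts i₁ i₂ p P (k.toRingHom.toMonoidHom.comp t) ↔ I ≤ RingHom.ker k := by
  let x := gPt p P t
  let π : pullback (x ≫ i₁).left i₂.left ⟶ Spec (CommRingCat.of T) := pullback.fst _ _
  have : IsImmersion π := MorphismProperty.pullback_fst _ _ inferInstance
  have hrange : Set.range π.base = rg i₁ i₂ p P t := Scheme.Pullback.range_fst _ _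
  have : IsClosedImmersion π := IsClosedImmersion.of_isPreimmersion π (by rw [hrange]; exact hcl)
  have : LocallyOfFinitePresentation π := by
    have := hlfp
    let e := pullbackRightPullbackFstIso i₁.left i₂.left x.left
    have he : e.hom ≫ pullback.fst (x.left ≫ i₁.left) i₂.left = pullback.fst x.left (pullback.fst i₁.left i₂.left) :=
      pullbackRightPullbackFstIso_hom_fst _ _ _
    have h1 : LocallyOfFinitePresentation (pullback.fst x.left (pullback.fst i₁.left i₂.left)) :=
      MorphismProperty.pullback_fst _ _ hlfp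
    rw [← he] at h1
    exact (MorphismProperty.cancel_left_of_respectsIso (P := @LocallyOfFinitePresentation) e.hom _).mp h1
  obtain ⟨I, e, he⟩ := IsClosedImmersion.Spec_iff.mp (show IsClosedImmersion π from inferInstance)
  have hq : Spec.map (CommRingCat.ofHom (Ideal.Quotient.mk I)) = e.inv ≫ π := by rw [he, Iso.inv_hom_id_assoc]
  have hIfg : I.FG := by
    have h1 : LocallyOfFinitePresentation (Spec.map (CommRingCat.ofHom (Ideal.Quotient.mk I))) := by
      rw [hq]; infer_instance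
    have h2 : (Ideal.Quotient.mk I).FinitePresentation :=
      (HasRingHomProperty.Spec_iff (P := @LocallyOfFinitePresentation)).mp h1
    have : Algebra.FinitePresentation T (T ⧸ I) := RingHom.finitePresentation_algebraMap.mp h2
    have h3 := Algebra.FinitePresentation.ker_fG_of_surjective (R := T) (Algebra.ofId T (T ⧸ I))
      Ideal.Quotient.mk_surjective
    simpa [Ideal.mk_ker] using h3
  refine ⟨I, hIfg, ?_, fun T' _ _ k => ⟨?_, fun hk => ?_⟩⟩
  · rw [← hrange]
    have e1 : Set.range (Spec.map (CommRingCat.ofHom (Ideal.Quotient.mk I))).base = Set.range π.base := by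
      apply le_antisymm
      · rintro _ ⟨z, rfl⟩
        rw [hq, Scheme.Hom.comp_apply]
        exact ⟨_, rfl⟩
      · rintro _ ⟨z, rfl⟩
        exact ⟨e.hom.base z, by rw [← Scheme.Hom.comp_apply, hq, Iso.hom_inv_id_assoc]⟩
    rw [← e1]
    show _ = Set.range (PrimeSpectrum.comap (Ideal.Quotient.mk I))
    rw [range_comap_of_surjective (S := T ⧸ I) _ Ideal.Quotient.mk_surjective, Ideal.mk_ker]
  · rintro ⟨y, hy⟩
    have h' : Spec.map (CommRingCat.ofHom k.toRingHom) ≫ (x ≫ i₁).left = y.left ≫ i₂.left := by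
      rw [← Over.comp_left, hy, ← testMap_gPt, Category.assoc]
      rfl
    let L := pullback.lift (Spec.map (CommRingCat.ofHom k.toRingHom)) y.left h'
    have h1 : Spec.map (CommRingCat.ofHom k.toRingHom) =
        (L ≫ e.hom) ≫ Spec.map (CommRingCat.ofHom (Ideal.Quotient.mk I)) := by
      rw [Category.assoc, ← he]
      exact (pullback.lift_fst _ _ _).symm
    intro z hz
    have h2 : CommRingCat.ofHom k.toRingHom = CommRingCat.ofHom (Ideal.Quotient.mk I) ≫ Spec.preimage (L ≫ e.hom) :=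
      Spec.map_injective (by rw [Spec.map_comp, Spec.map_preimage]; exact h1)
    have h3 : k z = (Spec.preimage (L ≫ e.hom)).hom (Ideal.Quotient.mk I z) := congr($h2 z)
    rw [RingHom.mem_ker]
    show k z = 0
    rw [h3, Ideal.Quotient.eq_zero_iff_mem.mpr hz, map_zero]
  · let lI : T ⧸ I →+* T' := Ideal.Quotient.lift I k.toRingHom hk
    let L : Spec (CommRingCat.of T') ⟶ pullback (x ≫ i₁).left i₂.left := Spec.map (CommRingCat.ofHom lI) ≫ e.inv
    have h1 : L ≫ π = Spec.map (CommRingCat.ofHom k.toRingHom) := by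
      show (Spec.map (CommRingCat.ofHom lI) ≫ e.inv) ≫ _ = _
      rw [he, Category.assoc, Iso.inv_hom_id_assoc, ← Spec.map_comp]
      rfl
    have h2 : (gPt p P (k.toRingHom.toMonoidHom.comp t) ≫ i₁).left =
        Spec.map (CommRingCat.ofHom k.toRingHom) ≫ (x ≫ i₁).left := by
      rw [← testMap_gPt, Category.assoc]
      rfl
    have hw : (L ≫ pullback.snd _ _) ≫ i₂.left = (gPt p P (k.toRingHom.toMonoidHom.comp t) ≫ i₁).left := by
      rw [Category.assoc, ← pullback.condition, ← Category.assoc, h2]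
      exact congrArg (· ≫ (x ≫ i₁).left) h1
    exact ⟨Over.homMk (L ≫ pullback.snd _ _) (by rw [← Over.w i₂, ← Category.assoc, hw, Over.w]), by ext1; exact hw⟩

variable [IsLocalRing R] [IsMonHom i₁] [IsMonHom i₂]

/-- The closed point of the base. -/
abbrev clPt : Spec (CommRingCat.of (R ⧸ IsLocalRing.maximalIdeal R)) ⟶ S :=
  Spec.map (CommRingCat.ofHom (Ideal.Quotient.mk (IsLocalRing.maximalIdeal R))) ≫ p

omit [GrpObj H₂] [GrpObj G] [IsImmersion i₂.left] [IsMonHom i₁] [IsMonHom i₂] in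
lemma lifts_of_le (hle : Le i₁ i₂ (clPt p)) {T : Type u} [CommRing T] [Algebra R T]
    (hT : ∀ r ∈ IsLocalRing.maximalIdeal R, algebraMap R T r = 0) (t : Multiplicative M →* T) :
    Lifts i₁ i₂ p P t := by
  refine hle _ (gPt p P t) ⟨Spec.map (CommRingCat.ofHom (Ideal.Quotient.lift _ (algebraMap R T) hT)), ?_⟩
  show _ = Spec.map (CommRingCat.ofHom (algebraMap R T)) ≫ p
  rw [clPt, ← Category.assoc, ← Spec.map_comp]
  rfl

set_option backward.isDefEq.respectTransparency.types false in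
include hlfp in
/-- The torsion characters lie in the second subgroup. -/
theorem torsion_lifts (hfg : AddGroup.FG M) (hH₂ : SplitFpqc H₂)
    (hcen : ∀ (X : Over S), (∃ z : X.left ⟶ Spec (CommRingCat.of (R ⧸ IsLocalRing.maximalIdeal R)), z ≫ clPt p = X.hom) →
      ∀ (g : X ⟶ G) (h : X ⟶ H₁), g * (h ≫ i₁) = (h ≫ i₁) * g)
    (hle : Le i₁ i₂ (clPt p)) {n : ℕ} (hn : n ≠ 0)
    (T : Type u) [CommRing T] [Algebra R T] (t : Multiplicative M →* T) (ht : ∀ m, t m ^ n = 1) :
    Lifts i₁ i₂ p P t := by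
  classical
  let Kn : AddSubgroup M := (nsmulAddMonoidHom (α := M) n).range
  let N := M ⧸ Kn
  let πn : Multiplicative M →* Multiplicative N := AddMonoidHom.toMultiplicative (QuotientAddGroup.mk' Kn)
  let tB : Multiplicative M →* MonoidAlgebra R (Multiplicative N) := (MonoidAlgebra.of R (Multiplicative N)).comp πn
  have : AddGroup.FG M := hfg
  have : AddGroup.FG N := QuotientAddGroup.fg _
  have : Finite N := by
    refine AddCommGroup.finite_of_fg_torsion N fun x => ?_
    obtain ⟨m, rfl⟩ := QuotientAddGroup.mk'_surjective Kn x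
    exact isOfFinAddOrder_iff_nsmul_eq_zero.mpr ⟨n, Nat.pos_of_ne_zero hn,
      (QuotientAddGroup.eq_zero_iff _).mpr ⟨m, rfl⟩⟩
  have : Finite (Multiplicative N) := inferInstanceAs (Finite N)
  have : Module.Finite R (MonoidAlgebra R (Multiplicative N)) :=
    Module.Finite.equiv (MonoidAlgebra.coeffLinearEquiv R).symm
  suffices hu : Lifts i₁ i₂ p P tB by
    let tu : M →+ Additive Tˣ := MonoidHom.toAdditiveRight t.toHomUnits
    let tbar : N →+ Additive Tˣ := QuotientAddGroup.lift Kn tu (by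
      rintro _ ⟨m, rfl⟩
      show tu (n • m) = 0
      rw [map_nsmul]
      show Additive.ofMul (t.toHomUnits (Multiplicative.ofAdd m) ^ n) = 0
      rw [show t.toHomUnits (Multiplicative.ofAdd m) ^ n = 1 from Units.ext (ht _)]
      rfl)
    let k : MonoidAlgebra R (Multiplicative N) →ₐ[R] T :=
      MonoidAlgebra.lift R T (Multiplicative N) ((Units.coeHom T).comp (AddMonoidHom.toMultiplicativeLeft tbar))
    have hk : k.toRingHom.toMonoidHom.comp tB = t := by
      ext m
      show MonoidAlgebra.lift R T _ _ (MonoidAlgebra.of R _ (πn m)) = t m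
      rw [MonoidAlgebra.lift_of]
      rfl
    exact hk ▸ hu.map i₁ i₂ p P k
  let 𝔪 := IsLocalRing.maximalIdeal R
  let B := MonoidAlgebra R (Multiplicative N)
  let mB : Ideal B := 𝔪.map (algebraMap R B)
  have hlift0 : Lifts i₁ i₂ p P ((Ideal.Quotient.mkₐ R mB).toRingHom.toMonoidHom.comp tB) :=
    lifts_of_le i₁ i₂ p P hle (fun r hr => by
      rw [IsScalarTower.algebraMap_apply R B (B ⧸ mB)]
      exact Ideal.Quotient.eq_zero_iff_mem.mpr (Ideal.mem_map_of_mem _ hr)) _
  have hmax : ∀ z : PrimeSpectrum B, z.asIdeal.IsMaximal → z ∈ rg i₁ i₂ p P tB := by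
    intro z hz
    have : Algebra.IsIntegral R B := inferInstance
    have hc : z.asIdeal.comap (algebraMap R B) = 𝔪 :=
      IsLocalRing.eq_maximalIdeal (Ideal.isMaximal_comap_of_isIntegral_of_isMaximal z.asIdeal)
    have hzm : mB ≤ z.asIdeal := Ideal.map_le_iff_le_comap.mpr hc.ge
    obtain ⟨q, hq⟩ : z ∈ Set.range (PrimeSpectrum.comap (Ideal.Quotient.mk mB)) := by
      rw [range_comap_of_surjective (S := B ⧸ mB) _ Ideal.Quotient.mk_surjective, Ideal.mk_ker]
      exact hzm
    rw [← hq]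
    exact (mem_rg_map i₁ i₂ p P tB (Ideal.Quotient.mkₐ R mB) q).mp
      ((rg_of_lifts i₁ i₂ p P hlift0).ge trivial)
  have hcl : IsClosed (rg i₁ i₂ p P tB) := by
    obtain ⟨U, C, hU, hC, hUC⟩ := isLocallyClosed_rg i₁ i₂ p P tB
    have : U = Set.univ := by
      refine Set.eq_univ_of_forall fun z => ?_
      obtain ⟨𝔫, h𝔫, hle'⟩ := Ideal.exists_le_maximal z.asIdeal z.isPrime.ne_top
      have hzc : z ⤳ (⟨𝔫, h𝔫.isPrime⟩ : PrimeSpectrum B) := (PrimeSpectrum.le_iff_specializes _ _).mp hle'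
      exact hzc.mem_open hU (hUC.le (hmax ⟨𝔫, h𝔫.isPrime⟩ h𝔫)).1
    rw [hUC, this, Set.univ_inter]
    exact hC
  obtain ⟨I, hIfg, -, hiff⟩ := exists_ideal i₁ i₂ p P hlfp tB hcl
  suffices hI : I = ⊥ by
    have := (hiff B (AlgHom.id R B)).mpr (by rw [hI]; exact bot_le)
    exact this
  have hImB : I ≤ mB := fun z hz => Ideal.Quotient.eq_zero_iff_mem.mp ((hiff _ _).mp hlift0 hz)
  obtain ⟨sI, hsI⟩ := hIfg
  let J : Ideal R := Ideal.span (sI.biUnion fun z => z.coeff.support.image fun m => z.coeff m : Set R)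
  have hJfg : J.FG := ⟨_, rfl⟩
  have hJm : J ≤ 𝔪 := by
    refine Ideal.span_le.mpr fun r hr => ?_
    obtain ⟨z, hz, hzr⟩ := Finset.mem_biUnion.mp hr
    obtain ⟨m, -, rfl⟩ := Finset.mem_image.mp hzr
    simpa using coeff_mem_of_mem_map (T := R) (hImB (hsI ▸ Ideal.subset_span hz)) m
  have hkill : ∀ (T' : Type u) [CommRing T'] [Algebra R T'], (∀ r ∈ J, algebraMap R T' r = 0) →
      ∀ s : Multiplicative N →* T', Lifts i₁ i₂ p P (s.comp πn) := by
    intro T' _ _ hT' s
    let k := MonoidAlgebra.lift R T' (Multiplicative N) s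
    have hk : k.toRingHom.toMonoidHom.comp tB = s.comp πn := by
      ext m
      exact MonoidAlgebra.lift_of s (πn m)
    refine hk ▸ (hiff T' k).mpr ?_
    rw [← hsI, Ideal.span_le]
    intro z hz
    show MonoidAlgebra.lift R T' _ s z = 0
    rw [MonoidAlgebra.lift_apply]
    refine Finset.sum_eq_zero fun m hm => ?_
    show z.coeff m • s m = 0
    rw [Algebra.smul_def, hT' _ (Ideal.subset_span (Finset.mem_biUnion.mpr ⟨z, hz, Finset.mem_image_of_mem _ hm⟩)),
      zero_mul]
  suffices hJ : J = ⊥ by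
    refine le_bot_iff.mp fun z hz => ?_
    have h1 := (hiff B (AlgHom.id R B)).mp (by
      have := hkill B (fun r hr => by rw [hJ] at hr; rw [(Ideal.mem_bot.mp hr), map_zero])
        (MonoidAlgebra.of R (Multiplicative N))
      exact this) hz
    exact h1
  suffices hJJ : J ≤ 𝔪 * J from
    Submodule.eq_bot_of_le_smul_of_le_jacobson_bot 𝔪 J hJfg hJJ
      (IsLocalRing.maximalIdeal_le_jacobson ⊥)
  let R' : Type u := R ⧸ 𝔪 * J
  let mk : R →+* R' := Ideal.Quotient.mk (𝔪 * J)
  let q : Spec (CommRingCat.of R') ⟶ Spec R := Spec.map (CommRingCat.ofHom mk)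
  let w : Spec (CommRingCat.of R') ⟶ S := q ≫ p
  let P' := P.restrict q
  obtain ⟨t₀, v, hv, hvpt, -⟩ := exists_pts_hom w (M := N)
    (fun {Y} s => P'.σ (s.comp πn) ≫ i₁)
    (fun s s' => by rw [← MonObj.mul_comp, ← P'.σ_mul]; rfl)
    (fun h s => by rw [← Category.assoc, P'.σ_comp]; rfl)
  have hsplit : SplitLoc (R := CommRingCat.of R') (Red.DS (Spec (CommRingCat.of R')) N) := by
    refine ⟨Spec (CommRingCat.of R'), 𝟙 _, inferInstance, inferInstance, ⟨⊤, isCompact_univ, by simp⟩,
      fun s' => ⟨⊤, trivial, N, inferInstance, (SplitPts.std (Spec (CommRingCat.of R')) N).restrict _, ?_⟩⟩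
    refine SplitPts.Inj.restrict (fun {Y} s s' e => ?_) _
    have e' : dPt (U := Spec (CommRingCat.of R')) s = dPt s' := (cancel_epi _).mp e
    exact MonoidHom.ext fun m => by simpa [dFn_dPt] using congrArg (fun x => dFn x m.toAdd) e'
  have := isMonHom_bcMap w i₂
  have hmono : Mono i₂ := Over.mono_of_mono_left i₂
  have : Mono ((Over.pullback w).map i₂) := inferInstance
  let I' : Ideal R' := J.map mk
  let m' : Ideal R' := 𝔪.map mk
  have hmI : m' * I' = ⊥ := by rw [← Ideal.map_mul]; exact Ideal.map_quotient_self _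
  have hII : I' * I' = ⊥ := le_bot_iff.mp ((Ideal.mul_mono_left (Ideal.map_mono hJm)).trans hmI.le)
  have hfac : ∀ (A : Ideal R) (X : Over (Spec (CommRingCat.of R'))), OverJ (R := CommRingCat.of R') (A.map mk) X →
      ∃ z : X.left ⟶ Spec (CommRingCat.of (R ⧸ A)), z ≫ Spec.map (CommRingCat.ofHom (Ideal.Quotient.mk A)) = X.hom ≫ q := by
    rintro A X ⟨z, hz⟩
    refine ⟨z ≫ Spec.map (CommRingCat.ofHom (Ideal.quotientMap (A.map mk) mk Ideal.le_comap_map)), ?_⟩
    rw [← hz, Category.assoc, Category.assoc, ← Spec.map_comp, ← Spec.map_comp]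
    rfl
  have hb : ∀ (X : Over (Spec (CommRingCat.of R'))), OverJ (R := CommRingCat.of R') I' X →
      ∀ x : X ⟶ Red.DS (Spec (CommRingCat.of R')) N,
        ∃ y : X ⟶ Red.bc w H₂, y ≫ (Over.pullback w).map i₂ = x ≫ v := by
    intro X hX x
    obtain ⟨s, rfl⟩ := exists_dPt (U := Spec (CommRingCat.of R')) x
    let Y₀ : Over (Spec R) := (Over.map q).obj X
    let φ : R ⟶ Γ(X.left, ⊤) := (Scheme.ΓSpecIso R).inv ≫ Y₀.hom.appTop
    letI : Algebra R Γ(X.left, ⊤) := φ.hom.toAlgebra
    obtain ⟨z, hz⟩ := hfac J X hX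
    have hzero : ∀ r ∈ J, algebraMap R Γ(X.left, ⊤) r = 0 := by
      intro r hr
      show ((Scheme.ΓSpecIso R).inv ≫ (X.hom ≫ q).appTop) r = 0
      rw [← hz, Scheme.Hom.comp_appTop, ← Scheme.ΓSpecIso_inv_naturality_assoc]
      show z.appTop ((Scheme.ΓSpecIso _).inv (Ideal.Quotient.mk J r)) = 0
      rw [Ideal.Quotient.eq_zero_iff_mem.mpr hr, map_zero, map_zero]
    obtain ⟨y, hy⟩ := hkill Γ(X.left, ⊤) hzero s
    let qY : Y₀ ⟶ specOver (R := R) Γ(X.left, ⊤) := Over.homMk Y₀.left.toSpecΓ (by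
      show Y₀.left.toSpecΓ ≫ Spec.map ((Scheme.ΓSpecIso R).inv ≫ Y₀.hom.appTop) = _
      rw [Spec.map_comp, ← Scheme.toSpecΓ_naturality_assoc]
      exact (congrArg (Y₀.hom ≫ ·) (toSpecΓ_SpecMap_ΓSpecIso_inv _)).trans (Category.comp_id _))
    have hqY : (Over.map p).map qY ≫ gPt p P (s.comp πn) = P.σ (Y := Y₀) (s.comp πn) := by
      rw [gPt, P.σ_comp]
      congr 1
      ext m
      show Y₀.left.toSpecΓ.appTop ((Scheme.ΓSpecIso Γ(X.left, ⊤)).inv (s (πn m))) = s (πn m)
      rw [Scheme.toSpecΓ_appTop]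
      exact congr($((Scheme.ΓSpecIso Γ(X.left, ⊤)).inv_hom_id) (s (πn m)))
    let e : (Over.map w).obj X ≅ (Over.map p).obj Y₀ := Over.isoMk (Iso.refl _) (by simp [Y₀, w])
    refine ⟨bcUn w (e.hom ≫ (Over.map p).map qY ≫ y), bcTr_injective w ?_⟩
    rw [bcTr_map, bcTr_bcUn, hvpt, bcTr_bcUn, Category.assoc, Category.assoc, hy, ← Category.assoc ((Over.map p).map qY),
      hqY, ← Category.assoc]
    rfl
  obtain ⟨φ, hφm, hφ⟩ := exists_hom_lift (R := CommRingCat.of R') I' ⟨2, by rw [pow_two]; exact hII⟩ hsplit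
    (splitLoc_bc hH₂ w) v ((Over.pullback w).map i₂) (fun X x hX => hb X hX x)
  have hmh : IsMonHom (φ ≫ (Over.pullback w).map i₂) := inferInstance
  have huv : v = φ ≫ (Over.pullback w).map i₂ := by
    refine central_eq_of_congr_mod m' I' hII hmI _ _ hsplit v _ (fun X hX g h => ?_)
      (fun X hX h => (hφ X h hX).symm.trans rfl)
    obtain ⟨s, rfl⟩ := exists_dPt (U := Spec (CommRingCat.of R')) h
    obtain ⟨z, hz⟩ := hfac 𝔪 X hX
    apply bcTr_injective w
    rw [bcTr_mul, bcTr_mul, hvpt, bcTr_bcUn]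
    refine hcen _ ⟨z, ?_⟩ _ _
    show z ≫ Spec.map _ ≫ p = X.hom ≫ q ≫ p
    rw [reassoc_of% hz]
  let T' := MonoidAlgebra R' (Multiplicative N)
  let sT : Multiplicative N →* T' := MonoidAlgebra.of R' (Multiplicative N)
  have hT : Lifts i₁ i₂ p P (sT.comp πn) := by
    let X := specOver (R := CommRingCat.of R') T'
    let e : (Over.map p).obj (specOver (R := R) T') ≅ (Over.map w).obj X := Over.isoMk (Iso.refl _) (by
      show 𝟙 _ ≫ (Spec.map _ ≫ q ≫ p) = Spec.map _ ≫ p
      rw [Category.id_comp, ← Category.assoc, ← Spec.map_comp]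
      rfl)
    refine ⟨e.hom ≫ bcTr w (dPt (toΓ.toMonoidHom.comp sT) ≫ φ), ?_⟩
    rw [Category.assoc, ← bcTr_map, Category.assoc, ← huv, hvpt, bcTr_bcUn, ← Category.assoc]
    congr 1
    ext1
    show 𝟙 _ ≫ (gPt (R := CommRingCat.of R') (q ≫ p) (P.restrict q) (sT.comp πn)).left = _
    rw [Category.id_comp]
    refine restrict_comm P q ?_ (sT.comp πn)
    rw [← Spec.map_comp]
    rfl
  let kT : B →ₐ[R] T' := MonoidAlgebra.lift R T' (Multiplicative N) sT
  have hkT : kT.toRingHom.toMonoidHom.comp tB = sT.comp πn :=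
    MonoidHom.ext fun m => MonoidAlgebra.lift_of sT (πn m)
  have hIk : I ≤ RingHom.ker kT := (hiff T' kT).mp (hkT ▸ hT)
  have hmap : kT = MonoidAlgebra.mapAlgHom (M := Multiplicative N) (Algebra.ofId R R') := by
    apply MonoidAlgebra.algHom_ext
    · intro x; simp [kT, sT, T']
    · exact Subsingleton.elim _ _
  refine Ideal.span_le.mpr fun r hr => ?_
  obtain ⟨z, hz, hzr⟩ := Finset.mem_biUnion.mp hr
  obtain ⟨m, -, rfl⟩ := Finset.mem_image.mp hzr
  have h3 := hIk (hsI ▸ Ideal.subset_span hz)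
  rw [RingHom.mem_ker, hmap] at h3
  exact Ideal.Quotient.eq_zero_iff_mem.mp (congrArg (fun y : MonoidAlgebra R' (Multiplicative N) => y.coeff m) h3)

set_option backward.isDefEq.respectTransparency.types false in
include hlfp in
/-- Field points lie in the second subgroup. -/
theorem lifts_field (hfg : AddGroup.FG M)
    (htor : ∀ (n : ℕ), n ≠ 0 → ∀ (T : Type u) [CommRing T] [Algebra R T] (t : Multiplicative M →* T),
      (∀ m, t m ^ n = 1) → Lifts i₁ i₂ p P t)
    (L : Type u) [Field L] [IsAlgClosed L] [Algebra R L] (t : Multiplicative M →* L) : Lifts i₁ i₂ p P t := by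
  classical
  let tu : Multiplicative M →* MonoidAlgebra L (Multiplicative M) := MonoidAlgebra.of L (Multiplicative M)
  have hev : ∀ (L' : Type u) [Field L'] [Algebra L L'] [Algebra R L'] [IsScalarTower R L L'] (χ : Multiplicative M →* L')
      (n : ℕ), n ≠ 0 → (∀ m, χ m ^ n = 1) →
      PrimeSpectrum.comap (MonoidAlgebra.lift L L' (Multiplicative M) χ).toRingHom ⊥ ∈ rg i₁ i₂ p P tu := by
    intro L' _ _ _ _ χ n hn hχ
    let k : MonoidAlgebra L (Multiplicative M) →ₐ[R] L' :=
      (MonoidAlgebra.lift L L' (Multiplicative M) χ).restrictScalars R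
    have hk : k.toRingHom.toMonoidHom.comp tu = χ := MonoidHom.ext fun m => MonoidAlgebra.lift_of χ m
    exact (mem_rg_map i₁ i₂ p P tu k ⊥).mp ((rg_of_lifts i₁ i₂ p P (hk ▸ htor n hn L' χ hχ)).ge trivial)
  obtain ⟨U, C, hU, hC, hUC⟩ := isLocallyClosed_rg i₁ i₂ p P tu
  have hCu : C = Set.univ := by
    refine Set.eq_univ_of_forall fun z => ?_
    by_contra hz
    obtain ⟨_, ⟨f, rfl⟩, hzf, hfC⟩ := PrimeSpectrum.isTopologicalBasis_basic_opens.exists_subset_of_mem_open
      (show z ∈ Cᶜ from hz) hC.isOpen_compl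
    let κ := z.asIdeal.ResidueField
    let L' := AlgebraicClosure κ
    let χ₀ : Multiplicative M →* L' := (algebraMap (MonoidAlgebra L (Multiplicative M)) L').toMonoidHom.comp tu
    have hl : MonoidAlgebra.lift L L' (Multiplicative M) χ₀ = IsScalarTower.toAlgHom L _ L' :=
      MonoidAlgebra.algHom_ext (fun m => by simp [χ₀, tu]) (Subsingleton.elim _ _)
    let f' : MonoidAlgebra L' (Multiplicative M) := MonoidAlgebra.mapAlgHom (M := Multiplicative M) (Algebra.ofId L L') f
    have hf' : ∀ χ : Multiplicative M →* L', MonoidAlgebra.lift L' L' (Multiplicative M) χ f' =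
        MonoidAlgebra.lift L L' (Multiplicative M) χ f := by
      intro χ
      show (((MonoidAlgebra.lift L' L' (Multiplicative M) χ).restrictScalars L).comp
        (MonoidAlgebra.mapAlgHom (M := Multiplicative M) (Algebra.ofId L L'))) f = _
      congr 1
      apply MonoidAlgebra.algHom_ext
      · intro x; simp
      · exact Subsingleton.elim _ _
    have hne : MonoidAlgebra.lift L' L' (Multiplicative M) χ₀ f' ≠ 0 := by
      rw [hf', hl]
      show algebraMap (MonoidAlgebra L (Multiplicative M)) L' f ≠ 0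
      rw [IsScalarTower.algebraMap_apply _ κ L', map_ne_zero_iff _ (algebraMap κ L').injective]
      exact fun h => hzf (Ideal.algebraMap_residueField_eq_zero.mp h)
    obtain ⟨χ, n, hn, hχn, hχ⟩ := exists_torsion_ne_zero hfg f' χ₀ hne
    rw [hf'] at hχ
    refine hfC ?_ (hUC.le (hev L' χ n hn hχn)).2
    show ¬ (f ∈ (PrimeSpectrum.comap _ (⊥ : PrimeSpectrum L')).asIdeal)
    exact fun h => hχ (Ideal.mem_bot.mp h)
  have hU1 : PrimeSpectrum.comap (MonoidAlgebra.lift L L (Multiplicative M) 1).toRingHom ⊥ ∈ U :=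
    (hUC.le (hev L 1 1 one_ne_zero (fun m => by simp))).1
  obtain ⟨_, ⟨g, rfl⟩, hg1, hgU⟩ := PrimeSpectrum.isTopologicalBasis_basic_opens.exists_subset_of_mem_open hU1 hU
  have hg1' : MonoidAlgebra.lift L L (Multiplicative M) 1 g ≠ 0 := fun h => hg1 (Ideal.mem_bot.mpr h)
  have hs : ∀ s : Multiplicative M →* L, MonoidAlgebra.lift L L (Multiplicative M) s g ≠ 0 → Lifts i₁ i₂ p P s := by
    intro s hs
    let Tg := Localization.Away g
    let ka : MonoidAlgebra L (Multiplicative M) →ₐ[R] Tg := IsScalarTower.toAlgHom R _ Tg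
    have hrg : rg i₁ i₂ p P (ka.toRingHom.toMonoidHom.comp tu) = Set.univ := by
      refine Set.eq_univ_of_forall fun z => (mem_rg_map i₁ i₂ p P tu ka z).mpr ?_
      rw [hUC, hCu, Set.inter_univ]
      refine hgU ?_
      have := (PrimeSpectrum.localization_away_comap_range Tg g).le ⟨z, rfl⟩
      exact this
    obtain ⟨I, -, hI0, hI⟩ := exists_ideal i₁ i₂ p P hlfp _ (hrg ▸ isClosed_univ)
    let ks : Tg →+* L := IsLocalization.Away.lift g
      (g := (MonoidAlgebra.lift L L (Multiplicative M) s).toRingHom) (Ne.isUnit hs)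
    let ksA : Tg →ₐ[R] L := AlgHom.mk ks (fun r => by
      show ks _ = _
      rw [IsScalarTower.algebraMap_apply R (MonoidAlgebra L (Multiplicative M)) Tg]
      refine (IsLocalization.Away.lift_eq g _ _).trans ?_
      show MonoidAlgebra.lift L L (Multiplicative M) s _ = _
      rw [IsScalarTower.algebraMap_apply R L (MonoidAlgebra L (Multiplicative M)), AlgHom.commutes]
      rfl)
    have hks : ksA.toRingHom.toMonoidHom.comp (ka.toRingHom.toMonoidHom.comp tu) = s := by
      refine MonoidHom.ext fun m => ?_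
      show ks (algebraMap _ Tg (tu m)) = _
      rw [IsLocalization.Away.lift_eq]
      exact MonoidAlgebra.lift_of s m
    refine hks ▸ (hI L ksA).mpr fun x hx => ?_
    have hnil : IsNilpotent x := nilpotent_iff_mem_prime.mpr fun J hJ =>
      (hI0.trans hrg).ge (Set.mem_univ (⟨J, hJ⟩ : PrimeSpectrum Tg)) hx
    exact (hnil.map ksA).eq_zero
  let τ : MonoidAlgebra L (Multiplicative M) →ₐ[L] MonoidAlgebra L (Multiplicative M) :=
    MonoidAlgebra.lift L _ (Multiplicative M)
      (((algebraMap L (MonoidAlgebra L (Multiplicative M))).toMonoidHom.comp t) *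
        (tu.comp invMonoidHom))
  have hτ : ∀ χ : Multiplicative M →* L, MonoidAlgebra.lift L L (Multiplicative M) χ (τ g) =
      MonoidAlgebra.lift L L (Multiplicative M) (t * χ.comp invMonoidHom) g := by
    intro χ
    show ((MonoidAlgebra.lift L L (Multiplicative M) χ).comp τ) g = _
    congr 1
    apply MonoidAlgebra.algHom_ext
    · intro x; simp [τ, tu, MonoidAlgebra.single_mul_single]
    · exact Subsingleton.elim _ _
  obtain ⟨χ, n, hn, hχn, hχ⟩ := exists_torsion_ne_zero hfg (τ g) t (by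
    rw [hτ, show t * t.comp invMonoidHom = 1 from MonoidHom.ext fun m => by
      show t m * t m⁻¹ = 1
      rw [← map_mul, mul_inv_cancel, map_one]]
    exact hg1')
  rw [hτ] at hχ
  have := lifts_mul i₁ i₂ p P (hs _ hχ) (htor n hn L χ hχn)
  rwa [show t * χ.comp invMonoidHom * χ = t from MonoidHom.ext fun m => by
    show t m * χ m⁻¹ * χ m = t m
    rw [_root_.mul_assoc, ← map_mul, inv_mul_cancel, map_one, _root_.mul_one]] at this

set_option backward.isDefEq.respectTransparency.types false in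
include P hlfp in
/-- A central subgroup of multiplicative type contained in another on the closed fibre is contained in it. -/
theorem le_local (hfg : AddGroup.FG M) (hH₂ : SplitFpqc H₂)
    (hcen : ∀ (X : Over S), (∃ z : X.left ⟶ Spec (CommRingCat.of (R ⧸ IsLocalRing.maximalIdeal R)), z ≫ clPt p = X.hom) →
      ∀ (g : X ⟶ G) (h : X ⟶ H₁), g * (h ≫ i₁) = (h ≫ i₁) * g)
    (hle : Le i₁ i₂ (clPt p)) : Le i₁ i₂ p := by
  classical
  have htor := fun (n : ℕ) (hn : n ≠ 0) => torsion_lifts i₁ i₂ p P hlfp hfg hH₂ hcen hle hn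
  let T := MonoidAlgebra R (Multiplicative M)
  let tU : Multiplicative M →* T := MonoidAlgebra.of R (Multiplicative M)
  have hrg : rg i₁ i₂ p P tU = Set.univ := by
    refine Set.eq_univ_of_forall fun z => ?_
    let κ := z.asIdeal.ResidueField
    let L := AlgebraicClosure κ
    let k : T →ₐ[R] L := IsScalarTower.toAlgHom R T L
    have hz : PrimeSpectrum.comap k.toRingHom ⊥ = z := by
      refine PrimeSpectrum.ext (Ideal.ext fun x => ?_)
      show algebraMap T L x = 0 ↔ _
      rw [IsScalarTower.algebraMap_apply T κ L, map_eq_zero_iff _ (algebraMap κ L).injective,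
        Ideal.algebraMap_residueField_eq_zero]
    rw [← hz]
    exact (mem_rg_map i₁ i₂ p P tU k ⊥).mp
      ((rg_of_lifts i₁ i₂ p P (lifts_field i₁ i₂ p P hlfp hfg htor L _)).ge trivial)
  obtain ⟨I, -, -, hI⟩ := exists_ideal i₁ i₂ p P hlfp tU (hrg ▸ isClosed_univ)
  have hI0 : I = ⊥ := by
    refine le_bot_iff.mp fun z hz => ?_
    rw [Ideal.mem_bot]
    apply MonoidAlgebra.coeff_injective
    refine Finsupp.ext fun m₀ => ?_
    show z.coeff m₀ = 0
    by_contra hm₀
    let D := (z.coeff.support.image fun m => m.toAdd - m₀.toAdd).filter (· ≠ 0)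
    choose nd hnd hnd' using fun d : {d // d ∈ D} =>
      exists_not_mem_pow_range hfg d.1 (Finset.mem_filter.mp d.2).2
    let n := ∏ d ∈ D.attach, nd d
    have hn : n ≠ 0 := Finset.prod_ne_zero_iff.mpr fun d _ => hnd d
    let Kn : AddSubgroup M := (nsmulAddMonoidHom (α := M) n).range
    let πn : Multiplicative M →* Multiplicative (M ⧸ Kn) := AddMonoidHom.toMultiplicative (QuotientAddGroup.mk' Kn)
    let kN : T →ₐ[R] MonoidAlgebra R (Multiplicative (M ⧸ Kn)) := MonoidAlgebra.mapDomainAlgHom R R πn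
    have hker : I ≤ RingHom.ker kN := (hI _ kN).mp (htor n hn _ _ fun m => by
      show (MonoidAlgebra.mapDomainAlgHom R R πn (MonoidAlgebra.single m 1)) ^ n = 1
      rw [← map_pow, MonoidAlgebra.single_pow, _root_.one_pow, MonoidAlgebra.mapDomainAlgHom_apply,
        MonoidAlgebra.mapDomain_single, MonoidAlgebra.one_def]
      congr 1
      exact (QuotientAddGroup.eq_zero_iff _).mpr ⟨m.toAdd, rfl⟩)
    have h0 := congrArg (fun y : MonoidAlgebra R (Multiplicative (M ⧸ Kn)) => y.coeff (πn m₀)) (hker hz)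
    have hsum : (kN z).coeff (πn m₀) = z.coeff m₀ := by
      conv_lhs => rw [← MonoidAlgebra.sum_coeff_single z, map_finsuppSum]
      rw [Finsupp.sum, MonoidAlgebra.coeff_sum, Finset.sum_apply']
      rw [Finset.sum_eq_single m₀]
      · show (MonoidAlgebra.mapDomain πn (MonoidAlgebra.single m₀ (z.coeff m₀))).coeff (πn m₀) = _
        rw [MonoidAlgebra.mapDomain_single, MonoidAlgebra.coeff_single, Finsupp.single_eq_same]
      · intro m hm hne
        have hd : m.toAdd - m₀.toAdd ∈ D := Finset.mem_filter.mpr ⟨Finset.mem_image_of_mem _ hm,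
          sub_ne_zero.mpr fun e => hne (Multiplicative.toAdd.injective e)⟩
        have : πn m ≠ πn m₀ := fun e => by
          have e' : (m.toAdd : M ⧸ Kn) = (m₀.toAdd : M ⧸ Kn) := e
          obtain ⟨y, hy⟩ := (QuotientAddGroup.eq_iff_sub_mem.mp e')
          obtain ⟨c, hc⟩ := Finset.dvd_prod_of_mem nd (Finset.mem_attach D ⟨_, hd⟩)
          refine hnd' ⟨_, hd⟩ (c • y) ?_
          rw [← mul_nsmul', ← hc]
          exact hy
        show (MonoidAlgebra.mapDomain πn (MonoidAlgebra.single m (z.coeff m))).coeff (πn m₀) = 0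
        rw [MonoidAlgebra.mapDomain_single, MonoidAlgebra.coeff_single, Finsupp.single_eq_of_ne' this]
      · intro hm; simp [Finsupp.notMem_support_iff.mp hm]
    exact hm₀ (hsum.symm.trans (h0.trans (by simp)))
  intro Y x ⟨zY, hzY⟩
  let Y₀ : Over (Spec R) := Over.mk zY
  let e : (Over.map p).obj Y₀ ≅ Y := Over.isoMk (Iso.refl _) (by
    show 𝟙 _ ≫ Y.hom = zY ≫ p
    rw [Category.id_comp, hzY])
  obtain ⟨φ, hφ, qY, t, hg⟩ := eq_gPt_of_toSpecΓ P (e.hom ≫ x)
  letI : Algebra R Γ(Y₀.left, ⊤) := φ.hom.toAlgebra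
  let k : T →ₐ[R] Γ(Y₀.left, ⊤) := MonoidAlgebra.lift R _ (Multiplicative M) t
  have hk : k.toRingHom.toMonoidHom.comp tU = t := MonoidHom.ext fun m => MonoidAlgebra.lift_of t m
  obtain ⟨y, hy⟩ := (hI _ k).mpr (by rw [hI0]; exact bot_le)
  rw [hk] at hy
  refine ⟨e.inv ≫ (Over.map p).map qY ≫ y, ?_⟩
  rw [← cancel_epi e.hom, Category.assoc, Category.assoc, Iso.hom_inv_id_assoc, hy, ← Category.assoc, ← hg,
    Category.assoc]

end LeLocal

end Groth.Agent.DiagRig
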