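import Groth.Agent.DiagRig.LeLocal
import Groth.Agent.DiagRig.MultProp
import Groth.Agent.DiagRig.EqLocus

/-! Fibrewise containment of a central subgroup of multiplicative type spreads to a neighbourhood. -/

universe u

open CategoryTheory MonoidalCategory CartesianMonoidalCategory MonObj GrpObj AlgebraicGeometry Limits

noncomputable section

namespace Groth.Agent.DiagRig

set_option backward.isDefEq.respectTransparency.types false in
/-- A point of a finitely presented immersion over a localisation spreads to a principal open. -/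
theorem exists_away_lift {B : CommRingCat.{u}} {K : Scheme.{u}} (π : K ⟶ Spec B) [IsImmersion π]
    [LocallyOfFinitePresentation π] (M0 : Submonoid B) (L : Spec (CommRingCat.of (Localization M0)) ⟶ K)
    (hL : L ≫ π = Spec.map (CommRingCat.ofHom (algebraMap B (Localization M0)))) :
    ∃ m ∈ M0, ∃ l : Spec (CommRingCat.of (Localization.Away m)) ⟶ K,
      l ≫ π = Spec.map (CommRingCat.ofHom (algebraMap B (Localization.Away m))) := by
  classical
  let Bl := Localization M0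
  obtain ⟨U, C, hU, hC, hUC⟩ := π.isLocallyClosed_range
  obtain ⟨Iz, hIz⟩ : ∃ Iz : Ideal B, PrimeSpectrum.zeroLocus (Iz : Set B) = Uᶜ :=
    let ⟨I, hI⟩ := (PrimeSpectrum.isClosed_iff_zeroLocus_ideal _).mp hU.isClosed_compl; ⟨I, hI.symm⟩
  have htop : Iz.map (algebraMap B Bl) = ⊤ := by
    by_contra h
    obtain ⟨P, hP, hle⟩ := Ideal.exists_le_maximal _ h
    let z : PrimeSpectrum Bl := ⟨P, hP.isPrime⟩
    have h1 : PrimeSpectrum.comap (algebraMap B Bl) z ∈ Uᶜ := by
      rw [← hIz]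
      exact Ideal.map_le_iff_le_comap.mp hle
    refine h1 (hUC.le ?_).1
    exact ⟨L.base z, by rw [← Scheme.Hom.comp_apply, hL]; rfl⟩
  obtain ⟨m₁, hm₁M, hm₁⟩ : ∃ m ∈ M0, m ∈ Iz := by
    by_contra h
    push Not at h
    exact (IsLocalization.map_algebraMap_ne_top_iff_disjoint M0 (S := Bl) Iz).mpr
      (Set.disjoint_left.mpr h) htop
  let B₁ := Localization.Away m₁
  let j₁ : Spec (CommRingCat.of B₁) ⟶ Spec B := Spec.map (CommRingCat.ofHom (algebraMap B B₁))
  let π₁ := pullback.snd π j₁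
  have : IsImmersion π₁ := MorphismProperty.pullback_snd _ _ inferInstance
  have : LocallyOfFinitePresentation π₁ := MorphismProperty.pullback_snd _ _ inferInstance
  have hrange : Set.range π₁.base = j₁.base ⁻¹' C := by
    rw [Scheme.Pullback.range_snd, hUC, Set.preimage_inter]
    refine Set.inter_eq_right.mpr fun z _ => ?_
    show j₁.base z ∈ U
    by_contra hz
    have hmem : m₁ ∉ (j₁.base z : PrimeSpectrum B).asIdeal :=
      (PrimeSpectrum.localization_away_comap_range B₁ m₁).le ⟨z, rfl⟩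
    exact hmem (hIz.ge hz hm₁)
  have : IsClosedImmersion π₁ := IsClosedImmersion.of_isPreimmersion π₁ (by
    rw [hrange]; exact hC.preimage j₁.continuous)
  obtain ⟨I, e, he⟩ := IsClosedImmersion.Spec_iff.mp (show IsClosedImmersion π₁ from inferInstance)
  have hq : Spec.map (CommRingCat.ofHom (Ideal.Quotient.mk I)) = e.inv ≫ π₁ := by rw [he, Iso.inv_hom_id_assoc]
  have hIfg : I.FG := by
    have h1 : LocallyOfFinitePresentation (Spec.map (CommRingCat.ofHom (Ideal.Quotient.mk I))) := by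
      rw [hq]; infer_instance
    have h2 : (Ideal.Quotient.mk I).FinitePresentation :=
      (HasRingHomProperty.Spec_iff (P := @LocallyOfFinitePresentation)).mp h1
    have : Algebra.FinitePresentation B₁ (B₁ ⧸ I) := RingHom.finitePresentation_algebraMap.mp h2
    have h3 := Algebra.FinitePresentation.ker_fG_of_surjective (R := B₁) (Algebra.ofId B₁ (B₁ ⧸ I))
      Ideal.Quotient.mk_surjective
    simpa [Ideal.mk_ker] using h3
  let ψ : B₁ →+* Bl := IsLocalization.Away.lift m₁ (g := algebraMap B Bl) (IsLocalization.map_units Bl ⟨m₁, hm₁M⟩)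
  have hψ : ψ.comp (algebraMap B B₁) = algebraMap B Bl := IsLocalization.Away.lift_comp _ _
  let L₁ : Spec (CommRingCat.of Bl) ⟶ pullback π j₁ := pullback.lift L (Spec.map (CommRingCat.ofHom ψ)) (by
    rw [hL, ← Spec.map_comp]
    exact congrArg (fun f => Spec.map (CommRingCat.ofHom f)) hψ.symm)
  have hIψ : ∀ z ∈ I, ψ z = 0 := by
    intro z hz
    have h1 : Spec.map (CommRingCat.ofHom ψ) = (L₁ ≫ e.hom) ≫ Spec.map (CommRingCat.ofHom (Ideal.Quotient.mk I)) := by
      rw [Category.assoc, ← he]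
      exact (pullback.lift_snd _ _ _).symm
    have h2 : CommRingCat.ofHom ψ = CommRingCat.ofHom (Ideal.Quotient.mk I) ≫ Spec.preimage (L₁ ≫ e.hom) :=
      Spec.map_injective (by rw [Spec.map_comp, Spec.map_preimage]; exact h1)
    have h3 : ψ z = (Spec.preimage (L₁ ≫ e.hom)).hom (Ideal.Quotient.mk I z) := congr($h2 z)
    rw [h3, Ideal.Quotient.eq_zero_iff_mem.mpr hz, map_zero]
  obtain ⟨sI, hsI⟩ := hIfg
  have hkill : ∀ z ∈ sI, ∃ c ∈ M0, algebraMap B B₁ c * z = 0 := by
    intro z hz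
    obtain ⟨⟨b, s⟩, hbs⟩ := IsLocalization.surj (Submonoid.powers m₁) z
    have hb : algebraMap B Bl b = 0 := by
      rw [← hψ, RingHom.comp_apply, ← hbs, map_mul, hIψ z (hsI ▸ Ideal.subset_span hz), zero_mul]
    obtain ⟨c, hc⟩ := (IsLocalization.map_eq_zero_iff M0 Bl b).mp hb
    refine ⟨c, c.2, (IsLocalization.map_units B₁ s).mul_left_eq_zero.mp ?_⟩
    rw [_root_.mul_assoc, hbs, ← map_mul, hc, map_zero]
  choose c hcM hc using hkill
  let m₂ := ∏ z ∈ sI.attach, c z.1 z.2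
  have hm₂ : m₂ ∈ M0 := prod_mem fun z _ => hcM _ _
  let B' := Localization.Away (m₁ * m₂)
  have hu := IsLocalization.Away.algebraMap_isUnit (S := B') (m₁ * m₂)
  rw [map_mul] at hu
  let ρ : B₁ →+* B' := IsLocalization.Away.lift m₁ (g := algebraMap B B') (isUnit_of_mul_isUnit_left hu)
  have hρ : ρ.comp (algebraMap B B₁) = algebraMap B B' := IsLocalization.Away.lift_comp _ _
  have hIρ : I ≤ RingHom.ker ρ := by
    rw [← hsI, Ideal.span_le]
    intro z hz
    show ρ z = 0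
    have h1 : algebraMap B B' (c z hz) * ρ z = 0 := by
      rw [← hρ, RingHom.comp_apply, ← map_mul, hc z hz, map_zero]
    have h2 : IsUnit (algebraMap B B' (c z hz)) := by
      obtain ⟨d, hd⟩ := Finset.dvd_prod_of_mem (fun w : {w // w ∈ sI} => c w.1 w.2) (Finset.mem_attach sI ⟨z, hz⟩)
      have h3 : IsUnit (algebraMap B B' m₂) := isUnit_of_mul_isUnit_right hu
      have h4 : algebraMap B B' m₂ = algebraMap B B' (c z hz) * algebraMap B B' d := by
        rw [← map_mul]; exact congrArg (algebraMap B B') hd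
      exact isUnit_of_mul_isUnit_left (h4 ▸ h3)
    exact h2.mul_right_eq_zero.mp h1
  refine ⟨m₁ * m₂, mul_mem hm₁M hm₂,
    Spec.map (CommRingCat.ofHom (Ideal.Quotient.lift I ρ hIρ)) ≫ e.inv ≫ pullback.fst π j₁, ?_⟩
  rw [Category.assoc, Category.assoc, pullback.condition, reassoc_of% hq.symm, ← Spec.map_comp, ← Spec.map_comp]
  exact congrArg (fun f => Spec.map (CommRingCat.ofHom f)) hρ

variable {S : Scheme.{u}} {H₁ H₂ G : Over S} [GrpObj H₁] [GrpObj H₂] [GrpObj G] (i₁ : H₁ ⟶ G) (i₂ : H₂ ⟶ G)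
  [IsMonHom i₁] [IsMonHom i₂] [IsImmersion i₂.left]

set_option backward.isDefEq.respectTransparency.types false in
omit [GrpObj H₁] [GrpObj H₂] [GrpObj G] [IsMonHom i₁] [IsMonHom i₂] in
/-- Containment over a local scheme spreads to a neighbourhood. -/
theorem exists_nhd_le_of_stalk [QuasiCompact H₁.hom] (hlfp : LocallyOfFinitePresentation (pullback.fst i₁.left i₂.left))
    (s : S) (hle : Le i₁ i₂ (S.fromSpecStalk s)) : ∃ O : S.Opens, s ∈ O ∧ Le i₁ i₂ O.ι := by
  classical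
  have hmono : Mono i₂ := Over.mono_of_mono_left i₂
  obtain ⟨V, hV, hsV, -⟩ := exists_isAffineOpen_mem_and_subset (X := S) (x := s) (U := ⊤) trivial
  let A := Γ(S, V)
  let 𝔭 := (hV.primeIdealOf ⟨s, hsV⟩).asIdeal
  obtain ⟨W, hWc, hW⟩ : ∃ W : Set H₁.left, IsCompact W ∧ W = H₁.hom.base ⁻¹' (V : Set S) :=
    ⟨_, H₁.hom.isCompact_preimage hV.isCompact, rfl⟩
  choose U hU hxU hUV using fun h : W => exists_isAffineOpen_mem_and_subset (X := H₁.left) (x := h.1)
    (U := H₁.hom ⁻¹ᵁ V) (hW.le h.2)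
  obtain ⟨F, hF⟩ := hWc.elim_finite_subcover (fun h : W => (U h : Set H₁.left)) (fun h => (U h).2)
    (fun x hx => Set.mem_iUnion.mpr ⟨⟨x, hx⟩, hxU _⟩)
  have key : ∀ h : W, ∃ r ∉ 𝔭, ∀ (Y : Over S) (x : Y ⟶ H₁), Set.range x.left.base ⊆ (U h : Set H₁.left) →
      Set.range Y.hom.base ⊆ (S.basicOpen r : Set S) → ∃ y : Y ⟶ H₂, y ≫ i₂ = x ≫ i₁ := by
    intro h
    let B := Γ(H₁.left, U h)
    let φ : A ⟶ B := H₁.hom.appLE V (U h) (hUV h)
    have hφ : Spec.map φ ≫ hV.fromSpec = (hU h).fromSpec ≫ H₁.hom := IsAffineOpen.SpecMap_appLE_fromSpec _ hV (hU h) _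
    let M0 : Submonoid B := 𝔭.primeCompl.map φ.hom
    let x₀ : Over.mk ((hU h).fromSpec ≫ H₁.hom) ⟶ H₁ := Over.homMk (hU h).fromSpec
    let π : pullback ((hU h).fromSpec ≫ i₁.left) i₂.left ⟶ Spec B := pullback.fst _ _
    have : IsImmersion π := MorphismProperty.pullback_fst _ _ inferInstance
    have : LocallyOfFinitePresentation π := by
      let e := pullbackRightPullbackFstIso i₁.left i₂.left (hU h).fromSpec
      have he : e.hom ≫ π = pullback.fst (hU h).fromSpec (pullback.fst i₁.left i₂.left) :=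
        pullbackRightPullbackFstIso_hom_fst _ _ _
      have h1 : LocallyOfFinitePresentation (pullback.fst (hU h).fromSpec (pullback.fst i₁.left i₂.left)) :=
        MorphismProperty.pullback_fst _ _ hlfp
      rw [← he] at h1
      exact (MorphismProperty.cancel_left_of_respectsIso (P := @LocallyOfFinitePresentation) e.hom _).mp h1
    let Bl := Localization M0
    let g : Spec (CommRingCat.of Bl) ⟶ Spec B := Spec.map (CommRingCat.ofHom (algebraMap B Bl))
    let Y : Over S := Over.mk (g ≫ (hU h).fromSpec ≫ H₁.hom)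
    have hfac : ∃ z : Y.left ⟶ Spec (S.presheaf.stalk s), z ≫ S.fromSpecStalk s = Y.hom := by
      let Ap := Localization.AtPrime 𝔭
      let ψ : Ap →+* Bl := IsLocalization.lift (M := 𝔭.primeCompl) (g := (algebraMap B Bl).comp φ.hom)
        fun a => IsLocalization.map_units Bl (⟨φ a.1, ⟨a.1, a.2, rfl⟩⟩ : M0)
      have hψ : ψ.comp (algebraMap A Ap) = (algebraMap B Bl).comp φ.hom := IsLocalization.lift_comp _
      let zA : Spec (CommRingCat.of Bl) ⟶ S := g ≫ (hU h).fromSpec ≫ H₁.hom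
      have hzA : zA = Spec.map (CommRingCat.ofHom ψ) ≫ Spec.map (CommRingCat.ofHom (algebraMap A Ap)) ≫ hV.fromSpec := by
        show g ≫ (hU h).fromSpec ≫ H₁.hom = _
        rw [← hφ, ← Spec.map_comp_assoc, ← Spec.map_comp_assoc, ← CommRingCat.ofHom_comp, hψ]
        rfl
      letI := TopCat.Presheaf.algebra_section_stalk S.presheaf ⟨s, hsV⟩
      have : IsLocalization.AtPrime (S.presheaf.stalk s) 𝔭 := hV.isLocalization_stalk ⟨s, hsV⟩
      let ε : S.presheaf.stalk s →+* Ap :=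
        IsLocalization.lift (M := 𝔭.primeCompl) (g := algebraMap A Ap) fun a => IsLocalization.map_units Ap a
      have hε : ε.comp (algebraMap A (S.presheaf.stalk s)) = algebraMap A Ap := IsLocalization.lift_comp _
      refine ⟨Spec.map (CommRingCat.ofHom (ψ.comp ε)), ?_⟩
      show _ = zA
      rw [hzA, show S.fromSpecStalk s = hV.fromSpecStalk hsV from (IsAffineOpen.fromSpecStalk_eq_fromSpecStalk hV hsV).symm,
        IsAffineOpen.fromSpecStalk, ← Spec.map_comp_assoc, ← Spec.map_comp_assoc]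
      congr 2
      refine CommRingCat.hom_ext ?_
      show (ψ.comp ε).comp (algebraMap A (S.presheaf.stalk s)) = ψ.comp (algebraMap A Ap)
      rw [RingHom.comp_assoc, hε]
    obtain ⟨y, hy⟩ := hle Y (Over.homMk (g ≫ (hU h).fromSpec) (Category.assoc _ _ _)) hfac
    let L : Spec (CommRingCat.of Bl) ⟶ pullback ((hU h).fromSpec ≫ i₁.left) i₂.left :=
      pullback.lift g y.left (by rw [← Category.assoc]; exact (congrArg CommaMorphism.left hy).symm)
    obtain ⟨m, ⟨r, hr, rfl⟩, l, hl⟩ := exists_away_lift π M0 L (pullback.lift_fst _ _ _)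
    refine ⟨r, hr, fun Y x hxU hYr => ?_⟩
    let jm : Spec (CommRingCat.of (Localization.Away (φ r))) ⟶ Spec B :=
      Spec.map (CommRingCat.ofHom (algebraMap B (Localization.Away (φ r))))
    have : IsOpenImmersion jm := IsOpenImmersion.of_isLocalization (φ r)
    let xB : Y.left ⟶ Spec B := IsOpenImmersion.lift (hU h).fromSpec x.left (by
      rw [(hU h).range_fromSpec]; exact hxU)
    have hxB : xB ≫ (hU h).fromSpec = x.left := IsOpenImmersion.lift_fac _ _ _
    have hsub : Set.range xB.base ⊆ Set.range jm.base := by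
      rintro _ ⟨w, rfl⟩
      refine (PrimeSpectrum.localization_away_comap_range (Localization.Away (φ r)) (φ r)).ge ?_
      have h1 : Y.hom.base w ∈ S.basicOpen r := hYr ⟨w, rfl⟩
      have h2 : Y.hom = xB ≫ Spec.map φ ≫ hV.fromSpec := by
        rw [hφ, ← Category.assoc, hxB, Over.w x]
      rw [h2, Scheme.Hom.comp_apply, Scheme.Hom.comp_apply] at h1
      have h3 : (Spec.map φ).base (xB.base w) ∈ hV.fromSpec ⁻¹ᵁ S.basicOpen r := h1
      rw [hV.fromSpec_preimage_basicOpen] at h3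
      exact h3
    let xm := IsOpenImmersion.lift jm xB hsub
    have hxm : xm ≫ jm = xB := IsOpenImmersion.lift_fac _ _ _
    refine ⟨Over.homMk (xm ≫ l ≫ pullback.snd _ _) ?_, ?_⟩
    · rw [← Over.w i₂, Category.assoc, Category.assoc, ← pullback.condition_assoc, reassoc_of% hl, reassoc_of% hxm,
        Category.assoc, reassoc_of% hxB, Over.w i₁, Over.w x]

    · ext1
      show (xm ≫ l ≫ pullback.snd _ _) ≫ i₂.left = _
      rw [Category.assoc, Category.assoc, ← pullback.condition, reassoc_of% hl, reassoc_of% hxm, reassoc_of% hxB]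
      rfl
  choose r hr hlift using key
  refine ⟨S.basicOpen (∏ h ∈ F, r h), ?_, fun Y x ⟨z, hz⟩ => ?_⟩
  · have h1 : ∏ h ∈ F, r h ∉ 𝔭 := fun hm => by
      obtain ⟨h, -, hh⟩ := (Ideal.IsPrime.prod_mem_iff (hp := (hV.primeIdealOf ⟨s, hsV⟩).isPrime)).mp hm
      exact hr h hh
    have h2 : hV.fromSpec.base (hV.primeIdealOf ⟨s, hsV⟩) ∈ S.basicOpen (∏ h ∈ F, r h) := by
      have h3 : hV.primeIdealOf ⟨s, hsV⟩ ∈ hV.fromSpec ⁻¹ᵁ S.basicOpen (∏ h ∈ F, r h) := by
        rw [hV.fromSpec_preimage_basicOpen]; exact h1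
      exact h3
    rwa [hV.fromSpec_primeIdealOf] at h2
  refine exists_lift_of_local i₂ (x ≫ i₁) fun w => ?_
  have hYr : ∀ w, Y.hom.base w ∈ S.basicOpen (∏ h ∈ F, r h) := fun w => by
    rw [← hz, Scheme.Hom.comp_apply]; exact (z.base w).2
  have hwW : x.left.base w ∈ W := by
    rw [hW]
    show H₁.hom.base (x.left.base w) ∈ V
    rw [← Scheme.Hom.comp_apply, Over.w x]
    exact S.basicOpen_le _ (hYr w)
  obtain ⟨h, hF', hwU⟩ := Set.mem_iUnion₂.mp (hF hwW)
  let O : Y.left.Opens := x.left ⁻¹ᵁ U h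
  let πY : Over.mk (O.ι ≫ Y.hom) ⟶ Y := Over.homMk O.ι
  obtain ⟨y, hy⟩ := hlift h (Over.mk (O.ι ≫ Y.hom)) (πY ≫ x) (by
    rintro _ ⟨v, rfl⟩
    show (O.ι ≫ x.left).base v ∈ U h
    rw [Scheme.Hom.comp_apply]
    exact v.2) (by
    rintro _ ⟨v, rfl⟩
    show (O.ι ≫ Y.hom).base v ∈ S.basicOpen (r h)
    rw [Scheme.Hom.comp_apply]
    refine (?_ : S.basicOpen (∏ h ∈ F, r h) ≤ S.basicOpen (r h)) (hYr _)
    rw [← Finset.mul_prod_erase F r hF', Scheme.basicOpen_mul]
    exact inf_le_left)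
  exact ⟨_, πY, inferInstanceAs (IsOpenImmersion O.ι), ⟨⟨w, hwU⟩, rfl⟩, y, hy.trans (Category.assoc _ _ _)⟩

set_option backward.isDefEq.respectTransparency.types false in
/-- Containment of a fibrewise central subgroup of multiplicative type spreads from a fibre to a neighbourhood. -/
theorem exists_nhd_le_of_fibre (h₁ : SGA3x.IsMultTypeFT H₁) (h₂ : SGA3x.IsMultTypeFT H₂)
    (hlfp : LocallyOfFinitePresentation (pullback.fst i₁.left i₂.left)) (s : S)
    (hcen : ∀ (X : Over S), (∃ z : X.left ⟶ Spec (S.residueField s), z ≫ S.fromSpecResidueField s = X.hom) →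
      ∀ (g : X ⟶ G) (h : X ⟶ H₁), g * (h ≫ i₁) = (h ≫ i₁) * g)
    (hle : Le i₁ i₂ (S.fromSpecResidueField s)) : ∃ O : S.Opens, s ∈ O ∧ Le i₁ i₂ O.ι := by
  classical
  have hmono : Mono i₂ := Over.mono_of_mono_left i₂
  have : IsAffineHom H₁.hom := multType_isAffineHom H₁ h₁
  refine exists_nhd_le_of_stalk i₁ i₂ hlfp s ?_
  obtain ⟨S', f, hf, hsurj, -, hloc⟩ := h₁
  obtain ⟨s', hs'⟩ := hsurj.surj s
  obtain ⟨U, hsU, M, _, hfg, ⟨eU⟩⟩ := hloc s'
  let R := S'.presheaf.stalk s'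
  have hr : Set.range (S'.fromSpecStalk s').base ⊆ Set.range U.ι.base := by
    rw [Scheme.range_fromSpecStalk, Scheme.Opens.range_ι]
    exact fun y hy => hy.mem_open U.2 hsU
  let l := IsOpenImmersion.lift U.ι (S'.fromSpecStalk s') hr
  let P := (SplitPts.ofIso _ eU).restrict l
  let p : Spec R ⟶ S := l ≫ U.ι ≫ f
  have hp : p = S'.fromSpecStalk s' ≫ f := IsOpenImmersion.lift_fac_assoc _ _ _ _
  let 𝔪 := IsLocalRing.maximalIdeal R
  letI : Field (R ⧸ 𝔪) := Ideal.Quotient.field 𝔪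
  let g₀ : Spec (CommRingCat.of (R ⧸ 𝔪)) ⟶ S := LeLocal.clPt p
  have hg₀ : g₀.base (IsLocalRing.closedPoint (R ⧸ 𝔪)) = s := by
    show (Spec.map (CommRingCat.ofHom (Ideal.Quotient.mk 𝔪)) ≫ p).base _ = s
    rw [hp, Scheme.Hom.comp_apply, Scheme.Hom.comp_apply]
    have e : (Spec.map (CommRingCat.ofHom (Ideal.Quotient.mk 𝔪))).base (IsLocalRing.closedPoint (R ⧸ 𝔪)) =
        IsLocalRing.closedPoint R := by
      refine PrimeSpectrum.ext ?_
      show Ideal.comap (Ideal.Quotient.mk 𝔪) (IsLocalRing.maximalIdeal _) = 𝔪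
      rw [IsLocalRing.maximalIdeal_eq_bot, ← RingHom.ker_eq_comap_bot, Ideal.mk_ker]
    rw [e, Scheme.fromSpecStalk_closedPoint, hs']
  obtain ⟨φ₀, hφ₀⟩ : ∃ φ₀ : Spec (CommRingCat.of (R ⧸ 𝔪)) ⟶ Spec (S.residueField s),
      φ₀ ≫ S.fromSpecResidueField s = g₀ := by
    rw [← hg₀]
    exact ⟨Spec.map ((Scheme.SpecToEquivOfField (R ⧸ 𝔪) S) g₀).2,
      (Scheme.SpecToEquivOfField (R ⧸ 𝔪) S).symm_apply_apply g₀⟩
  have hloc' : Le i₁ i₂ p := LeLocal.le_local i₁ i₂ p P hlfp hfg (splitFpqc_of_multTypeFT H₂ h₂)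
    (fun X ⟨z, hz⟩ g h => hcen X ⟨z ≫ φ₀, by rw [Category.assoc, hφ₀]; exact hz⟩ g h)
    ((hle.comp i₁ i₂ φ₀).of_eq i₁ i₂ hφ₀)
  subst hs'
  let c : Spec R ⟶ Spec (S.presheaf.stalk (f.base s')) := Spec.map (f.stalkMap s')
  have hflat : (f.stalkMap s').hom.Flat := Flat.stalkMap f s'
  have : Flat c := HasRingHomProperty.Spec_iff.mpr hflat
  have : Surjective c := by
    letI := (f.stalkMap s').hom.toAlgebra
    have : Module.Flat (S.presheaf.stalk (f.base s')) R := hflat
    have : IsLocalHom (algebraMap (S.presheaf.stalk (f.base s')) R) := f.toLRSHom.prop s'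
    have := Module.FaithfullyFlat.of_flat_of_isLocalHom (A := S.presheaf.stalk (f.base s')) (B := R)
    exact ⟨PrimeSpectrum.comap_surjective_of_faithfullyFlat⟩
  exact Le.descend i₁ i₂ c (hloc'.of_eq i₁ i₂ (hp.trans (Scheme.SpecMap_stalkMap_fromSpecStalk f).symm))

end Groth.Agent.DiagRig
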