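import Groth.Agent.DiagRig.LocSplit
import Groth.Agent.DiagRig.MultProp
import Mathlib.RingTheory.Ideal.MinimalPrime.Localization
import Mathlib.RingTheory.Flat.FaithfullyFlat.Algebra
import Mathlib.AlgebraicGeometry.PullbackCarrier

/-! An action of a group of multiplicative type trivial on a fibre is trivial near the fibre. -/

universe u

open CategoryTheory MonoidalCategory CartesianMonoidalCategory MonObj GrpObj AlgebraicGeometry Limits
open Groth.Agent.GrpScheme.Basic

noncomputable section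

namespace Groth.Agent.DiagRig

variable {S : Scheme.{u}} {H X : Over S} [GrpObj H] (a : AlgGrp.Action H X)

/-- Ring maps agreeing up to elements that become units agree afterwards. -/
lemma ringHom_eq_of_killed {R B D E : Type u} [CommRing R] [CommRing B] [CommRing D] [CommRing E] [Algebra R B]
    (s : Set B) (hs : Algebra.adjoin R s = ⊤) (f g : B →+* D)
    (hφ : ∀ r, f (algebraMap R B r) = g (algebraMap R B r)) (κ : D →+* E)
    (h : ∀ b ∈ s, ∃ e, IsUnit (κ e) ∧ e * (f b - g b) = 0) : κ.comp f = κ.comp g := by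
  apply RingHom.ext
  intro b
  have hb : b ∈ Algebra.adjoin R s := hs ▸ Algebra.mem_top
  induction hb using Algebra.adjoin_induction with
  | mem x hx =>
    obtain ⟨e, he, hx⟩ := h x hx
    have h3 := congrArg κ hx
    rw [map_mul, map_zero, he.mul_right_eq_zero, map_sub, sub_eq_zero] at h3
    exact h3
  | algebraMap r => exact congrArg κ (hφ r)
  | add x y _ _ hx hy => rw [map_add, map_add, hx, hy]
  | mul x y _ _ hx hy => rw [map_mul, map_mul, hx, hy]

/-- An action trivial on a fibre is trivial on the local schemes at the points of that fibre. -/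
theorem trivAt_of_fibre [LocallyOfFiniteType X.hom] (hH : SGA3x.IsMultTypeFT H)
    (hsep : ∀ t : S, IsSeparated (pullback.snd X.hom (S.fromSpecResidueField t))) (s : S)
    (hs : FibreTriv a s) (x : X.left) (hx : X.hom.base x = s) : TrivAt a x := by
  obtain ⟨S', f, hf, hsurj, -, hloc⟩ := hH
  obtain ⟨s', hs'⟩ := f.surjective s
  obtain ⟨V, hV, M, _, hfg, ⟨e⟩⟩ := hloc s'
  obtain ⟨W', hW', hsW', -⟩ := exists_isAffineOpen_mem_and_subset (X := V.toScheme) (x := (⟨s', hV⟩ : V))
    (U := ⊤) trivial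
  let R := Γ(V.toScheme, W')
  let j : Spec R ⟶ V.toScheme := hW'.fromSpec
  let p : Spec R ⟶ S := j ≫ V.ι ≫ f
  let P : SplitPts p H M := (SplitPts.ofIso _ e).restrict j
  obtain ⟨(qs : PrimeSpectrum R), hqs⟩ := hW'.range_fromSpec.ge hsW'
  have hps : p.base qs = s := by
    show f.base (V.ι.base (j.base qs)) = s
    rw [hqs]; exact hs'
  have : Flat p := inferInstance
  obtain ⟨x', rfl, hx'2⟩ := Scheme.Pullback.exists_preimage_pullback (f := X.hom) (g := p) x qs (hx.trans hps.symm)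
  obtain ⟨O, hO, hxO, -⟩ := exists_isAffineOpen_mem_and_subset (X := pullback X.hom p) (x := x') (U := ⊤) trivial
  let B := Γ(pullback X.hom p, O)
  let w' : Spec B ⟶ pullback X.hom p := hO.fromSpec
  let φ : R ⟶ B := Spec.preimage (w' ≫ pullback.snd _ _)
  let K := (pullback X.hom p).presheaf.stalk x'
  let _ : Algebra R B := φ.hom.toAlgebra
  let germ : B ⟶ K := (pullback X.hom p).presheaf.germ O x' hxO
  let _ : Algebra B K := germ.hom.toAlgebra
  let _ : Algebra R K := (φ ≫ germ).hom.toAlgebra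
  have : IsScalarTower R B K := IsScalarTower.of_algebraMap_eq fun _ => rfl
  have hw2 : w' ≫ pullback.snd _ _ = Spec.map (CommRingCat.ofHom (algebraMap R B)) :=
    (Spec.map_preimage _).symm
  have : Algebra.FiniteType R B := by
    have h1 : LocallyOfFiniteType (Spec.map φ) := by
      rw [Spec.map_preimage]
      infer_instance
    exact RingHom.finiteType_algebraMap.mp (show (algebraMap R B).FiniteType from
      (HasRingHomProperty.Spec_iff (P := @LocallyOfFiniteType)).mp h1)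
  let P₀ : PrimeSpectrum B := hO.primeIdealOf ⟨x', hxO⟩
  have : P₀.asIdeal.IsPrime := P₀.isPrime
  have : IsLocalization.AtPrime K P₀.asIdeal := hO.isLocalization_stalk ⟨x', hxO⟩
  have hP₀ : P₀.asIdeal.comap (algebraMap R B) = qs.asIdeal := by
    let P₁ : Spec B := P₀
    have h1 : (Spec.map φ).base P₁ = qs := by
      rw [show Spec.map φ = w' ≫ pullback.snd _ _ from Spec.map_preimage _, Scheme.Hom.comp_apply]
      exact (congrArg _ (hO.fromSpec_primeIdealOf ⟨x', hxO⟩)).trans hx'2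
    exact congrArg PrimeSpectrum.asIdeal h1
  have hfibT : ∀ (T : Type u) [CommRing T] [Algebra R T] (_ : K →ₐ[R] T),
      (∀ r ∈ P₀.asIdeal.comap (algebraMap R B), algebraMap R T r = 0) →
      ∀ (g : (Over.map p).obj (specOver (R := R) T) ⟶ H) (y : (Over.map p).obj (specOver (R := R) T) ⟶ X),
        smul a g y = y := by
    intro T _ _ xT hT g y
    let kq := qs.asIdeal.ResidueField
    let g₀ : Spec (CommRingCat.of kq) ⟶ S := Spec.map (CommRingCat.ofHom (algebraMap R kq)) ≫ p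
    have hg₀ : g₀.base (IsLocalRing.closedPoint kq) = s := by
      refine Eq.trans ?_ hps
      show p.base _ = _
      congr 1
      apply PrimeSpectrum.ext
      show Ideal.comap (algebraMap R kq) (IsLocalRing.maximalIdeal _) = _
      rw [IsLocalRing.maximalIdeal_eq_bot, ← RingHom.ker_eq_comap_bot, Ideal.ker_algebraMap_residueField]
    have hq₁ : qs.asIdeal ≤ RingHom.ker (algebraMap R T) := fun r hr => hT r (hP₀.ge hr)
    have hq₂ : qs.asIdeal.primeCompl ≤ (IsUnit.submonoid T).comap (algebraMap R T) := fun r hr => by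
        have hu : IsUnit (algebraMap B K (algebraMap R B r)) :=
          IsLocalization.map_units K (⟨algebraMap R B r, fun h => hr (hP₀.le h)⟩ : P₀.asIdeal.primeCompl)
        rw [← IsScalarTower.algebraMap_apply] at hu
        show IsUnit (algebraMap R T r)
        rw [← xT.commutes r]
        exact hu.map xT
    let γ : kq →+* T := Ideal.ResidueField.lift qs.asIdeal (algebraMap R T) hq₁ hq₂
    subst hg₀
    let φ₀ : S.residueField (g₀.base (IsLocalRing.closedPoint kq)) ⟶ CommRingCat.of kq :=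
      ((Scheme.SpecToEquivOfField kq S) g₀).2
    refine hs _ g y (Spec.map (CommRingCat.ofHom γ) ≫ Spec.map φ₀) ?_
    show _ = Spec.map _ ≫ p
    rw [Category.assoc, show Spec.map φ₀ ≫ S.fromSpecResidueField _ = g₀ from
      (Scheme.SpecToEquivOfField kq S).symm_apply_apply g₀, ← Spec.map_comp_assoc, ← CommRingCat.ofHom_comp]
    congr 3
    exact RingHom.ext fun r => Ideal.ResidueField.lift_algebraMap qs.asIdeal (algebraMap R T) hq₁ hq₂ r
  have main := triv_split a P w' hw2 P₀.asIdeal hfibT hfg hsep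
  intro Y g y z hz
  let ψ := (pullback.fst X.hom p).stalkMap x'
  have hflat : Flat (Spec.map ψ) := HasRingHomProperty.Spec_iff.mpr (Flat.stalkMap (pullback.fst X.hom p) x')
  have hsurjψ : Surjective (Spec.map ψ) := by
    algebraize [ψ.hom]
    have : Module.Flat (X.left.presheaf.stalk ((pullback.fst X.hom p).base x')) K :=
      RingHom.flat_algebraMap_iff.mp (Flat.stalkMap (pullback.fst X.hom p) x')
    have : IsLocalHom (algebraMap (X.left.presheaf.stalk ((pullback.fst X.hom p).base x')) K) :=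
      inferInstanceAs (IsLocalHom ψ.hom)
    have : Module.FaithfullyFlat (X.left.presheaf.stalk ((pullback.fst X.hom p).base x')) K :=
      Module.FaithfullyFlat.of_flat_of_isLocalHom
    exact ⟨PrimeSpectrum.comap_surjective_of_faithfullyFlat⟩
  let Y'' := pullback z (Spec.map ψ)
  let zz : Y'' ⟶ Spec K := pullback.snd z (Spec.map ψ)
  let Y₀ : Over (Spec R) := Over.mk (zz ≫ Spec.map (CommRingCat.ofHom (algebraMap R K)))
  have hst : Spec.map germ ≫ w' = (pullback X.hom p).fromSpecStalk x' :=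
    hO.fromSpecStalk_eq_fromSpecStalk hxO
  have hy : pullback.fst z (Spec.map ψ) ≫ y.left = zz ≫ Spec.map germ ≫ w' ≫ pullback.fst _ _ := by
    rw [← hz, pullback.condition_assoc, ← Category.assoc (Spec.map germ), hst,
      ← Scheme.SpecMap_stalkMap_fromSpecStalk]
  have hRK : Spec.map (CommRingCat.ofHom (algebraMap R K)) = Spec.map germ ≫ w' ≫ pullback.snd _ _ := by
    show Spec.map (φ ≫ germ) = _
    rw [Spec.map_comp, show Spec.map φ = w' ≫ pullback.snd _ _ from Spec.map_preimage _]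
  let π : (Over.map p).obj Y₀ ⟶ Y := Over.homMk (pullback.fst z (Spec.map ψ)) (by
    show pullback.fst z (Spec.map ψ) ≫ Y.hom = (zz ≫ Spec.map _) ≫ p
    rw [← Over.w y, ← Category.assoc, hy]
    refine Eq.trans ?_ (congrArg (fun q => (zz ≫ q) ≫ p) hRK.symm)
    simp only [Category.assoc, pullback.condition])
  have : Flat (pullback.fst z (Spec.map ψ)) := inferInstance
  have : Surjective (pullback.fst z (Spec.map ψ)) := inferInstance
  have : Epi π.left := Flat.epi_of_flat_of_surjective (pullback.fst z (Spec.map ψ))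
  have : Epi π := Over.epi_of_epi_left π
  rw [← cancel_epi π, comp_smul]
  let T := Γ(Y'', ⊤)
  let ψK : K ⟶ T := (Scheme.ΓSpecIso K).inv ≫ zz.appTop
  let _ : Algebra R T := ((CommRingCat.ofHom (algebraMap R K)) ≫ ψK).hom.toAlgebra
  let xT : K →ₐ[R] T := { ψK.hom with commutes' := fun r => rfl }
  have hzz : Y''.toSpecΓ ≫ Spec.map ψK = zz := by
    show Y''.toSpecΓ ≫ Spec.map ((Scheme.ΓSpecIso K).inv ≫ zz.appTop) = _
    rw [Spec.map_comp, ← Scheme.toSpecΓ_naturality_assoc]
    exact (congrArg (zz ≫ ·) (toSpecΓ_SpecMap_ΓSpecIso_inv _)).trans (Category.comp_id _)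
  let qY : Y₀ ⟶ specOver (R := R) T := Over.homMk Y''.toSpecΓ (by
    show Y''.toSpecΓ ≫ Spec.map ((CommRingCat.ofHom (algebraMap R K)) ≫ ψK) = zz ≫ _
    rw [Spec.map_comp, ← Category.assoc, hzz]
    rfl)
  have hyx : π ≫ y = (Over.map p).map qY ≫ xK w' hw2 xT := by
    ext1
    show pullback.fst z (Spec.map ψ) ≫ y.left = Y''.toSpecΓ ≫ Spec.map (germ ≫ ψK) ≫ w' ≫ pullback.fst _ _
    rw [hy, Spec.map_comp, Category.assoc, reassoc_of% hzz]
  obtain ⟨t₀, ht₀⟩ := P.σ_surjective (π ≫ g)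
  have hgt : π ≫ g = (Over.map p).map qY ≫ gPt p P (t₀ : Multiplicative M →* T) := by
    rw [gPt, P.σ_comp, ← ht₀]
    congr 1
    ext m
    show t₀ m = (Y''.toSpecΓ.appTop) ((Scheme.ΓSpecIso T).inv (t₀ m))
    rw [Scheme.toSpecΓ_appTop]
    exact (congr($((Scheme.ΓSpecIso T).inv_hom_id) (t₀ m))).symm
  rw [hyx, hgt, ← comp_smul, main T _ xT]

set_option maxHeartbeats 1600000 in
/-- An action trivial on the local scheme at a point is trivial near the point. -/
theorem exists_open_of_trivAt [LocallyOfFiniteType X.hom] [IsAffineHom H.hom] (x : X.left) (hx : TrivAt a x) :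
    ∃ O : X.left.Opens, x ∈ O ∧ ∀ (Y : Over S) (g : Y ⟶ H) (y : Y ⟶ X),
      Set.range y.left.base ⊆ O → smul a g y = y := by
  classical
  obtain ⟨U₀, hU₀, hs₀, -⟩ := exists_isAffineOpen_mem_and_subset (X := S) (x := X.hom.base x) (U := ⊤) trivial
  obtain ⟨V, hV, hxV, hVU⟩ := exists_isAffineOpen_mem_and_subset (X := X.left) (x := x) (U := X.hom ⁻¹ᵁ U₀) hs₀
  let R := Γ(S, U₀)
  let B := Γ(X.left, V)
  let v : Spec B ⟶ X.left := hV.fromSpec
  let φ : R ⟶ B := X.hom.appLE U₀ V hVU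
  have hφ : Spec.map φ ≫ hU₀.fromSpec = v ≫ X.hom := hU₀.SpecMap_appLE_fromSpec _ hV hVU
  have hft : φ.hom.FiniteType := X.hom.finiteType_appLE hU₀ hV hVU
  let _ : Algebra R B := φ.hom.toAlgebra
  let K := X.left.presheaf.stalk x
  let germ : B ⟶ K := X.left.presheaf.germ V x hxV
  let _ : Algebra B K := germ.hom.toAlgebra
  let P₀ : PrimeSpectrum B := hV.primeIdealOf ⟨x, hxV⟩
  have : P₀.asIdeal.IsPrime := P₀.isPrime
  have : IsLocalization.AtPrime K P₀.asIdeal := hV.isLocalization_stalk ⟨x, hxV⟩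
  have hst : Spec.map germ ≫ v = X.left.fromSpecStalk x := hV.fromSpecStalk_eq_fromSpecStalk hxV
  let Z := pullback H.hom (v ≫ X.hom)
  have : IsAffine Z := isAffine_of_isAffineHom (pullback.snd H.hom (v ≫ X.hom))
  let C := Γ(Z, ⊤)
  let c : Spec C ⟶ Z := Z.isoSpec.inv
  let Y₁ : Over S := Over.mk (c ≫ pullback.snd H.hom (v ≫ X.hom) ≫ v ≫ X.hom)
  let g₁ : Y₁ ⟶ H := Over.homMk (c ≫ pullback.fst _ _) (by
    show (c ≫ _) ≫ H.hom = c ≫ _
    rw [Category.assoc, pullback.condition])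
  let y₁ : Y₁ ⟶ X := Over.homMk (c ≫ pullback.snd _ _ ≫ v)
  let ψ : B ⟶ C := Spec.preimage (c ≫ pullback.snd H.hom (v ≫ X.hom))
  have hψ : Spec.map ψ = c ≫ pullback.snd H.hom (v ≫ X.hom) := Spec.map_preimage _
  let m : Spec C ⟶ X.left := (smul a g₁ y₁).left
  have hm : m ≫ X.hom = Spec.map ψ ≫ Spec.map φ ≫ hU₀.fromSpec := by
    rw [hφ, hψ, Category.assoc]
    exact Over.w (smul a g₁ y₁)
  -- on the germ the moved point is the point
  have hgerm : ∀ (T : CommRingCat.{u}) (l : C ⟶ T) (κ : K ⟶ T), germ ≫ κ = ψ ≫ l →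
      Spec.map l ≫ m = Spec.map l ≫ Spec.map ψ ≫ v := by
    intro T l κ hκ
    let Y : Over S := Over.mk (Spec.map l ≫ Y₁.hom)
    let π : Y ⟶ Y₁ := Over.homMk (Spec.map l)
    have h1 := hx Y (π ≫ g₁) (π ≫ y₁) (Spec.map κ) (by
      show _ = Spec.map l ≫ c ≫ pullback.snd _ _ ≫ v
      rw [← hst, ← Spec.map_comp_assoc, hκ, Spec.map_comp, Category.assoc, hψ, Category.assoc])
    rw [← comp_smul] at h1
    rw [hψ, Category.assoc]
    exact congr($(h1).left)
  obtain ⟨I, hI⟩ := (PrimeSpectrum.isClosed_iff_zeroLocus_ideal _).mp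
    ((V.isOpen.preimage m.continuous).isClosed_compl)
  have hIP : ¬ I.comap ψ.hom ≤ P₀.asIdeal := by
    intro hle
    obtain ⟨t, ht, htq⟩ := Ideal.exists_minimalPrimes_le hle
    obtain ⟨Q, hQ, hIQ, hQt⟩ := Ideal.exists_comap_eq_of_mem_minimalPrimes ψ.hom t ht
    let Qp : Spec C := ⟨Q, hQ⟩
    have hnot : m.base Qp ∉ V := hI.ge (show Qp ∈ PrimeSpectrum.zeroLocus I from hIQ)
    let L := Q.ResidueField
    let lq : C ⟶ CommRingCat.of L := CommRingCat.ofHom (algebraMap C L)
    have hu : ∀ b : P₀.asIdeal.primeCompl, IsUnit ((ψ ≫ lq).hom b) := fun b =>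
      IsUnit.mk0 _ fun h => b.2 (htq (hQt.le ((Ideal.algebraMap_residueField_eq_zero (I := Q) (x := ψ.hom (b : B))).mp h :)))
    let κ : K ⟶ CommRingCat.of L := CommRingCat.ofHom (IsLocalization.lift (S := K) hu)
    have h1 := hgerm (CommRingCat.of L) lq κ (CommRingCat.hom_ext (IsLocalization.lift_comp hu))
    let zc : Spec (CommRingCat.of L) := IsLocalRing.closedPoint L
    have hz : (Spec.map lq).base zc = Qp := PrimeSpectrum.ext (by
      show Ideal.comap (algebraMap C L) (IsLocalRing.maximalIdeal _) = Q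
      rw [IsLocalRing.maximalIdeal_eq_bot, ← RingHom.ker_eq_comap_bot, Ideal.ker_algebraMap_residueField])
    apply hnot
    rw [← hz, ← Scheme.Hom.comp_apply, h1, Scheme.Hom.comp_apply, Scheme.Hom.comp_apply]
    exact hV.range_fromSpec.le ⟨_, rfl⟩
  obtain ⟨f, hf, hfP⟩ := SetLike.not_le_iff_exists.mp hIP
  let Cf := Localization.Away (ψ.hom f)
  let lf : C ⟶ CommRingCat.of Cf := CommRingCat.ofHom (algebraMap C Cf)
  have hrange : Set.range (Spec.map lf ≫ m).base ⊆ Set.range v.base := by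
    rintro _ ⟨w, rfl⟩
    rw [hV.range_fromSpec, Scheme.Hom.comp_apply]
    by_contra hnot
    have h1 : (Spec.map lf).base w ∈ PrimeSpectrum.zeroLocus (I : Set C) := hI.le hnot
    have h2 : (Spec.map lf).base w ∈ Set.range (PrimeSpectrum.comap (algebraMap C Cf)) := ⟨w, rfl⟩
    rw [PrimeSpectrum.localization_away_comap_range Cf (ψ.hom f)] at h2
    exact h2 (h1 hf)
  let m' : B ⟶ CommRingCat.of Cf := Spec.preimage (IsOpenImmersion.lift v (Spec.map lf ≫ m) hrange)
  have hm' : Spec.map m' ≫ v = Spec.map lf ≫ m := by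
    rw [show Spec.map m' = _ from Spec.map_preimage _]; exact IsOpenImmersion.lift_fac _ _ _
  have hmR : φ ≫ m' = φ ≫ ψ ≫ lf := by
    apply Spec.map_injective
    rw [← cancel_mono hU₀.fromSpec]
    simp only [Spec.map_comp, Category.assoc]
    rw [hφ, reassoc_of% hm', hm, hφ]
  let M' := Algebra.algebraMapSubmonoid B P₀.asIdeal.primeCompl
  let Mf : Submonoid Cf := P₀.asIdeal.primeCompl.map (ψ ≫ lf).hom
  let L := Localization Mf
  let lL : CommRingCat.of Cf ⟶ CommRingCat.of L := CommRingCat.ofHom (algebraMap Cf L)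
  have hu : ∀ b : P₀.asIdeal.primeCompl, IsUnit ((ψ ≫ lf ≫ lL).hom b) := fun b =>
    IsLocalization.map_units L (⟨_, Submonoid.mem_map_of_mem (ψ ≫ lf).hom b.2⟩ : Mf)
  have h1 := hgerm (CommRingCat.of L) (lf ≫ lL) (CommRingCat.ofHom (IsLocalization.lift (S := K) hu))
    (CommRingCat.hom_ext (IsLocalization.lift_comp hu))
  have heq : m' ≫ lL = ψ ≫ lf ≫ lL := by
    apply Spec.map_injective
    rw [← cancel_mono v, Spec.map_comp, Category.assoc, hm', ← Category.assoc, ← Spec.map_comp, h1,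
      ← Spec.map_comp_assoc]
  obtain ⟨sB, hsB⟩ := (RingHom.finiteType_algebraMap.mp (show (algebraMap R B).FiniteType from hft)).out
  have hd : ∀ b : B, ∃ d : P₀.asIdeal.primeCompl, (ψ ≫ lf).hom d * (m'.hom b - (ψ ≫ lf).hom b) = 0 := by
    intro b
    have h2 : algebraMap Cf L (m'.hom b - (ψ ≫ lf).hom b) = 0 := by
      rw [map_sub, sub_eq_zero]
      exact congr($heq b)
    obtain ⟨⟨_, d, hd, rfl⟩, h3⟩ := (IsLocalization.map_eq_zero_iff Mf L _).mp h2
    exact ⟨⟨d, hd⟩, h3⟩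
  choose d hd using hd
  let c₀ : B := f * ∏ b ∈ sB, (d b : B)
  have hc₀ : c₀ ∉ P₀.asIdeal := by
    intro h
    rcases P₀.isPrime.mem_or_mem h with h | h
    · exact hfP h
    · exact (∏ b ∈ sB, d b : P₀.asIdeal.primeCompl).2 (by simpa using h)
  refine ⟨X.left.basicOpen c₀, ?_, ?_⟩
  · have h1 : P₀ ∈ hV.fromSpec ⁻¹ᵁ X.left.basicOpen c₀ := by
      rw [hV.fromSpec_preimage_basicOpen]; exact hc₀
    have h2 : hV.fromSpec.base P₀ ∈ X.left.basicOpen c₀ := h1
    simpa only [P₀, hV.fromSpec_primeIdealOf ⟨x, hxV⟩] using h2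
  intro Y g y hy
  let C₂ := Localization.Away (ψ.hom c₀)
  let l₂ : C ⟶ CommRingCat.of C₂ := CommRingCat.ofHom (algebraMap C C₂)
  have hfu : IsUnit ((algebraMap C C₂) (ψ.hom f)) := by
    exact isUnit_of_dvd_unit (map_dvd (algebraMap C C₂) (map_dvd ψ.hom (dvd_mul_right f _)))
      (IsLocalization.Away.algebraMap_isUnit (ψ.hom c₀) (S := C₂))
  let lf₂ : CommRingCat.of Cf ⟶ CommRingCat.of C₂ := CommRingCat.ofHom (IsLocalization.Away.lift (ψ.hom f) hfu)
  have hlf : lf ≫ lf₂ = l₂ := CommRingCat.hom_ext (IsLocalization.Away.lift_comp (ψ.hom f) hfu)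
  have hkey : ∀ b ∈ (sB : Set B), IsUnit (l₂.hom (ψ.hom (d b))) := fun b hb =>
    isUnit_of_dvd_unit (map_dvd (algebraMap C C₂) (map_dvd ψ.hom
      ((Finset.dvd_prod_of_mem (fun b => (d b : B)) (Finset.mem_coe.mp hb)).trans (dvd_mul_left _ f))))
      (IsLocalization.Away.algebraMap_isUnit (ψ.hom c₀) (S := C₂))
  have heq₂ : m' ≫ lf₂ = ψ ≫ l₂ := by
    rw [← hlf]
    apply CommRingCat.hom_ext
    exact ringHom_eq_of_killed (sB : Set B) hsB m'.hom (ψ ≫ lf).hom (fun r => congr($hmR r)) lf₂.hom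
      fun b hb => ⟨(ψ ≫ lf).hom (d b), by
        have e : lf₂.hom ((ψ ≫ lf).hom (d b)) = l₂.hom (ψ.hom (d b)) := congr($hlf (ψ.hom (d b)))
        rw [e]; exact hkey b hb, hd b⟩
  have hfinal : Spec.map l₂ ≫ m = Spec.map l₂ ≫ y₁.left := by
    have e : y₁.left = Spec.map ψ ≫ v := by rw [hψ, Category.assoc]; rfl
    rw [e, ← Spec.map_comp_assoc, ← heq₂, Spec.map_comp, Category.assoc, hm', ← Spec.map_comp_assoc, hlf]
  have hyV : Set.range y.left.base ⊆ Set.range v.base := by
    rw [hV.range_fromSpec]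
    exact hy.trans (X.left.basicOpen_le c₀)
  let yB : Y.left ⟶ Spec B := IsOpenImmersion.lift v y.left hyV
  let hZ : Y.left ⟶ Spec C := pullback.lift g.left yB (by
    rw [IsOpenImmersion.lift_fac_assoc, Over.w g, Over.w y]) ≫ Z.isoSpec.hom
  have hZc : hZ ≫ c = pullback.lift g.left yB (by
      rw [IsOpenImmersion.lift_fac_assoc, Over.w g, Over.w y]) := by simp [hZ, c]
  have hr2 : Set.range hZ.base ⊆ Set.range (Spec.map l₂).base := by
    rintro _ ⟨w, rfl⟩
    show hZ.base w ∈ Set.range (PrimeSpectrum.comap (algebraMap C C₂))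
    rw [PrimeSpectrum.localization_away_comap_range C₂ (ψ.hom c₀)]
    have h1 : (Spec.map ψ).base (hZ.base w) = yB.base w := by
      rw [hψ, ← Scheme.Hom.comp_apply, ← Category.assoc, hZc, pullback.lift_snd]
    have h2 : v.base (yB.base w) ∈ X.left.basicOpen c₀ := by
      rw [← Scheme.Hom.comp_apply, IsOpenImmersion.lift_fac]; exact hy ⟨w, rfl⟩
    have h3 : yB.base w ∈ hV.fromSpec ⁻¹ᵁ X.left.basicOpen c₀ := h2
    rw [hV.fromSpec_preimage_basicOpen, ← h1] at h3
    exact h3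
  have : IsOpenImmersion (Spec.map l₂) := IsOpenImmersion.of_isLocalization (ψ.hom c₀)
  let z₂ := IsOpenImmersion.lift (Spec.map l₂) hZ hr2
  have hz₂ : z₂ ≫ Spec.map l₂ = hZ := IsOpenImmersion.lift_fac _ _ _
  let π : Y ⟶ Y₁ := Over.homMk hZ (by
    show hZ ≫ c ≫ pullback.snd _ _ ≫ v ≫ X.hom = _
    rw [reassoc_of% hZc, pullback.lift_snd_assoc, IsOpenImmersion.lift_fac_assoc, Over.w y])
  have hπg : π ≫ g₁ = g := by
    ext1
    show hZ ≫ c ≫ pullback.fst _ _ = g.left
    rw [reassoc_of% hZc, pullback.lift_fst]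
  have hπy : π ≫ y₁ = y := by
    ext1
    show hZ ≫ c ≫ pullback.snd _ _ ≫ v = y.left
    rw [reassoc_of% hZc, pullback.lift_snd_assoc, IsOpenImmersion.lift_fac]
  rw [← hπg, ← hπy, ← comp_smul]
  ext1
  show hZ ≫ m = hZ ≫ y₁.left
  rw [← hz₂, Category.assoc, Category.assoc, hfinal]

/-- An action trivial on a fibre is trivial on an open set containing the fibre. -/
theorem exists_open_of_fibre [LocallyOfFiniteType X.hom] (hH : SGA3x.IsMultTypeFT H)
    (hsep : ∀ t : S, IsSeparated (pullback.snd X.hom (S.fromSpecResidueField t))) (s : S)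
    (hs : FibreTriv a s) :
    ∃ O : X.left.Opens, (∀ x, X.hom.base x = s → x ∈ O) ∧ ∀ (Y : Over S) (g : Y ⟶ H) (y : Y ⟶ X),
      Set.range y.left.base ⊆ O → smul a g y = y := by
  have := multType_isAffineHom H hH
  have h := fun x (hx : X.hom.base x = s) => exists_open_of_trivAt a x (trivAt_of_fibre a hH hsep s hs x hx)
  choose O hO1 hO2 using h
  refine ⟨⨆ x : {x // X.hom.base x = s}, O x.1 x.2, fun x hx =>
    TopologicalSpace.Opens.mem_iSup.mpr ⟨⟨x, hx⟩, hO1 x hx⟩, fun Y g y hy => ?_⟩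
  ext1
  refine hom_ext_of_forall _ _ fun w => ?_
  obtain ⟨⟨x, hx⟩, hw⟩ := TopologicalSpace.Opens.mem_iSup.mp (hy ⟨w, rfl⟩)
  let U := y.left ⁻¹ᵁ O x hx
  refine ⟨U, hw, ?_⟩
  let ι' : Over.mk (U.ι ≫ Y.hom) ⟶ Y := Over.homMk U.ι
  have h := hO2 x hx _ (ι' ≫ g) (ι' ≫ y) (by
    rintro _ ⟨z, rfl⟩; exact z.2)
  rw [← comp_smul] at h
  exact congr($(h).left)

/-- An action trivial on every fibre is trivial. -/
theorem trivial_of_fibres [LocallyOfFiniteType X.hom] (hH : SGA3x.IsMultTypeFT H)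
    (hsep : ∀ t : S, IsSeparated (pullback.snd X.hom (S.fromSpecResidueField t)))
    (hs : ∀ s, FibreTriv a s) (Y : Over S) (g : Y ⟶ H) (y : Y ⟶ X) : smul a g y = y := by
  ext1
  refine hom_ext_of_forall _ _ fun w => ?_
  obtain ⟨O, hO, hO'⟩ := exists_open_of_fibre a hH hsep _ (hs (X.hom.base (y.left.base w)))
  let U := y.left ⁻¹ᵁ O
  refine ⟨U, hO _ rfl, ?_⟩
  let ι' : Over.mk (U.ι ≫ Y.hom) ⟶ Y := Over.homMk U.ι
  have h := hO' _ (ι' ≫ g) (ι' ≫ y) (by rintro _ ⟨z, rfl⟩; exact z.2)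
  rw [← comp_smul] at h
  exact congr($(h).left)

end Groth.Agent.DiagRig
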