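import Groth.Agent.DiagRig.Loc
import Groth.Agent.DiagRig.Nil
import Groth.Agent.GrpScheme.IdComponent

/-! Actions on group schemes through a pair of homomorphisms. -/

universe u

open CategoryTheory MonoidalCategory CartesianMonoidalCategory MonObj GrpObj AlgebraicGeometry Limits
open Groth.Agent.GrpScheme.Basic

noncomputable section

namespace Groth.Agent.DiagRig

variable {S : Scheme.{u}} {H G : Over S} [GrpObj H] [GrpObj G]

/-- The fibres of a group scheme are separated. -/
lemma isSeparated_fibre (G : Over S) [GrpObj G] (t : S) :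
    IsSeparated (pullback.snd G.hom (S.fromSpecResidueField t)) :=
  Groth.Agent.GrpScheme.IdComponent.isSeparated (K := S.residueField t) (Red.bc (S.fromSpecResidueField t) G)

/-- The two-sided action through a pair of homomorphisms. -/
def biAction (u v : H ⟶ G) [IsMonHom u] [IsMonHom v] : AlgGrp.Action H G where
  act := (fst H G ≫ u) * snd H G * (fst H G ≫ v)⁻¹
  one_act := by
    simp only [MonObj.comp_mul, GrpObj.comp_inv, whiskerRight_fst_assoc, whiskerRight_snd, IsMonHom.one_hom,
      toUnit_unique (fst (𝟙_ (Over S)) G) (toUnit _), ← Hom.one_def]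
    simp [leftUnitor_hom]
  mul_act := by
    simp [mul_eq_mul, MonObj.mul_comp, MonObj.comp_mul, GrpObj.comp_inv, _root_.mul_assoc,
      _root_.mul_inv_rev, associator_hom_fst_assoc]

lemma smul_biAction (u v : H ⟶ G) [IsMonHom u] [IsMonHom v] {Y : Over S} (h : Y ⟶ H) (x : Y ⟶ G) :
    smul (biAction u v) h x = (h ≫ u) * x * (h ≫ v)⁻¹ := by
  simp [smul, biAction, MonObj.comp_mul, GrpObj.comp_inv]

/-- Points over a fibre as points of the base change. -/
lemma exists_over_fibre {s : S} {Y : Over S} (z : Y.left ⟶ Spec (S.residueField s))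
    (hz : z ≫ S.fromSpecResidueField s = Y.hom) :
    ∃ (Y₀ : Over (Spec (S.residueField s))) (π : (Over.map (S.fromSpecResidueField s)).obj Y₀ ⟶ Y), Epi π := by
  let e : (Over.map (S.fromSpecResidueField s)).obj (Over.mk z) ≅ Y := Over.isoMk (Iso.refl _) (by
    show 𝟙 _ ≫ Y.hom = z ≫ _
    exact (Category.id_comp _).trans hz.symm)
  exact ⟨Over.mk z, e.hom, inferInstance⟩

end Groth.Agent.DiagRig
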