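import Groth.Agent.DiagRig.DSQuot
import Groth.Agent.DiagRig.WeilLocus.Basic
import Groth.Agent.GrpScheme.SubgroupObj

/-!
# Images of homomorphisms which are locally images of covers
-/

universe u

open CategoryTheory MonoidalCategory CartesianMonoidalCategory MonObj GrpObj AlgebraicGeometry Limits MorphismProperty

noncomputable section

namespace Groth.Agent.DiagRig.LocalImage

/-- Lifting through a closed immersion over a base. -/
theorem exists_lift_over {V : Scheme.{u}} {T I G' : Over V} (g : T ⟶ G') [IsClosedImmersion g.left] (i : I ⟶ G')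
    (hle : g.left.ker ≤ i.left.ker) : ∃ b : I ⟶ T, b ≫ g = i := by
  have e := IsClosedImmersion.lift_fac g.left i.left hle
  refine ⟨CategoryTheory.Over.homMk (IsClosedImmersion.lift g.left i.left hle) ?_, ?_⟩
  · rw [← Over.w g, ← Category.assoc, e]
    exact Over.w i
  · exact Over.OverMorphism.ext e

set_option backward.isDefEq.respectTransparency.types false
set_option maxHeartbeats 1000000

variable {S : Scheme.{u}}

/-- The image commutes with open immersions: kernels. -/
theorem ker_image_of_isPullback {X Y U U' V : Scheme.{u}} (f : X ⟶ Y) [QuasiCompact f] (f' : U ⟶ V) (iU : U ⟶ X)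
    (i' : U' ⟶ V) (iU' : U' ⟶ f.image) (iV : V ⟶ Y) [IsOpenImmersion iV] (H : IsPullback f' iU iV f)
    (H' : IsPullback i' iU' iV f.imageι) : i'.ker = f'.ker := by
  refine Scheme.IdealSheafData.ext (funext fun W => ?_)
  rw [Scheme.ker_ideal_of_isPullback_of_isOpenImmersion f.imageι i' iU' iV H' W,
    Scheme.ker_ideal_of_isPullback_of_isOpenImmersion f f' iU iV H W, Scheme.IdealSheafData.ker_subschemeι]

theorem isPullback_bc {E G : Over S} (f : E ⟶ G) {V : Scheme.{u}} (v : V ⟶ S) :
    IsPullback ((Over.pullback v).map f).left (pullback.fst E.hom v) (pullback.fst G.hom v) f.left :=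
  (isPullback_bcMap v f).flip

variable {E G : Over S} [GrpObj E] [GrpObj G] (f : E ⟶ G) [IsMonHom f]

/-- A local presentation of the image. -/
def IsLocalImage {V : Scheme.{u}} (v : V ⟶ S) (T : Grp (Over V)) : Prop :=
  ∃ (q : Red.bc v E ⟶ T.X) (g : T.X ⟶ Red.bc v G), IsMonHom g ∧ AGFQuot.Basic.IsCover q ∧
    IsClosedImmersion g.left ∧ q ≫ g = (Over.pullback v).map f

variable [QuasiCompact f.left]

/-- The image of `f`, as an object over `S`. -/
def imageObj : Over S := Over.mk (f.left.imageι ≫ G.hom)

/-- The inclusion of the image. -/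
def imageMap : imageObj f ⟶ G := Over.homMk f.left.imageι rfl

instance : IsClosedImmersion (imageMap f).left := inferInstanceAs (IsClosedImmersion f.left.imageι)

/-- The factorisation through the image. -/
def toImage : E ⟶ imageObj f := Over.homMk f.left.toImage (by
  show f.left.toImage ≫ f.left.imageι ≫ G.hom = E.hom
  rw [Scheme.Hom.toImage_imageι_assoc, CategoryTheory.Over.w])

theorem toImage_map : toImage f ≫ imageMap f = f := Over.OverMorphism.ext (by
  rw [CategoryTheory.Over.comp_left]
  exact f.left.toImage_imageι)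

theorem mono_imageMap : Mono (imageMap f) := by
  have : Mono (imageMap f).left := inferInstanceAs (Mono f.left.imageι)
  exact Over.mono_of_mono_left _

/-- Over a local presentation the image is the presented subgroup. -/
theorem exists_localIso {V : Scheme.{u}} (v : V ⟶ S) [IsOpenImmersion v] {T : Grp (Over V)} (h : IsLocalImage f v T) :
    ∃ (e : Red.bc v (imageObj f) ≅ T.X) (g : T.X ⟶ Red.bc v G), IsMonHom g ∧ Mono g ∧
      e.hom ≫ g = (Over.pullback v).map (imageMap f) := by
  obtain ⟨q, g, hg, hq, hgc, hqg⟩ := h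
  let i := (Over.pullback v).map (imageMap f)
  let f' := (Over.pullback v).map f
  have hic : IsClosedImmersion i.left := MorphismProperty.of_isPullback (isPullback_bcMap v (imageMap f))
    (inferInstance : IsClosedImmersion (imageMap f).left)
  have hgm : Mono g := by
    have : Mono g.left := inferInstance
    exact Over.mono_of_mono_left g
  have him : Mono i := by
    have : Mono i.left := inferInstance
    exact Over.mono_of_mono_left i
  have hq' := hq.effectiveEpi
  let t := (Over.pullback v).map (toImage f)
  have ht : t ≫ i = f' := by rw [← Functor.map_comp, toImage_map]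
  obtain ⟨a, ha, -⟩ := GrpdLib.GrpOver.existsUnique_desc q t fun X x y e => by
    rw [← cancel_mono i, Category.assoc, Category.assoc, ht, show f' = q ≫ g from hqg.symm, reassoc_of% e]
  have hai : a ≫ i = g := hq.cancel (by rw [reassoc_of% ha, ht, hqg])
  have hker : i.left.ker = f'.left.ker :=
    ker_image_of_isPullback f.left f'.left _ i.left _ _ (isPullback_bc f v) (isPullback_bc (imageMap f) v)
  have hle : g.left.ker ≤ i.left.ker := by
    rw [hker, show f'.left = q.left ≫ g.left from congrArg CommaMorphism.left hqg.symm]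
    exact Scheme.Hom.le_ker_comp _ _
  obtain ⟨b, hbg⟩ := exists_lift_over g i hle
  refine ⟨⟨b, a, ?_, ?_⟩, g, hg, hgm, hbg⟩
  · rw [← cancel_mono i, Category.assoc, hai, hbg, Category.id_comp]
  · rw [← cancel_mono g, Category.assoc, hbg, hai, Category.id_comp]

variable (hloc : ∀ s : S, ∃ (V : Scheme.{u}) (v : V ⟶ S) (_ : IsOpenImmersion v) (T : Grp (Over V)),
  s ∈ v.opensRange ∧ IsLocalImage f v T)

include hloc in
theorem exists_lift_of_local {Z : Over S} (z : Z ⟶ G)
    (h : ∀ (V : Scheme.{u}) (v : V ⟶ S) [IsOpenImmersion v] (T : Grp (Over V)) (g : T.X ⟶ Red.bc v G), IsMonHom g →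
      (∃ e : Red.bc v (imageObj f) ≅ T.X, e.hom ≫ g = (Over.pullback v).map (imageMap f)) →
      ∃ a : Red.bc v Z ⟶ T.X, a ≫ g = (Over.pullback v).map z) :
    ∃ l : Z ⟶ imageObj f, l ≫ imageMap f = z := by
  obtain ⟨l, hl⟩ := WeilLocus.exists_lift_of_pointwise (imageMap f).left z.left fun p => by
    obtain ⟨V, v, hv, T, hV, hT⟩ := hloc (Z.hom.base p)
    obtain ⟨e, g, hg, -, heg⟩ := exists_localIso f v hT
    obtain ⟨a, ha⟩ := h V v T g hg ⟨e, heg⟩
    refine ⟨_, pullback.fst Z.hom v, (a ≫ e.inv).left ≫ pullback.fst (imageObj f).hom v, inferInstance, ?_, ?_⟩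
    · have : p ∈ Set.range (pullback.fst Z.hom v) := by
        rw [IsOpenImmersion.range_pullbackFst]
        exact hV
      exact this
    · have key : (a ≫ e.inv) ≫ (Over.pullback v).map (imageMap f) = (Over.pullback v).map z := by
        rw [Category.assoc, show e.inv ≫ (Over.pullback v).map (imageMap f) = g by rw [Iso.inv_comp_eq, heg], ha]
      exact (Category.assoc _ _ _).trans ((congrArg ((a ≫ e.inv).left ≫ ·) (isPullback_bcMap v (imageMap f)).w).trans
        ((Category.assoc _ _ _).symm.trans ((congrArg (fun m => CommaMorphism.left m ≫ pullback.fst G.hom v) key).trans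
          (isPullback_bcMap v z).w.symm)))
  exact ⟨Over.homMk l (by
    show l ≫ f.left.imageι ≫ G.hom = Z.hom
    rw [← Category.assoc]
    exact (congrArg (· ≫ G.hom) hl).trans (Over.w z)), Over.OverMorphism.ext hl⟩

include hloc in
/-- The image is a subgroup, locally isomorphic to the presentations. -/
theorem exists_subgroup :
    ∃ _ : GrpObj (imageObj f), IsMonHom (imageMap f) ∧ IsMonHom (toImage f) ∧
      ∀ {V : Scheme.{u}} (v : V ⟶ S) [IsOpenImmersion v] (T : Grp (Over V)), IsLocalImage f v T →
        Nonempty (Grp.mk (Red.bc v (imageObj f)) ≅ T) := by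
  have := mono_imageMap f
  let j := imageMap f
  obtain ⟨inst, hj⟩ := GrpScheme.SubgroupObj.exists_grpObj j
    (exists_lift_of_local f hloc _ fun V v _ T g hg ⟨e, he⟩ => by
      refine ⟨((Over.pullback v).map (fst _ _) ≫ e.hom) * ((Over.pullback v).map (snd _ _) ≫ e.hom), ?_⟩
      rw [MonObj.mul_comp, Category.assoc, Category.assoc, he, ← Functor.map_comp, ← Functor.map_comp]
      rw [← Functor.map_mul, Hom.mul_def]
      congr 2)
    (exists_lift_of_local f hloc _ fun V v _ T g hg _ => by
      refine ⟨1, ?_⟩
      rw [MonObj.one_comp, show η[G] = (1 : 𝟙_ (Over S) ⟶ G) by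
        rw [Hom.one_def, toUnit_unique (toUnit _) (𝟙 _), Category.id_comp]]
      exact bcTr_injective v (by rw [← Category.id_comp ((Over.pullback v).map (1 : 𝟙_ (Over S) ⟶ G)), bcTr_map,
        MonObj.comp_one, bcTr_one]))
    (exists_lift_of_local f hloc _ fun V v _ T g hg ⟨e, he⟩ => by
      refine ⟨((Over.pullback v).map (𝟙 (imageObj f)) ≫ e.hom)⁻¹, ?_⟩
      rw [GrpObj.inv_comp, Category.assoc, he, CategoryTheory.Functor.map_id, Category.id_comp, GrpObj.inv_eq_inv,
        GrpObj.comp_inv, Category.comp_id]
      exact bcTr_injective v (by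
        rw [bcTr_inv, ← Category.id_comp ((Over.pullback v).map (imageMap f)), bcTr_map,
          ← Category.id_comp ((Over.pullback v).map ((imageMap f)⁻¹)), bcTr_map, GrpObj.comp_inv]))
  refine ⟨inst, hj, ?_, fun {V} v _ T hT => ?_⟩
  · refine isMonHom_of_pts _ fun Y x y => ?_
    rw [← cancel_mono j, Category.assoc, toImage_map, MonObj.mul_comp, MonObj.mul_comp, Category.assoc,
      Category.assoc, toImage_map]
  · obtain ⟨e, g, hg, hgm, heg⟩ := exists_localIso f v hT
    have hji : IsMonHom ((Over.pullback v).map (imageMap f)) := isMonHom_bcMap v (imageMap f)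
    have : IsMonHom e.hom := isMonHom_of_pts _ fun Y x y => by
      rw [← cancel_mono g, Category.assoc, heg, MonObj.mul_comp (x ≫ e.hom), Category.assoc, Category.assoc, heg]
      exact bcTr_injective v (by rw [bcTr_map, bcTr_mul, bcTr_mul, bcTr_map, bcTr_map, MonObj.mul_comp])
    exact ⟨Grp.mkIso' e⟩

end Groth.Agent.DiagRig.LocalImage
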