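import Groth.Agent.CocommUnip19.Basic

/-!
# Homomorphisms from diagonalisable groups to unipotent groups over arbitrary algebras are trivial
-/

universe u v w

open TensorProduct

noncomputable section

namespace Groth.Agent.DiagRig.MTUnip

open HopfRep Groth.Agent.Comod Groth.Agent.CocommUnip19

variable {k : Type u} [Field k] {A : Type u} [CommRing A] [HopfAlgebra k A]
  {R : Type v} [CommRing R] [Algebra k R] {M : Type w} [CommGroup M]

/-- A primitive-type identity in a group algebra forces a scalar. -/
theorem eq_algebraMap_of_identity (x : MonoidAlgebra R M) (e : R)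
    (h : MonoidAlgebra.mapDomain (fun m : M => (m, (1 : M))) x + MonoidAlgebra.mapDomain (fun m : M => ((1 : M), m)) x -
      MonoidAlgebra.single ((1 : M), (1 : M)) e = MonoidAlgebra.mapDomain (fun m : M => (m, m)) x) :
    x = MonoidAlgebra.single 1 e := by
  classical
  refine MonoidAlgebra.coeff_injective (Finsupp.ext fun a => ?_)
  have hc := congrArg (fun y => MonoidAlgebra.coeff y ((a, 1) : M × M)) h
  simp only [MonoidAlgebra.coeff_add, MonoidAlgebra.coeff_sub, MonoidAlgebra.coeff_mapDomain, MonoidAlgebra.coeff_single,
    Finsupp.add_apply, Finsupp.sub_apply] at hc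
  have h1 : Function.Injective (fun m : M => (m, (1 : M))) := fun p q hpq => congrArg Prod.fst hpq
  have h2 : Function.Injective (fun m : M => ((1 : M), m)) := fun p q hpq => congrArg Prod.snd hpq
  have h3 : Function.Injective (fun m : M => (m, m)) := fun p q hpq => congrArg Prod.fst hpq
  rw [Finsupp.mapDomain_apply h1] at hc
  rw [MonoidAlgebra.coeff_single]
  by_cases ha : a = 1
  · subst ha
    rw [Finsupp.mapDomain_apply h2, Finsupp.mapDomain_apply h3, Finsupp.single_eq_same] at hc
    rw [Finsupp.single_eq_same]
    linear_combination hc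
  · have hne1 : ((a, 1) : M × M) ∉ Set.range (fun m : M => ((1 : M), m)) := by
      rintro ⟨m, hm⟩
      exact ha (congrArg Prod.fst hm).symm
    have hne2 : ((a, 1) : M × M) ∉ Set.range (fun m : M => (m, m)) := by
      rintro ⟨m, hm⟩
      exact ha ((congrArg Prod.fst hm).symm.trans (congrArg Prod.snd hm))
    rw [Finsupp.mapDomain_of_notMem_range _ _ hne1, Finsupp.mapDomain_of_notMem_range _ _ hne2,
      Finsupp.single_eq_of_ne (fun hh => ha (congrArg Prod.fst hh))] at hc
    rw [Finsupp.single_eq_of_ne ha]
    linear_combination hc

/-- The first inclusion. -/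
def inl : MonoidAlgebra R M →ₐ[R] MonoidAlgebra R (M × M) := MonoidAlgebra.mapDomainAlgHom R R (MonoidHom.inl M M)

/-- The second inclusion. -/
def inr : MonoidAlgebra R M →ₐ[R] MonoidAlgebra R (M × M) := MonoidAlgebra.mapDomainAlgHom R R (MonoidHom.inr M M)

/-- The diagonal. -/
def diag : MonoidAlgebra R M →ₐ[R] MonoidAlgebra R (M × M) :=
  MonoidAlgebra.mapDomainAlgHom R R (MonoidHom.prod (MonoidHom.id M) (MonoidHom.id M))

/-- A multiplicative map from a unipotent part into a group algebra is the counit. -/
theorem eq_counit_of_mul (h : A →ₐ[k] MonoidAlgebra R M)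
    (hmul : WithConv.toConv ((inl.restrictScalars k).comp h) * WithConv.toConv ((inr.restrictScalars k).comp h) =
      WithConv.toConv ((diag.restrictScalars k).comp h)) :
    ∀ n, ∀ b ∈ fil k A A n, h b = algebraMap k _ (Coalgebra.counit b) := by
  intro n
  induction n with
  | zero =>
    intro b hb
    rw [show b = 0 from (Submodule.mem_bot k).1 hb, map_zero, map_zero, map_zero]
  | succ n ih =>
    intro b hb
    classical
    let z : A ⊗[k] A := Coalgebra.comul (R := k) b - b ⊗ₜ[k] (1 : A)
    let g : A →ₗ[k] MonoidAlgebra R M :=
      h.toLinearMap - (Algebra.linearMap k (MonoidAlgebra R M)) ∘ₗ (Coalgebra.counit (R := k) (A := A))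
    have hz : g.rTensor A z = 0 := by
      let bas := Module.Free.chooseBasis k A
      refine (TensorProduct.equivFinsuppOfBasisRight bas).injective (Finsupp.ext fun i => ?_)
      have hd : ∀ w : MonoidAlgebra R M ⊗[k] A,
          TensorProduct.equivFinsuppOfBasisRight bas w i = slice (bas.coord i) w := fun w => by
        induction w using TensorProduct.induction_on with
        | zero => simp
        | add p q hp hq => simp only [map_add, Finsupp.add_apply, hp, hq]
        | tmul p q => simp [TensorProduct.equivFinsuppOfBasisRight_apply_tmul_apply]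
      rw [map_zero, Finsupp.zero_apply, hd, slice_rTensor]
      have hdev := ih _ ((mem_fil_succ_dev.1 hb) (bas.coord i))
      rw [dev_apply, contract_apply] at hdev
      show h (slice (bas.coord i) z) - algebraMap k _ (Coalgebra.counit (slice (bas.coord i) z)) = 0
      have hs : slice (bas.coord i) z = slice (bas.coord i) (HopfRep.Comod.coact (k := k) (A := A) b) - bas.coord i 1 • b := by
        simp only [z, map_sub, slice_tmul]
        rfl
      rw [hs, hdev, sub_self]
    let il : A →ₐ[k] MonoidAlgebra R (M × M) := (inl.restrictScalars k).comp h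
    let ir : A →ₐ[k] MonoidAlgebra R (M × M) := (inr.restrictScalars k).comp h
    let L : A ⊗[k] A →ₐ[k] MonoidAlgebra R (M × M) := Algebra.TensorProduct.lift il ir fun _ _ => Commute.all _ _
    let L' : MonoidAlgebra R M ⊗[k] A →ₐ[k] MonoidAlgebra R (M × M) :=
      Algebra.TensorProduct.lift (inl.restrictScalars k) ir fun _ _ => Commute.all _ _
    let E : A →ₐ[k] k := Bialgebra.counitAlgHom k A
    let L0 : A ⊗[k] A →ₐ[k] MonoidAlgebra R (M × M) :=
      Algebra.TensorProduct.lift ((Algebra.ofId k _).comp E) ir fun _ _ => Commute.all _ _
    have hL : ∀ w : A ⊗[k] A, L w = L0 w + L' (g.rTensor A w) := fun w => by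
      induction w using TensorProduct.induction_on with
      | zero => simp
      | add p q hp hq => simp only [map_add, hp, hq]; ring
      | tmul p q =>
        simp only [L, L0, L', LinearMap.rTensor_tmul, Algebra.TensorProduct.lift_tmul, AlgHom.comp_apply]
        show inl (h p) * ir q = Algebra.ofId k _ (E p) * ir q +
          inl (h p - algebraMap k (MonoidAlgebra R M) (Coalgebra.counit p)) * ir q
        rw [map_sub, show inl (algebraMap k (MonoidAlgebra R M) (Coalgebra.counit p)) =
          algebraMap k (MonoidAlgebra R (M × M)) (Coalgebra.counit p) from (inl.restrictScalars k).commutes _]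
        show _ = algebraMap k (MonoidAlgebra R (M × M)) (Coalgebra.counit p) * ir q + _
        ring
    have h0 : L0 (Coalgebra.comul (R := k) b) = ir b := by
      have hh : ∀ w : A ⊗[k] A, L0 w = ir (TensorProduct.lid k A ((Coalgebra.counit (R := k) (A := A)).rTensor A w)) := fun w => by
        induction w using TensorProduct.induction_on with
        | zero => simp
        | add p q hp hq => simp only [map_add, hp, hq]
        | tmul p q =>
          simp only [L0, Algebra.TensorProduct.lift_tmul, LinearMap.rTensor_tmul, TensorProduct.lid_tmul,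
            Algebra.smul_def, map_mul, AlgHom.commutes]
          rfl
      rw [hh, Coalgebra.rTensor_counit_comul, TensorProduct.lid_tmul, one_smul]
    have happ : L (Coalgebra.comul (R := k) b) = diag (h b) := by
      have h4 := congrArg (fun F : WithConv (A →ₐ[k] MonoidAlgebra R (M × M)) => F b) hmul
      simp only [AlgHom.convMul_apply] at h4
      exact h4
    refine Eq.trans (eq_algebraMap_of_identity (h b) (algebraMap k R (Coalgebra.counit b)) ?_) ?_
    · refine Eq.trans ?_ happ
      rw [show Coalgebra.comul (R := k) b = z + b ⊗ₜ[k] (1 : A) from (sub_add_cancel _ _).symm, map_add, hL z, hz, map_zero,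
        add_zero, map_sub, h0]
      simp only [L, L0, Algebra.TensorProduct.lift_tmul, map_one, mul_one]
      show inl (h b) + inr (h b) - _ = inr (h b) - algebraMap k (MonoidAlgebra R (M × M)) (Coalgebra.counit b) + inl (h b)
      rw [show MonoidAlgebra.single ((1 : M), (1 : M)) (algebraMap k R (Coalgebra.counit b)) =
        algebraMap k (MonoidAlgebra R (M × M)) (Coalgebra.counit b) by
          rw [IsScalarTower.algebraMap_apply k R (MonoidAlgebra R (M × M)), MonoidAlgebra.coe_algebraMap]; rfl]
      ring
    · rw [IsScalarTower.algebraMap_apply k R (MonoidAlgebra R M), MonoidAlgebra.coe_algebraMap]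
      rfl

end Groth.Agent.DiagRig.MTUnip
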