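import Groth.Agent.DiagRig.Cochar

/-!
# Maximal split subtori
-/

universe u

open CategoryTheory MonoidalCategory CartesianMonoidalCategory MonObj GrpObj AlgebraicGeometry Limits MorphismProperty
open Groth.Agent.RedPts

noncomputable section

namespace Groth.Agent.DiagRig.MaxSplit

set_option backward.isDefEq.respectTransparency.types false

open DSQuot PointChar

variable {S : Scheme.{u}} {G : Over S} [GrpObj G]

theorem fg_fin (n : ℕ) : AddGroup.FG (Fin n → ℤ) := AddGroup.fg_iff_addMonoid_fg.mpr inferInstance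

/-- A split torus of rank `r` inside `G` bounds `r` by the rank at a point. -/
theorem rank_le (P : SplitPoint G) {r : ℕ} (j : Red.DS S (Fin r → ℤ) ⟶ G) [IsMonHom j] [Mono j] :
    r ≤ Module.finrank ℤ P.M := by
  have : Module.Finite ℤ P.M := Module.Finite.iff_addGroup_fg.mpr P.fg
  obtain ⟨φ, hφ⟩ := exists_hasChar P (fg_fin r) j
  obtain ⟨d, hd⟩ := exists_dsBC P.k (Fin r → ℤ)
  have : Nonempty ↥(Spec (CommRingCat.of P.K)) := inferInstanceAs (Nonempty (PrimeSpectrum P.K))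
  have : IsIso d.inv.hom.hom := ((Grp.forget _).mapIso d).isIso_inv
  have : IsIso P.e.hom.hom.hom := ((Grp.forget _).mapIso P.e).isIso_hom
  have e : d.inv.hom.hom ≫ (Over.pullback P.k).map j ≫ P.e.hom.hom.hom = Red.DSmap (Spec (CommRingCat.of P.K)) φ :=
    d_ext fun m => by
      have h1 := hφ _ d.inv.hom.hom m
      have h2 := hd _ d.inv.hom.hom (φ m)
      rw [show d.inv.hom.hom ≫ d.hom.hom.hom = 𝟙 _ from grpIso_hom_inv d.symm] at h2
      rw [← Category.assoc, h1, ← h2]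
      conv_rhs => rw [← Category.id_comp (Red.DSmap _ φ), DSmap_fn]
  have : Mono ((Over.pullback P.k).map j) := inferInstance
  have hm : Mono (Red.DSmap (Spec (CommRingCat.of P.K)) φ) := by rw [← e]; exact mono_comp _ _
  have hs := DSHom.surjective_of_mono φ (inferInstance : Mono (Red.DSmap (Spec (CommRingCat.of P.K)) φ).left)
  have h := LinearMap.finrank_range_le φ.toIntLinearMap
  rw [LinearMap.range_eq_top.mpr hs, finrank_top, Module.finrank_fin_fun] at h
  exact h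

/-- Split tori are tori. -/
theorem isTorus_split {T : Over S} [GrpObj T] {r : ℕ} (h : Red.IsSplitTorusWith (Fin r → ℤ) T) : Red.IsTorus T := by
  obtain ⟨e⟩ := h
  obtain ⟨d, -⟩ := exists_dsBC ((⊤ : S.Opens).ι ≫ 𝟙 S) (Fin r → ℤ)
  refine ⟨S, 𝟙 S, inferInstance, inferInstance, fun W hW => ⟨W, hW.isCompact, by simp⟩,
    fun s => ⟨⊤, trivial, r, ⟨bcGrpMap ((⊤ : S.Opens).ι ≫ 𝟙 S) e ≪≫ d⟩⟩⟩

theorem isSplit_geomFibre {T : Over S} [GrpObj T] {r : ℕ} (h : Red.IsSplitTorusWith (Fin r → ℤ) T) (s : S) :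
    Red.IsSplitTorusWith (Fin r → ℤ) (Red.geomFibre s T) := by
  obtain ⟨e⟩ := h
  obtain ⟨d, -⟩ := exists_dsBC (Red.geomPt s) (Fin r → ℤ)
  exact ⟨bcGrpMap (Red.geomPt s) e ≪≫ d⟩

/-- Homomorphisms into a monomorphism. -/
theorem isMonHom_of_mono {A B C : Over S} [GrpObj A] [GrpObj B] [GrpObj C] (g : A ⟶ B) (j : B ⟶ C) [IsMonHom j]
    [Mono j] [IsMonHom (g ≫ j)] : IsMonHom g := by
  refine isMonHom_of_pts _ fun Y x y => ?_
  rw [← cancel_mono j, Category.assoc, MonObj.mul_comp, MonObj.mul_comp, Category.assoc, Category.assoc]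

theorem exists_maximal (hG : SGA3x.IsMultTypeFT G) :
    ∃ (T : Over S) (_ : GrpObj T) (j : T ⟶ G) (r : ℕ), IsMonHom j ∧ Mono j ∧ Red.IsSplitTorusWith (Fin r → ℤ) T ∧
      ∀ (T' : Over S) [GrpObj T'] (j' : T' ⟶ G) [IsMonHom j'] [Mono j'] (r' : ℕ) (g : T ⟶ T'),
        Red.IsSplitTorusWith (Fin r' → ℤ) T' → g ≫ j' = j → IsIso g := by
  classical
  let C : ℕ → Prop := fun r => ∃ j : Red.DS S (Fin r → ℤ) ⟶ G, IsMonHom j ∧ Mono j
  have h0 : C 0 := by
    refine ⟨1, isMonHom_one, ⟨fun {Y} x y _ => d_ext fun m => ?_⟩⟩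
    rw [Subsingleton.elim m 0, d_zero, d_zero]
  rcases isEmpty_or_nonempty ↥S with hS | ⟨⟨s⟩⟩
  · obtain ⟨j, hj, hjm⟩ := h0
    refine ⟨_, inferInstance, j, 0, hj, hjm, ⟨Iso.refl _⟩, fun T' _ j' _ _ r' g hT' hg => ?_⟩
    have hE : IsEmpty ↥T'.left := Function.isEmpty T'.hom.base
    have hl : IsIso g.left := inferInstance
    have : IsIso ((CategoryTheory.Over.forget S).map g) := hl
    exact isIso_of_reflects_iso g (CategoryTheory.Over.forget S)
  obtain ⟨P, -⟩ := nonempty_splitPoint hG s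
  obtain ⟨r, ⟨j, hj, hjm⟩, hmax⟩ : ∃ r, C r ∧ ∀ r', C r' → r' ≤ r := by
    refine ⟨Nat.findGreatest C (Module.finrank ℤ P.M), Nat.findGreatest_spec (Nat.zero_le _) h0, fun r' h => ?_⟩
    refine Nat.le_findGreatest ?_ h
    obtain ⟨j, hj, hjm⟩ := h
    exact rank_le P j
  refine ⟨_, inferInstance, j, r, hj, hjm, ⟨Iso.refl _⟩, fun T' _ j' _ _ r' g hT' hg => ?_⟩
  obtain ⟨e'⟩ := hT'
  let e₀ : T' ≅ Red.DS S (Fin r' → ℤ) := (Grp.forget _).mapIso e'
  have he₀ : IsMonHom e₀.hom := e'.hom.hom.isMonHom_hom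
  have he₁ : IsMonHom e₀.inv := e'.inv.hom.isMonHom_hom
  have h1 : r' ≤ r := hmax r' ⟨e₀.inv ≫ j', inferInstance, mono_comp _ _⟩
  subst hg
  have hg : IsMonHom g := isMonHom_of_mono g j'
  have hgm : Mono g := mono_of_mono g j'
  have h2 : r ≤ r' := by
    obtain ⟨Q, -⟩ := nonempty_splitPoint (isMultTypeFT_DS S (Fin r' → ℤ) (fg_fin r')) s
    have := rank_le Q (g ≫ e₀.hom)
    obtain ⟨d, -⟩ := exists_dsBC Q.k (Fin r' → ℤ)
    have hQ : Module.finrank ℤ Q.M ≤ r' := by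
      have : Nonempty ↥(Spec (CommRingCat.of Q.K)) := inferInstanceAs (Nonempty (PrimeSpectrum Q.K))
      let i : Red.DS (Spec (CommRingCat.of Q.K)) (Fin r' → ℤ) ≅ Red.DS (Spec (CommRingCat.of Q.K)) Q.M :=
        (Grp.forget _).mapIso (d.symm ≪≫ Q.e)
      have : IsMonHom i.hom := (d.symm ≪≫ Q.e).hom.hom.isMonHom_hom
      let x₀ : ↥(Spec (CommRingCat.of Q.K)) := (default : PrimeSpectrum Q.K)
      obtain ⟨V, hx, φ, hφ⟩ := DSHom.exists_localHom i.hom Q.fg x₀
      have hiφ := hφ _ (𝟙 _) fun y _ => ((inferInstance : Subsingleton (PrimeSpectrum Q.K)).elim x₀ y) ▸ hx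
      rw [Category.id_comp, Category.id_comp] at hiφ
      have : Epi (Red.DSmap (Spec (CommRingCat.of Q.K)) φ).left := by
        rw [← hiφ]
        have : IsIso i.hom.left := ((CategoryTheory.Over.forget _).mapIso i).isIso_hom
        infer_instance
      have hinj := DSHom.injective_of_epi φ this
      have : Module.Finite ℤ Q.M := Module.Finite.iff_addGroup_fg.mpr Q.fg
      have h := LinearMap.finrank_le_finrank_of_injective (f := φ.toIntLinearMap) hinj
      rwa [Module.finrank_fin_fun] at h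
    exact this.trans hQ
  obtain rfl : r = r' := le_antisymm h2 h1
  exact isIso_of_mono_sameRank (isTorus_split ⟨Iso.refl _⟩) (isTorus_split ⟨e'⟩) g fun s =>
    ⟨r, isSplit_geomFibre ⟨Iso.refl _⟩ s, isSplit_geomFibre ⟨e'⟩ s⟩

end Groth.Agent.DiagRig.MaxSplit
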