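import Groth.Agent.DiagRig.RigidChart
import Groth.Agent.DiagRig.Conj
import Groth.Agent.DiagRig.BCPts
import Groth.Agent.DiagRig.BCLoc
import Groth.Agent.FpqcDesc.Props
import Mathlib.Algebra.MonoidAlgebra.Module
import Mathlib.RingTheory.TensorProduct.Basic

/-! Monomorphisms from groups of multiplicative type into affine groups are closed immersions. -/

universe u

open CategoryTheory MonoidalCategory CartesianMonoidalCategory MonObj GrpObj AlgebraicGeometry Limits
open scoped TensorProduct

noncomputable section

namespace Groth.Agent.DiagRig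

variable {R : CommRingCat.{u}} {G H : Over (Spec R)}

/-- The functions on `G`. -/
abbrev fnAlg (G : Over (Spec R)) : Algebra R Γ(G.left, ⊤) :=
  ((Scheme.ΓSpecIso R).inv ≫ G.hom.appTop).hom.toAlgebra

/-- Evaluation of functions at a point. -/
def fnAt {T : Type u} [CommRing T] [Algebra R T] (x : specOver (R := R) T ⟶ G) : Γ(G.left, ⊤) →+* T :=
  (x.left.appTop ≫ (Scheme.ΓSpecIso (CommRingCat.of T)).hom).hom

lemma fnAt_algebraMap {T : Type u} [CommRing T] [Algebra R T] (x : specOver (R := R) T ⟶ G) (r : R) :
    fnAt x (((Scheme.ΓSpecIso R).inv ≫ G.hom.appTop) r) = algebraMap R T r := by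
  have h : (Scheme.ΓSpecIso R).inv ≫ G.hom.appTop ≫ x.left.appTop ≫ (Scheme.ΓSpecIso (CommRingCat.of T)).hom =
      CommRingCat.ofHom (algebraMap R T) := by
    rw [← Scheme.Hom.comp_appTop_assoc, Over.w x]
    show (Scheme.ΓSpecIso R).inv ≫ (Spec.map (CommRingCat.ofHom (algebraMap R T))).appTop ≫ _ = _
    rw [← Scheme.ΓSpecIso_inv_naturality_assoc, Iso.inv_hom_id, Category.comp_id]
  exact congr($h r)

lemma fnAt_push {T T' : Type u} [CommRing T] [Algebra R T] [CommRing T'] [Algebra R T'] (k : T →ₐ[R] T')
    (x : specOver (R := R) T ⟶ G) : fnAt (push k x) = k.toRingHom.comp (fnAt x) := by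
  have h : (Spec.map (CommRingCat.ofHom k.toRingHom) ≫ x.left).appTop ≫ (Scheme.ΓSpecIso (CommRingCat.of T')).hom =
      (x.left.appTop ≫ (Scheme.ΓSpecIso (CommRingCat.of T)).hom) ≫ CommRingCat.ofHom k.toRingHom := by
    rw [Scheme.Hom.comp_appTop, Category.assoc, Category.assoc, Scheme.ΓSpecIso_naturality]
  exact congrArg CommRingCat.Hom.hom h

lemma fnAt_injective [IsAffine G.left] {T : Type u} [CommRing T] [Algebra R T] {x y : specOver (R := R) T ⟶ G}
    (h : fnAt x = fnAt y) : x = y := by
  ext1
  refine ext_of_isAffine ?_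
  rw [← cancel_mono (Scheme.ΓSpecIso (CommRingCat.of T)).hom]
  exact CommRingCat.hom_ext h

lemma appTop_specMap_isoSpec_inv [IsAffine G.left] {T : CommRingCat.{u}} (f : Γ(G.left, ⊤) ⟶ T) :
    (Spec.map f ≫ G.left.isoSpec.inv).appTop = f ≫ (Scheme.ΓSpecIso T).inv := by
  have h1 : G.left.isoSpec.inv.appTop ≫ G.left.toSpecΓ.appTop = 𝟙 _ := by
    rw [← Scheme.Hom.comp_appTop]
    show (G.left.isoSpec.hom ≫ G.left.isoSpec.inv).appTop = _
    rw [Iso.hom_inv_id, Scheme.Hom.id_appTop]
  have h2 : G.left.isoSpec.inv.appTop = (Scheme.ΓSpecIso Γ(G.left, ⊤)).inv := by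
    rw [Scheme.toSpecΓ_appTop] at h1
    rw [← cancel_mono (Scheme.ΓSpecIso Γ(G.left, ⊤)).hom, h1, Iso.inv_hom_id]
  rw [Scheme.Hom.comp_appTop, h2, Scheme.ΓSpecIso_inv_naturality]

lemma exists_fnAt [IsAffine G.left] {T : Type u} [CommRing T] [Algebra R T] (f : Γ(G.left, ⊤) →+* T)
    (hf : ∀ r, f (((Scheme.ΓSpecIso R).inv ≫ G.hom.appTop) r) = algebraMap R T r) :
    ∃ x : specOver (R := R) T ⟶ G, fnAt x = f := by
  refine ⟨Over.homMk (Spec.map (CommRingCat.ofHom f) ≫ G.left.isoSpec.inv) ?_, ?_⟩
  · show (_ ≫ G.left.isoSpec.inv) ≫ G.hom = Spec.map (CommRingCat.ofHom (algebraMap R T))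
    refine ext_to_Spec (R := R) ?_
    show (Scheme.ΓSpecIso R).inv ≫ ((Spec.map (CommRingCat.ofHom f) ≫ G.left.isoSpec.inv) ≫ G.hom).appTop =
      (Scheme.ΓSpecIso R).inv ≫ (Spec.map (CommRingCat.ofHom (algebraMap R T))).appTop
    rw [Scheme.Hom.comp_appTop, appTop_specMap_isoSpec_inv, ← Scheme.ΓSpecIso_inv_naturality,
      show CommRingCat.ofHom (algebraMap R T) = ((Scheme.ΓSpecIso R).inv ≫ G.hom.appTop) ≫ CommRingCat.ofHom f from
        CommRingCat.hom_ext (RingHom.ext fun r => (hf r).symm)]
    simp only [Category.assoc]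
  · have h : (Spec.map (CommRingCat.ofHom f) ≫ G.left.isoSpec.inv).appTop ≫ (Scheme.ΓSpecIso (CommRingCat.of T)).hom =
        CommRingCat.ofHom f := by
      rw [appTop_specMap_isoSpec_inv, Category.assoc, Iso.inv_hom_id, Category.comp_id]
    exact congrArg CommRingCat.Hom.hom h

variable [GrpObj G] [GrpObj H] {M : Type} [AddCommGroup M] (u : H ⟶ G) [IsMonHom u]
  (P : SplitPts (specP R R) H M)

/-- The chart statement: the functions on `G` surject onto the monoid algebra. -/
theorem fnAt_zP_surjective [IsAffine G.left] [Mono u] (hP : P.Inj) :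
    Function.Surjective (fnAt (zP P ≫ u)) := by
  classical
  let A := MonoidAlgebra R (Multiplicative M)
  let f : Γ(G.left, ⊤) →+* A := fnAt (zP P ≫ u)
  let C : Subalgebra R A :=
    { f.range.toSubsemiring with algebraMap_mem' := fun r => ⟨_, fnAt_algebraMap (zP P ≫ u) r⟩ }
  suffices key : ∀ m : Multiplicative M, MonoidAlgebra.single m (1 : R) ∈ C by
    intro a
    suffices a ∈ C from this
    induction a using MonoidAlgebra.induction_linear with
    | zero => exact zero_mem _
    | add a b ha hb => exact add_mem ha hb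
    | single m r =>
      have := C.smul_mem (key m) r
      rwa [MonoidAlgebra.smul_single, smul_eq_mul, _root_.mul_one] at this
  obtain ⟨xC, hxC⟩ := exists_fnAt (G := G) (T := C) (f.codRestrict C.toSubsemiring fun b => ⟨b, rfl⟩) fun r =>
    Subtype.ext (fnAt_algebraMap (zP P ≫ u) r)
  have hxC' : push C.val xC = zP P ≫ u := fnAt_injective (by rw [fnAt_push, hxC]; rfl)
  have hgp : ∀ (T : Type u) [CommRing T] [Algebra R T] (t : Multiplicative M →* T),
      gP P t ≫ u = push (MonoidAlgebra.lift R T (Multiplicative M) t) (zP P ≫ u) := by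
    intro T _ _ t
    rw [push_comp, zP,
      show push (MonoidAlgebra.lift R T (Multiplicative M) t) (gP P (MonoidAlgebra.of R (Multiplicative M))) =
        gP P ((MonoidAlgebra.lift R T (Multiplicative M) t).toRingHom.toMonoidHom.comp
          (MonoidAlgebra.of R (Multiplicative M))) from push_gP P (MonoidAlgebra.lift R T (Multiplicative M) t) _]
    congr 2
    ext m
    simp
  have hval : ∀ (T : Type u) [CommRing T] [Algebra R T] (t : Multiplicative M →* T),
      gP P t ≫ u = push ((MonoidAlgebra.lift R T (Multiplicative M) t).comp C.val) xC := fun T _ _ t => by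
    rw [hgp, ← hxC', push_push]
  have hone : ∀ (T : Type u) [CommRing T] [Algebra R T], gP P (1 : Multiplicative M →* T) = 1 := fun T _ _ => by
    have h := gP_mul P (1 : Multiplicative M →* T) 1
    rw [_root_.mul_one] at h
    exact mul_eq_left.mp h.symm
  -- stability under inversion
  have hinv : ∀ z ∈ C, MonoidAlgebra.lift R A (Multiplicative M)
      ((MonoidAlgebra.of R (Multiplicative M)).comp (invMonoidHom)) z ∈ C := by
    rintro _ ⟨b, rfl⟩
    let ti := (MonoidAlgebra.of R (Multiplicative M)).comp (invMonoidHom (α := Multiplicative M))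
    have h1 : gP P ti ≫ u = (zP P ≫ u)⁻¹ := by
      refine eq_inv_of_mul_eq_one_left ?_
      rw [zP, ← MonObj.mul_comp, ← gP_mul, show ti * MonoidAlgebra.of R (Multiplicative M) = 1 by
        ext m; simp [ti, MonoidAlgebra.single_mul_single, MonoidAlgebra.one_def], hone, MonObj.one_comp]
    rw [hgp, ← hxC', ← push_inv] at h1
    have h2 := congrArg fnAt h1
    rw [fnAt_push, fnAt_push, fnAt_push] at h2
    have h3 := DFunLike.congr_fun h2 b
    rw [hxC] at h3
    exact h3 ▸ (fnAt xC⁻¹ b).2
  -- grading
  have hgr : ∀ z ∈ C, ∀ m : Multiplicative M, MonoidAlgebra.single m (z.coeff m) ∈ C := by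
    rintro _ ⟨b, rfl⟩ m
    let MM := Multiplicative M
    let A₂ := MonoidAlgebra R (MM × MM)
    let il : C →ₐ[R] A₂ := (MonoidAlgebra.mapDomainAlgHom R R (MonoidHom.inl MM MM)).comp C.val
    let ir : C →ₐ[R] A₂ := (MonoidAlgebra.mapDomainAlgHom R R (MonoidHom.inr MM MM)).comp C.val
    let μ₂ : C ⊗[R] C →ₐ[R] A₂ := Algebra.TensorProduct.productMap il ir
    let y : specOver (R := R) (C ⊗[R] C) ⟶ G :=
      push Algebra.TensorProduct.includeLeft xC * push Algebra.TensorProduct.includeRight xC
    let d : MM →* A₂ := (MonoidAlgebra.of R (MM × MM)).comp ((MonoidHom.id MM).prod (MonoidHom.id MM))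
    let tl : MM →* A₂ := (MonoidAlgebra.of R (MM × MM)).comp (MonoidHom.inl MM MM)
    let tr : MM →* A₂ := (MonoidAlgebra.of R (MM × MM)).comp (MonoidHom.inr MM MM)
    have hlift : ∀ ψ : MM →* MM × MM, MonoidAlgebra.lift R A₂ MM ((MonoidAlgebra.of R (MM × MM)).comp ψ) =
        MonoidAlgebra.mapDomainAlgHom R R ψ := fun ψ => by
      apply MonoidAlgebra.algHom_ext
      · intro x; simp only [MonoidAlgebra.lift_single, MonoidHom.comp_apply, MonoidAlgebra.of_apply, one_smul]; exact (MonoidAlgebra.mapDomain_single).symm
      · exact Subsingleton.elim _ _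
    have h1 : push μ₂ y = push (MonoidAlgebra.lift R A₂ MM d) (zP P ≫ u) := by
      rw [push_mul, push_push, push_push, Algebra.TensorProduct.productMap_left,
        ← hgp, show d = tl * tr from MonoidHom.ext fun x => by simp [d, tl, tr, MonoidAlgebra.single_mul_single], gP_mul,
        MonObj.mul_comp, hval, hval, hlift, hlift]
      congr 2
      exact AlgHom.ext fun c => Algebra.TensorProduct.productMap_right_apply il ir c
    have h2 := DFunLike.congr_fun (congrArg fnAt h1) b
    rw [fnAt_push, fnAt_push, hlift] at h2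
    let ρ : A₂ →ₗ[R] A := (Finsupp.linearCombination R
      (fun p : MM × MM => if p.2 = m then MonoidAlgebra.single p.1 (1 : R) else 0)).comp
      (MonoidAlgebra.coeffLinearEquiv R).toLinearMap
    have hρs : ∀ (p : MM × MM) (r : R), ρ (MonoidAlgebra.single p r) =
        if p.2 = m then MonoidAlgebra.single p.1 r else 0 := by
      intro p r
      show Finsupp.linearCombination R _ (MonoidAlgebra.single p r).coeff = _
      rw [MonoidAlgebra.coeff_single, Finsupp.linearCombination_single]
      split_ifs with h
      · rw [MonoidAlgebra.smul_single, smul_eq_mul, _root_.mul_one]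
      · rw [smul_zero]
    have hρ : ∀ w : C ⊗[R] C, ρ (μ₂ w) ∈ C := by
      intro w
      induction w using TensorProduct.induction_on with
      | zero => simp only [map_zero]; exact zero_mem _
      | add a b ha hb => simp only [map_add]; exact add_mem ha hb
      | tmul c c' =>
        have e : ρ (μ₂ (c ⊗ₜ[R] c')) = c'.1.coeff m • c.1 := by
          rw [Algebra.TensorProduct.productMap_apply_tmul]
          show ρ (MonoidAlgebra.mapDomainAlgHom R R (MonoidHom.inl MM MM) c.1 *
            MonoidAlgebra.mapDomainAlgHom R R (MonoidHom.inr MM MM) c'.1) = _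
          generalize c.1 = a
          generalize c'.1 = a'
          induction a using MonoidAlgebra.induction_linear with
          | zero => simp
          | add p q hp hq => simp only [map_add, add_mul, hp, hq, smul_add]
          | single x r =>
            induction a' using MonoidAlgebra.induction_linear with
            | zero => simp
            | add p q hp hq =>
              simp only [map_add, mul_add, hp, hq, MonoidAlgebra.coeff_add, Finsupp.add_apply, add_smul]
            | single x' r' =>
              simp only [MonoidAlgebra.mapDomainAlgHom_apply, MonoidAlgebra.mapDomain_single,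
                MonoidAlgebra.single_mul_single, hρs]
              simp [Finsupp.single_apply, ite_smul, mul_comm]
              split_ifs
              · rw [MonoidAlgebra.smul_single, smul_eq_mul, mul_comm]
              · rfl
        rw [e]
        exact C.smul_mem c.2 _
    have hd : ∀ a : A, ρ (MonoidAlgebra.mapDomainAlgHom R R ((MonoidHom.id MM).prod (MonoidHom.id MM)) a) =
        MonoidAlgebra.single m (a.coeff m) := by
      intro a
      induction a using MonoidAlgebra.induction_linear with
      | zero => simp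
      | add p q hp hq => rw [map_add, map_add, hp, hq, MonoidAlgebra.coeff_add, Finsupp.add_apply, MonoidAlgebra.single_add]
      | single x r =>
        rw [MonoidAlgebra.mapDomainAlgHom_apply, MonoidAlgebra.mapDomain_single, hρs]
        by_cases hx : x = m
        · subst hx; simp
        · simp [hx]
    rw [← hd]
    show ρ ((MonoidAlgebra.mapDomainAlgHom R R _).toRingHom.comp (fnAt (zP P ≫ u)) b) ∈ C
    rw [← h2]
    exact hρ _
  intro m
  let I : Ideal R :=
    { carrier := {r | MonoidAlgebra.single m r ∈ C}
      add_mem' := fun {a b} ha hb => by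
        show MonoidAlgebra.single m (a + b) ∈ C
        rw [MonoidAlgebra.single_add]; exact add_mem ha hb
      zero_mem' := by show MonoidAlgebra.single m (0 : R) ∈ C; rw [MonoidAlgebra.single_zero]; exact zero_mem _
      smul_mem' := fun a b hb => by
        show MonoidAlgebra.single m (a • b) ∈ C
        rw [← MonoidAlgebra.smul_single]; exact C.smul_mem hb a }
  suffices hI : I = ⊤ by
    have h1 : (1 : R) ∈ I := by rw [hI]; trivial
    exact h1
  by_contra hI
  obtain ⟨p, hp, hIp⟩ := Ideal.exists_le_maximal I hI
  have := hp.isPrime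
  let N : Subgroup (Multiplicative M) :=
    { carrier := {n | ∃ r ∉ p, MonoidAlgebra.single n r ∈ C}
      mul_mem' := fun {a b} ⟨r, hr, ha⟩ ⟨r', hr', hb⟩ => ⟨r * r',
        fun h => (hp.isPrime.mem_or_mem h).elim hr hr', by
          rw [← MonoidAlgebra.single_mul_single]; exact mul_mem ha hb⟩
      one_mem' := ⟨1, fun h => hp.ne_top ((Ideal.eq_top_iff_one p).mpr h), by
        rw [← MonoidAlgebra.one_def]; exact one_mem _⟩
      inv_mem' := fun {a} ⟨r, hr, ha⟩ => ⟨r, hr, by
        have := hinv _ ha
        rw [MonoidAlgebra.lift_single] at this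
        show MonoidAlgebra.single a⁻¹ r ∈ C
        convert this using 1
        show _ = r • MonoidAlgebra.single a⁻¹ (1 : R)
        rw [MonoidAlgebra.smul_single, smul_eq_mul, _root_.mul_one]⟩ }
  have hmN : m ∉ N := fun hh => Exists.elim hh fun r h => h.1 (hIp h.2)
  let k := p.ResidueField
  let T := MonoidAlgebra k (Multiplicative M ⧸ N)
  let t : Multiplicative M →* T := (MonoidAlgebra.of k (Multiplicative M ⧸ N)).comp (QuotientGroup.mk' N)
  have h : ∀ z ∈ C, MonoidAlgebra.lift R T (Multiplicative M) t z = MonoidAlgebra.lift R T (Multiplicative M) 1 z := by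
    intro z hz
    rw [MonoidAlgebra.lift_apply, MonoidAlgebra.lift_apply]
    refine Finset.sum_congr rfl fun n _ => ?_
    show z.coeff n • t n = z.coeff n • (1 : Multiplicative M →* T) n
    by_cases hn : n ∈ N
    · rw [show t n = 1 by simp [t, (QuotientGroup.eq_one_iff n).mpr hn]; rfl, MonoidHom.one_apply]
    · have hc : z.coeff n ∈ p := by
        by_contra hc
        exact hn ⟨_, hc, hgr z hz n⟩
      rw [Algebra.smul_def, Algebra.smul_def, IsScalarTower.algebraMap_apply R k T,
        Ideal.algebraMap_residueField_eq_zero.mpr hc, map_zero, zero_mul, zero_mul]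
  have h1 : gP P t ≫ u = gP P (1 : Multiplicative M →* T) ≫ u := by
    rw [hgp, hgp]
    apply fnAt_injective
    rw [fnAt_push, fnAt_push]
    refine RingHom.ext fun b => ?_
    exact h (f b) ⟨b, rfl⟩
  have h2 := DFunLike.congr_fun (gP_injective P hP ((cancel_mono u).mp h1)) m
  refine hmN ((QuotientGroup.eq_one_iff m).mp ?_)
  exact MonoidAlgebra.single_left_injective (one_ne_zero (α := k)) (h2.trans MonoidAlgebra.one_def)

/-- In a split chart a monomorphism into an affine group is a closed immersion. -/
theorem isClosedImmersion_chart [IsAffine G.left] [Mono u] (hP : P.Inj) : IsClosedImmersion u.left := by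
  have hf := fnAt_zP_surjective u P hP
  have h0 : (zP P).left ≫ u.left =
      Spec.map (CommRingCat.ofHom (fnAt (zP P ≫ u))) ≫ G.left.isoSpec.inv := by
    refine ext_of_isAffine ?_
    rw [← cancel_mono (Scheme.ΓSpecIso (CommRingCat.of (MonoidAlgebra R (Multiplicative M)))).hom]
    have e : (Spec.map (CommRingCat.ofHom (fnAt (zP P ≫ u))) ≫ G.left.isoSpec.inv).appTop ≫
        (Scheme.ΓSpecIso (CommRingCat.of (MonoidAlgebra R (Multiplicative M)))).hom = CommRingCat.ofHom (fnAt (zP P ≫ u)) := by
      rw [appTop_specMap_isoSpec_inv, Category.assoc, Iso.inv_hom_id, Category.comp_id]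
    rw [e]
    rfl
  have hci : IsClosedImmersion ((zP P).left ≫ u.left) := by
    rw [h0]
    have : IsClosedImmersion (Spec.map (CommRingCat.ofHom (fnAt (zP P ≫ u)))) :=
      IsClosedImmersion.spec_of_surjective _ hf
    infer_instance
  have : Mono (zP P).left := mono_of_mono (zP P).left u.left
  let Y : Over (Spec (CommRingCat.of R)) := Over.mk (H.hom ≫ 𝟙 _)
  let e : (Over.map (specP R R)).obj Y ≅ H := Over.isoMk (Iso.refl _) (by
    show 𝟙 _ ≫ H.hom = (H.hom ≫ 𝟙 _) ≫ Spec.map _
    rw [show CommRingCat.ofHom (algebraMap R R) = 𝟙 R from rfl, Spec.map_id, Category.id_comp]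
    exact (Category.comp_id _).symm.trans (Category.comp_id _).symm)
  obtain ⟨t₀, ht₀⟩ := P.σ_surjective e.hom
  obtain ⟨k, hk, -⟩ := exists_uPt P t₀
  have hk' : k.left ≫ (zP P).left = 𝟙 _ := by
    rw [ht₀] at hk
    have := congrArg CommaMorphism.left hk
    show k.left ≫ (𝟙 _ ≫ (gPt _ P _).left) = _
    rw [Category.id_comp]
    exact this
  have : IsSplitEpi (zP P).left := ⟨⟨k.left, hk'⟩⟩
  have : IsIso (zP P).left := isIso_of_mono_of_isSplitEpi _
  exact (MorphismProperty.cancel_left_of_respectsIso (P := @IsClosedImmersion) (zP P).left u.left).mp hci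

set_option backward.isDefEq.respectTransparency.types false in
/-- Over an affine base. -/
theorem isClosedImmersion_affine [IsAffineHom G.hom] [Mono u] (hH : SplitLoc H) : IsClosedImmersion u.left := by
  classical
  obtain ⟨κ, _, T, _, _, hflat, hsurj, hc⟩ := hH.exists_charts
  let π : (∐ fun k => Spec (CommRingCat.of (T k))) ⟶ Spec R := Sigma.desc fun k => specP R (T k)
  let p₁ : pullback G.hom π ⟶ G.left := pullback.fst _ _
  have hchart : ∀ k, IsClosedImmersion ((Over.pullback (specP R (T k))).map u).left := by
    intro k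
    obtain ⟨M, _, P, hP⟩ := hc k
    let q := specP R (T k)
    let T' : CommRingCat.{u} := CommRingCat.of (T k)
    obtain ⟨Q, hQ⟩ := (P.bc q (𝟙 _) (𝟙 _) rfl).exists_restrict
      (SplitPts.Inj.bc hP q (𝟙 _) (𝟙 _) rfl) (specP T' T') _ (Category.comp_id _)
    have := isMonHom_bcMap q u
    have : IsAffineHom (pullback.snd G.hom q) := MorphismProperty.pullback_snd _ _ inferInstance
    have : IsAffine (Red.bc q G).left := isAffine_of_isAffineHom (pullback.snd G.hom q)
    have : Mono ((Over.pullback q).map u) := inferInstance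
    exact isClosedImmersion_chart (R := T') ((Over.pullback q).map u) Q hQ
  let bk : ∀ k, pullback G.hom (specP R (T k)) ⟶ G.left := fun k => pullback.fst _ _
  have hflatb : ∀ k, Flat (bk k) := fun k => inferInstanceAs (Flat (pullback.fst G.hom (specP R (T k))))
  let piG : (∐ fun k => pullback G.hom (specP R (T k))) ⟶ G.left := Sigma.desc bk
  have hιb : ∀ k, Sigma.ι (fun k => pullback G.hom (specP R (T k))) k ≫ piG = bk k := fun k => Sigma.ι_desc _ k
  have : Flat piG := (IsZariskiLocalAtSource.iff_of_openCover (P := @Flat) (sigmaOpenCover _)).mpr fun k => by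
    show Flat (Sigma.ι (fun k => pullback G.hom (specP R (T k))) k ≫ piG)
    rw [hιb]
    infer_instance
  have : Surjective piG := ⟨fun x => by
    obtain ⟨k, z, hz⟩ := hsurj (G.hom.base x)
    obtain ⟨w, hw, -⟩ := Scheme.Pullback.exists_preimage_pullback x z hz.symm
    exact ⟨(Sigma.ι (fun k => pullback G.hom (specP R (T k))) k).base w, by
      rw [← Scheme.Hom.comp_apply, hιb, hw]⟩⟩
  have : IsAffine G.left := isAffine_of_isAffineHom G.hom
  have : ∀ k, IsAffine (pullback G.hom (specP R (T k))) := fun k => inferInstance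
  have : CompactSpace (∐ fun k => pullback G.hom (specP R (T k)) : Scheme.{u}) := (sigmaMk _).compactSpace
  have : QuasiCompact piG := inferInstance
  haveI := Groth.Agent.FpqcDesc.descendsAlong_isClosedImmersion.{u}
  refine MorphismProperty.of_pullback_fst_of_descendsAlong (P := @IsClosedImmersion)
    (Q := @Surjective ⊓ @Flat ⊓ @QuasiCompact) (f := piG) ⟨⟨inferInstance, inferInstance⟩, inferInstance⟩ ?_
  refine IsZariskiLocalAtTarget.of_openCover (P := @IsClosedImmersion) (sigmaOpenCover _) fun (k : κ) => ?_
  show IsClosedImmersion (pullback.snd (pullback.fst piG u.left) (Sigma.ι (fun k => pullback G.hom (specP R (T k))) k))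
  let q := specP R (T k)
  have sq : IsPullback (pullback.fst H.hom q) ((Over.pullback q).map u).left u.left (pullback.fst G.hom q) := by
    refine IsPullback.of_bot ?_ ?_ (IsPullback.of_hasPullback G.hom q)
    · have h1 : ((Over.pullback q).map u).left ≫ pullback.snd G.hom q = pullback.snd H.hom q :=
        Over.w ((Over.pullback q).map u)
      rw [h1, Over.w u]
      exact IsPullback.of_hasPullback H.hom q
    · simp only [Over.pullback, Over.homMk_left]; exact (pullback.lift_fst _ _ _).symm
  have e : pullback.snd u.left (bk k) = sq.flip.flip.isoPullback.inv ≫ ((Over.pullback q).map u).left :=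
    sq.isoPullback_inv_snd.symm
  have h2 : IsClosedImmersion (pullback.snd u.left (bk k)) := by
    rw [e]
    have := hchart k
    infer_instance
  have h3 : IsPullback (pullback.snd (pullback.fst piG u.left) (Sigma.ι _ k)) (pullback.fst _ _ ≫ pullback.snd piG u.left)
      (bk k) u.left := by
    rw [← hιb k]
    exact ((IsPullback.of_hasPullback (pullback.fst piG u.left) (Sigma.ι _ k)).paste_horiz
      (IsPullback.of_hasPullback piG u.left).flip).flip
  rw [← h3.flip.isoPullback_hom_snd]
  infer_instance

end Groth.Agent.DiagRig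

namespace Groth.Agent.DiagRig

variable {S : Scheme.{u}}

set_option backward.isDefEq.respectTransparency.types false in
/-- A monomorphism from an fpqc-locally diagonalisable group into an affine group is a closed immersion. -/
theorem isClosedImmersion_of_mono {H G : Over S} [GrpObj H] [GrpObj G] (u : H ⟶ G) [IsMonHom u] [Mono u]
    [IsAffineHom G.hom] (hH : SplitFpqc H) : IsClosedImmersion u.left := by
  refine IsZariskiLocalAtTarget.of_openCover (P := @IsClosedImmersion) (S.affineOpenCover.openCover.pullback₁ G.hom) fun (i : S.affineOpenCover.I₀) => ?_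
  show IsClosedImmersion (pullback.snd u.left (pullback.fst G.hom (S.affineOpenCover.f i)))
  let b : Spec (S.affineOpenCover.X i) ⟶ S := S.affineOpenCover.f i
  have sq : IsPullback (pullback.fst H.hom b) ((Over.pullback b).map u).left u.left (pullback.fst G.hom b) := by
    refine IsPullback.of_bot ?_ ?_ (IsPullback.of_hasPullback G.hom b)
    · have h1 : ((Over.pullback b).map u).left ≫ pullback.snd G.hom b = pullback.snd H.hom b :=
        Over.w ((Over.pullback b).map u)
      rw [h1, Over.w u]
      exact IsPullback.of_hasPullback H.hom b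
    · simp only [Over.pullback, Over.homMk_left]; exact (pullback.lift_fst _ _ _).symm
  have := isMonHom_bcMap b u
  have : IsAffineHom (pullback.snd G.hom b) := MorphismProperty.pullback_snd _ _ inferInstance
  have : IsAffineHom (Red.bc b G).hom := this
  have : Mono ((Over.pullback b).map u) := inferInstance
  let bu : Red.bc b H ⟶ Red.bc b G := (Over.pullback b).map u
  have : IsMonHom bu := isMonHom_bcMap b u
  have : Mono bu := inferInstanceAs (Mono ((Over.pullback b).map u))
  have hbu : IsClosedImmersion bu.left := isClosedImmersion_affine bu (splitLoc_bc hH b)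
  rw [← sq.isoPullback_inv_snd]
  exact MorphismProperty.comp_mem _ sq.isoPullback.inv _ inferInstance hbu

end Groth.Agent.DiagRig
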