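import Groth.Agent.DiagRig.TorsionPts
import Groth.Agent.DiagRig.TrivialLocus
import Groth.Agent.DiagRig.MultBC
import Groth.Agent.GrpScheme.HomFlat

/-!
# Finite smooth groups of multiplicative type are killed, locally, by invertible integers
-/

universe u

open CategoryTheory MonoidalCategory CartesianMonoidalCategory MonObj GrpObj AlgebraicGeometry Limits

noncomputable section

namespace Groth.Agent.DiagRig

set_option linter.style.haveILetI false

lemma finite_and_isUnit_card (K : Type u) [Field K] (M : Type*) [CommGroup M]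
    [Module.Finite K (MonoidAlgebra K M)] [IsReduced (MonoidAlgebra K M)] :
    Finite M ∧ (Nat.card M : K) ≠ 0 := by
  have hfin : Finite M :=
    Module.Finite.finite_basis (R := K) (M := MonoidAlgebra K M)
      ((Finsupp.basisSingleOne : Module.Basis M K (M →₀ K)).map (MonoidAlgebra.coeffLinearEquiv K).symm)
  refine ⟨hfin, fun h0 => ?_⟩
  obtain ⟨p, hp⟩ := CharP.exists K
  have hpdvd : p ∣ Nat.card M := (CharP.cast_eq_zero_iff K p _).mp h0
  rcases CharP.char_is_prime_or_zero K p with hprime | rfl
  · have : Fact p.Prime := ⟨hprime⟩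
    haveI : Fintype M := Fintype.ofFinite M
    obtain ⟨g, hg⟩ := exists_prime_orderOf_dvd_card' p hpdvd
    haveI : CharP (MonoidAlgebra K M) p := charP_of_injective_algebraMap (algebraMap K (MonoidAlgebra K M)).injective p
    have e : (MonoidAlgebra.single g (1 : K) - 1) ^ p = 0 := by
      rw [sub_pow_char, MonoidAlgebra.single_pow, one_pow, one_pow, ← hg, pow_orderOf_eq_one,
        ← MonoidAlgebra.one_def, sub_self]
    have e' := sub_eq_zero.mp (IsReduced.eq_zero _ ⟨p, e⟩)
    rw [MonoidAlgebra.one_def] at e'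
    have : g = 1 := (MonoidAlgebra.single_left_inj (one_ne_zero (α := K))).mp e'
    rw [this, orderOf_one] at hg
    exact hprime.one_lt.ne hg
  · exact Nat.card_pos.ne' (Nat.eq_zero_of_zero_dvd hpdvd)

set_option backward.isDefEq.respectTransparency.types false in
/-- Points over a chart are killed by the order of the character group. -/
lemma pow_card_eq_one {S U : Scheme.{u}} {p : U ⟶ S} {H : Over S} [GrpObj H] {M : Type} [AddCommGroup M]
    (P : SplitPts p H M) {Y : Over U} (g : (Over.map p).obj Y ⟶ H) : g ^ Nat.card M = 1 := by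
  obtain ⟨t, rfl⟩ := P.σ_surjective g
  have hpow : ∀ m : ℕ, P.σ (t ^ m) = P.σ t ^ m := fun m => by
    induction m with
    | zero => rw [pow_zero, pow_zero, P.σ_one]
    | succ m ih => rw [pow_succ, pow_succ, P.σ_mul, ih]
  have h1 : t ^ Nat.card M = 1 := MonoidHom.ext fun m => by
    show t m ^ Nat.card M = 1
    rw [← map_pow, show m ^ Nat.card M = 1 from by
      rw [show Nat.card M = Nat.card (Multiplicative M) from rfl]; exact pow_card_eq_one', map_one]
  rw [← hpow, h1, P.σ_one]

variable {S : Scheme.{u}}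

set_option backward.isDefEq.respectTransparency.types false in
/-- A finite smooth group of multiplicative type is killed on each fibre by an invertible integer. -/
lemma exists_fibre_exponent (H : Over S) [GrpObj H] [Smooth H.hom] [IsFinite H.hom] (hH : SGA3x.IsMultTypeFT H)
    (s : S) : ∃ n : ℕ, (n : S.residueField s) ≠ 0 ∧
      ∀ (Y : Over S) (g : Y ⟶ H) (z : Y.left ⟶ Spec (S.residueField s)),
        z ≫ S.fromSpecResidueField s = Y.hom → g ^ n = 1 := by
  classical
  obtain ⟨S', f, hf, hsurj, -, hloc⟩ := hH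
  obtain ⟨s', rfl⟩ := hsurj.surj s
  obtain ⟨U, hU, M, inst, -, ⟨e⟩⟩ := hloc s'
  let K : CommRingCat.{u} := S'.residueField s'
  let t : Spec K ⟶ Spec (S.residueField (f.base s')) := Spec.map (f.residueFieldMap s')
  let w : Spec K ⟶ (U : Scheme.{u}) := IsOpenImmersion.lift U.ι (S'.fromSpecResidueField s') (by
    rw [Scheme.range_fromSpecResidueField, Scheme.Opens.range_ι, Set.singleton_subset_iff]; exact hU)
  have hw : w ≫ U.ι ≫ f = t ≫ S.fromSpecResidueField (f.base s') := by
    rw [IsOpenImmersion.lift_fac_assoc]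
    exact (Scheme.Hom.SpecMap_residueFieldMap_fromSpecResidueField f s').symm
  let p : Spec K ⟶ S := w ≫ U.ι ≫ f
  let P := (SplitPts.ofIso _ e).restrict w
  have hP : P.Inj := SplitPts.Inj.restrict (SplitPts.ofIso_inj e) w
  obtain ⟨a⟩ := exists_grpIso_of_splitPts P hP
  obtain ⟨b⟩ := exists_grpIso_of_splitPts (SplitPts.diag (K : Type u) M) (SplitPts.diag_inj (K : Type u) M)
  let c : Red.bc p H ≅ Red.bc (𝟙 (Spec K)) (Red.diag (K : Type u) M) := (Grp.forget _).mapIso (a ≪≫ b.symm)
  have hcl : IsIso c.hom.left := ((Over.forget _).mapIso c).isIso_hom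
  have hdiag : (Red.diag (K : Type u) M).hom =
      inv (pullback.fst (Red.diag (K : Type u) M).hom (𝟙 (Spec K))) ≫ c.inv.left ≫ (Red.bc p H).hom := by
    rw [IsIso.eq_inv_comp, Over.w c.inv, pullback.condition, Category.comp_id]
    rfl
  have : IsIso c.inv.left := ((Over.forget _).mapIso c).isIso_inv
  have : Smooth (Red.bc p H).hom := MorphismProperty.pullback_snd (P := @Smooth) H.hom p inferInstance
  have : IsFinite (Red.bc p H).hom := MorphismProperty.pullback_snd (P := @IsFinite) H.hom p inferInstance
  have hsm : Smooth (Red.diag (K : Type u) M).hom := by rw [hdiag]; infer_instance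
  have hfi : IsFinite (Red.diag (K : Type u) M).hom := by rw [hdiag]; infer_instance
  let A := MonoidAlgebra (K : Type u) (Multiplicative M)
  have hfin : Module.Finite (K : Type u) A := RingHom.finite_algebraMap.mp ((IsFinite.SpecMap_iff _).mp hfi)
  have : AlgebraicGeometry.IsReduced (Red.diag (K : Type u) M).left :=
    Groth.Agent.GrpScheme.HomFlat.isReduced_of_smooth (Red.diag (K : Type u) M).hom
  have : AlgebraicGeometry.IsReduced (Spec (CommRingCat.of A)) := this
  have hred : _root_.IsReduced A :=
    isReduced_of_injective (Scheme.ΓSpecIso (CommRingCat.of A)).inv.hom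
      (Scheme.ΓSpecIso (CommRingCat.of A)).symm.commRingCatIsoToRingEquiv.injective
  obtain ⟨-, hcard⟩ := finite_and_isUnit_card (K : Type u) (Multiplicative M)
  refine ⟨Nat.card M, fun h0 => hcard ?_, fun Y g z hz => ?_⟩
  · rw [show Nat.card (Multiplicative M) = Nat.card M from rfl, ← map_natCast (f.residueFieldMap s').hom, h0,
      map_zero]
  · have : Flat t := HasRingHomProperty.Spec_iff.mpr (by
      letI := (f.residueFieldMap s').hom.toAlgebra
      exact RingHom.flat_algebraMap_iff.mpr inferInstance)
    have : Surjective t := ⟨fun x => ⟨IsLocalRing.closedPoint K, Subsingleton.elim (α := PrimeSpectrum (S.residueField (f.base s'))) _ _⟩⟩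
    let q := pullback.fst z t
    have : Epi q := Flat.epi_of_flat_of_surjective q
    let l : Over.mk (q ≫ Y.hom) ⟶ Y := Over.homMk q
    suffices h : (l ≫ g) ^ Nat.card M = 1 by
      ext1
      rw [← cancel_epi q]
      rw [← MonObj.comp_pow] at h
      have h' := congrArg CommaMorphism.left h
      rw [← MonObj.comp_one (f := l)] at h'
      exact h'
    let i : Over.mk (q ≫ Y.hom) ≅ (Over.map (U.ι ≫ f)).obj (Over.mk (pullback.snd z t ≫ w)) :=
      Over.isoMk (Iso.refl _) (by
        show 𝟙 _ ≫ (pullback.snd z t ≫ w) ≫ U.ι ≫ f = q ≫ Y.hom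
        rw [Category.id_comp, Category.assoc, hw, ← pullback.condition_assoc, hz])
    rw [← cancel_epi i.inv, MonObj.comp_pow, MonObj.comp_one]
    exact pow_card_eq_one (SplitPts.ofIso _ e) _

set_option backward.isDefEq.respectTransparency.types false in
/-- **A finite smooth group of multiplicative type is locally killed by invertible integers.** -/
theorem locTors_id (H : Over S) [GrpObj H] [Smooth H.hom] [IsFinite H.hom] (hH : SGA3x.IsMultTypeFT H) :
    LocTors (𝟙 H) := by
  intro z
  let s := H.hom.base z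
  obtain ⟨n, hn, hker⟩ := exists_fibre_exponent H hH s
  let u : H ⟶ H := (𝟙 H) ^ n
  have hu : ∀ {Y : Over S} (g : Y ⟶ H), g ≫ u = g ^ n := fun g => by
    rw [MonObj.comp_pow, Category.comp_id]
  have : IsMonHom u := isMonHom_of_pts u fun Y x y => by
    rw [hu, hu, hu]
    exact (show Commute x y from mul_comm_of_splitFpqc (splitFpqc_of_multTypeFT H hH) x y).mul_pow n
  obtain ⟨W, -, hW, hpts⟩ := trivial_locus (u := u) hH (Or.inr (multType_locallyOfFinitePresentation H hH))
  have hsW : s ∈ W := (hW s).mpr fun Y g z' hz' => by rw [hu]; exact hker Y g z' hz'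
  obtain ⟨N, hsN, hN⟩ : ∃ N : S.Opens, s ∈ N ∧ ∀ x ∈ N, (n : S.residueField x) ≠ 0 := by
    refine ⟨S.basicOpen (n : Γ(S, ⊤)), ?_, fun x hx h0 => ?_⟩
    · rw [Scheme.mem_basicOpen_top]
      by_contra hnu
      refine hn ((map_natCast (S.residue s).hom n).symm.trans ((IsLocalRing.residue_eq_zero_iff _).mpr ?_))
      rw [IsLocalRing.mem_maximalIdeal, mem_nonunits_iff]
      simpa using hnu
    · rw [Scheme.mem_basicOpen_top, map_natCast] at hx
      have := hx.map (S.residue x).hom
      rw [map_natCast, h0] at this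
      exact not_isUnit_zero this
  let V : H.left.Opens := H.hom ⁻¹ᵁ (W ⊓ N)
  refine ⟨V, n, ⟨hsW, hsN⟩, fun x h0 => ?_, ?_⟩
  · refine hN _ (show H.hom.base (V.ι.base x) ∈ N from x.2.2) ?_
    have := (((V.ι ≫ H.hom)).residueFieldMap x).hom.injective
    exact this (((map_natCast _ n).trans h0).trans (map_zero _).symm)
  · rw [Category.comp_id, ← hu]
    refine hpts _ _ ?_
    rintro _ ⟨x, rfl⟩
    exact x.2.1

end Groth.Agent.DiagRig
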