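import Groth.Agent.DiagRig.DSQuot
import Groth.Agent.DiagRig.MultBC

/-!
# The character map at a point of a homomorphism out of a split group
-/

universe u

open CategoryTheory MonoidalCategory CartesianMonoidalCategory MonObj GrpObj AlgebraicGeometry Limits MorphismProperty
open Groth.Agent.RedPts

noncomputable section

namespace Groth.Agent.DiagRig.PointChar

set_option backward.isDefEq.respectTransparency.types false

open DSQuot

variable {S : Scheme.{u}}

/-- A group of multiplicative type splits over some field-valued point above a given point. -/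
theorem exists_split_point {G : Over S} [GrpObj G] (hG : SGA3x.IsMultTypeFT G) (s : S) :
    ∃ (K : Type u) (_ : Field K) (k : Spec (CommRingCat.of K) ⟶ S) (M : Type) (_ : AddCommGroup M),
      AddGroup.FG M ∧ (∀ x, k.base x = s) ∧ Nonempty (Grp.mk (Red.bc k G) ≅ Grp.mk (Red.DS (Spec (CommRingCat.of K)) M)) := by
  obtain ⟨S₁, f, hf, hfs, -, hfl⟩ := hG
  obtain ⟨s₁, hs₁⟩ := hfs.surj s
  obtain ⟨U₁, hs₁U, M, instM, hM, ⟨e⟩⟩ := hfl s₁
  let j : Spec (S₁.residueField s₁) ⟶ U₁ := IsOpenImmersion.lift U₁.ι (S₁.fromSpecResidueField s₁) (by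
    rintro _ ⟨y, rfl⟩
    rw [Scheme.fromSpecResidueField_apply, Scheme.Opens.range_ι]
    exact hs₁U)
  obtain ⟨d, -⟩ := exists_dsBC j M
  refine ⟨S₁.residueField s₁, inferInstance, S₁.fromSpecResidueField s₁ ≫ f, M, instM, hM, fun x => ?_, ⟨?_⟩⟩
  · rw [Scheme.Hom.comp_apply, Scheme.fromSpecResidueField_apply, hs₁]
  · exact (bcGrpIso (U₁.ι ≫ f) j _ (by rw [← Category.assoc, IsOpenImmersion.lift_fac]) G).symm ≪≫ bcGrpMap j e ≪≫ d

/-- A property at a field-valued point over `s` holds at `s`. -/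
theorem descend_point (P : MorphismProperty Scheme.{u}) [P.IsStableUnderBaseChange]
    [P.DescendsAlong (@Surjective ⊓ @Flat ⊓ @QuasiCompact)] {G H : Over S} {w : G ⟶ H} {K : Type u} [Field K]
    (k : Spec (CommRingCat.of K) ⟶ S) {s : S} (hk : ∀ x, k.base x = s) (h : BCProp P w k) :
    BCProp P w (S.fromSpecResidueField s) := by
  let χ := Scheme.SpecToEquivOfField K S k
  have hk' : k = Spec.map χ.2 ≫ S.fromSpecResidueField χ.1 := ((Scheme.SpecToEquivOfField _ _).symm_apply_apply k).symm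
  have hχ : χ.1 = s := by
    rw [← hk (default : PrimeSpectrum K), hk', Scheme.Hom.comp_apply, Scheme.fromSpecResidueField_apply]
  rw [← hχ]
  have : Flat (Spec.map χ.2) := flat_specMap_field _ _ χ.2.hom
  have : Surjective (Spec.map χ.2) := surjective_specMap_field _ _ χ.2.hom
  exact BCProp.descend (Spec.map χ.2) ((bcProp_congr hk').mp h)

theorem DSmap_inj {U : Scheme.{u}} [Nonempty U] {M N : Type} [AddCommGroup M] [AddCommGroup N] {φ ψ : M →+ N}
    (h : Red.DSmap U φ = Red.DSmap U ψ) : φ = ψ := by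
  refine AddMonoidHom.ext fun m => sub_eq_zero.mp (DSHom.dFn_id_eq_one (U := U) _ ?_)
  have := congrArg (fun z => dFn z m) h
  rw [← Category.id_comp (Red.DSmap U φ), ← Category.id_comp (Red.DSmap U ψ)] at this
  simp only [DSmap_fn] at this
  refine (d_isUnit (𝟙 _) (ψ m)).mul_left_cancel ?_
  rw [← d_add, add_sub_cancel, _root_.mul_one, this]

/-- A split field-valued point of `G`. -/
structure SplitPoint (G : Over S) [GrpObj G] where
  {K : Type u}
  [field : Field K]
  k : Spec (CommRingCat.of K) ⟶ S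
  {M : Type}
  [add : AddCommGroup M]
  fg : AddGroup.FG M
  e : Grp.mk (Red.bc k G) ≅ Grp.mk (Red.DS (Spec (CommRingCat.of K)) M)

attribute [instance] SplitPoint.field SplitPoint.add

variable {G : Over S} [GrpObj G]

theorem nonempty_splitPoint (hG : SGA3x.IsMultTypeFT G) (s : S) :
    ∃ P : SplitPoint G, ∀ x, P.k.base x = s := by
  obtain ⟨K, _, k, M, _, hM, hk, ⟨e⟩⟩ := exists_split_point hG s
  exact ⟨⟨k, hM, e⟩, hk⟩

variable (P : SplitPoint G) {N : Type} [AddCommGroup N]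

/-- `lam` restricts to `D(φ)` at the point. -/
def HasChar (lam : Red.DS S N ⟶ G) (φ : P.M →+ N) : Prop :=
  ∀ (Y : Over (Spec (CommRingCat.of P.K))) (x : Y ⟶ Red.bc P.k (Red.DS S N)) (m : P.M),
    dFn ((x ≫ (Over.pullback P.k).map lam) ≫ P.e.hom.hom.hom) m = dFn (bcTr P.k x) (φ m)

theorem exists_hasChar (hN : AddGroup.FG N) (lam : Red.DS S N ⟶ G) [IsMonHom lam] :
    ∃ φ, HasChar P lam φ := by
  obtain ⟨d, hd⟩ := exists_dsBC P.k N
  let L := Spec (CommRingCat.of P.K)
  let i₁ : Red.bc P.k (Red.DS S N) ≅ Red.DS L N := (Grp.forget _).mapIso d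
  let i₂ : Red.bc P.k G ≅ Red.DS L P.M := (Grp.forget _).mapIso P.e
  have : IsMonHom i₁.inv := d.inv.hom.isMonHom_hom
  have : IsMonHom i₂.hom := P.e.hom.hom.isMonHom_hom
  have : IsMonHom ((Over.pullback P.k).map lam) := isMonHom_bcMap P.k lam
  let v : Red.DS L N ⟶ Red.DS L P.M := i₁.inv ≫ (Over.pullback P.k).map lam ≫ i₂.hom
  have : IsMonHom v := inferInstance
  let x₀ : ↥L := (default : PrimeSpectrum P.K)
  obtain ⟨V, hx₀, φ, hφ⟩ := DSHom.exists_localHom v P.fg x₀
  have hV : ∀ y : ↥L, y ∈ V := fun y =>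
    ((inferInstance : Subsingleton (PrimeSpectrum P.K)).elim x₀ y) ▸ hx₀
  refine ⟨φ, fun Y x m => ?_⟩
  rw [← hd, ← DSmap_fn, ← hφ _ _ fun y _ => hV y]
  congr 1
  simp only [v, Category.assoc]
  refine (congrArg (fun z => x ≫ z) ?_)
  exact (Iso.hom_inv_id_assoc i₁ _).symm

theorem HasChar.comp {N' : Type} [AddCommGroup N'] {lam : Red.DS S N ⟶ G} {φ : P.M →+ N} (h : HasChar P lam φ)
    (f : N →+ N') : HasChar P (Red.DSmap S f ≫ lam) (f.comp φ) := by
  intro Y x m
  rw [Functor.map_comp, ← Category.assoc x, h, bcTr_map, DSmap_fn]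
  rfl

theorem HasChar.mul {lam mu : Red.DS S N ⟶ G} {φ ψ : P.M →+ N} (h : HasChar P lam φ) (h' : HasChar P mu ψ) :
    HasChar P (lam * mu) (φ + ψ) := by
  intro Y x m
  have e : x ≫ (Over.pullback P.k).map (lam * mu) =
      (x ≫ (Over.pullback P.k).map lam) * (x ≫ (Over.pullback P.k).map mu) :=
    bcTr_injective P.k (by rw [bcTr_mul, bcTr_map, bcTr_map, bcTr_map, MonObj.comp_mul])
  rw [e, AddMonoidHom.add_apply, d_add, ← h Y x m, ← h' Y x m, ← d_mul]
  congr 1
  exact grpHom_mul P.e.hom _ _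

theorem HasChar.one : HasChar P (1 : Red.DS S N ⟶ G) 0 := by
  intro Y x m
  have e : x ≫ (Over.pullback P.k).map (1 : Red.DS S N ⟶ G) = 1 :=
    bcTr_injective P.k (by rw [bcTr_map, MonObj.comp_one, bcTr_one])
  rw [e, AddMonoidHom.zero_apply, d_zero]
  have : (1 : Y ⟶ Red.bc P.k G) ≫ P.e.hom.hom.hom = 1 := MonObj.one_comp P.e.hom.hom.hom
  rw [this]
  exact DSQuot.d_one m

theorem HasChar.unique {lam : Red.DS S N ⟶ G} {φ ψ : P.M →+ N} (h : HasChar P lam φ) (h' : HasChar P lam ψ) : φ = ψ := by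
  obtain ⟨d, hd⟩ := exists_dsBC P.k N
  have : Nonempty ↥(Spec (CommRingCat.of P.K)) := inferInstanceAs (Nonempty (PrimeSpectrum P.K))
  refine AddMonoidHom.ext fun m => sub_eq_zero.mp (DSHom.dFn_id_eq_one (U := Spec (CommRingCat.of P.K)) _ ?_)
  have e := (h _ d.inv.hom.hom m).symm.trans (h' _ d.inv.hom.hom m)
  rw [← hd, ← hd, show d.inv.hom.hom ≫ d.hom.hom.hom = 𝟙 _ from grpIso_hom_inv d.symm] at e
  refine (d_isUnit (𝟙 _) (ψ m)).mul_left_cancel ?_
  rw [← d_add, add_sub_cancel, _root_.mul_one, e]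

theorem comm (hG : SGA3x.IsMultTypeFT G) {X : Over S} (a b : X ⟶ G) : a * b = b * a :=
  mul_comm_of_splitFpqc (splitFpqc_of_multTypeFT G hG) a b

theorem isMonHom_mul (hG : SGA3x.IsMultTypeFT G) {X : Over S} [GrpObj X] (lam mu : X ⟶ G) [IsMonHom lam] [IsMonHom mu] :
    IsMonHom (lam * mu) :=
  isMonHom_of_pts _ fun Y x y => by
    rw [MonObj.comp_mul, MonObj.comp_mul, MonObj.comp_mul, MonObj.mul_comp, MonObj.mul_comp, _root_.mul_assoc,
      _root_.mul_assoc, ← _root_.mul_assoc (y ≫ lam), comm hG (y ≫ lam) (x ≫ mu), _root_.mul_assoc]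

theorem isMonHom_one {X : Over S} [GrpObj X] : IsMonHom (1 : X ⟶ G) :=
  isMonHom_of_pts _ fun Y x y => by rw [MonObj.comp_one, MonObj.comp_one, MonObj.comp_one, _root_.one_mul]

theorem isMonHom_inv (hG : SGA3x.IsMultTypeFT G) {X : Over S} [GrpObj X] (lam : X ⟶ G) [IsMonHom lam] :
    IsMonHom lam⁻¹ :=
  isMonHom_of_pts _ fun Y x y => by
    rw [GrpObj.comp_inv, GrpObj.comp_inv, GrpObj.comp_inv, MonObj.mul_comp, _root_.mul_inv_rev, comm hG]

theorem HasChar.inv {lam : Red.DS S N ⟶ G} {φ : P.M →+ N} (h : HasChar P lam φ) : HasChar P lam⁻¹ (-φ) := by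
  intro Y x m
  refine (d_isUnit (bcTr P.k x) (φ m)).mul_left_cancel ?_
  rw [← d_add, AddMonoidHom.neg_apply, add_neg_cancel, d_zero, ← h Y x m, ← d_mul,
    ← grpHom_mul P.e.hom]
  have e : (x ≫ (Over.pullback P.k).map lam) * (x ≫ (Over.pullback P.k).map lam⁻¹) = 1 :=
    bcTr_injective P.k (by rw [bcTr_mul, bcTr_map, bcTr_map, GrpObj.comp_inv, mul_inv_cancel, bcTr_one])
  rw [e, show (1 : Y ⟶ Red.bc P.k G) ≫ P.e.hom.hom.hom = 1 from MonObj.one_comp P.e.hom.hom.hom]
  exact DSQuot.d_one m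

/-- Over a connected base, a homomorphism with trivial character at one point is trivial. -/
theorem eq_one_of_hasChar_zero [ConnectedSpace ↥S] (hG : SGA3x.IsMultTypeFT G) (hN : AddGroup.FG N)
    (lam : Red.DS S N ⟶ G) [IsMonHom lam] (h : HasChar P lam 0) : lam = 1 := by
  have := multType_isAffineHom G hG
  have hlfp := multType_locallyOfFinitePresentation G hG
  obtain ⟨U, hUc, hUs, hU⟩ := trivial_locus lam (isMultTypeFT_DS S N hN) (Or.inr hlfp)
  let x₀ : ↥(Spec (CommRingCat.of P.K)) := (default : PrimeSpectrum P.K)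
  have hs : P.k.base x₀ ∈ U := by
    refine (hUs _).mpr fun Y g z hz => ?_
    let χ := Scheme.SpecToEquivOfField P.K S P.k
    have hk : P.k = Spec.map χ.2 ≫ S.fromSpecResidueField χ.1 :=
      ((Scheme.SpecToEquivOfField _ _).symm_apply_apply P.k).symm
    have hχ : χ.1 = P.k.base x₀ := by
      conv_rhs => rw [hk, Scheme.Hom.comp_apply, Scheme.fromSpecResidueField_apply]
    have hψ : ∃ ψ : S.residueField (P.k.base x₀) ⟶ CommRingCat.of P.K,
        Spec.map ψ ≫ S.fromSpecResidueField (P.k.base x₀) = P.k := by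
      rw [← hχ]
      exact ⟨χ.2, hk.symm⟩
    obtain ⟨ψ, hψ⟩ := hψ
    have : Flat (Spec.map ψ) := flat_specMap_field _ _ ψ.hom
    have : Surjective (Spec.map ψ) := surjective_specMap_field _ _ ψ.hom
    let Y' : Over (Spec (CommRingCat.of P.K)) := Over.mk (pullback.snd z (Spec.map ψ))
    let c : (Over.map P.k).obj Y' ⟶ Y := Over.homMk (pullback.fst z (Spec.map ψ)) (by
      show pullback.fst z (Spec.map ψ) ≫ Y.hom = pullback.snd z (Spec.map ψ) ≫ P.k
      rw [← hz, pullback.condition_assoc, hψ])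
    have hcE : EffectiveEpi c.left := inferInstanceAs (EffectiveEpi (pullback.fst z (Spec.map ψ)))
    refine GrpdLib.GrpOver.cancel_left c ?_
    rw [MonObj.comp_one, ← Category.assoc, ← bcTr_bcUn P.k (c ≫ g), ← bcTr_map, ← bcTr_one P.k]
    congr 1
    have hei : IsIso P.e.hom.hom.hom := ((Grp.forget _).mapIso P.e).isIso_hom
    rw [← cancel_mono P.e.hom.hom.hom,
      show (1 : Y' ⟶ Red.bc P.k G) ≫ P.e.hom.hom.hom = 1 from MonObj.one_comp P.e.hom.hom.hom]
    refine d_ext fun m => ?_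
    rw [h, AddMonoidHom.zero_apply, d_zero]
    exact ((DSQuot.d_one (Y := Y') m)).symm
  have hall : (U : Set S) = Set.univ := IsClopen.eq_univ ⟨hUc, U.2⟩ ⟨_, hs⟩
  have := hU (Red.DS S N) (𝟙 _) (hall ▸ Set.subset_univ _)
  rwa [Category.id_comp] at this

/-- Homomorphisms with the same character at one point agree. -/
theorem eq_of_hasChar [ConnectedSpace ↥S] (hG : SGA3x.IsMultTypeFT G) (hN : AddGroup.FG N)
    (lam mu : Red.DS S N ⟶ G) [IsMonHom lam] [IsMonHom mu] {φ : P.M →+ N} (h : HasChar P lam φ)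
    (h' : HasChar P mu φ) : lam = mu := by
  have := isMonHom_inv hG mu
  have := isMonHom_mul hG lam mu⁻¹
  have hh := h.mul P (h'.inv P)
  rw [add_neg_cancel] at hh
  exact mul_inv_eq_one.mp (eq_one_of_hasChar_zero P hG hN _ hh)

end Groth.Agent.DiagRig.PointChar
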