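import Groth.Agent.DiagRig.PointChar
import Groth.Agent.DiagRig.SubDescent

/-!
# Characters at points and restriction of the base
-/

universe u

open CategoryTheory MonoidalCategory CartesianMonoidalCategory MonObj GrpObj AlgebraicGeometry Limits
open Groth.Agent.RedPts

noncomputable section

namespace Groth.Agent.DiagRig.PointTransfer

set_option backward.isDefEq.respectTransparency.types false

open DSQuot PointChar

variable {S S' S'' : Scheme.{u}} (f : S' ⟶ S) (g : S'' ⟶ S') (h : S'' ⟶ S) (hc : g ≫ f = h)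

theorem compIso_fst (X : Over S) : ((AbVarLib.BcComp.compIso f g h hc).hom.app X).left ≫ pullback.fst X.hom h =
    pullback.fst (Red.bc f X).hom g ≫ pullback.fst X.hom f := by
  subst hc
  rw [AbVarLib.BcComp.compIso_hom_app]
  simp [Over.pullbackComp]
  repeat (first | erw [pullback.lift_fst_assoc] | erw [pullback.lift_fst] | simp only [Category.assoc, Category.id_comp])

/-- A test object seen over the bottom base in two ways. -/
def mapI (Y : Over S'') : (Over.map h).obj Y ≅ (Over.map f).obj ((Over.map g).obj Y) :=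
  CategoryTheory.Over.isoMk (Iso.refl _) (by simp [hc])

/-- Points of an iterated base change. -/
theorem bcTr_compIso {X : Over S} {Y : Over S''} (z : Y ⟶ Red.bc g (Red.bc f X)) :
    bcTr h (z ≫ (AbVarLib.BcComp.compIso f g h hc).hom.app X) = (mapI f g h hc Y).hom ≫ bcTr f (bcTr g z) := by
  refine Over.OverMorphism.ext ?_
  rw [bcTr_left, Over.comp_left, Over.comp_left, bcTr_left, bcTr_left, Category.assoc]
  refine (congrArg (z.left ≫ ·) (compIso_fst f g h hc X)).trans ?_
  simp [mapI]

theorem dFn_mapI {M : Type} [AddCommGroup M] {Y : Over S''} (x : (Over.map f).obj ((Over.map g).obj Y) ⟶ Red.DS S M)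
    (m : M) : dFn ((mapI f g h hc Y).hom ≫ x) m = dFn x m := by
  rw [d_comp]
  simp [mapI]

theorem nat_pts {A : Over S'} {X X' : Over S} {Y : Over S''} (y : Y ⟶ Red.bc g A) (a : A ⟶ Red.bc f X)
    (lam : X ⟶ X') :
    (y ≫ (Over.pullback g).map (a ≫ (Over.pullback f).map lam)) ≫ (AbVarLib.BcComp.compIso f g h hc).hom.app X' =
      ((y ≫ (Over.pullback g).map a) ≫ (AbVarLib.BcComp.compIso f g h hc).hom.app X) ≫ (Over.pullback h).map lam := by
  rw [Functor.map_comp]
  simp only [Category.assoc]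
  exact congrArg (fun z => y ≫ (Over.pullback g).map a ≫ z)
    ((AbVarLib.BcComp.compIso f g h hc).hom.naturality lam)

variable {V W : Scheme.{u}} {G : Over V} [GrpObj G]

/-- A split point factoring through `w`. -/
def restrict (P : SplitPoint G) (w : W ⟶ V) (k' : Spec (CommRingCat.of P.K) ⟶ W) (hk : k' ≫ w = P.k) :
    SplitPoint (Red.bc w G) :=
  ⟨k', P.fg, bcGrpIso w k' P.k hk G ≪≫ P.e⟩

variable {N : Type} [AddCommGroup N]

/-- Restricting the base does not change the character. -/
theorem hasChar_restrict (P : SplitPoint G) (w : W ⟶ V) (k' : Spec (CommRingCat.of P.K) ⟶ W) (hk : k' ≫ w = P.k)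
    (lam : Red.DS V N ⟶ G) {φ : P.M →+ N} (hφ : HasChar P lam φ)
    (d : Grp.mk (Red.bc w (Red.DS V N)) ≅ Grp.mk (Red.DS W N))
    (hd : ∀ (Y : Over W) (x : Y ⟶ Red.bc w (Red.DS V N)) (n : N), dFn (x ≫ d.hom.hom.hom) n = dFn (bcTr w x) n) :
    HasChar (restrict P w k' hk) (d.inv.hom.hom ≫ (Over.pullback w).map lam) φ := by
  intro Y x m
  let x' : Y ⟶ Red.bc P.k (Red.DS V N) := (x ≫ (Over.pullback k').map d.inv.hom.hom) ≫
    (AbVarLib.BcComp.compIso w k' P.k hk).hom.app _
  have e : (x ≫ (Over.pullback k').map (d.inv.hom.hom ≫ (Over.pullback w).map lam)) ≫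
      (restrict P w k' hk).e.hom.hom.hom = (x' ≫ (Over.pullback P.k).map lam) ≫ P.e.hom.hom.hom :=
    (Category.assoc _ _ _).symm.trans (congrArg (fun z => z ≫ P.e.hom.hom.hom) (nat_pts w k' P.k hk x d.inv.hom.hom lam))
  refine (congrArg (fun z => dFn z m) e).trans ((hφ Y x' m).trans ?_)
  refine ((congrArg (fun z => dFn z (φ m)) (bcTr_compIso w k' P.k hk _)).trans
    (dFn_mapI w k' P.k hk _ _)).trans ?_
  refine (hd _ _ _).symm.trans (congrArg (fun z => dFn z (φ m)) ?_)
  refine (congrArg (· ≫ d.hom.hom.hom) (bcTr_map k' x d.inv.hom.hom)).trans ((Category.assoc _ _ _).trans ?_)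
  exact (congrArg (fun z => bcTr k' x ≫ z) (grpIso_hom_inv d.symm)).trans (Category.comp_id _)

end Groth.Agent.DiagRig.PointTransfer
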