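import Groth.Agent.S4111
import Groth.Agent.GrpSGA.FibreCrit
import Groth.Agent.DiagRig.ImmLift

/-!
# The power map is étale at central torsion points of invertible order
-/

universe u

open CategoryTheory MonoidalCategory CartesianMonoidalCategory MonObj GrpObj AlgebraicGeometry Limits
open Groth.Agent.GrpSGA.Fibre Groth.Agent.GrpSGA.LocalProp Groth.Agent.GrpSGA.FibreCrit

noncomputable section

namespace Groth.Agent.DiagRig

set_option backward.isDefEq.respectTransparency.types false in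
/-- Over a field: the power map is étale at a central rational point killed by the exponent. -/
theorem pow_etaleAt_field {k : Type u} [Field k] (G : Over (Spec (CommRingCat.of k))) [GrpObj G]
    [LocallyOfFiniteType G.hom] (n : ℕ) (hn : (n : k) ≠ 0) (x : 𝟙_ (Over (Spec (CommRingCat.of k))) ⟶ G)
    (hx : x ^ n = 1) (hc : (toUnit G ≫ x) * 𝟙 G = 𝟙 G * (toUnit G ≫ x))
    (p : ↥(𝟙_ (Over (Spec (CommRingCat.of k)))).left) :
    AtPt @Etale ((𝟙 G : G ⟶ G) ^ n).left (x.left.base p) := by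
  obtain ⟨U, hU, hUet⟩ := Groth.Agent.S4111.etale_near_unit G n (by exact_mod_cast hn)
  simp only [zpow_natCast] at hUet
  let a : G ⟶ G := toUnit G ≫ x
  have hta : ∀ (Y : Over (Spec (CommRingCat.of k))) (g : Y ⟶ G), g ≫ a = toUnit Y ≫ x := fun Y g => by
    rw [← Category.assoc, comp_toUnit]
  have hinv : (a⁻¹ * 𝟙 G) ≫ (a * 𝟙 G) = 𝟙 G ∧ (a * 𝟙 G) ≫ (a⁻¹ * 𝟙 G) = 𝟙 G := by
    constructor <;>
    · rw [MonObj.comp_mul, Category.comp_id]
      simp only [GrpObj.comp_inv, hta]
      simp [a, ← _root_.mul_assoc]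
  let τ : G ≅ G := ⟨a⁻¹ * 𝟙 G, a * 𝟙 G, hinv.1, hinv.2⟩
  have hτ : τ.hom ≫ (𝟙 G : G ⟶ G) ^ n = 𝟙 G ^ n := by
    rw [MonObj.comp_pow, Category.comp_id]
    show (a⁻¹ * 𝟙 G) ^ n = _
    rw [(show Commute a (𝟙 G) from hc).inv_left.mul_pow, inv_pow, show a ^ n = 1 by
      rw [← MonObj.comp_pow, hx, MonObj.comp_one], inv_one, _root_.one_mul]
  have hxe : x ≫ τ.hom = η[G] := by
    show x ≫ (a⁻¹ * 𝟙 G) = _
    rw [MonObj.comp_mul, GrpObj.comp_inv, hta, Category.comp_id, toUnit_unique (toUnit _) (𝟙 _),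
      Category.id_comp, inv_mul_cancel, Hom.one_def, toUnit_unique (toUnit _) (𝟙 _), Category.id_comp]
  have : IsIso τ.hom.left := ((Over.forget (Spec (CommRingCat.of k))).mapIso τ).isIso_hom
  refine ⟨τ.hom.left ⁻¹ᵁ U, ?_, ?_⟩
  · show τ.hom.left.base (x.left.base p) ∈ U
    rw [← Scheme.Hom.comp_apply, ← Over.comp_left, hxe]
    obtain rfl : p = IsLocalRing.closedPoint k := Subsingleton.elim (α := PrimeSpectrum k) _ _
    exact hU
  · rw [← hτ, Over.comp_left, ← morphismRestrict_ι_assoc]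
    infer_instance

variable {S : Scheme.{u}}

set_option backward.isDefEq.respectTransparency.types false in
/-- The power map of a flat group is étale at the central points of its fibres killed by the exponent. -/
theorem pow_etaleAt (G : Over S) [GrpObj G] [Flat G.hom] [LocallyOfFinitePresentation G.hom] (n : ℕ) (s : S)
    (hn : (n : S.residueField s) ≠ 0)
    (x : 𝟙_ (Over (Spec (CommRingCat.of (S.residueField s)))) ⟶ fib G s) (hx : x ^ n = 1)
    (hc : (toUnit (fib G s) ≫ x) * 𝟙 _ = 𝟙 _ * (toUnit (fib G s) ≫ x))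
    (p : ↥(𝟙_ (Over (Spec (CommRingCat.of (S.residueField s))))).left) :
    AtPt @Etale ((𝟙 G : G ⟶ G) ^ n).left (fibι G s (x.left.base p)) := by
  refine fib_etaleAt ((𝟙 G : G ⟶ G) ^ n) _ ?_
  have hmap : fibMap ((𝟙 G : G ⟶ G) ^ n) s = (𝟙 (fib G s) : fib G s ⟶ fib G s) ^ n := by
    show (Over.pullback (S.fromSpecResidueField s)).map ((𝟙 G : G ⟶ G) ^ n) = _
    have h := map_pow (Functor.homMonoidHom (X := G) (M := G) (Over.pullback (S.fromSpecResidueField s))) (𝟙 G) n
    refine h.trans ?_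
    congr 1
    exact (Over.pullback _).map_id G
  rw [hmap]
  have : LocallyOfFiniteType (fib G s).hom := MorphismProperty.pullback_snd (P := @LocallyOfFiniteType) G.hom _ inferInstance
  exact pow_etaleAt_field (fib G s) n hn x hx hc p

end Groth.Agent.DiagRig
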