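import Groth.Agent.DiagRig.CharLift
import Groth.Agent.DiagRig.Inj

/-! Lifting congruences between split groups along nilpotent ideals: the chart. -/

universe u

open CategoryTheory MonoidalCategory CartesianMonoidalCategory MonObj GrpObj AlgebraicGeometry Limits

noncomputable section

namespace Groth.Agent.DiagRig

variable {R : CommRingCat.{u}} (J : Ideal R) {H H' G : Over (Spec R)} [GrpObj H] [GrpObj H'] [GrpObj G]
  (i : H ⟶ G) (i' : H' ⟶ G)

/-- A scheme over `Spec R` factors through `Spec (R/J)`. -/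
def OverJ (X : Over (Spec R)) : Prop :=
  ∃ w : X.left ⟶ Spec (CommRingCat.of (R ⧸ J)), w ≫ Spec.map (CommRingCat.ofHom (Ideal.Quotient.mk J)) = X.hom

/-- A natural homomorphism from `H` to `H'` over `U` which commutes with `i`, `i'` modulo `J`. -/
structure Rig {U : Scheme.{u}} (p : U ⟶ Spec R) where
  F : ∀ {X : Over (Spec R)} (z : X.left ⟶ U), z ≫ p = X.hom → (X ⟶ H) → (X ⟶ H')
  nat : ∀ {X X' : Over (Spec R)} (k : X' ⟶ X) (z : X.left ⟶ U) (hz : z ≫ p = X.hom) (x : X ⟶ H),
    k ≫ F z hz x = F (k.left ≫ z) (by rw [Category.assoc, hz, Over.w k]) (k ≫ x)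
  mul : ∀ {X : Over (Spec R)} (z : X.left ⟶ U) (hz : z ≫ p = X.hom) (x y : X ⟶ H),
    F z hz (x * y) = F z hz x * F z hz y
  congr : ∀ {X : Over (Spec R)} (z : X.left ⟶ U) (hz : z ≫ p = X.hom) (x : X ⟶ H),
    OverJ J X → F z hz x ≫ i' = x ≫ i

variable {J i i'}

lemma Rig.F_eq {U : Scheme.{u}} {p : U ⟶ Spec R} (Φ : Rig J i i' p) {X : Over (Spec R)} {z z' : X.left ⟶ U}
    (e : z = z') {hz : z ≫ p = X.hom} {hz' : z' ≫ p = X.hom} {x x' : X ⟶ H} (e' : x = x') :
    Φ.F z hz x = Φ.F z' hz' x' := by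
  subst e e'; rfl

lemma Rig.F_one {U : Scheme.{u}} {p : U ⟶ Spec R} (Φ : Rig J i i' p) {X : Over (Spec R)} (z : X.left ⟶ U)
    (hz : z ≫ p = X.hom) : Φ.F z hz 1 = 1 := by
  have h := Φ.mul z hz 1 1
  rw [_root_.mul_one] at h
  exact mul_eq_left.mp h.symm

/-- Restriction. -/
def Rig.restrict {U U' : Scheme.{u}} {p : U ⟶ Spec R} (Φ : Rig J i i' p) (a : U' ⟶ U) (p' : U' ⟶ Spec R)
    (ha : a ≫ p = p') : Rig J i i' p' where
  F z hz x := Φ.F (z ≫ a) (by rw [Category.assoc, ha, hz]) x
  nat k z hz x := (Φ.nat k _ _ x).trans (Φ.F_eq (Category.assoc _ _ _).symm rfl)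
  mul z hz x y := Φ.mul _ _ x y
  congr z hz x h := Φ.congr _ _ x h

variable {T : Type u} [CommRing T] {M M' : Type} [AddCommGroup M] [AddCommGroup M']

section Pts

/-- The algebra structure on global functions. -/
abbrev gAlg (Y : Over (Spec (CommRingCat.of T))) : Algebra T Γ(Y.left, ⊤) :=
  ((Scheme.ΓSpecIso (CommRingCat.of T)).inv ≫ Y.hom.appTop).hom.toAlgebra

/-- The map to an affine test scheme given by functions. -/
def ptOfAlg {Y : Over (Spec (CommRingCat.of T))} {B : Type u} [CommRing B] [Algebra T B]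
    (f : B →+* Γ(Y.left, ⊤))
    (hf : ∀ r, f (algebraMap T B r) = ((Scheme.ΓSpecIso (CommRingCat.of T)).inv ≫ Y.hom.appTop) r) :
    Y ⟶ specOver (R := CommRingCat.of T) B :=
  Over.homMk (Y.left.toSpecΓ ≫ Spec.map (CommRingCat.ofHom f)) (by
    show (_ ≫ Spec.map _) ≫ Spec.map (CommRingCat.ofHom (algebraMap T B)) = Y.hom
    rw [Category.assoc, ← Spec.map_comp, show CommRingCat.ofHom (algebraMap T B) ≫ CommRingCat.ofHom f =
      (Scheme.ΓSpecIso (CommRingCat.of T)).inv ≫ Y.hom.appTop from by ext r; exact hf r,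
      Spec.map_comp, ← Scheme.toSpecΓ_naturality_assoc]
    exact (congrArg (Y.hom ≫ ·) (toSpecΓ_SpecMap_ΓSpecIso_inv _)).trans (Category.comp_id _))

lemma ptOfAlg_appTop {Y : Over (Spec (CommRingCat.of T))} {B : Type u} [CommRing B] [Algebra T B]
    (f : B →+* Γ(Y.left, ⊤))
    (hf : ∀ r, f (algebraMap T B r) = ((Scheme.ΓSpecIso (CommRingCat.of T)).inv ≫ Y.hom.appTop) r) (b : B) :
    (ptOfAlg f hf).left.appTop (toΓ (R := CommRingCat.of T) b) = f b := by
  have h : (Scheme.ΓSpecIso (CommRingCat.of B)).inv ≫ (Y.left.toSpecΓ ≫ Spec.map (CommRingCat.ofHom f)).appTop =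
      CommRingCat.ofHom f := by
    rw [Scheme.Hom.comp_appTop, ← Scheme.ΓSpecIso_inv_naturality_assoc, Scheme.toSpecΓ_appTop,
      Iso.inv_hom_id, Category.comp_id]
  exact congr($h b)

end Pts

variable [Algebra R T]

/-- The chart morphism. -/
abbrev specP (R : CommRingCat.{u}) (T : Type u) [CommRing T] [Algebra R T] : Spec (CommRingCat.of T) ⟶ Spec R :=
  Spec.map (CommRingCat.ofHom (algebraMap R T))

variable (P : SplitPts (specP R T) H M) (P' : SplitPts (specP R T) H' M')

/-- The universal character point. -/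
def uPt : (Over.map (specP R T)).obj (specOver (R := CommRingCat.of T) (MonoidAlgebra T (Multiplicative M))) ⟶ H :=
  gPt (specP R T) P (MonoidAlgebra.of T (Multiplicative M))

/-- Every point is a pullback of the universal one. -/
lemma exists_uPt {Y : Over (Spec (CommRingCat.of T))} (t : Multiplicative M →* Γ(Y.left, ⊤)) :
    ∃ k : Y ⟶ specOver (R := CommRingCat.of T) (MonoidAlgebra T (Multiplicative M)),
      (Over.map (specP R T)).map k ≫ uPt P = P.σ t ∧ ∀ (d : MonoidAlgebra T (Multiplicative M)),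
        k.left.appTop (toΓ (R := CommRingCat.of T) d) =
          (letI := gAlg Y; MonoidAlgebra.lift T Γ(Y.left, ⊤) (Multiplicative M) t d) := by
  letI := gAlg Y
  let f := MonoidAlgebra.lift T Γ(Y.left, ⊤) (Multiplicative M) t
  refine ⟨ptOfAlg f.toRingHom f.commutes, ?_, fun d => ptOfAlg_appTop _ _ d⟩
  rw [uPt, gPt, P.σ_comp]
  congr 1
  ext m
  refine (ptOfAlg_appTop f.toRingHom f.commutes _).trans ?_
  simp [f]

lemma map_testMap_uPt {B : Type u} [CommRing B] [Algebra T B]
    (f : MonoidAlgebra T (Multiplicative M) →ₐ[T] B) :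
    (Over.map (specP R T)).map (testMap (R := CommRingCat.of T) f) ≫ uPt P =
      gPt (specP R T) P (f.toRingHom.toMonoidHom.comp (MonoidAlgebra.of T (Multiplicative M))) :=
  testMap_gPt _ _ _ _

lemma gPt_one {B : Type u} [CommRing B] [Algebra T B] :
    gPt (R := CommRingCat.of T) (specP R T) P (1 : Multiplicative M →* B) = 1 := by
  have h := gPt_mul (R := CommRingCat.of T) P (1 : Multiplicative M →* B) 1
  rw [_root_.mul_one] at h
  exact mul_eq_left.mp h.symm

/-- Reduction modulo `J`. -/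
abbrev JT (J : Ideal R) : Ideal T := J.map (algebraMap R T)

lemma overJ_bar (J : Ideal R) (B : Type u) [CommRing B] [Algebra (T ⧸ JT (T := T) J) B] [Algebra T B]
    [IsScalarTower T (T ⧸ JT (T := T) J) B] :
    OverJ J ((Over.map (specP R T)).obj (specOver (R := CommRingCat.of T) B)) := by
  refine ⟨Spec.map (CommRingCat.ofHom ((algebraMap (T ⧸ JT (T := T) J) B).comp
    (Ideal.quotientMap (JT (T := T) J) (algebraMap R T) Ideal.le_comap_map))), ?_⟩
  show Spec.map _ ≫ Spec.map _ = Spec.map _ ≫ Spec.map _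
  rw [← Spec.map_comp, ← Spec.map_comp]
  congr 1
  ext r
  exact (IsScalarTower.algebraMap_apply T (T ⧸ JT (T := T) J) B (algebraMap R T r)).symm

variable {P P'}

/-- The universal value of a chart solution. -/
lemma Rig.exists_val (hP' : P'.Inj) [IsMonHom i'] [Mono i'] (Φ : Rig J i i' (specP R T)) :
    ∃ s : Multiplicative M' →* MonoidAlgebra T (Multiplicative M), (∀ m, CharLift.GL (s m)) ∧
      Φ.F (X := (Over.map (specP R T)).obj (specOver (R := CommRingCat.of T) (MonoidAlgebra T (Multiplicative M))))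
        (specOver (R := CommRingCat.of T) (MonoidAlgebra T (Multiplicative M))).hom rfl (uPt P) = gPt (specP R T) P' s ∧
      gPt (specP R T) P' ((CharLift.red (JT (T := T) J)).toRingHom.toMonoidHom.comp s) ≫ i' =
        gPt (specP R T) P ((CharLift.red (JT (T := T) J)).toRingHom.toMonoidHom.comp
          (MonoidAlgebra.of T (Multiplicative M))) ≫ i := by
  obtain ⟨s, hs⟩ := gPt_surjective P' (Φ.F
    (X := (Over.map (specP R T)).obj (specOver (R := CommRingCat.of T) (MonoidAlgebra T (Multiplicative M))))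
    (specOver (R := CommRingCat.of T) (MonoidAlgebra T (Multiplicative M))).hom rfl (uPt P))
  have key : ∀ (B : Type u) [CommRing B] [Algebra T B] (f : MonoidAlgebra T (Multiplicative M) →ₐ[T] B),
      gPt (specP R T) P' (f.toRingHom.toMonoidHom.comp s) =
        Φ.F (X := (Over.map (specP R T)).obj (specOver (R := CommRingCat.of T) B)) (specOver (R := CommRingCat.of T) B).hom rfl
          (gPt (specP R T) P (f.toRingHom.toMonoidHom.comp (MonoidAlgebra.of T (Multiplicative M)))) := by
    intro B _ _ f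
    let k : specOver (R := CommRingCat.of T) B ⟶ specOver (MonoidAlgebra T (Multiplicative M)) := testMap f
    have e1 : gPt (specP R T) P' (f.toRingHom.toMonoidHom.comp s) = (Over.map (specP R T)).map k ≫ gPt (specP R T) P' s :=
      (testMap_gPt (R := CommRingCat.of T) (specP R T) P' (T := MonoidAlgebra T (Multiplicative M)) (T' := B) f s).symm
    rw [e1, hs]
    refine (Φ.nat _ _ _ _).trans ?_
    exact Φ.F_eq (Over.w k) (map_testMap_uPt P f)
  refine ⟨s, fun m => ⟨?_, ?_⟩, hs.symm, ?_⟩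
  · let fl : MonoidAlgebra T (Multiplicative M) →ₐ[T] MonoidAlgebra T ((Multiplicative M) × (Multiplicative M)) :=
      MonoidAlgebra.mapDomainAlgHom T T (MonoidHom.inl (Multiplicative M) (Multiplicative M))
    let fr : MonoidAlgebra T (Multiplicative M) →ₐ[T] MonoidAlgebra T ((Multiplicative M) × (Multiplicative M)) :=
      MonoidAlgebra.mapDomainAlgHom T T (MonoidHom.inr (Multiplicative M) (Multiplicative M))
    let fd : MonoidAlgebra T (Multiplicative M) →ₐ[T] MonoidAlgebra T ((Multiplicative M) × (Multiplicative M)) :=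
      MonoidAlgebra.mapDomainAlgHom T T ((MonoidHom.id (Multiplicative M)).prod (MonoidHom.id (Multiplicative M)))
    have h : fl.toRingHom.toMonoidHom.comp s * fr.toRingHom.toMonoidHom.comp s = fd.toRingHom.toMonoidHom.comp s := by
      apply gPt_injective P' hP'
      rw [gPt_mul, key _ fl, key _ fr, key _ fd, ← Φ.mul, ← gPt_mul]
      congr 2
      ext x
      simp [fl, fr, fd, MonoidAlgebra.single_mul_single]
    exact DFunLike.congr_fun h m
  · let e : MonoidAlgebra T (Multiplicative M) →ₐ[T] T := MonoidAlgebra.lift T T (Multiplicative M) 1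
    have h : e.toRingHom.toMonoidHom.comp s = 1 := by
      apply gPt_injective P' hP'
      rw [key _ e, gPt_one, show e.toRingHom.toMonoidHom.comp (MonoidAlgebra.of T (Multiplicative M)) = 1 by
        ext x; simp [e], gPt_one, Φ.F_one]
    exact DFunLike.congr_fun h m
  · rw [key]
    exact Φ.congr _ _ _ (overJ_bar J _)

/-- Chart solutions are unique. -/
theorem Rig.unique (hJ : IsNilpotent J) (hP' : P'.Inj) [IsMonHom i'] [Mono i'] (P : SplitPts (specP R T) H M)
    (Φ₁ Φ₂ : Rig J i i' (specP R T)) {X : Over (Spec R)} (z : X.left ⟶ Spec (CommRingCat.of T)) (hz : z ≫ (specP R T) = X.hom)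
    (x : X ⟶ H) : Φ₁.F z hz x = Φ₂.F z hz x := by
  obtain ⟨s₁, hg₁, e₁, c₁⟩ := Φ₁.exists_val (P := P) hP'
  obtain ⟨s₂, hg₂, e₂, c₂⟩ := Φ₂.exists_val (P := P) hP'
  have hJT : IsNilpotent (JT (T := T) J) := by
    obtain ⟨k, hk⟩ := hJ
    exact ⟨k, by rw [← Ideal.map_pow, hk]; exact Ideal.map_bot⟩
  have hs : s₁ = s₂ := MonoidHom.ext fun m => (hg₁ m).eq_of_red_eq hJT (hg₂ m)
    (DFunLike.congr_fun (gPt_injective P' hP' ((cancel_mono i').mp (c₁.trans c₂.symm))) m)
  subst hs
  let e : (Over.map (specP R T)).obj (Over.mk z) ≅ X := Over.isoMk (Iso.refl _) ((Category.id_comp _).trans hz.symm)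
  obtain ⟨t, ht⟩ := P.σ_surjective (e.hom ≫ x)
  obtain ⟨k, hk, -⟩ := exists_uPt P t
  have hval : ∀ Φ : Rig J i i' (specP R T), Φ.F z hz x = e.inv ≫ (Over.map (specP R T)).map k ≫
      Φ.F (X := (Over.map (specP R T)).obj (specOver (R := CommRingCat.of T) (MonoidAlgebra T (Multiplicative M))))
        (specOver (R := CommRingCat.of T) (MonoidAlgebra T (Multiplicative M))).hom rfl (uPt P) := fun Φ => by
    rw [← Category.assoc, Φ.nat]
    refine Φ.F_eq ?_ ?_
    · show z = (𝟙 _ ≫ k.left) ≫ _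
      rw [Category.id_comp, Over.w k]
      rfl
    · rw [Category.assoc, hk, ht, Iso.inv_hom_id_assoc]
  rw [hval Φ₁, hval Φ₂, e₁, e₂]

/-- The value of a character family at a point. -/
def charVal (P' : SplitPts (specP R T) H' M') (s : Multiplicative M' →* MonoidAlgebra T (Multiplicative M))
    {Y : Over (Spec (CommRingCat.of T))} (t : Multiplicative M →* Γ(Y.left, ⊤)) : (Over.map (specP R T)).obj Y ⟶ H' :=
  P'.σ (letI := gAlg Y; (MonoidAlgebra.lift T Γ(Y.left, ⊤) (Multiplicative M) t).toRingHom.toMonoidHom.comp s)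

lemma charVal_comp (P' : SplitPts (specP R T) H' M') (s : Multiplicative M' →* MonoidAlgebra T (Multiplicative M))
    {Y Y' : Over (Spec (CommRingCat.of T))} (k : Y' ⟶ Y) (t : Multiplicative M →* Γ(Y.left, ⊤)) :
    (Over.map (specP R T)).map k ≫ charVal P' s t = charVal P' s (k.left.appTop.hom.toMonoidHom.comp t) := by
  rw [charVal, charVal, P'.σ_comp]
  congr 1
  ext m
  let := gAlg Y
  let := gAlg Y'
  let φ : Γ(Y.left, ⊤) →ₐ[T] Γ(Y'.left, ⊤) :=
    { k.left.appTop.hom with
      commutes' := fun r => by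
        show ((Scheme.ΓSpecIso (CommRingCat.of T)).inv ≫ Y.hom.appTop ≫ k.left.appTop) r = _
        rw [← Scheme.Hom.comp_appTop, Over.w k]
        rfl }
  have h : φ.comp (MonoidAlgebra.lift T Γ(Y.left, ⊤) (Multiplicative M) t) =
      MonoidAlgebra.lift T Γ(Y'.left, ⊤) (Multiplicative M) (k.left.appTop.hom.toMonoidHom.comp t) := by
    apply MonoidAlgebra.algHom_ext
    · intro x; simp [φ]
    · exact Subsingleton.elim _ _
  exact DFunLike.congr_fun h (s m)

/-- Chart solutions exist. -/
theorem Rig.exists_chart (hJ : IsNilpotent J) (hP : P.Inj) (hP' : P'.Inj) [IsMonHom i] [IsMonHom i'] [Mono i']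
    (hle : ∀ (X : Over (Spec R)) (x : X ⟶ H), OverJ J X → ∃ y : X ⟶ H', y ≫ i' = x ≫ i) :
    Nonempty (Rig J i i' (specP R T)) := by
  let I : Ideal T := JT (T := T) J
  let Tb := T ⧸ I
  have hI : IsNilpotent I := by
    obtain ⟨k, hk⟩ := hJ
    exact ⟨k, by rw [← Ideal.map_pow, hk]; exact Ideal.map_bot⟩
  let ub : Multiplicative M →* MonoidAlgebra Tb (Multiplicative M) := MonoidAlgebra.of Tb (Multiplicative M)
  obtain ⟨y, hy⟩ := hle _ (gPt (R := CommRingCat.of T) (specP R T) P ub) (overJ_bar J _)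
  obtain ⟨s₀, rfl⟩ := gPt_surjective P' y
  have key : ∀ (B : Type u) [CommRing B] [Algebra T B] (f : MonoidAlgebra Tb (Multiplicative M) →ₐ[T] B),
      gPt (specP R T) P' (f.toRingHom.toMonoidHom.comp s₀) ≫ i' = gPt (specP R T) P (f.toRingHom.toMonoidHom.comp ub) ≫ i := by
    intro B _ _ f
    rw [← testMap_gPt, ← testMap_gPt, Category.assoc, Category.assoc, hy]
  have hg₀ : ∀ m, CharLift.GL (s₀ m) := by
    intro m
    constructor
    · let fl : MonoidAlgebra Tb (Multiplicative M) →ₐ[T] MonoidAlgebra Tb ((Multiplicative M) × (Multiplicative M)) :=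
        (MonoidAlgebra.mapDomainAlgHom Tb Tb (MonoidHom.inl (Multiplicative M) (Multiplicative M))).restrictScalars T
      let fr : MonoidAlgebra Tb (Multiplicative M) →ₐ[T] MonoidAlgebra Tb ((Multiplicative M) × (Multiplicative M)) :=
        (MonoidAlgebra.mapDomainAlgHom Tb Tb (MonoidHom.inr (Multiplicative M) (Multiplicative M))).restrictScalars T
      let fd : MonoidAlgebra Tb (Multiplicative M) →ₐ[T] MonoidAlgebra Tb ((Multiplicative M) × (Multiplicative M)) :=
        (MonoidAlgebra.mapDomainAlgHom Tb Tb ((MonoidHom.id (Multiplicative M)).prod (MonoidHom.id (Multiplicative M)))).restrictScalars T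
      have h : fl.toRingHom.toMonoidHom.comp s₀ * fr.toRingHom.toMonoidHom.comp s₀ =
          fd.toRingHom.toMonoidHom.comp s₀ := by
        apply gPt_injective P' hP'
        rw [gPt_mul, ← cancel_mono i', MonObj.mul_comp, key _ fl, key _ fr, key _ fd, ← MonObj.mul_comp, ← gPt_mul]
        congr 2
        ext x
        simp [fl, fr, fd, ub, MonoidAlgebra.single_mul_single]
      exact DFunLike.congr_fun h m
    · let e : MonoidAlgebra Tb (Multiplicative M) →ₐ[T] Tb := (MonoidAlgebra.lift Tb Tb (Multiplicative M) 1).restrictScalars T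
      have h : e.toRingHom.toMonoidHom.comp s₀ = 1 := by
        apply gPt_injective P' hP'
        rw [← cancel_mono i', key _ e, gPt_one, show e.toRingHom.toMonoidHom.comp ub = 1 by
          ext x; simp [e, ub], gPt_one, MonObj.one_comp, MonObj.one_comp]
      exact DFunLike.congr_fun h m
  obtain ⟨s, hs, hs'⟩ := CharLift.exists_lift_hom hI s₀ hg₀
  let e : ∀ {X : Over (Spec R)} (z : X.left ⟶ Spec (CommRingCat.of T)) (_ : z ≫ (specP R T) = X.hom),
      (Over.map (specP R T)).obj (Over.mk z) ≅ X := fun z hz =>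
    Over.isoMk (Iso.refl _) ((Category.id_comp _).trans hz.symm)
  choose τ hτ using fun (Y : Over (Spec (CommRingCat.of T))) (x : (Over.map (specP R T)).obj Y ⟶ H) => P.σ_surjective x
  refine ⟨{
    F := fun {X} z hz x => (e z hz).inv ≫ charVal P' s (τ _ ((e z hz).hom ≫ x))
    nat := fun {X X'} k z hz x => ?_
    mul := fun {X} z hz x y => ?_
    congr := fun {X} z hz x hX => ?_ }⟩
  · have hz' : (k.left ≫ z) ≫ (specP R T) = X'.hom := by rw [Category.assoc, hz, Over.w k]
    let k' : Over.mk (k.left ≫ z) ⟶ Over.mk z := Over.homMk k.left rfl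
    have sq : k ≫ (e z hz).inv = (e (k.left ≫ z) hz').inv ≫ (Over.map (specP R T)).map k' := by
      ext1
      show k.left ≫ 𝟙 _ = 𝟙 _ ≫ k.left
      simp
    rw [← Category.assoc, sq, Category.assoc, charVal_comp]
    congr 2
    refine hP (Y := Over.mk (k.left ≫ z)) _ _ ?_
    rw [← P.σ_comp, hτ, hτ, ← Category.assoc]
    refine Eq.trans ?_ (Category.assoc _ _ _)
    congr 1
  · rw [← MonObj.comp_mul]
    congr 1
    rw [charVal, charVal, charVal, ← P'.σ_mul]
    congr 1
    rw [show τ _ ((e z hz).hom ≫ (x * y)) = τ _ ((e z hz).hom ≫ x) * τ _ ((e z hz).hom ≫ y) from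
      hP _ _ (by rw [P.σ_mul, hτ, hτ, hτ, MonObj.comp_mul])]
    letI := gAlg (Over.mk z)
    ext m
    exact (hs m).lift_mul _ _
  · let Y : Over (Spec (CommRingCat.of T)) := Over.mk z
    letI := gAlg Y
    let g : T →+* Γ(Y.left, ⊤) := algebraMap T Γ(Y.left, ⊤)
    have hker : ∀ r ∈ I, g r = 0 := by
      suffices I ≤ RingHom.ker g from fun r hr => this hr
      rw [show I = J.map (algebraMap R T) from rfl, Ideal.map_le_iff_le_comap]
      intro r hr
      obtain ⟨w, hw⟩ := hX
      have e1 : CommRingCat.ofHom (algebraMap R T) ≫ (Scheme.ΓSpecIso (CommRingCat.of T)).inv ≫ z.appTop =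
          CommRingCat.ofHom (Ideal.Quotient.mk J) ≫ (Scheme.ΓSpecIso (CommRingCat.of (R ⧸ J))).inv ≫ w.appTop := by
        rw [Scheme.ΓSpecIso_inv_naturality_assoc, Scheme.ΓSpecIso_inv_naturality_assoc,
          ← Scheme.Hom.comp_appTop, ← Scheme.Hom.comp_appTop]
        rw [hz, hw]
      have e2 := congr($e1 r)
      show g (algebraMap R T r) = 0
      refine Eq.trans e2 ?_
      show w.appTop ((Scheme.ΓSpecIso (CommRingCat.of (R ⧸ J))).inv (Ideal.Quotient.mk J r)) = 0
      rw [Ideal.Quotient.eq_zero_iff_mem.mpr hr, map_zero, map_zero]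
    letI : Algebra Tb Γ(Y.left, ⊤) := (Ideal.Quotient.lift I g hker).toAlgebra
    haveI : IsScalarTower T Tb Γ(Y.left, ⊤) := IsScalarTower.of_algebraMap_eq fun r => rfl
    let t := τ Y ((e z hz).hom ≫ x)
    let f : MonoidAlgebra Tb (Multiplicative M) →ₐ[T] Γ(Y.left, ⊤) :=
      (MonoidAlgebra.lift Tb Γ(Y.left, ⊤) (Multiplicative M) t).restrictScalars T
    let k : Y ⟶ specOver (R := CommRingCat.of T) (MonoidAlgebra Tb (Multiplicative M)) := ptOfAlg f.toRingHom f.commutes
    have hfs : f.comp (CharLift.red I) = MonoidAlgebra.lift T Γ(Y.left, ⊤) (Multiplicative M) t := by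
      apply MonoidAlgebra.algHom_ext
      · intro m; simp [f, CharLift.red]
      · exact Subsingleton.elim _ _
    have hk : (Over.map (specP R T)).map k ≫ gPt (specP R T) P ub = P.σ t := by
      rw [gPt, P.σ_comp]
      congr 1
      ext m
      refine (ptOfAlg_appTop f.toRingHom f.commutes _).trans ?_
      simp [f, ub]
    have hk' : (Over.map (specP R T)).map k ≫ gPt (specP R T) P' s₀ = charVal P' s t := by
      rw [gPt, P'.σ_comp, charVal]
      congr 1
      refine MonoidHom.ext fun m => ?_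
      refine (ptOfAlg_appTop f.toRingHom f.commutes _).trans ?_
      show f (s₀ m) = MonoidAlgebra.lift T Γ(Y.left, ⊤) (Multiplicative M) t (s m)
      rw [← hfs, AlgHom.comp_apply, hs']
    rw [Category.assoc, ← hk', Category.assoc, hy, ← Category.assoc ((Over.map (specP R T)).map k), hk, hτ,
      Category.assoc, Iso.inv_hom_id_assoc]

end Groth.Agent.DiagRig
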