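import Groth.Agent.DiagRig.Rigid
import Groth.Agent.DiagRig.Agree
import Groth.Agent.DiagRig.ConjLift
import Groth.Prelude.Def_SGA3x

/-! Congruent subgroups of multiplicative type. -/

universe u

open CategoryTheory MonoidalCategory CartesianMonoidalCategory MonObj GrpObj AlgebraicGeometry Limits

noncomputable section

namespace Groth.Agent.DiagRig

lemma mono_conjHom {S : Scheme.{u}} {H G : Over S} [GrpObj G] (i : H ⟶ G) [Mono i] (g : 𝟙_ (Over S) ⟶ G) :
    Mono (conjHom i g) := ⟨fun x y h => by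
  rw [comp_conjHom, comp_conjHom] at h
  exact (cancel_mono i).mp (mul_left_cancel (mul_right_cancel h))⟩

/-- A homomorphism congruent to a central one modulo a nilpotent ideal is equal to it. -/
theorem central_eq_of_congr (n : ℕ) :
    ∀ (R : Type u) [CommRing R] (J : Ideal R), J ^ (n + 2) = ⊥ →
      ∀ (H G : Over (Spec (CommRingCat.of R))) [GrpObj H] [GrpObj G], SplitLoc H →
      ∀ (u v : H ⟶ G) [IsMonHom u] [IsMonHom v],
      (∀ (X : Over (Spec (CommRingCat.of R))) (g : X ⟶ G) (h : X ⟶ H), g * (h ≫ u) = (h ≫ u) * g) →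
      (∀ (X : Over (Spec (CommRingCat.of R))), OverJ J X → ∀ h : X ⟶ H, h ≫ u = h ≫ v) → u = v := by
  have fin : ∀ (R : Type u) [CommRing R] (J : Ideal R), J * J = ⊥ →
      ∀ (H G : Over (Spec (CommRingCat.of R))) [GrpObj H] [GrpObj G], SplitLoc H →
      ∀ (u v : H ⟶ G) [IsMonHom u] [IsMonHom v],
      (∀ (X : Over (Spec (CommRingCat.of R))) (g : X ⟶ G) (h : X ⟶ H), g * (h ≫ u) = (h ≫ u) * g) →
      CongMod u v J → u = v := by
    intro R _ J hJ H G _ _ ⟨S', f, hf, hsurj, hc, hloc⟩ u v _ _ hcen h0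
    obtain ⟨g, -, hg⟩ := exists_conj_of_congr (G := G) (H := H) f hc hloc hJ u v h0
    have h := hg H (𝟙 H)
    rw [hcen, mul_inv_cancel_right, Category.id_comp, Category.id_comp] at h
    exact h.symm
  induction n with
  | zero =>
    intro R _ J hJ H G _ _ hH u v _ _ hcen h0
    refine fin R J (by rw [← pow_two]; exact hJ) H G hH u v hcen fun T _ _ hT x => h0 _ ?_ x
    refine ⟨Spec.map (CommRingCat.ofHom (Ideal.Quotient.lift J (algebraMap R T) hT)), ?_⟩
    rw [← Spec.map_comp]
    rfl
  | succ n ih =>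
    intro R _ J hJ H G _ _ hH u v _ _ hcen h0
    let I : Ideal R := J ^ (n + 2)
    have hIJ : I ≤ J := Ideal.pow_le_self (by omega)
    have hII : I * I = ⊥ := by
      refine le_bot_iff.mp (le_trans ?_ hJ.le)
      rw [← pow_add]
      exact Ideal.pow_le_pow_right (by omega)
    refine fin R I hII H G hH u v hcen ?_
    let J' : Ideal (R ⧸ I) := J.map (Ideal.Quotient.mk I)
    have hJ' : J' ^ (n + 2) = ⊥ := by rw [← Ideal.map_pow, Ideal.map_quotient_self]
    let q : Spec (CommRingCat.of (R ⧸ I)) ⟶ Spec (CommRingCat.of R) :=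
      Spec.map (CommRingCat.ofHom (Ideal.Quotient.mk I))
    have : IsClosedImmersion q :=
      IsClosedImmersion.spec_of_surjective _ (by exact Ideal.Quotient.mk_surjective)
    have := isMonHom_bcMap q u
    have := isMonHom_bcMap q v
    have huv := ih (R ⧸ I) J' hJ' (Red.bc q H) (Red.bc q G) (hH.bc q) ((Over.pullback q).map u)
      ((Over.pullback q).map v)
      (fun X g h => bcTr_injective q (by rw [bcTr_mul, bcTr_mul, bcTr_map, hcen]))
      (fun X hX h => bcTr_injective q (by
        rw [bcTr_map, bcTr_map]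
        obtain ⟨w, hw⟩ := hX
        refine h0 _ ⟨w ≫ Spec.map (CommRingCat.ofHom
          (Ideal.quotientMap J' (Ideal.Quotient.mk I) Ideal.le_comap_map)), ?_⟩ _
        show _ = X.hom ≫ q
        rw [← hw, Category.assoc, Category.assoc, ← Spec.map_comp, ← Spec.map_comp]
        rfl))
    intro T _ _ hT x
    let χ : R ⧸ I →+* T := Ideal.Quotient.lift I (algebraMap R T) hT
    let X' : Over (Spec (CommRingCat.of (R ⧸ I))) := Over.mk (Spec.map (CommRingCat.ofHom χ))
    let e : (Over.map q).obj X' ≅ specOver (R := CommRingCat.of R) T := Over.isoMk (Iso.refl _) (by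
      show 𝟙 _ ≫ Spec.map _ = Spec.map _ ≫ Spec.map _
      rw [← Spec.map_comp, Category.id_comp]
      rfl)
    have h1 := congrArg (fun w => bcTr q (bcUn q (e.hom ≫ x) ≫ w)) huv
    rw [bcTr_map, bcTr_map, bcTr_bcUn, Category.assoc, Category.assoc, cancel_epi e.hom] at h1
    exact h1

end Groth.Agent.DiagRig
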