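import Groth.Agent.DiagRig.PointTransfer
import Groth.Agent.DiagRig.Cochar
import Groth.Agent.DiagRig.LocalImage
import Groth.Agent.DiagRig.MonoClosed

/-!
# Images of homomorphisms out of split groups
-/

universe u

open CategoryTheory MonoidalCategory CartesianMonoidalCategory MonObj GrpObj AlgebraicGeometry Limits MorphismProperty
open Groth.Agent.RedPts

noncomputable section

namespace Groth.Agent.DiagRig.SplitImage

set_option backward.isDefEq.respectTransparency.types false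
set_option maxHeartbeats 600000

open DSQuot PointChar PointTransfer

theorem isCover_of_iso {S : Scheme.{u}} {A B : Over S} (e : A ≅ B) : AGFQuot.Basic.IsCover e.hom :=
  ⟨inferInstance, inferInstance, inferInstance⟩

theorem isCover_bc {S W : Scheme.{u}} (w : W ⟶ S) {A B : Over S} {f : A ⟶ B} (h : AGFQuot.Basic.IsCover f) :
    AGFQuot.Basic.IsCover ((Over.pullback w).map f) :=
  ⟨MorphismProperty.of_isPullback (isPullback_bcMap w f) h.surj, MorphismProperty.of_isPullback (isPullback_bcMap w f) h.flat,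
    MorphismProperty.of_isPullback (isPullback_bcMap w f) h.lfp⟩

variable {V : Scheme.{u}} {G : Over V} [GrpObj G] {N : Type} [AddCommGroup N]

/-- A homomorphism with trivial character at a point is trivial at that point. -/
theorem trivFibre_of_hasChar_zero (P : SplitPoint G) (lam : Red.DS V N ⟶ G) [IsMonHom lam] (h : HasChar P lam 0)
    {x : V} (hx : ∀ y, P.k.base y = x) : TrivFibre lam x := by
  intro Y g z hz
  let χ := Scheme.SpecToEquivOfField P.K V P.k
  have hk : P.k = Spec.map χ.2 ≫ V.fromSpecResidueField χ.1 :=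
    ((Scheme.SpecToEquivOfField _ _).symm_apply_apply P.k).symm
  have hχ : χ.1 = x := by
    rw [← hx (default : PrimeSpectrum P.K), hk, Scheme.Hom.comp_apply, Scheme.fromSpecResidueField_apply]
  obtain ⟨ψ, hψ⟩ : ∃ ψ : V.residueField x ⟶ CommRingCat.of P.K, Spec.map ψ ≫ V.fromSpecResidueField x = P.k := by
    rw [← hχ]
    exact ⟨χ.2, hk.symm⟩
  have : Flat (Spec.map ψ) := flat_specMap_field _ _ ψ.hom
  have : Surjective (Spec.map ψ) := surjective_specMap_field _ _ ψ.hom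
  let Y' : Over (Spec (CommRingCat.of P.K)) := Over.mk (pullback.snd z (Spec.map ψ))
  let c : (Over.map P.k).obj Y' ⟶ Y := Over.homMk (pullback.fst z (Spec.map ψ)) (by
    show pullback.fst z (Spec.map ψ) ≫ Y.hom = pullback.snd z (Spec.map ψ) ≫ P.k
    rw [← hz, pullback.condition_assoc, hψ])
  have hcE : EffectiveEpi c.left := inferInstanceAs (EffectiveEpi (pullback.fst z (Spec.map ψ)))
  refine GrpdLib.GrpOver.cancel_left c ?_
  rw [MonObj.comp_one, ← Category.assoc, ← bcTr_bcUn P.k (c ≫ g), ← bcTr_map, ← bcTr_one P.k]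
  congr 1
  have hei : IsIso P.e.hom.hom.hom := ((Grp.forget _).mapIso P.e).isIso_hom
  rw [← cancel_mono P.e.hom.hom.hom,
    show (1 : Y' ⟶ Red.bc P.k G) ≫ P.e.hom.hom.hom = 1 from MonObj.one_comp P.e.hom.hom.hom]
  refine d_ext fun m => ?_
  rw [h, AddMonoidHom.zero_apply, d_zero]
  exact (DSQuot.d_one (Y := Y') m).symm

/-- A homomorphism with surjective character at a point is a monomorphism at that point. -/
theorem mono_fibre_of_hasChar_surjective (P : SplitPoint G) (lam : Red.DS V N ⟶ G) {φ : P.M →+ N}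
    (h : HasChar P lam φ) (hφ : Function.Surjective φ) {x : V} (hx : ∀ y, P.k.base y = x) :
    BCProp (monomorphisms Scheme.{u}) lam (V.fromSpecResidueField x) := by
  have := descendsAlong_mono.{u}
  obtain ⟨d, hd⟩ := exists_dsBC P.k N
  refine descend_point (monomorphisms Scheme.{u}) P.k hx ?_
  have : IsIso d.hom.hom.hom := ((Grp.forget _).mapIso d).isIso_hom
  have : IsIso P.e.hom.hom.hom := ((Grp.forget _).mapIso P.e).isIso_hom
  have e : (Over.pullback P.k).map lam ≫ P.e.hom.hom.hom =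
      d.hom.hom.hom ≫ Red.DSmap (Spec (CommRingCat.of P.K)) φ := d_ext fun m => by
    have h1 := h _ (𝟙 _) m
    have h2 := hd _ (𝟙 _) (φ m)
    rw [Category.id_comp] at h1 h2
    rw [DSmap_fn, h1, h2]
  have h1 : Mono (Red.DSmap (Spec (CommRingCat.of P.K)) φ).left := DSHom.mono_DSmap φ hφ
  have h2 : Mono (((Over.pullback P.k).map lam) ≫ P.e.hom.hom.hom).left := by
    rw [e]
    exact mono_comp _ _
  exact mono_of_mono ((Over.pullback P.k).map lam).left P.e.hom.hom.hom.left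

theorem dsBC_natural {W : Scheme.{u}} (w : W ⟶ V) {M : Type} [AddCommGroup M] (φ : M →+ N)
    (dN : Grp.mk (Red.bc w (Red.DS V N)) ≅ Grp.mk (Red.DS W N))
    (hN : ∀ (Y : Over W) (x : Y ⟶ Red.bc w (Red.DS V N)) (n : N), dFn (x ≫ dN.hom.hom.hom) n = dFn (bcTr w x) n)
    (dM : Grp.mk (Red.bc w (Red.DS V M)) ≅ Grp.mk (Red.DS W M))
    (hM : ∀ (Y : Over W) (x : Y ⟶ Red.bc w (Red.DS V M)) (n : M), dFn (x ≫ dM.hom.hom.hom) n = dFn (bcTr w x) n) :
    Red.DSmap W φ ≫ dM.inv.hom.hom = dN.inv.hom.hom ≫ (Over.pullback w).map (Red.DSmap V φ) := by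
  let iM : Red.bc w (Red.DS V M) ≅ Red.DS W M := (Grp.forget _).mapIso dM
  let iN : Red.bc w (Red.DS V N) ≅ Red.DS W N := (Grp.forget _).mapIso dN
  show Red.DSmap W φ ≫ iM.inv = iN.inv ≫ (Over.pullback w).map (Red.DSmap V φ)
  rw [Iso.comp_inv_eq, Category.assoc, Iso.eq_inv_comp]
  refine d_ext fun m => ?_
  show dFn (dN.hom.hom.hom ≫ Red.DSmap W φ) m = dFn ((Over.pullback w).map (Red.DSmap V φ) ≫ dM.hom.hom.hom) m
  rw [DSmap_fn, hM, ← Category.id_comp dN.hom.hom.hom, hN,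
    ← Category.id_comp ((Over.pullback w).map (Red.DSmap V φ)), bcTr_map, DSmap_fn]

/-- Near any point a homomorphism out of a split group factors as a cover onto a split closed subgroup. -/
theorem exists_split_factor (hG : SGA3x.IsMultTypeFT G) (hN : AddGroup.FG N) (F : Red.DS V N ⟶ G) [IsMonHom F]
    (x : V) :
    ∃ (W : Scheme.{u}) (w : W ⟶ V) (_ : IsOpenImmersion w) (K : AddSubgroup N) (q : Red.bc w (Red.DS V N) ⟶ Red.DS W K)
      (g : Red.DS W K ⟶ Red.bc w G), x ∈ w.opensRange ∧ IsMonHom g ∧ AGFQuot.Basic.IsCover q ∧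
      IsClosedImmersion g.left ∧ q ≫ g = (Over.pullback w).map F := by
  have haff := multType_isAffineHom G hG
  obtain ⟨P, hP⟩ := nonempty_splitPoint hG x
  obtain ⟨φ, hφ⟩ := exists_hasChar P hN F
  let K : AddSubgroup N := φ.range
  let π := QuotientAddGroup.mk' K
  have hNK : AddGroup.FG (N ⧸ K) := AddGroup.fg_of_surjective (hG := hN) (QuotientAddGroup.mk'_surjective K)
  have hK : AddGroup.FG K := (fg_subgroup hN K).2
  have := isMonHom_DSmap (S := V) π
  have hπ0 : HasChar P (Red.DSmap V π ≫ F) 0 := by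
    have h0 := hφ.comp P π
    rwa [show π.comp φ = 0 from AddMonoidHom.ext fun m => (QuotientAddGroup.eq_zero_iff _).mpr ⟨m, rfl⟩] at h0
  obtain ⟨U₁, hU₁c, hU₁s, hU₁⟩ := trivial_locus (Red.DSmap V π ≫ F) (isMultTypeFT_DS V (N ⧸ K) hNK)
    (Or.inr (multType_locallyOfFinitePresentation G hG))
  have hxU : x ∈ U₁ := (hU₁s x).mpr (trivFibre_of_hasChar_zero P _ hπ0 hP)
  have hq := rel_ds (S := V) hN K (𝟙 (Red.DS V (N ⧸ K)))
  rw [Category.id_comp] at hq
  have hq₁ := hq.bc U₁.ι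
  have := hq₁.1.effectiveEpi
  obtain ⟨g₁, hg₁, -⟩ := GrpdLib.GrpOver.existsUnique_desc ((Over.pullback U₁.ι).map (Red.DSmap V K.subtype))
    ((Over.pullback U₁.ι).map F) fun Y a b e => by
      obtain ⟨y, rfl⟩ := (hq₁.2 Y a b).mp e
      have hmF := isMonHom_bcMap U₁.ι F
      have hy : (y ≫ (Over.pullback U₁.ι).map (Red.DSmap V π)) ≫ (Over.pullback U₁.ι).map F = 1 := by
        refine bcTr_injective U₁.ι ?_
        rw [bcTr_one, bcTr_map, bcTr_map, Category.assoc]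
        refine hU₁ _ _ ?_
        rintro _ ⟨p, rfl⟩
        exact (Y.hom.base p).2
      rw [MonObj.mul_comp, hy, _root_.mul_one]
  have hmF := isMonHom_bcMap U₁.ι F
  have hms : IsMonHom (Red.DSmap V K.subtype) := isMonHom_DSmap _
  have hmq := isMonHom_bcMap U₁.ι (Red.DSmap V K.subtype)
  have hg₁m : IsMonHom g₁ := Cochar.isMonHom_desc hq₁.1 hg₁
  obtain ⟨dK, hdK⟩ := exists_dsBC U₁.ι K
  obtain ⟨dN, hdN⟩ := exists_dsBC U₁.ι N
  have : IsMonHom dK.inv.hom.hom := dK.inv.hom.isMonHom_hom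
  let g' : Red.DS U₁ K ⟶ Red.bc U₁.ι G := dK.inv.hom.hom ≫ g₁
  have hg'm : IsMonHom g' := inferInstance
  let k' : Spec (CommRingCat.of P.K) ⟶ U₁ := IsOpenImmersion.lift U₁.ι P.k (by
    rintro _ ⟨y, rfl⟩
    rw [Scheme.Opens.range_ι, hP]
    exact hxU)
  have hk : k' ≫ U₁.ι = P.k := IsOpenImmersion.lift_fac _ _ _
  let P' := restrict P U₁.ι k' hk
  obtain ⟨φ', hφ'⟩ := exists_hasChar P' hK g'
  have hφφ : K.subtype.comp φ' = φ := by
    have h1 := hφ'.comp P' K.subtype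
    have e : Red.DSmap U₁ K.subtype ≫ g' = dN.inv.hom.hom ≫ (Over.pullback U₁.ι).map F := by
      show Red.DSmap U₁ K.subtype ≫ dK.inv.hom.hom ≫ g₁ = _
      rw [← Category.assoc, dsBC_natural U₁.ι K.subtype dN hdN dK hdK, Category.assoc, hg₁]
    rw [e] at h1
    exact h1.unique P' (hasChar_restrict P U₁.ι k' hk F hφ dN hdN)
  have hφ's : Function.Surjective φ' := by
    rintro ⟨_, m, rfl⟩
    exact ⟨m, Subtype.ext (DFunLike.congr_fun hφφ m)⟩
  have hG₁ := isMultTypeFT_bc U₁.ι hG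
  have hP' : ∀ y, P'.k.base y = (⟨x, hxU⟩ : U₁) := fun y => Subtype.ext (by
    show U₁.ι.base (k'.base y) = x
    rw [← Scheme.Hom.comp_apply, hk, hP])
  obtain ⟨U₂, hU₂c, hU₂s, hU₂⟩ := exists_mono_locus (Red.DS U₁ K) (Red.bc U₁.ι G) (isMultTypeFT_DS _ K hK) hG₁ g'
  have hxU₂ : (⟨x, hxU⟩ : U₁) ∈ U₂ := (hU₂s _).mpr (mono_fibre_of_hasChar_surjective P' g' hφ' hφ's hP')
  let w : (U₂ : Scheme.{u}) ⟶ V := U₂.ι ≫ U₁.ι
  let cN := (AbVarLib.BcComp.compIso U₁.ι U₂.ι w rfl).app (Red.DS V N)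
  let cG := (AbVarLib.BcComp.compIso U₁.ι U₂.ι w rfl).app G
  have hcG : IsMonHom (M := Red.bc U₂.ι (Red.bc U₁.ι G)) (N := Red.bc w G) cG.hom :=
    AbVarLib.BcComp.isMonHom_compIso_hom U₁.ι U₂.ι w rfl G
  obtain ⟨d₂, hd₂⟩ := exists_dsBC U₂.ι K
  let i₂ : Red.bc U₂.ι (Red.DS U₁ K) ≅ Red.DS U₂ K := (Grp.forget _).mapIso d₂
  let iK : Red.bc U₁.ι (Red.DS V K) ≅ Red.DS U₁ K := (Grp.forget _).mapIso dK
  have : IsMonHom i₂.inv := d₂.inv.hom.isMonHom_hom
  have := isMonHom_bcMap U₂.ι g'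
  let q₁ := (Over.pullback U₁.ι).map (Red.DSmap V K.subtype) ≫ iK.hom
  let q : Red.bc w (Red.DS V N) ⟶ Red.DS U₂ K := cN.inv ≫ (Over.pullback U₂.ι).map q₁ ≫ i₂.hom
  let g : Red.DS U₂ K ⟶ Red.bc w G := (i₂.inv ≫ (Over.pullback U₂.ι).map g') ≫ cG.hom
  have hgm : IsMonHom g := inferInstance
  have hgmono : Mono g := by
    have : Mono ((Over.pullback U₂.ι).map g') := Over.mono_of_mono_left _
    exact inferInstance
  have hGw := isMultTypeFT_bc w hG
  have := multType_isAffineHom _ hGw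
  refine ⟨U₂, w, inferInstance, K, q, g, ⟨⟨⟨x, hxU⟩, hxU₂⟩, rfl⟩, hgm, ?_,
    isClosedImmersion_of_mono g (splitFpqc_of_multTypeFT _ (isMultTypeFT_DS _ K hK)), ?_⟩
  · exact (isCover_of_iso cN.symm).comp ((isCover_bc U₂.ι (hq₁.1.comp (isCover_of_iso iK))).comp (isCover_of_iso i₂))
  · have e₁ : q₁ ≫ g' = (Over.pullback U₁.ι).map F := by
      show ((Over.pullback U₁.ι).map (Red.DSmap V K.subtype) ≫ iK.hom) ≫ iK.inv ≫ g₁ = _
      rw [Category.assoc, Iso.hom_inv_id_assoc, hg₁]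
    simp only [q, g, Category.assoc, Iso.hom_inv_id_assoc]
    rw [← Functor.map_comp_assoc, e₁, Iso.inv_comp_eq]
    exact (AbVarLib.BcComp.compIso U₁.ι U₂.ι w rfl).hom.naturality F

end Groth.Agent.DiagRig.SplitImage
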