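import Groth.Agent.DiagRig.SplitImage
import Groth.Agent.DiagRig.MaxSplit

/-!
# Locally split subtori form a directed family
-/

universe u

open CategoryTheory MonoidalCategory CartesianMonoidalCategory MonObj GrpObj AlgebraicGeometry Limits MorphismProperty
open Groth.Agent.RedPts

noncomputable section

namespace Groth.Agent.DiagRig.SplitSub

set_option backward.isDefEq.respectTransparency.types false
set_option maxHeartbeats 600000

open DSQuot PointChar SplitImage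

variable {S : Scheme.{u}}

/-- Zariski-locally split tori. -/
def LocSplit (E : Over S) [GrpObj E] : Prop :=
  ∀ s : ↥S, ∃ U : S.Opens, s ∈ U ∧ ∃ r : ℕ, Red.IsSplitTorusWith (Fin r → ℤ) (Red.bc U.ι E)

/-- A split torus stays split after restriction. -/
theorem isSplit_of_comp {V W : Scheme.{u}} (v : V ⟶ S) (j : W ⟶ V) (w : W ⟶ S) (hj : j ≫ v = w) {E : Over S}
    [GrpObj E] {r : ℕ} (h : Red.IsSplitTorusWith (Fin r → ℤ) (Red.bc v E)) :
    Red.IsSplitTorusWith (Fin r → ℤ) (Red.bc w E) := by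
  obtain ⟨e⟩ := h
  obtain ⟨d, -⟩ := exists_dsBC j (Fin r → ℤ)
  exact ⟨(bcGrpIso v j w hj E).symm ≪≫ bcGrpMap j e ≪≫ d⟩

theorem quasiCompact_of_locSplit {E : Over S} [GrpObj E] (h : LocSplit E) : IsAffineHom E.hom := by
  choose U hU r hr using h
  refine (IsZariskiLocalAtTarget.iff_of_openCover (P := @IsAffineHom)
    (S.openCoverOfIsOpenCover U (TopologicalSpace.IsOpenCover.mk (by
      ext x; simpa using ⟨x, hU x⟩)))).mpr fun s => ?_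
  obtain ⟨e⟩ := hr s
  show IsAffineHom (pullback.snd E.hom (U s).ι)
  let i : Red.bc (U s).ι E ≅ Red.DS (U s : Scheme.{u}) (Fin (r s) → ℤ) := (Grp.forget _).mapIso e
  have := multType_isAffineHom _ (isMultTypeFT_DS (U s : Scheme.{u}) (Fin (r s) → ℤ) (MaxSplit.fg_fin _))
  rw [show pullback.snd E.hom (U s).ι = i.hom.left ≫ (Red.DS (U s : Scheme.{u}) (Fin (r s) → ℤ)).hom from (Over.w i.hom).symm]
  exact inferInstance

/-- A split group of a free group of finite rank is a split torus. -/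
theorem exists_free_iso (V : Scheme.{u}) (N : Type) [AddCommGroup N] [Module.Free ℤ N] [Module.Finite ℤ N]
    (K : AddSubgroup N) : ∃ r : ℕ, Nonempty (Grp.mk (Red.DS V K) ≅ Grp.mk (Red.DS V (Fin r → ℤ))) := by
  obtain ⟨r, b⟩ := Submodule.basisOfPid (Module.finBasis ℤ N) (AddSubgroup.toIntSubmodule K)
  let e : K ≃+ (Fin r → ℤ) := b.equivFun.toAddEquiv
  let f := Red.DSmap V e.symm.toAddMonoidHom
  have : IsIso f := by
    have : IsIso ((CategoryTheory.Over.forget V).map f) := DSHom.isIso_DSmap _ e.symm.bijective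
    exact isIso_of_reflects_iso f (CategoryTheory.Over.forget V)
  have : IsMonHom f := isMonHom_DSmap _
  have : IsMonHom (asIso f).hom := ‹IsMonHom f›
  exact ⟨r, ⟨Grp.mkIso' (asIso f)⟩⟩

/-- The product of two split tori is split. -/
theorem exists_prod_iso {V : Scheme.{u}} (v : V ⟶ S) {E₁ E₂ : Over S} [GrpObj E₁] [GrpObj E₂] {M₁ M₂ : Type}
    [AddCommGroup M₁] [AddCommGroup M₂] (e₁ : Red.bc v E₁ ≅ Red.DS V M₁) (e₂ : Red.bc v E₂ ≅ Red.DS V M₂) :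
    ∃ ψ : Red.bc v (E₁ ⊗ E₂) ≅ Red.DS V (M₁ × M₂),
      ψ.hom ≫ Red.DSmap V (AddMonoidHom.inl M₁ M₂) = (Over.pullback v).map (fst E₁ E₂) ≫ e₁.hom ∧
      ψ.hom ≫ Red.DSmap V (AddMonoidHom.inr M₁ M₂) = (Over.pullback v).map (snd E₁ E₂) ≫ e₂.hom := by
  let P₁ := Red.DSmap V (AddMonoidHom.inl M₁ M₂)
  let P₂ := Red.DSmap V (AddMonoidHom.inr M₁ M₂)
  let I₁ := Red.DSmap V (AddMonoidHom.fst M₁ M₂)
  let I₂ := Red.DSmap V (AddMonoidHom.snd M₁ M₂)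
  have hP : ∀ {Y : Over V} (x : Y ⟶ Red.DS V M₁) (y : Y ⟶ Red.DS V M₂),
      ((x ≫ I₁) * (y ≫ I₂)) ≫ P₁ = x ∧ ((x ≫ I₁) * (y ≫ I₂)) ≫ P₂ = y := fun {Y} x y =>
    ⟨d_ext fun m => by simp only [P₁, I₁, I₂, DSmap_fn, d_mul]; simp [d_zero],
      d_ext fun m => by simp only [P₂, I₁, I₂, DSmap_fn, d_mul]; simp [d_zero]⟩
  have hI : ∀ {Y : Over V} (z : Y ⟶ Red.DS V (M₁ × M₂)), ((z ≫ P₁) ≫ I₁) * ((z ≫ P₂) ≫ I₂) = z := fun {Y} z =>
    d_ext fun m => by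
      simp only [P₁, P₂, I₁, I₂, DSmap_fn, d_mul, ← d_add]
      simp
  let a : Red.bc v (E₁ ⊗ E₂) ⟶ Red.DS V (M₁ × M₂) :=
    (((Over.pullback v).map (fst E₁ E₂) ≫ e₁.hom) ≫ I₁) * (((Over.pullback v).map (snd E₁ E₂) ≫ e₂.hom) ≫ I₂)
  let b : Red.DS V (M₁ × M₂) ⟶ Red.bc v (E₁ ⊗ E₂) :=
    bcUn v (lift (bcTr v (P₁ ≫ e₁.inv)) (bcTr v (P₂ ≫ e₂.inv)))
  have ha₁ : a ≫ P₁ = (Over.pullback v).map (fst E₁ E₂) ≫ e₁.hom := (hP _ _).1
  have ha₂ : a ≫ P₂ = (Over.pullback v).map (snd E₁ E₂) ≫ e₂.hom := (hP _ _).2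
  have hb₁ : b ≫ (Over.pullback v).map (fst E₁ E₂) = P₁ ≫ e₁.inv :=
    bcTr_injective v (by rw [bcTr_map, bcTr_bcUn, lift_fst])
  have hb₂ : b ≫ (Over.pullback v).map (snd E₁ E₂) = P₂ ≫ e₂.inv :=
    bcTr_injective v (by rw [bcTr_map, bcTr_bcUn, lift_snd])
  refine ⟨⟨a, b, bcTr_injective v (CartesianMonoidalCategory.hom_ext _ _ ?_ ?_), ?_⟩, ha₁, ha₂⟩
  · rw [← bcTr_map, ← bcTr_map, Category.assoc, hb₁, reassoc_of% ha₁, Iso.hom_inv_id, Category.comp_id, Category.id_comp]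
  · rw [← bcTr_map, ← bcTr_map, Category.assoc, hb₂, reassoc_of% ha₂, Iso.hom_inv_id, Category.comp_id, Category.id_comp]
  · have h1 : (b ≫ a) ≫ P₁ = 𝟙 _ ≫ P₁ := by
      rw [Category.assoc, ha₁, reassoc_of% hb₁, Iso.inv_hom_id, Category.comp_id, Category.id_comp]
    have h2 : (b ≫ a) ≫ P₂ = 𝟙 _ ≫ P₂ := by
      rw [Category.assoc, ha₂, reassoc_of% hb₂, Iso.inv_hom_id, Category.comp_id, Category.id_comp]
    rw [← hI (b ≫ a), h1, h2, hI]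

/-- Two locally split subtori lie in a third. -/
theorem exists_join {G : Over S} [GrpObj G] (hG : SGA3x.IsMultTypeFT G) {E₁ E₂ : Over S} [GrpObj E₁] [GrpObj E₂]
    (j₁ : E₁ ⟶ G) [IsMonHom j₁] (j₂ : E₂ ⟶ G) [IsMonHom j₂] (h₁ : LocSplit E₁) (h₂ : LocSplit E₂) :
    ∃ (E₃ : Over S) (_ : GrpObj E₃) (j₃ : E₃ ⟶ G) (g₁ : E₁ ⟶ E₃) (g₂ : E₂ ⟶ E₃), IsMonHom j₃ ∧ Mono j₃ ∧
      LocSplit E₃ ∧ g₁ ≫ j₃ = j₁ ∧ g₂ ≫ j₃ = j₂ := by
  have := multType_isAffineHom G hG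
  have := quasiCompact_of_locSplit h₁
  have := quasiCompact_of_locSplit h₂
  let f : E₁ ⊗ E₂ ⟶ G := (fst E₁ E₂ ≫ j₁) * (snd E₁ E₂ ≫ j₂)
  have hfm : IsMonHom f := isMonHom_mul hG _ _
  have : QuasiCompact (E₁ ⊗ E₂).hom :=
    inferInstanceAs (QuasiCompact (pullback.fst E₁.hom E₂.hom ≫ E₁.hom))
  have : QuasiCompact (f.left ≫ G.hom) := by rw [CategoryTheory.Over.w]; infer_instance
  have hfq : QuasiCompact f.left := QuasiCompact.of_comp f.left G.hom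
  have hloc : ∀ s : ↥S, ∃ (W : Scheme.{u}) (w : W ⟶ S) (_ : IsOpenImmersion w) (T : Grp (Over W)),
      (s ∈ w.opensRange ∧ LocalImage.IsLocalImage f w T) ∧ ∃ r, Red.IsSplitTorusWith (Fin r → ℤ) T.X := fun s => by
    obtain ⟨U₁, hs₁, r₁, hr₁⟩ := h₁ s
    obtain ⟨U₂, hs₂, r₂, hr₂⟩ := h₂ s
    let U : S.Opens := U₁ ⊓ U₂
    obtain ⟨e₁⟩ := isSplit_of_comp U₁.ι (S.homOfLE (inf_le_left : U ≤ U₁)) U.ι (S.homOfLE_ι _) hr₁
    obtain ⟨e₂⟩ := isSplit_of_comp U₂.ι (S.homOfLE (inf_le_right : U ≤ U₂)) U.ι (S.homOfLE_ι _) hr₂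
    let i₁ : Red.bc U.ι E₁ ≅ Red.DS (U : Scheme.{u}) (Fin r₁ → ℤ) := (Grp.forget _).mapIso e₁
    let i₂ : Red.bc U.ι E₂ ≅ Red.DS (U : Scheme.{u}) (Fin r₂ → ℤ) := (Grp.forget _).mapIso e₂
    have : IsMonHom i₁.inv := e₁.inv.hom.isMonHom_hom
    have : IsMonHom i₂.inv := e₂.inv.hom.isMonHom_hom
    obtain ⟨ψ, hψ₁, hψ₂⟩ := exists_prod_iso U.ι i₁ i₂
    have hG' := isMultTypeFT_bc U.ι hG
    have hm₁ := isMonHom_bcMap U.ι j₁
    have hm₂ := isMonHom_bcMap U.ι j₂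
    have := isMonHom_DSmap (S := (U : Scheme.{u})) (AddMonoidHom.inl (Fin r₁ → ℤ) (Fin r₂ → ℤ))
    have := isMonHom_DSmap (S := (U : Scheme.{u})) (AddMonoidHom.inr (Fin r₁ → ℤ) (Fin r₂ → ℤ))
    let F : Red.DS (U : Scheme.{u}) ((Fin r₁ → ℤ) × (Fin r₂ → ℤ)) ⟶ Red.bc U.ι G :=
      ((Red.DSmap _ (AddMonoidHom.inl _ _) ≫ i₁.inv) ≫ (Over.pullback U.ι).map j₁) *
      ((Red.DSmap _ (AddMonoidHom.inr _ _) ≫ i₂.inv) ≫ (Over.pullback U.ι).map j₂)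
    have hFm : IsMonHom F := isMonHom_mul hG' _ _
    have hψF : ψ.hom ≫ F = (Over.pullback U.ι).map f := by
      simp only [F, MonObj.comp_mul, ← Category.assoc, hψ₁, hψ₂]
      simp only [Category.assoc, Iso.hom_inv_id_assoc]
      refine bcTr_injective U.ι ?_
      rw [bcTr_mul, bcTr_map, bcTr_map, ← Category.id_comp ((Over.pullback U.ι).map f), bcTr_map]
      simp only [f, MonObj.comp_mul, Category.assoc]
      rw [← Category.id_comp ((Over.pullback U.ι).map (fst E₁ E₂)), bcTr_map,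
        ← Category.id_comp ((Over.pullback U.ι).map (snd E₁ E₂)), bcTr_map, Category.assoc, Category.assoc]
    have hN : AddGroup.FG ((Fin r₁ → ℤ) × (Fin r₂ → ℤ)) := AddGroup.fg_iff_addMonoid_fg.mpr inferInstance
    obtain ⟨W, w, hw, K, q, g, hsw, hgm, hq, hgc, hqg⟩ := exists_split_factor hG' hN F (⟨s, hs₁, hs₂⟩ : U)
    let cE := (AbVarLib.BcComp.compIso U.ι w (w ≫ U.ι) rfl).app (E₁ ⊗ E₂)
    let cG := (AbVarLib.BcComp.compIso U.ι w (w ≫ U.ι) rfl).app G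
    have hcG : IsMonHom (M := Red.bc w (Red.bc U.ι G)) (N := Red.bc (w ≫ U.ι) G) cG.hom :=
      AbVarLib.BcComp.isMonHom_compIso_hom U.ι w (w ≫ U.ι) rfl G
    have : IsIso cG.hom.left := inferInstanceAs (IsIso ((CategoryTheory.Over.forget W).map cG.hom))
    obtain ⟨p, hp⟩ := hsw
    obtain ⟨r, hr⟩ := exists_free_iso W _ K
    refine ⟨W, w ≫ U.ι, inferInstance, Grp.mk (Red.DS W K), ⟨⟨p, ?_⟩,
      cE.inv ≫ (Over.pullback w).map ψ.hom ≫ q, g ≫ cG.hom, inferInstance, ?_, ?_, ?_⟩, r, hr⟩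
    · show U.ι.base (w.base p) = s
      exact congrArg Subtype.val hp
    · exact (isCover_of_iso cE.symm).comp ((isCover_bc w (isCover_of_iso ψ)).comp hq)
    · exact inferInstanceAs (IsClosedImmersion (g.left ≫ cG.hom.left))
    · simp only [Category.assoc]
      rw [← Category.assoc q, hqg, ← Functor.map_comp_assoc, hψF, Iso.inv_comp_eq]
      exact (AbVarLib.BcComp.compIso U.ι w (w ≫ U.ι) rfl).hom.naturality f
  obtain ⟨inst, hjm, ht, hiso⟩ := LocalImage.exists_subgroup f fun s => by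
    obtain ⟨W, w, hw, T, h, -⟩ := hloc s
    exact ⟨W, w, hw, T, h⟩
  have := LocalImage.mono_imageMap f
  refine ⟨LocalImage.imageObj f, inst, LocalImage.imageMap f, lift (𝟙 E₁) 1 ≫ LocalImage.toImage f,
    lift 1 (𝟙 E₂) ≫ LocalImage.toImage f, hjm, this, fun s => ?_, ?_, ?_⟩
  · obtain ⟨W, w, hw, T, ⟨hs, hT⟩, r, ⟨eT⟩⟩ := hloc s
    obtain ⟨e⟩ := hiso w T hT
    exact ⟨w.opensRange, hs, r, isSplit_of_comp w w.isoOpensRange.inv w.opensRange.ι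
      (by rw [Iso.inv_comp_eq, Scheme.Hom.isoOpensRange_hom_ι]) ⟨e ≪≫ eT⟩⟩
  · rw [Category.assoc, LocalImage.toImage_map]
    simp [f, MonObj.comp_mul]
  · rw [Category.assoc, LocalImage.toImage_map]
    simp [f, MonObj.comp_mul]

end Groth.Agent.DiagRig.SplitSub
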