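import Groth.Agent.DiagRig.GenericExtend
import Groth.Agent.DiagRig.Cochar
import Groth.Agent.S2280

/-!
# The greatest split subtorus over opens of a normal base
-/

universe u

open CategoryTheory MonoidalCategory CartesianMonoidalCategory MonObj GrpObj AlgebraicGeometry Limits

noncomputable section

namespace Groth.Agent.DiagRig.SplitSubGeneric

set_option backward.isDefEq.respectTransparency.types false

variable {S : Scheme.{u}} [ConnectedSpace ↥S] [IsLocallyNoetherian S]
    (hnorm : ∀ x : ↥S, IsDomain (S.presheaf.stalk x) ∧ IsIntegrallyClosed (S.presheaf.stalk x))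
    {T T₀ : Over S} [GrpObj T] [GrpObj T₀] (hT : Red.IsTorus T) (j₀ : T₀ ⟶ T) [IsMonHom j₀]
    (hmax : ∀ (T' : Over S) [GrpObj T'] (j' : T' ⟶ T) [IsMonHom j'] [Mono j'] (r' : ℕ),
      Red.IsSplitTorusWith (Fin r' → ℤ) T' → ∃ g : T' ⟶ T₀, g ≫ j₀ = j')

include hnorm hT hmax in
/-- Homomorphisms from split tori over opens factor through the greatest split subtorus. -/
theorem exists_factor (U : S.Opens) (T' : Over (U : Scheme.{u})) [GrpObj T'] (j' : T' ⟶ Red.bc U.ι T)
    [IsMonHom j'] (r' : ℕ) (hT' : Red.IsSplitTorusWith (Fin r' → ℤ) T') :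
    ∃ g : T' ⟶ Red.bc U.ι T₀, g ≫ (Over.pullback U.ι).map j₀ = j' := by
  by_cases hU : Nonempty ↥U
  · obtain ⟨u⟩ := hU
    have : IsIntegral S := (S2280.result S).2.mpr ⟨inferInstance, fun x => (hnorm x).1⟩
    have hη : genericPoint S ∈ U := (genericPoint_specializes u.1).mem_open U.2 u.2
    let g := U.fromSpecStalkOfMem (genericPoint S) hη
    have : IsDominant g := by
      refine ⟨fun y => ?_⟩
      let p : Spec (S.presheaf.stalk (genericPoint S)) := IsLocalRing.closedPoint _
      have hp : U.ι (g p) = genericPoint S := by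
        rw [← Scheme.Hom.comp_apply, Scheme.Opens.fromSpecStalkOfMem_ι]
        exact Scheme.fromSpecStalk_closedPoint
      have hs : g p ⤳ y := by
        rw [← U.ι.isOpenEmbedding.isInducing.specializes_iff, hp]
        exact genericPoint_specializes _
      exact hs.mem_closed isClosed_closure (subset_closure ⟨p, rfl⟩)
    let N : Type := Fin r' → ℤ
    have hN : AddGroup.FG N := AddGroup.fg_iff_addMonoid_fg.mpr inferInstance
    obtain ⟨d, -⟩ := DSQuot.exists_dsBC U.ι N
    obtain ⟨e⟩ := hT'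
    let c : Red.bc U.ι (Red.DS S N) ⟶ T' := d.hom.hom.hom ≫ e.inv.hom.hom
    have : IsMonHom d.hom.hom.hom := d.hom.hom.isMonHom_hom
    have : IsMonHom e.inv.hom.hom := e.inv.hom.isMonHom_hom
    have : IsMonHom (c ≫ j') := inferInstance
    obtain ⟨a, ha, hav⟩ := GenericExtend.exists_extend_of hnorm
      (QiChart.exists_chart_DS (multTypeFT_of_torus hT) N) U.ι g (U.fromSpecStalkOfMem_ι _ hη) (c ≫ j')
    obtain ⟨r, j, hj, hjm, huniv⟩ := Cochar.exists_greatest (multTypeFT_of_torus hT)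
    obtain ⟨g₀, hg₀⟩ := hmax _ j r ⟨CategoryTheory.Iso.refl _⟩
    obtain ⟨k, hk⟩ := huniv r' a
    let w : Red.bc U.ι (Red.DS S N) ⟶ Red.bc U.ι T₀ := (Over.pullback U.ι).map (k ≫ g₀)
    refine ⟨e.hom.hom.hom ≫ d.inv.hom.hom ≫ w, ?_⟩
    have hw : w ≫ (Over.pullback U.ι).map j₀ = c ≫ j' := by
      rw [← Functor.map_comp, Category.assoc, hg₀, hk, hav]
    rw [Category.assoc, Category.assoc, hw]
    have h1 : d.inv.hom.hom ≫ d.hom.hom.hom = 𝟙 _ := congrArg (fun x => x.hom.hom) d.inv_hom_id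
    have h2 : e.hom.hom.hom ≫ e.inv.hom.hom = 𝟙 _ := congrArg (fun x => x.hom.hom) e.hom_inv_id
    show e.hom.hom.hom ≫ d.inv.hom.hom ≫ (d.hom.hom.hom ≫ e.inv.hom.hom) ≫ j' = j'
    simp only [← Category.assoc]
    rw [Category.assoc e.hom.hom.hom d.inv.hom.hom, h1, Category.comp_id, h2, Category.id_comp]
  · have : IsEmpty ↥(U : Scheme.{u}) := not_nonempty_iff.mp hU
    have : IsEmpty T'.left := Function.isEmpty T'.hom
    let h : IsInitial T'.left := isInitialOfIsEmpty
    exact ⟨CategoryTheory.Over.homMk (h.to _) (h.hom_ext _ _), CategoryTheory.Over.OverMorphism.ext (h.hom_ext _ _)⟩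

end Groth.Agent.DiagRig.SplitSubGeneric
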