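import Groth.Agent.DiagRig.SplitSub

/-!
# The greatest locally split subtorus
-/

universe u

open CategoryTheory MonoidalCategory CartesianMonoidalCategory MonObj GrpObj AlgebraicGeometry Limits MorphismProperty
open Groth.Agent.RedPts

noncomputable section

namespace Groth.Agent.DiagRig.SplitSubMax

set_option backward.isDefEq.respectTransparency.types false

open DSQuot PointChar SplitSub

variable {S : Scheme.{u}}

theorem isSplit_geomFibre {T : Over S} [GrpObj T] {U : S.Opens} {r : ℕ}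
    (h : Red.IsSplitTorusWith (Fin r → ℤ) (Red.bc U.ι T)) {s : S} (hs : s ∈ U) :
    Red.IsSplitTorusWith (Fin r → ℤ) (Red.geomFibre s T) :=
  isSplit_of_comp U.ι (IsOpenImmersion.lift U.ι (Red.geomPt s) (by
    rintro _ ⟨y, rfl⟩
    rw [Scheme.Opens.range_ι]
    show (Red.geomPt s).base y ∈ U
    rw [Scheme.Hom.comp_apply, Scheme.fromSpecResidueField_apply]
    exact hs)) (Red.geomPt s) (IsOpenImmersion.lift_fac _ _ _) h

theorem isTorus_of_locSplit {T : Over S} [GrpObj T] (h : LocSplit T) : Red.IsTorus T :=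
  ⟨S, 𝟙 S, inferInstance, inferInstance, fun W hW => ⟨W, hW.isCompact, by simp⟩, fun s => by
    obtain ⟨U, hs, r, hr⟩ := h s
    exact ⟨U, hs, r, isSplit_of_comp U.ι (𝟙 _) _ (by simp) hr⟩⟩

theorem exists_rank {T : Over S} [GrpObj T] (h : LocSplit T) (s : S) :
    ∃ r : ℕ, Red.IsSplitTorusWith (Fin r → ℤ) (Red.geomFibre s T) := by
  obtain ⟨U, hs, r, hr⟩ := h s
  exact ⟨r, isSplit_geomFibre hr hs⟩

/-- The rank of a subtorus is bounded at a point. -/
theorem rank_mono {A B : Over S} [GrpObj A] [GrpObj B] (g : A ⟶ B) [IsMonHom g] [Mono g] (s : S) {r : ℕ}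
    (hA : Red.IsSplitTorusWith (Fin r → ℤ) (Red.geomFibre s A)) (P : SplitPoint (Red.geomFibre s B)) :
    r ≤ Module.finrank ℤ P.M := by
  obtain ⟨e⟩ := hA
  let i : Red.geomFibre s A ≅ Red.DS _ (Fin r → ℤ) := (Grp.forget _).mapIso e
  have : IsMonHom i.inv := e.inv.hom.isMonHom_hom
  have := isMonHom_bcMap (Red.geomPt s) g
  have : Mono (i.inv ≫ (Over.pullback (Red.geomPt s)).map g) := inferInstance
  exact MaxSplit.rank_le P (i.inv ≫ (Over.pullback (Red.geomPt s)).map g)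

theorem le_rank {A B : Over S} [GrpObj A] [GrpObj B] (g : A ⟶ B) [IsMonHom g] [Mono g] (s : S) {r r' : ℕ}
    (hA : Red.IsSplitTorusWith (Fin r → ℤ) (Red.geomFibre s A))
    (hB : Red.IsSplitTorusWith (Fin r' → ℤ) (Red.geomFibre s B)) : r ≤ r' := by
  obtain ⟨e⟩ := hB
  have h := rank_mono g s hA ⟨𝟙 _, MaxSplit.fg_fin r', (TorusQuot.exists_bcId _).some ≪≫ e⟩
  rwa [Module.finrank_fin_fun] at h

theorem rank_unique {T : Over S} [GrpObj T] (s : S) {r r' : ℕ}
    (h : Red.IsSplitTorusWith (Fin r → ℤ) (Red.geomFibre s T))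
    (h' : Red.IsSplitTorusWith (Fin r' → ℤ) (Red.geomFibre s T)) : r = r' :=
  le_antisymm (le_rank (𝟙 T) s h h') (le_rank (𝟙 T) s h' h)

/-- A monomorphism of locally split tori with the same rank at each point is an isomorphism. -/
theorem exists_const_rank [PreconnectedSpace ↥S] {T : Over S} [GrpObj T] (h : LocSplit T) (s₀ s : S) {r : ℕ}
    (hr : Red.IsSplitTorusWith (Fin r → ℤ) (Red.geomFibre s₀ T)) :
    Red.IsSplitTorusWith (Fin r → ℤ) (Red.geomFibre s T) := by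
  choose rk hrk using exists_rank h
  have hc : IsLocallyConstant rk := (IsLocallyConstant.iff_exists_open rk).mpr fun x => by
    obtain ⟨U, hx, r', hr'⟩ := h x
    exact ⟨U, U.2, hx, fun y hy => (rank_unique y (hrk y) (isSplit_geomFibre hr' hy)).trans
      (rank_unique x (hrk x) (isSplit_geomFibre hr' hx)).symm⟩
  rw [rank_unique s₀ hr (hrk s₀), hc.apply_eq_of_preconnectedSpace s₀ s]
  exact hrk s

theorem exists_greatest [ConnectedSpace ↥S] {G : Over S} [GrpObj G] (hG : SGA3x.IsMultTypeFT G) :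
    ∃ (T : Over S) (_ : GrpObj T) (j : T ⟶ G), IsMonHom j ∧ Mono j ∧ LocSplit T ∧
      ∀ (T' : Over S) [GrpObj T'] (j' : T' ⟶ G) [IsMonHom j'] [Mono j'], LocSplit T' → ∃ g : T' ⟶ T, g ≫ j = j' := by
  classical
  obtain ⟨s₀⟩ := (inferInstance : Nonempty ↥S)
  obtain ⟨P, -⟩ := nonempty_splitPoint (isMultTypeFT_bc (Red.geomPt s₀) hG)
    (default : PrimeSpectrum (AlgebraicClosure (S.residueField s₀)))
  let C : ℕ → Prop := fun r => ∃ (T : Over S) (_ : GrpObj T) (j : T ⟶ G), IsMonHom j ∧ Mono j ∧ LocSplit T ∧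
    Red.IsSplitTorusWith (Fin r → ℤ) (Red.geomFibre s₀ T)
  have hC : ∀ r, C r → r ≤ Module.finrank ℤ P.M := by
    rintro r ⟨T, iT, j, hj, hjm, -, hr⟩
    exact rank_mono j s₀ hr P
  obtain ⟨r, ⟨T, iT, j, hj, hjm, hT, hr⟩, hmax⟩ : ∃ r, C r ∧ ∀ r', C r' → r' ≤ r := by
    have h0 : C 0 := by
      have hsub : Subsingleton (Fin 0 → ℤ) := inferInstance
      let T := Red.DS S (Fin 0 → ℤ)
      have hT : LocSplit T := fun s => by
        obtain ⟨d, -⟩ := exists_dsBC (⊤ : S.Opens).ι (Fin 0 → ℤ)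
        exact ⟨⊤, trivial, 0, ⟨d⟩⟩
      refine ⟨T, inferInstance, 1, isMonHom_one, ⟨fun {Y} x y _ => d_ext fun m => ?_⟩, hT, ?_⟩
      · rw [Subsingleton.elim m 0, d_zero, d_zero]
      · obtain ⟨d, -⟩ := exists_dsBC (Red.geomPt s₀) (Fin 0 → ℤ)
        exact ⟨d⟩
    exact ⟨Nat.findGreatest C (Module.finrank ℤ P.M), Nat.findGreatest_spec (Nat.zero_le _) h0,
      fun r' h => Nat.le_findGreatest (hC r' h) h⟩
  refine ⟨T, iT, j, hj, hjm, hT, fun T' _ j' _ _ hT' => ?_⟩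
  obtain ⟨E, iE, j₃, g₁, g₂, hj₃, hj₃m, hE, h₁, h₂⟩ := exists_join hG j j' hT hT'
  obtain ⟨r₃, hr₃⟩ := exists_rank hE s₀
  have : IsMonHom (g₁ ≫ j₃) := by rw [h₁]; exact hj
  have : Mono (g₁ ≫ j₃) := by rw [h₁]; exact hjm
  have hg : IsMonHom g₁ := MaxSplit.isMonHom_of_mono g₁ j₃
  have hgm : Mono g₁ := mono_of_mono g₁ j₃
  obtain rfl : r = r₃ := le_antisymm (le_rank g₁ s₀ hr hr₃) (hmax r₃ ⟨E, iE, j₃, hj₃, hj₃m, hE, hr₃⟩)
  have : IsIso g₁ := isIso_of_mono_sameRank (isTorus_of_locSplit hT) (isTorus_of_locSplit hE) g₁ fun s =>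
    ⟨r, exists_const_rank hT s₀ s hr, exists_const_rank hE s₀ s hr₃⟩
  exact ⟨g₂ ≫ inv g₁, by rw [Category.assoc, (IsIso.inv_comp_eq g₁).mpr h₁.symm, h₂]⟩

end Groth.Agent.DiagRig.SplitSubMax
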