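import Groth.Agent.DiagRig.SubTransporter
import Groth.Agent.GrpScheme.SubgroupObj

/-! Containment transporters between subgroups of multiplicative type, and centralisers. -/

universe u

open CategoryTheory MonoidalCategory CartesianMonoidalCategory MonObj GrpObj AlgebraicGeometry Limits

noncomputable section

namespace Groth.Agent.DiagRig

/-- Conjugations of a subgroup into another lift along nilpotent ideals. -/
theorem exists_conjLe_lift {R : Type u} [CommRing R] (J : Ideal R) (hJ : IsNilpotent J)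
    (G H H' : Over (Spec (CommRingCat.of R))) [GrpObj G] [GrpObj H] [GrpObj H'] (hG : Smooth G.hom)
    (hH : SplitLoc H) (hH' : SplitLoc H')
    (i : H ⟶ G) [IsMonHom i] (i' : H' ⟶ G) [IsMonHom i'] [Mono i']
    (g₀ : (Over.mk (Spec.map (CommRingCat.ofHom (Ideal.Quotient.mk J))) : Over (Spec (CommRingCat.of R))) ⟶ G)
    (h0 : ∀ (X : Over (Spec (CommRingCat.of R))) (p : X ⟶ (Over.mk (Spec.map (CommRingCat.ofHom (Ideal.Quotient.mk J))) : Over (Spec (CommRingCat.of R)))),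
      (∀ h : X ⟶ H, ∃ h' : X ⟶ H', (p ≫ g₀) * (h ≫ i) * (p ≫ g₀)⁻¹ = h' ≫ i')) :
    ∃ g : 𝟙_ (Over (Spec (CommRingCat.of R))) ⟶ G, toUnit (Over.mk (Spec.map (CommRingCat.ofHom (Ideal.Quotient.mk J))) : Over (Spec (CommRingCat.of R))) ≫ g = g₀ ∧
      ∃ φ : H ⟶ H', ∀ (X : Over (Spec (CommRingCat.of R))) (h : X ⟶ H),
        (toUnit X ≫ g) * (h ≫ i) * (toUnit X ≫ g)⁻¹ = (h ≫ φ) ≫ i' := by
  obtain ⟨m, hm⟩ := id hJ
  have := hG
  obtain ⟨l, hl, hlf⟩ := exists_lift_nilpotent G.hom m R J (by rw [pow_succ, hm, zero_mul]; rfl) (𝟙 _) g₀.left (by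
    rw [Category.comp_id]; exact (Over.w g₀).symm)
  let g₁ : 𝟙_ (Over (Spec (CommRingCat.of R))) ⟶ G := Over.homMk l hlf
  let S₀ : Over (Spec (CommRingCat.of R)) := Over.mk (Spec.map (CommRingCat.ofHom (Ideal.Quotient.mk J)))
  have hS : toUnit S₀ ≫ g₁ = g₀ := by ext1; exact hl
  have : IsMonHom (conjHom i g₁) := isMonHom_conjHom i g₁
  obtain ⟨φ, hφm, hφ⟩ := exists_hom_lift J hJ hH hH' (conjHom i g₁) i'
    (fun X x ⟨w, hw⟩ => by
      obtain ⟨h', h⟩ := h0 X (Over.homMk w hw) x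
      refine ⟨h', ?_⟩
      rw [← h, comp_conjHom, ← hS, ← Category.assoc, comp_toUnit])
  obtain ⟨g, hg1, hg⟩ := exists_conj_lift J hJ H G hH hG i (φ ≫ i') g₀ fun X p h => by
    rw [hφ X h ⟨p.left, Over.w p⟩, comp_conjHom, ← hS, ← Category.assoc, comp_toUnit]
  exact ⟨g, hg1, φ, fun X h => by rw [Category.assoc]; exact (hg X h).symm⟩

variable {S : Scheme.{u}} {H₁ H₂ G : Over S} [GrpObj H₁] [GrpObj H₂] [GrpObj G] (i₁ : H₁ ⟶ G) (i₂ : H₂ ⟶ G)

/-- The containment transporter of subgroups of multiplicative type is closed and smooth. -/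
theorem exists_leTransporter (h₁ : SGA3x.IsMultTypeFT H₁) (h₂ : SGA3x.IsMultTypeFT H₂) [IsMonHom i₁]
    [IsMonHom i₂] [Mono i₂] [IsAffineHom G.hom] [Smooth G.hom] :
    ∃ (T : Over S) (j : T ⟶ G), IsClosedImmersion j.left ∧ Smooth T.hom ∧
      ∀ (X : Over S) (g : X ⟶ G), (∃ t : X ⟶ T, t ≫ j = g) ↔
        ∀ (X' : Over S) (x : X' ⟶ X) (h : X' ⟶ H₁), ∃ h' : X' ⟶ H₂, (x ≫ g) * (h ≫ i₁) * (x ≫ g)⁻¹ = h' ≫ i₂ := by
  have c₂ := isClosedImmersion_of_mono i₂ (splitFpqc_of_multTypeFT H₂ h₂)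
  obtain ⟨T, j, hj, hlfp, hT⟩ := exists_closed_inLocus (X := G) (H := H₁)
    (fst G H₁ * (snd G H₁ ≫ i₁) * (fst G H₁)⁻¹) i₂ (splitFpqc_of_multTypeFT H₁ h₁)
  have hiff : ∀ (X : Over S) (g : X ⟶ G), (∃ t : X ⟶ T, t ≫ j = g) ↔
      ∀ (X' : Over S) (x : X' ⟶ X) (h : X' ⟶ H₁), ∃ h' : X' ⟶ H₂, (x ≫ g) * (h ≫ i₁) * (x ≫ g)⁻¹ = h' ≫ i₂ := by
    intro X g
    rw [hT]
    refine forall_congr' fun X' => forall_congr' fun x => forall_congr' fun h => exists_congr fun y => ?_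
    rw [MonObj.comp_mul, MonObj.comp_mul, GrpObj.comp_inv, lift_fst, lift_snd_assoc]
    exact eq_comm
  refine ⟨T, j, hj, ?_, hiff⟩
  have := hlfp (lfp_left_of_multType i₂ h₂)
  refine (Groth.Agent.S1488.result T.hom).mpr ⟨?_, fun A _ I hI a b w => ?_⟩
  · rw [← Over.w j]; infer_instance
  · let S₀ : Over (Spec (CommRingCat.of A)) := Over.mk (Spec.map (CommRingCat.ofHom (Ideal.Quotient.mk I)))
    let a' : (Over.map b).obj S₀ ⟶ T := Over.homMk a w.symm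
    let k₁ : Red.bc b H₁ ⟶ Red.bc b G := (Over.pullback b).map i₁
    let k₂ : Red.bc b H₂ ⟶ Red.bc b G := (Over.pullback b).map i₂
    have : IsMonHom k₁ := isMonHom_bcMap b i₁
    have : IsMonHom k₂ := isMonHom_bcMap b i₂
    have : Mono k₂ := inferInstanceAs (Mono ((Over.pullback b).map i₂))
    obtain ⟨g, hg₀, φ, hg⟩ := exists_conjLe_lift I ⟨2, hI⟩ (Red.bc b G) (Red.bc b H₁) (Red.bc b H₂)
      (inferInstanceAs (Smooth (pullback.snd G.hom b))) (splitLoc_bc (splitFpqc_of_multTypeFT H₁ h₁) b)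
      (splitLoc_bc (splitFpqc_of_multTypeFT H₂ h₂) b) k₁ k₂ (bcUn b (a' ≫ j)) (fun X p h => by
        obtain ⟨y, hy⟩ := (hiff _ (a' ≫ j)).mp ⟨a', rfl⟩ _ ((Over.map b).map p) (bcTr b h)
        refine ⟨bcUn b y, bcTr_injective b ?_⟩
        rw [bcTr_mul, bcTr_mul, bcTr_inv, bcTr_comp, bcTr_bcUn, bcTr_map, bcTr_map, bcTr_bcUn]
        exact hy)
    obtain ⟨t, ht⟩ := (hiff _ (bcTr b g)).mpr (fun X' x h => by
      let X₀ : Over (Spec (CommRingCat.of A)) := Over.mk x.left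
      let e : (Over.map b).obj X₀ ≅ X' := Over.isoMk (Iso.refl _) (by
        show 𝟙 _ ≫ X'.hom = x.left ≫ b
        rw [Category.id_comp, ← Over.w x]
        show x.left ≫ (𝟙 _ ≫ b) = _
        rw [Category.id_comp])
      have ex : (Over.map b).map (toUnit X₀) = e.hom ≫ x := by
        ext1
        show _ = 𝟙 _ ≫ x.left
        rw [Category.id_comp]
        rfl
      refine ⟨e.inv ≫ bcTr b (bcUn b (e.hom ≫ h) ≫ φ), ?_⟩
      have h1 := congrArg (bcTr b) (hg X₀ (bcUn b (e.hom ≫ h)))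
      rw [bcTr_mul, bcTr_mul, bcTr_inv, bcTr_comp, bcTr_map, bcTr_map, bcTr_bcUn] at h1
      rw [ex, Category.assoc, Category.assoc, ← GrpObj.comp_inv, ← MonObj.comp_mul, ← MonObj.comp_mul] at h1
      rw [Category.assoc, ← h1, Iso.inv_hom_id_assoc])
    refine ⟨t.left, ?_, ?_⟩
    · have h1 : (Over.map b).map (toUnit S₀) ≫ t = a' := by
        have : Mono j := Over.mono_of_mono_left j
        rw [← cancel_mono j, Category.assoc, ht, ← bcTr_comp, hg₀, bcTr_bcUn]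
      exact congrArg CommaMorphism.left h1
    · exact (Over.w t).trans (Category.id_comp b)

end Groth.Agent.DiagRig
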