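import Groth.Agent.DiagRig.PowEtale
import Groth.Agent.DiagRig.BCPts

/-!
# Central torsion points of invertible order lift uniquely along thickenings

No smoothness is needed: the power map is étale near such points.
-/

universe u

open CategoryTheory MonoidalCategory CartesianMonoidalCategory MonObj GrpObj AlgebraicGeometry Limits
open Groth.Agent.GrpSGA.Fibre Groth.Agent.GrpSGA.LocalProp

noncomputable section

namespace Groth.Agent.DiagRig

section Scheme

variable {X U V : Scheme.{u}}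

set_option backward.isDefEq.respectTransparency.types false in
/-- Two lifts through an unramified morphism agree if they agree on a surjection. -/
lemma eq_of_unramified (f : U ⟶ V) [FormallyUnramified f] [LocallyOfFiniteType f] {X₀ : Scheme.{u}} (k : X₀ ⟶ X)
    [Surjective k] (a b : X ⟶ U) (w : a ≫ f = b ≫ f) (h : k ≫ a = k ≫ b) : a = b := by
  let m : X ⟶ pullback f f := pullback.lift a b w
  have hm : k ≫ m = (k ≫ a) ≫ pullback.diagonal f := by
    apply pullback.hom_ext
    · exact (Category.assoc k m _).trans ((congrArg (k ≫ ·) (pullback.lift_fst a b w)).trans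
        (((Category.assoc (k ≫ a) _ _).trans ((congrArg ((k ≫ a) ≫ ·) (pullback.diagonal_fst f)).trans (Category.comp_id _))).symm))
    · exact (Category.assoc k m _).trans ((congrArg (k ≫ ·) (pullback.lift_snd a b w)).trans (h.symm.trans
        (((Category.assoc (k ≫ a) _ _).trans ((congrArg ((k ≫ a) ≫ ·) (pullback.diagonal_snd f)).trans (Category.comp_id _))).symm)))
  have hr : Set.range m.base ⊆ Set.range (pullback.diagonal f).base := by
    rintro _ ⟨x, rfl⟩
    obtain ⟨y, rfl⟩ := k.surjective x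
    exact ⟨(k ≫ a).base y, by rw [← Scheme.Hom.comp_apply, ← hm, Scheme.Hom.comp_apply]⟩
  have e := IsOpenImmersion.lift_fac (pullback.diagonal f) m hr
  have e1 := (Category.assoc _ _ _).symm.trans ((congrArg (· ≫ pullback.fst f f) e).trans (pullback.lift_fst a b w))
  have e2 := (Category.assoc _ _ _).symm.trans ((congrArg (· ≫ pullback.snd f f) e).trans (pullback.lift_snd a b w))
  rw [pullback.diagonal_fst, Category.comp_id] at e1
  rw [pullback.diagonal_snd, Category.comp_id] at e2
  exact e1.symm.trans e2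

set_option backward.isDefEq.respectTransparency.types false in
/-- Sections of an étale morphism lift along thickenings. -/
lemma exists_section_lift {K S S₀ : Scheme.{u}} (π : K ⟶ S) [Etale π] (q : S₀ ⟶ S) [IsClosedImmersion q]
    [Surjective q] (σ₀ : S₀ ⟶ K) (w : σ₀ ≫ π = q) : ∃ σ : S ⟶ K, σ ≫ π = 𝟙 S ∧ q ≫ σ = σ₀ := by
  let s : S₀ ⟶ pullback π q := pullback.lift σ₀ (𝟙 S₀) (by rw [w, Category.id_comp])
  have hs : s ≫ pullback.snd π q = 𝟙 _ := pullback.lift_snd _ _ _
  have : Etale (pullback.snd π q) := MorphismProperty.pullback_snd π q inferInstance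
  have : Etale (s ≫ pullback.snd π q) := by rw [hs]; infer_instance
  have : Etale s := Etale.of_comp s (pullback.snd π q)
  have : Mono (s ≫ pullback.snd π q) := by rw [hs]; infer_instance
  have : Mono s := mono_of_mono s (pullback.snd π q)
  have : IsOpenImmersion s := IsOpenImmersion.of_flat_of_mono s
  let p := pullback.fst π q
  have : IsClosedImmersion p := MorphismProperty.pullback_fst π q inferInstance
  have : Surjective p := MorphismProperty.pullback_fst π q inferInstance
  let W : K.Opens := ⟨p.base '' (s.opensRange : Set (pullback π q : Scheme.{u})),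
    (Groth.Agent.Thick.Topo.isHomeomorph p).isOpenMap _ s.opensRange.isOpen⟩
  have hW : p ⁻¹ᵁ W = s.opensRange :=
    TopologicalSpace.Opens.ext (Set.preimage_image_eq _ (Groth.Agent.Thick.Topo.isHomeomorph p).injective)
  let iX : S₀ ⟶ W := s.isoOpensRange.hom ≫ ((pullback π q).isoOfEq hW.symm).hom ≫ (p ∣_ W)
  have : IsClosedImmersion (p ∣_ W) := IsZariskiLocalAtTarget.restrict (P := @IsClosedImmersion) inferInstance W
  have : Surjective (p ∣_ W) := IsZariskiLocalAtTarget.restrict (P := @Surjective) inferInstance W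
  have : IsClosedImmersion iX := inferInstanceAs (IsClosedImmersion (_ ≫ _ ≫ _))
  have : Surjective iX := inferInstanceAs (Surjective (_ ≫ _ ≫ _))
  have hiX : iX ≫ W.ι = σ₀ := by
    simp [iX, p, s, morphismRestrict_ι, pullback.lift_fst]
  let f' : (W : Scheme.{u}) ⟶ S := W.ι ≫ π
  have hf : iX ≫ f' = 𝟙 S₀ ≫ q := by rw [← Category.assoc, hiX, w, Category.id_comp]
  have := (Groth.Agent.Thick.Topo.universallyInjective_iff iX q (𝟙 S₀) f' hf).mp inferInstance
  have : Surjective (pullback.diagonal f') := (UniversallyInjective.iff_diagonal f').mp ‹_›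
  have : IsIso (pullback.diagonal f') := by
    rw [isIso_iff_isOpenImmersion_and_surjective]
    exact ⟨inferInstance, ‹_›⟩
  have : Mono f' := (pullback.isIso_diagonal_iff f').mp this
  have : IsOpenImmersion f' := IsOpenImmersion.of_flat_of_mono f'
  have : Surjective f' := by
    refine ⟨fun x => ?_⟩
    obtain ⟨y, rfl⟩ := q.surjective x
    exact ⟨iX.base y, by rw [← Scheme.Hom.comp_apply, hf, Category.id_comp]⟩
  have : IsIso f' := (isIso_iff_isOpenImmersion_and_surjective f').mpr ⟨inferInstance, inferInstance⟩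
  refine ⟨inv f' ≫ W.ι, by rw [Category.assoc, IsIso.inv_hom_id], ?_⟩
  rw [← Category.id_comp q, ← hf, Category.assoc, IsIso.hom_inv_id_assoc, hiX]

set_option backward.isDefEq.respectTransparency.types false in
/-- The largest open on which a morphism is étale. -/
lemma exists_etale_open (f : X ⟶ V) :
    ∃ O : X.Opens, Etale (O.ι ≫ f) ∧ ∀ x, AtPt @Etale f x → x ∈ O := by
  let O : X.Opens := ⟨{x | AtPt @Etale f x}, Groth.Agent.GrpSGA.FibreCrit.isOpen_setOf_atPt _ f⟩
  refine ⟨O, ?_, fun x hx => hx⟩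
  refine of_forall_atPt (P := @Etale) (O.ι ≫ f) fun z => ?_
  obtain ⟨W, hW, hWe⟩ : AtPt @Etale f (O.ι.base z) := z.2
  refine ⟨O.ι ⁻¹ᵁ W, hW, ?_⟩
  rw [← morphismRestrict_ι_assoc]
  infer_instance

end Scheme

variable {S : Scheme.{u}} {G : Over S} [GrpObj G] [Flat G.hom] [LocallyOfFinitePresentation G.hom]

set_option backward.isDefEq.respectTransparency.types false in
/-- The open subscheme of points killed by `n` at which the power map is étale contains the central fibre points. -/
theorem exists_torsion_open {S₀ : Scheme.{u}} (q : S₀ ⟶ S) [IsClosedImmersion q] [Surjective q]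
    (x₀ : Over.mk q ⟶ G) (hc : ∀ (Y : Over S) (k : Y ⟶ Over.mk q) (g : Y ⟶ G), (k ≫ x₀) * g = g * (k ≫ x₀))
    (n : ℕ) (hn : ∀ s : S, (n : S.residueField s) ≠ 0) (hx : x₀ ^ n = 1) :
    ∃ O : G.left.Opens, Etale (O.ι ≫ ((𝟙 G : G ⟶ G) ^ n).left) ∧ Set.range x₀.left.base ⊆ O := by
  obtain ⟨O, hO, hmem⟩ := exists_etale_open ((𝟙 G : G ⟶ G) ^ n).left
  refine ⟨O, hO, ?_⟩
  rintro _ ⟨z, rfl⟩
  apply hmem
  let s := q.base z
  let t := S.fromSpecResidueField s
  have : Surjective (pullback.fst t q) := MorphismProperty.pullback_fst (P := @Surjective) t q inferInstance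
  have : IsClosedImmersion (pullback.fst t q) := MorphismProperty.pullback_fst (P := @IsClosedImmersion) t q inferInstance
  have : IsIso (pullback.fst t q) := isIso_of_isClosedImmersion_of_surjective _
  let l : Spec (S.residueField s) ⟶ S₀ := inv (pullback.fst t q) ≫ pullback.snd t q
  have hl : l ≫ q = t := by
    rw [Category.assoc, ← pullback.condition, IsIso.inv_hom_id_assoc]
  let one := 𝟙_ (Over (Spec (CommRingCat.of (S.residueField s))))
  let k : (Over.map t).obj one ⟶ Over.mk q := Over.homMk l (by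
    show l ≫ q = 𝟙 _ ≫ t
    rw [Category.id_comp, hl])
  let x : one ⟶ fib G s := bcUn t (k ≫ x₀)
  have hone : bcTr t (1 : one ⟶ fib G s) = 1 := bcTr_one t
  have hxn : x ^ n = 1 := by
    refine bcTr_injective t ?_
    have e : ∀ m, bcTr t (x ^ m) = (bcTr t x) ^ m := fun m => by
      induction m with
      | zero => simp only [pow_zero]; exact hone
      | succ m ih => rw [pow_succ, pow_succ, bcTr_mul, ih]
    rw [e, bcTr_bcUn, ← MonObj.comp_pow, hx, MonObj.comp_one, hone]
  have hxc : (toUnit (fib G s) ≫ x) * 𝟙 _ = 𝟙 _ * (toUnit (fib G s) ≫ x) := by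
    refine bcTr_injective t ?_
    rw [bcTr_mul, bcTr_mul, bcTr_comp, bcTr_bcUn, ← Category.assoc]
    exact hc _ _ _
  obtain ⟨p⟩ : Nonempty ↥(𝟙_ (Over (Spec (CommRingCat.of (S.residueField s))))).left :=
    ⟨IsLocalRing.closedPoint _⟩
  have h := pow_etaleAt G n s (hn s) x hxn hxc p
  have hz : z = l.base p := q.isClosedEmbedding.injective (by
    rw [← Scheme.Hom.comp_apply l q, hl]
    exact (Scheme.fromSpecResidueField_apply s _).symm)
  have e : x.left ≫ fibι G s = l ≫ x₀.left := by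
    show x.left ≫ pullback.fst _ _ = _
    rw [← bcTr_left, bcTr_bcUn]
    rfl
  rw [hz, ← Scheme.Hom.comp_apply, ← e, Scheme.Hom.comp_apply]
  exact h

set_option backward.isDefEq.respectTransparency.types false in
/-- Uniqueness: torsion points congruent to a central one are equal. -/
theorem torsion_unique {S₀ : Scheme.{u}} (q : S₀ ⟶ S) [IsClosedImmersion q] [Surjective q]
    (x₀ : Over.mk q ⟶ G) (hc : ∀ (Y : Over S) (k : Y ⟶ Over.mk q) (g : Y ⟶ G), (k ≫ x₀) * g = g * (k ≫ x₀))
    (n : ℕ) (hn : ∀ s : S, (n : S.residueField s) ≠ 0) (a b : 𝟙_ (Over S) ⟶ G)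
    (ha : a ^ n = 1) (hb : b ^ n = 1) (ha₀ : toUnit _ ≫ a = x₀) (hb₀ : toUnit _ ≫ b = x₀) : a = b := by
  obtain ⟨O, hO, hr⟩ := exists_torsion_open q x₀ hc n hn
    (by rw [← ha₀, ← MonObj.comp_pow, ha, MonObj.comp_one])
  have hq : ∀ c : 𝟙_ (Over S) ⟶ G, q ≫ c.left = (toUnit (Over.mk q) ≫ c).left := fun c => by
    rw [Over.comp_left]; rfl
  have hra : ∀ c : 𝟙_ (Over S) ⟶ G, toUnit _ ≫ c = x₀ → Set.range c.left.base ⊆ Set.range O.ι.base := by
    intro c hc'
    rw [Scheme.Opens.range_ι]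
    rintro _ ⟨x, rfl⟩
    obtain ⟨y, rfl⟩ := q.surjective x
    rw [← Scheme.Hom.comp_apply, hq, hc']
    exact hr ⟨y, rfl⟩
  ext1
  have ea := IsOpenImmersion.lift_fac O.ι a.left (hra a ha₀)
  have eb := IsOpenImmersion.lift_fac O.ι b.left (hra b hb₀)
  rw [← ea, ← eb]
  refine congrArg (· ≫ O.ι) (eq_of_unramified (O.ι ≫ ((𝟙 G : G ⟶ G) ^ n).left) q _ _ ?_ ?_)
  · rw [IsOpenImmersion.lift_fac_assoc, IsOpenImmersion.lift_fac_assoc, ← Over.comp_left, ← Over.comp_left,
      MonObj.comp_pow, MonObj.comp_pow, Category.comp_id, Category.comp_id, ha, hb]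
  · rw [← cancel_mono O.ι, Category.assoc, Category.assoc, ea, eb, hq, hq, ha₀, hb₀]

set_option backward.isDefEq.respectTransparency.types false in
/-- Existence of a torsion lift. -/
theorem torsion_exists {S₀ : Scheme.{u}} (q : S₀ ⟶ S) [IsClosedImmersion q] [Surjective q]
    (x₀ : Over.mk q ⟶ G) (hc : ∀ (Y : Over S) (k : Y ⟶ Over.mk q) (g : Y ⟶ G), (k ≫ x₀) * g = g * (k ≫ x₀))
    (n : ℕ) (hn : ∀ s : S, (n : S.residueField s) ≠ 0) (hx : x₀ ^ n = 1) :
    ∃ a : 𝟙_ (Over S) ⟶ G, a ^ n = 1 ∧ toUnit _ ≫ a = x₀ := by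
  obtain ⟨O, hO, hr⟩ := exists_torsion_open q x₀ hc n hn hx
  let f := O.ι ≫ ((𝟙 G : G ⟶ G) ^ n).left
  let e : S ⟶ G.left := (1 : 𝟙_ (Over S) ⟶ G).left
  let x' : S₀ ⟶ O := IsOpenImmersion.lift O.ι x₀.left (by rw [Scheme.Opens.range_ι]; exact hr)
  have hx' : x' ≫ f = q ≫ e := by
    show x' ≫ O.ι ≫ _ = (toUnit (Over.mk q)).left ≫ (1 : 𝟙_ (Over S) ⟶ G).left
    rw [IsOpenImmersion.lift_fac_assoc, ← Over.comp_left, ← Over.comp_left, MonObj.comp_pow, Category.comp_id,
      hx, MonObj.comp_one]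
  have : Etale (pullback.snd f e) := MorphismProperty.pullback_snd f e hO
  obtain ⟨σ, hσ, hσq⟩ := exists_section_lift (pullback.snd f e) q (pullback.lift x' q hx') (pullback.lift_snd _ _ _)
  let a' : S ⟶ O := σ ≫ pullback.fst f e
  have ha' : a' ≫ f = e := by
    rw [Category.assoc, pullback.condition, ← Category.assoc, hσ, Category.id_comp]
  have hG : G.hom = ((𝟙 G : G ⟶ G) ^ n).left ≫ G.hom := (Over.w _).symm
  let a : 𝟙_ (Over S) ⟶ G := Over.homMk (a' ≫ O.ι) (by
    rw [hG, ← Category.assoc]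
    show ((a' ≫ O.ι) ≫ _) ≫ G.hom = 𝟙 S
    rw [show (a' ≫ O.ι) ≫ ((𝟙 G : G ⟶ G) ^ n).left = e from (Category.assoc _ _ _).trans ha']
    exact Over.w (1 : 𝟙_ (Over S) ⟶ G))
  refine ⟨a, ?_, ?_⟩
  · have h : a ≫ (𝟙 G : G ⟶ G) ^ n = 1 := by
      ext1
      exact (Category.assoc _ _ _).trans ha'
    rwa [MonObj.comp_pow, Category.comp_id] at h
  · ext1
    show q ≫ (σ ≫ pullback.fst f e) ≫ O.ι = x₀.left
    rw [← Category.assoc, ← Category.assoc, hσq, pullback.lift_fst, IsOpenImmersion.lift_fac]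

end Groth.Agent.DiagRig
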