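import Groth.Agent.DiagRig.TorsionLift

/-!
# Central torsion points with values in schemes over the base
-/

universe u

open CategoryTheory MonoidalCategory CartesianMonoidalCategory MonObj GrpObj AlgebraicGeometry Limits

noncomputable section

namespace Groth.Agent.DiagRig

set_option linter.unusedSectionVars false

variable {S : Scheme.{u}} {G : Over S} [GrpObj G]

/-- `n` is invertible in every residue field of the scheme. -/
def InvPts (X : Over S) (n : ℕ) : Prop := ∀ x : X.left, (n : X.left.residueField x) ≠ 0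

lemma InvPts.of_hom {X Y : Over S} {n : ℕ} (h : InvPts X n) (f : Y ⟶ X) : InvPts Y n := fun y e => by
  have := (f.left.residueFieldMap y).hom.injective
  exact h _ (this (by rw [map_natCast, map_zero, e]))

lemma InvPts.mul {X : Over S} {m n : ℕ} (hm : InvPts X m) (hn : InvPts X n) : InvPts X (m * n) := fun x => by
  rw [Nat.cast_mul]; exact mul_ne_zero (hm x) (hn x)

/-- A point is central after every composition. -/
def CentralPt {X₀ : Over S} (x₀ : X₀ ⟶ G) : Prop :=
  ∀ (Y : Over S) (j : Y ⟶ X₀) (g : Y ⟶ G), (j ≫ x₀) * g = g * (j ≫ x₀)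

lemma CentralPt.comp {X₀ Y₀ : Over S} {x₀ : X₀ ⟶ G} (h : CentralPt x₀) (f : Y₀ ⟶ X₀) : CentralPt (f ≫ x₀) :=
  fun Y j g => by rw [← Category.assoc]; exact h Y _ g

lemma bcUn_comp {U : Scheme.{u}} {p : U ⟶ S} {Y Y' : Over U} (h : Y' ⟶ Y) (x : (Over.map p).obj Y ⟶ G) :
    h ≫ bcUn p x = bcUn p ((Over.map p).map h ≫ x) :=
  bcTr_injective p (by rw [bcTr_comp, bcTr_bcUn, bcTr_bcUn])

lemma bcTr_pow {U : Scheme.{u}} (p : U ⟶ S) {Y : Over U} (x : Y ⟶ Red.bc p G) (m : ℕ) :
    bcTr p (x ^ m) = (bcTr p x) ^ m := by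
  induction m with
  | zero => simp only [pow_zero]; exact bcTr_one p
  | succ m ih => rw [pow_succ, pow_succ, bcTr_mul, ih]

variable [Flat G.hom] [LocallyOfFinitePresentation G.hom] {X₀ X : Over S} (k : X₀ ⟶ X)
  [IsClosedImmersion k.left] [Surjective k.left] (x₀ : X₀ ⟶ G)

/-- `X₀` as a scheme over `X`. -/
def overX : (Over.map X.hom).obj (Over.mk k.left) ≅ X₀ :=
  Over.isoMk (Iso.refl _) (by show 𝟙 _ ≫ X₀.hom = k.left ≫ X.hom; rw [Category.id_comp, Over.w k])

/-- `X` as a scheme over `X`. -/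
def overSelf (X : Over S) : X ≅ (Over.map X.hom).obj (𝟙_ (Over X.left)) :=
  Over.isoMk (Iso.refl _) (by show 𝟙 _ ≫ 𝟙 _ ≫ X.hom = X.hom; simp)

set_option backward.isDefEq.respectTransparency.types false in
lemma bcUn_central (hc : CentralPt x₀) :
    ∀ (Y : Over X.left) (j : Y ⟶ Over.mk k.left) (g : Y ⟶ Red.bc X.hom G),
      (j ≫ bcUn X.hom ((overX k).hom ≫ x₀)) * g = g * (j ≫ bcUn X.hom ((overX k).hom ≫ x₀)) := fun Y j g => by
  refine bcTr_injective X.hom ?_
  rw [bcTr_mul, bcTr_mul, bcTr_comp, bcTr_bcUn, ← Category.assoc]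
  exact hc _ _ _

set_option backward.isDefEq.respectTransparency.types false in
lemma toUnit_bcUn (a : X ⟶ G) :
    toUnit (Over.mk k.left) ≫ bcUn X.hom ((overSelf X).inv ≫ a) = bcUn X.hom ((overX k).hom ≫ k ≫ a) := by
  rw [bcUn_comp]
  congr 1

set_option backward.isDefEq.respectTransparency.types false in
/-- Existence of lifts of central torsion points. -/
theorem pts_exists (hc : CentralPt x₀) (n : ℕ) (hn : InvPts X n) (hx : x₀ ^ n = 1) :
    ∃ a : X ⟶ G, a ^ n = 1 ∧ k ≫ a = x₀ := by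
  have : Flat (Red.bc X.hom G).hom := MorphismProperty.pullback_snd (P := @Flat) G.hom _ inferInstance
  have : LocallyOfFinitePresentation (Red.bc X.hom G).hom :=
    MorphismProperty.pullback_snd (P := @LocallyOfFinitePresentation) G.hom _ inferInstance
  obtain ⟨a', ha, ha'⟩ := torsion_exists k.left (bcUn X.hom ((overX k).hom ≫ x₀)) (bcUn_central k x₀ hc) n hn (by
    refine bcTr_injective X.hom ?_
    rw [bcTr_pow, bcTr_bcUn, ← MonObj.comp_pow, hx, MonObj.comp_one, bcTr_one])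
  refine ⟨(overSelf X).hom ≫ bcTr X.hom a', ?_, ?_⟩
  · rw [← MonObj.comp_pow, ← bcTr_pow, ha, bcTr_one, MonObj.comp_one]
  · rw [← cancel_epi (overX k).hom]
    refine (bcTr_bcUn X.hom _).symm.trans (Eq.trans ?_ (bcTr_bcUn X.hom _))
    rw [← toUnit_bcUn, ← ha', Iso.inv_hom_id_assoc, bcUn_bcTr]

set_option backward.isDefEq.respectTransparency.types false in
/-- Uniqueness of lifts of central torsion points. -/
theorem pts_unique (hc : CentralPt x₀) (n : ℕ) (hn : InvPts X n) (a b : X ⟶ G) (ha : a ^ n = 1) (hb : b ^ n = 1)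
    (ha₀ : k ≫ a = x₀) (hb₀ : k ≫ b = x₀) : a = b := by
  have : Flat (Red.bc X.hom G).hom := MorphismProperty.pullback_snd (P := @Flat) G.hom _ inferInstance
  have : LocallyOfFinitePresentation (Red.bc X.hom G).hom :=
    MorphismProperty.pullback_snd (P := @LocallyOfFinitePresentation) G.hom _ inferInstance
  have hp : ∀ c : X ⟶ G, c ^ n = 1 → (bcUn X.hom ((overSelf X).inv ≫ c)) ^ n = 1 := fun c h => by
    refine bcTr_injective X.hom ?_
    rw [bcTr_pow, bcTr_bcUn, ← MonObj.comp_pow, h, MonObj.comp_one, bcTr_one]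
  have h := torsion_unique k.left (bcUn X.hom ((overX k).hom ≫ x₀)) (bcUn_central k x₀ hc) n hn _ _
    (hp a ha) (hp b hb) (by rw [toUnit_bcUn, ha₀]) (by rw [toUnit_bcUn, hb₀])
  have h' := congrArg (bcTr X.hom) h
  rw [bcTr_bcUn, bcTr_bcUn] at h'
  exact (cancel_epi _).mp h'

/-- Locally on the source, killed by an integer invertible there. -/
def LocTors (a : X ⟶ G) : Prop :=
  ∀ z : X.left, ∃ (V : X.left.Opens) (n : ℕ), z ∈ V ∧ InvPts (Over.mk (V.ι ≫ X.hom)) n ∧
    ((Over.homMk V.ι : Over.mk (V.ι ≫ X.hom) ⟶ X) ≫ a) ^ n = 1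

omit [Flat G.hom] [LocallyOfFinitePresentation G.hom] in
set_option backward.isDefEq.respectTransparency.types false in
lemma LocTors.comp {Y : Over S} {a : X ⟶ G} (h : LocTors a) (f : Y ⟶ X) : LocTors (f ≫ a) := fun y => by
  obtain ⟨V, n, hV, hn, he⟩ := h (f.left.base y)
  let r : Over.mk ((f.left ⁻¹ᵁ V).ι ≫ Y.hom) ⟶ Over.mk (V.ι ≫ X.hom) := Over.homMk (f.left ∣_ V) (by
    show (f.left ∣_ V) ≫ V.ι ≫ X.hom = _
    rw [morphismRestrict_ι_assoc, Over.w f]
    rfl)
  have hr : r ≫ (Over.homMk V.ι : Over.mk (V.ι ≫ X.hom) ⟶ X) =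
      (Over.homMk (f.left ⁻¹ᵁ V).ι : Over.mk ((f.left ⁻¹ᵁ V).ι ≫ Y.hom) ⟶ Y) ≫ f := by
    ext1
    exact morphismRestrict_ι _ _
  refine ⟨f.left ⁻¹ᵁ V, n, hV, hn.of_hom r, ?_⟩
  rw [← Category.assoc, ← hr, Category.assoc, ← MonObj.comp_pow, he, MonObj.comp_one]

/-- The restriction of a thickening along a morphism. -/
abbrev pullX {Y : Over S} (h : Y ⟶ X) : Over S := Over.mk (pullback.fst h.left k.left ≫ Y.hom)

/-- The restricted thickening. -/
abbrev pullK {Y : Over S} (h : Y ⟶ X) : pullX k h ⟶ Y := Over.homMk (pullback.fst h.left k.left)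

/-- The projection to the thickened scheme. -/
abbrev pullP {Y : Over S} (h : Y ⟶ X) : pullX k h ⟶ X₀ := Over.homMk (pullback.snd h.left k.left) (by
  show pullback.snd _ _ ≫ X₀.hom = pullback.fst _ _ ≫ Y.hom
  rw [← Over.w k, ← Over.w h, pullback.condition_assoc])

omit [IsClosedImmersion k.left] [Surjective k.left] in
lemma pullK_comp {Y : Over S} (h : Y ⟶ X) : pullK k h ≫ h = pullP k h ≫ k := by
  ext1
  exact pullback.condition

set_option backward.isDefEq.respectTransparency.types false in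
/-- Locally torsion points congruent to a central one are equal. -/
theorem locTors_unique (hc : CentralPt x₀) (a b : X ⟶ G) (ha : LocTors a) (hb : LocTors b)
    (ha₀ : k ≫ a = x₀) (hb₀ : k ≫ b = x₀) : a = b := by
  ext1
  refine hom_ext_of_forall _ _ fun z => ?_
  obtain ⟨V, n, hV, hn, he⟩ := ha z
  obtain ⟨V', n', hV', hn', he'⟩ := hb z
  refine ⟨V ⊓ V', ⟨hV, hV'⟩, ?_⟩
  let Y : Over S := Over.mk ((V ⊓ V').ι ≫ X.hom)
  let h : Y ⟶ X := Over.homMk (V ⊓ V').ι
  let r : Y ⟶ Over.mk (V.ι ≫ X.hom) := Over.homMk (X.left.homOfLE inf_le_left) (by simp [Y])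
  let r' : Y ⟶ Over.mk (V'.ι ≫ X.hom) := Over.homMk (X.left.homOfLE inf_le_right) (by simp [Y])
  have hr : h = r ≫ Over.homMk V.ι := by ext1; simp [h, r]
  have hr' : h = r' ≫ Over.homMk V'.ι := by ext1; simp [h, r']
  have : IsClosedImmersion (pullK k h).left := MorphismProperty.pullback_fst (P := @IsClosedImmersion) h.left k.left inferInstance
  have : Surjective (pullK k h).left := MorphismProperty.pullback_fst (P := @Surjective) h.left k.left inferInstance
  have hx : ∀ c : X ⟶ G, k ≫ c = x₀ → pullK k h ≫ h ≫ c = pullP k h ≫ x₀ := fun c hc' => by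
    rw [← Category.assoc, pullK_comp, Category.assoc, hc']
  have e1 : (h ≫ a) ^ (n * n') = 1 := by
    rw [pow_mul, hr, Category.assoc, ← MonObj.comp_pow, he, MonObj.comp_one, one_pow]
  have e2 : (h ≫ b) ^ (n * n') = 1 := by
    rw [Nat.mul_comm n n', pow_mul, hr', Category.assoc, ← MonObj.comp_pow, he', MonObj.comp_one, one_pow]
  exact congrArg CommaMorphism.left (pts_unique (pullK k h) (pullP k h ≫ x₀) (hc.comp _) (n * n')
    ((hn.of_hom r).mul (hn'.of_hom r')) (h ≫ a) (h ≫ b) e1 e2 (hx a ha₀) (hx b hb₀))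

set_option backward.isDefEq.respectTransparency.types false in
/-- Central points, torsion locally on the thickening, lift. -/
theorem locTors_exists (hc : CentralPt x₀)
    (hx : ∀ z : X.left, ∃ (V : X.left.Opens) (n : ℕ), z ∈ V ∧ InvPts (Over.mk (V.ι ≫ X.hom)) n ∧
      (pullP k (Over.homMk V.ι : Over.mk (V.ι ≫ X.hom) ⟶ X) ≫ x₀) ^ n = 1) :
    ∃ a : X ⟶ G, LocTors a ∧ k ≫ a = x₀ := by
  choose V n hV hn he using hx
  let h : ∀ i, Over.mk ((V i).ι ≫ X.hom) ⟶ X := fun i => Over.homMk (V i).ι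
  have hk : ∀ {Y : Over S} (f : Y ⟶ X), IsClosedImmersion (pullK k f).left ∧ Surjective (pullK k f).left :=
    fun f => ⟨MorphismProperty.pullback_fst (P := @IsClosedImmersion) f.left k.left inferInstance,
      MorphismProperty.pullback_fst (P := @Surjective) f.left k.left inferInstance⟩
  have key : ∀ i, ∃ a : Over.mk ((V i).ι ≫ X.hom) ⟶ G, a ^ n i = 1 ∧ pullK k (h i) ≫ a = pullP k (h i) ≫ x₀ :=
    fun i => have := (hk (h i)).1; have := (hk (h i)).2
      pts_exists (pullK k (h i)) (pullP k (h i) ≫ x₀) (hc.comp _) (n i) (hn i) (he i)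
  choose a ha ha₀ using key
  let 𝒰 : X.left.OpenCover := X.left.openCoverOfIsOpenCover V
    (eq_top_iff.mpr fun x _ => TopologicalSpace.Opens.mem_iSup.mpr ⟨x, hV x⟩)
  have compat : ∀ i j, pullback.fst (V i).ι (V j).ι ≫ (a i).left = pullback.snd (V i).ι (V j).ι ≫ (a j).left := by
    intro i j
    let Y : Over S := Over.mk (pullback.fst (V i).ι (V j).ι ≫ (V i).ι ≫ X.hom)
    let p₁ : Y ⟶ Over.mk ((V i).ι ≫ X.hom) := Over.homMk (pullback.fst (V i).ι (V j).ι)
    let p₂ : Y ⟶ Over.mk ((V j).ι ≫ X.hom) := Over.homMk (pullback.snd (V i).ι (V j).ι) (by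
      show _ ≫ _ ≫ X.hom = _ ≫ _ ≫ X.hom
      rw [pullback.condition_assoc])
    let f : Y ⟶ X := p₁ ≫ h i
    have hf : f = p₂ ≫ h j := by ext1; exact pullback.condition
    have := (hk f).1
    have := (hk f).2
    have lift : ∀ (l) (p : Y ⟶ Over.mk ((V l).ι ≫ X.hom)), p ≫ h l = f →
        pullK k f ≫ p ≫ a l = pullP k f ≫ x₀ := fun l p hp => by
      let m : pullX k f ⟶ pullX k (h l) := Over.homMk (pullback.lift (pullback.fst _ _ ≫ p.left)
        (pullback.snd _ _) (by
          rw [Category.assoc, ← Over.comp_left, hp, pullback.condition])) (by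
        show pullback.lift _ _ _ ≫ pullback.fst _ _ ≫ _ = pullback.fst _ _ ≫ Y.hom
        rw [pullback.lift_fst_assoc, Category.assoc]
        exact congrArg _ (Over.w p))
      have h1 : pullK k f ≫ p = m ≫ pullK k (h l) := by
        ext1; exact (pullback.lift_fst _ _ _).symm
      have h2 : pullP k f = m ≫ pullP k (h l) := by
        ext1; exact (pullback.lift_snd _ _ _).symm
      rw [← Category.assoc, h1, Category.assoc, ha₀, h2, Category.assoc]
    exact congrArg CommaMorphism.left (pts_unique (pullK k f) (pullP k f ≫ x₀) (hc.comp _) (n i * n j)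
      (((hn i).of_hom p₁).mul ((hn j).of_hom p₂)) (p₁ ≫ a i) (p₂ ≫ a j)
      (by rw [pow_mul, ← MonObj.comp_pow, ha, MonObj.comp_one, one_pow])
      (by rw [Nat.mul_comm (n i), pow_mul, ← MonObj.comp_pow, ha, MonObj.comp_one, one_pow])
      (lift i p₁ rfl) (lift j p₂ hf.symm))
  let A : X.left ⟶ G.left := 𝒰.glueMorphisms (fun i => (a i).left) compat
  have hA : ∀ i, (V i).ι ≫ A = (a i).left := fun i => 𝒰.ι_glueMorphisms _ _ i
  let a' : X ⟶ G := Over.homMk A (𝒰.hom_ext _ _ fun i => by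
    show (V i).ι ≫ A ≫ G.hom = (V i).ι ≫ X.hom
    rw [reassoc_of% hA i]
    exact Over.w (a i))
  have ha' : ∀ i, h i ≫ a' = a i := fun i => by ext1; exact hA i
  refine ⟨a', fun z => ⟨V z, n z, hV z, hn z, ?_⟩, ?_⟩
  · show (h z ≫ a') ^ n z = 1
    rw [ha', ha]
  · ext1
    refine hom_ext_of_forall _ _ fun z => ?_
    let i := k.left.base z
    refine ⟨k.left ⁻¹ᵁ V i, hV i, ?_⟩
    let e : Over.mk ((k.left ⁻¹ᵁ V i).ι ≫ X₀.hom) ⟶ pullX k (h i) :=
      Over.homMk (pullback.lift (k.left ∣_ V i) (k.left ⁻¹ᵁ V i).ι (morphismRestrict_ι _ _)) (by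
        show pullback.lift _ _ _ ≫ pullback.fst _ _ ≫ _ = _
        rw [pullback.lift_fst_assoc]
        show (k.left ∣_ V i) ≫ (V i).ι ≫ X.hom = _
        rw [morphismRestrict_ι_assoc, Over.w k]
        rfl)
    have h1 : e ≫ pullP k (h i) = Over.homMk (k.left ⁻¹ᵁ V i).ι := by
      ext1; exact pullback.lift_snd _ _ _
    have h2 : e ≫ pullK k (h i) ≫ h i = e ≫ pullP k (h i) ≫ k := by rw [pullK_comp]
    have h3 : (e ≫ pullP k (h i)) ≫ (k ≫ a') = (e ≫ pullP k (h i)) ≫ x₀ := by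
      rw [Category.assoc, ← Category.assoc (pullP k (h i)), ← pullK_comp, Category.assoc, ha', ha₀,
        ← Category.assoc]
    rw [h1] at h3
    exact congrArg CommaMorphism.left h3

end Groth.Agent.DiagRig
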