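import Groth.Agent.DiagRig.ImmLift
import Groth.Agent.DiagRig.Kernel
import Groth.Agent.DiagRig.ConjLift
import Groth.Agent.DiagRig.MultBC
import Groth.Agent.GrpScheme.SubgroupObj

/-!
# Lifting multiplicative sub-groups with prescribed torsion
-/

universe u

open CategoryTheory MonoidalCategory CartesianMonoidalCategory MonObj GrpObj AlgebraicGeometry Limits

noncomputable section

namespace Groth.Agent.DiagRig

set_option linter.unusedSectionVars false
set_option linter.style.haveILetI false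

variable {S : Scheme.{u}} {H : Over S} [GrpObj H] {n : ℕ} {u : H ⟶ H}

/-- Split points of the kernel of the `n`-th power. -/
lemma exists_splitPts_powKer {U : Scheme.{u}} {p : U ⟶ S} {M : Type} [AddCommGroup M] (P : SplitPts p H M)
    (hP : P.Inj) {K : Over S} [GrpObj K] (kι : K ⟶ H) [IsMonHom kι] [Mono kι]
    (hK : ∀ {Z : Over S} (a : Z ⟶ H), (∃ k : Z ⟶ K, k ≫ kι = a) ↔ a ^ n = 1) :
    ∃ (M' : Type) (_ : AddCommGroup M'), ∃ P' : SplitPts p K M', P'.Inj := by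
  classical
  let N : AddSubgroup M := (nsmulAddMonoidHom (α := M) n).range
  let π : Multiplicative M →* Multiplicative (M ⧸ N) := AddMonoidHom.toMultiplicative (QuotientAddGroup.mk' N)
  have hpow : ∀ {Y : Over U} (t : Multiplicative M →* Γ(Y.left, ⊤)) (m : ℕ), P.σ (t ^ m) = P.σ t ^ m := fun t m => by
    induction m with
    | zero => rw [pow_zero, pow_zero, P.σ_one]
    | succ m ih => rw [pow_succ, pow_succ, P.σ_mul, ih]
  have hker : ∀ {Y : Over U} (t : Multiplicative (M ⧸ N) →* Γ(Y.left, ⊤)), P.σ (t.comp π) ^ n = 1 := fun t => by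
    rw [← hpow, show (t.comp π) ^ n = 1 from MonoidHom.ext fun m => by
      show (t (π m)) ^ n = 1
      rw [← map_pow, ← map_pow, show π (m ^ n) = 1 from
        congrArg Multiplicative.ofAdd ((QuotientAddGroup.eq_zero_iff _).mpr ⟨m.toAdd, rfl⟩), map_one], P.σ_one]
  choose σ' hσ' using fun {Y : Over U} (t : Multiplicative (M ⧸ N) →* Γ(Y.left, ⊤)) =>
    (hK (P.σ (t.comp π))).mpr (hker t)
  refine ⟨M ⧸ N, inferInstance, { σ := σ', σ_mul := ?_, σ_comp := ?_, σ_surjective := ?_ }, ?_⟩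
  · intro Y s t
    rw [← cancel_mono kι, MonObj.mul_comp, hσ', hσ', hσ', ← P.σ_mul]
    congr 1
  · intro Y Y' h t
    rw [← cancel_mono kι, Category.assoc, hσ', hσ', P.σ_comp]
    congr 1
  · intro Y g
    obtain ⟨t, ht⟩ := P.σ_surjective (g ≫ kι)
    have h1 : t ^ n = 1 := hP _ _ (by rw [hpow, ht, (hK _).mp ⟨g, rfl⟩, P.σ_one])
    let a : M →+ Additive Γ(Y.left, ⊤) := MonoidHom.toAdditiveRight t
    have ha : N ≤ a.ker := by
      rintro _ ⟨m, rfl⟩
      refine AddMonoidHom.mem_ker.mpr (Additive.toMul.injective ?_)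
      show t (Multiplicative.ofAdd (n • m)) = 1
      rw [ofAdd_nsmul, map_pow]
      exact DFunLike.congr_fun h1 (Multiplicative.ofAdd m)
    refine ⟨AddMonoidHom.toMultiplicativeLeft (QuotientAddGroup.lift N a ha), ?_⟩
    rw [← cancel_mono kι, hσ', ← ht]
    congr 1
  · intro Y s t h
    have h1 := hP _ _ (((hσ' s).symm.trans (congrArg (· ≫ kι) h)).trans (hσ' t))
    refine MonoidHom.ext fun m => ?_
    obtain ⟨x, hx⟩ := QuotientAddGroup.mk'_surjective N m.toAdd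
    have : π (Multiplicative.ofAdd x) = m := congrArg Multiplicative.ofAdd hx
    rw [← this]
    exact DFunLike.congr_fun h1 _

variable {R : Type u} [CommRing R] (J : Ideal R)

local notation "qJ" => Spec.map (CommRingCat.ofHom (Ideal.Quotient.mk J))

/-- A scheme over the closed subscheme from a scheme killed by the ideal. -/
lemma exists_overJ_iso {X : Over (Spec (CommRingCat.of R))} (hX : OverJ J X) :
    ∃ (Y : Over (Spec (CommRingCat.of (R ⧸ J)))), Nonempty ((Over.map qJ).obj Y ≅ X) := by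
  obtain ⟨w, hw⟩ := hX
  exact ⟨Over.mk w, ⟨Over.isoMk (Iso.refl _) ((Category.id_comp _).trans hw.symm)⟩⟩

set_option backward.isDefEq.respectTransparency.types false in
lemma exists_pow_kernel {R : CommRingCat.{u}} (H : Over (Spec R)) [GrpObj H] (hH : SplitLoc H)
    (hcomm : ∀ {Z : Over (Spec R)} (a b : Z ⟶ H), a * b = b * a) (n : ℕ) :
    ∃ (K : Over (Spec R)) (_ : GrpObj K) (kι : K ⟶ H), IsMonHom kι ∧ Mono kι ∧ SplitLoc K ∧
      ∀ {Z : Over (Spec R)} (a : Z ⟶ H), (∃ k : Z ⟶ K, k ≫ kι = a) ↔ a ^ n = 1 := by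
  let u : H ⟶ H := (𝟙 H) ^ n
  have hu : ∀ {Z : Over (Spec R)} (a : Z ⟶ H), a ≫ u = a ^ n := fun a => by
    rw [MonObj.comp_pow, Category.comp_id]
  let K := kerOb u
  let kι : K ⟶ H := kerι u
  have hK : ∀ {Z : Over (Spec R)} (a : Z ⟶ H), (∃ k : Z ⟶ K, k ≫ kι = a) ↔ a ^ n = 1 := fun a => by
    constructor
    · rintro ⟨k, rfl⟩
      rw [← hu]
      exact kerι_comp' u k
    · exact fun ha => exists_kerLift u a (by rw [hu]; exact ha)
  have : Mono kι := Over.mono_of_mono_left kι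
  have hk1 : kι ^ n = 1 := (hK kι).mp ⟨𝟙 _, Category.id_comp _⟩
  obtain ⟨gK, hgK⟩ := Groth.Agent.GrpScheme.SubgroupObj.exists_grpObj kι
    (by
      obtain ⟨m, hm⟩ := (hK ((fst K K ≫ kι) * (snd K K ≫ kι))).mpr (by
        rw [Commute.mul_pow (hcomm _ _), ← MonObj.comp_pow, ← MonObj.comp_pow, hk1, MonObj.comp_one,
          MonObj.comp_one, _root_.one_mul])
      refine ⟨m, hm.trans ?_⟩
      rw [Hom.mul_def]
      congr 1)
    ((hK η[H]).mpr (by rw [show η[H] = (1 : 𝟙_ _ ⟶ H) from by simp [Hom.one_def, toUnit_unique (toUnit (𝟙_ (Over (Spec R)))) (𝟙 _)], one_pow]))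
    ((hK (kι ≫ ι[H])).mpr (by rw [← Hom.inv_def, inv_pow, hk1, inv_one]))
  letI := gK
  haveI := hgK
  obtain ⟨S', f, hf, hsurj, hW, hloc⟩ := hH
  refine ⟨K, gK, kι, hgK, inferInstance, ⟨S', f, hf, hsurj, hW, fun s' => ?_⟩, hK⟩
  obtain ⟨U, hU, M, _, P, hP⟩ := hloc s'
  obtain ⟨M', i', P', hP'⟩ := exists_splitPts_powKer P hP kι hK
  exact ⟨U, hU, M', i', P', hP'⟩

section Transfer

variable {S₀ : Scheme.{u}} (q : S₀ ⟶ S) {G L : Over S} [GrpObj G] {H₀ : Over S₀} [GrpObj H₀]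

set_option backward.isDefEq.respectTransparency.types false in
/-- Points of the torsion of `H` over the closed subscheme are the points of `L`. -/
theorem transfer {j : H ⟶ G} {l : L ⟶ G} (j₀ : H₀ ⟶ Red.bc q G)
    (e : Red.bc q H ≅ H₀) (hem : IsMonHom e.hom) (he : e.hom ≫ j₀ = (Over.pullback q).map j)
    (hL0 : ∀ (Y : Over S₀) (g : Y ⟶ Red.bc q G),
      (∃ y : Y ⟶ Red.bc q L, y ≫ (Over.pullback q).map l = g) ↔ ∃ h : Y ⟶ H₀, h ^ n = 1 ∧ h ≫ j₀ = g)
    {X : Over S} (Y : Over S₀) (i : (Over.map q).obj Y ≅ X) :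
    (∀ a : X ⟶ H, a ^ n = 1 → ∃ y : X ⟶ L, y ≫ l = a ≫ j) ∧
      ∀ x : X ⟶ L, ∃ y : X ⟶ H, y ^ n = 1 ∧ y ≫ j = x ≫ l := by
  haveI := hem
  haveI : IsMonHom e.inv := inferInstance
  have hbp : ∀ (y : Y ⟶ Red.bc q H) (m : ℕ), bcTr q (y ^ m) = (bcTr q y) ^ m := fun y m => by
    induction m with
    | zero => simp only [pow_zero]; exact bcTr_one q
    | succ m ih => rw [pow_succ, pow_succ, bcTr_mul, ih]
  have hp : ∀ {A B : Over S₀} [GrpObj A] [GrpObj B] (w : A ⟶ B) [IsMonHom w] (x : Y ⟶ A) (m : ℕ),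
      (x ≫ w) ^ m = (x ^ m) ≫ w := by
    intro A B _ _ w _ x m
    induction m with
    | zero => rw [pow_zero, pow_zero, MonObj.one_comp]
    | succ m ih => rw [pow_succ, pow_succ, MonObj.mul_comp, ih]
  constructor
  · intro a ha
    have ha' : (bcUn q (i.hom ≫ a)) ^ n = 1 := bcTr_injective q (by
      rw [hbp, bcTr_one, bcTr_bcUn, ← MonObj.comp_pow, ha, MonObj.comp_one])
    obtain ⟨y, hy⟩ := (hL0 Y ((bcUn q (i.hom ≫ a) ≫ e.hom) ≫ j₀)).mpr
      ⟨_, by rw [hp, ha', MonObj.one_comp], rfl⟩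
    refine ⟨i.inv ≫ bcTr q y, ?_⟩
    have h := congrArg (bcTr q) hy
    rw [bcTr_map, Category.assoc, he, bcTr_map, bcTr_bcUn] at h
    rw [Category.assoc, h, Category.assoc, Iso.inv_hom_id_assoc]
  · intro x
    obtain ⟨h, hn, hh⟩ := (hL0 Y (bcUn q (i.hom ≫ x) ≫ (Over.pullback q).map l)).mp ⟨_, rfl⟩
    refine ⟨i.inv ≫ bcTr q (h ≫ e.inv), ?_, ?_⟩
    · rw [← MonObj.comp_pow, ← hbp, hp, hn, MonObj.one_comp, bcTr_one, MonObj.comp_one]
    · rw [Category.assoc, ← bcTr_map, Category.assoc, ← he, Iso.inv_hom_id_assoc, hh, bcTr_map, bcTr_bcUn,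
        Category.assoc, Iso.inv_hom_id_assoc]

end Transfer

set_option backward.isDefEq.respectTransparency.types false in
/-- A sub-group of multiplicative type congruent to the torsion of `H` is congruent to it by a homomorphism
which identifies it with the torsion. -/
theorem exists_torsion_hom (hJ : IsNilpotent J) (n : ℕ)
    {G H L : Over (Spec (CommRingCat.of R))} [GrpObj G] [GrpObj H] [GrpObj L]
    (hHs : SplitLoc H) (hL : SplitLoc L) (hcomm : ∀ {Z : Over (Spec (CommRingCat.of R))} (a b : Z ⟶ H), a * b = b * a)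
    (j : H ⟶ G) (l : L ⟶ G) [IsMonHom j] [IsMonHom l] [Mono j] [Mono l]
    (toL : ∀ (X : Over (Spec (CommRingCat.of R))) (a : X ⟶ H), a ^ n = 1 → OverJ J X →
      ∃ y : X ⟶ L, y ≫ l = a ≫ j)
    (toH : ∀ (X : Over (Spec (CommRingCat.of R))) (x : X ⟶ L), OverJ J X →
      ∃ y : X ⟶ H, y ^ n = 1 ∧ y ≫ j = x ≫ l) :
    ∃ φ : L ⟶ H, IsMonHom φ ∧ φ ^ n = 1 ∧
      (∀ (X : Over (Spec (CommRingCat.of R))) (x : X ⟶ L), OverJ J X → x ≫ φ ≫ j = x ≫ l) ∧
      ∀ {X : Over (Spec (CommRingCat.of R))} (h : X ⟶ H), h ^ n = 1 → ∃ y : X ⟶ L, y ≫ φ = h := by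
  obtain ⟨K, _, kι, hkι, hkm, hKs, hK⟩ := exists_pow_kernel H hHs hcomm n
  haveI := hkι
  haveI := hkm
  obtain ⟨φ, hφm, hφ⟩ := exists_hom_lift (R := CommRingCat.of R) (H := L) (H' := H) (G := G) J hJ hL hHs l j
    (fun X x hX => let ⟨y, _, hy⟩ := toH X x hX; ⟨y, hy⟩)
  haveI := hφm
  obtain ⟨ψ, hψm, hψ⟩ := exists_hom_lift (R := CommRingCat.of R) (H := K) (H' := L) (G := G) J hJ hKs hL (kι ≫ j) l
    (fun X x hX => by
      obtain ⟨y, hy⟩ := toL X (x ≫ kι) ((hK _).mp ⟨x, rfl⟩) hX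
      exact ⟨y, by rw [hy, Category.assoc]⟩)
  haveI := hψm
  have hφn : φ ^ n = 1 := by
    let u : H ⟶ H := (𝟙 H) ^ n
    have hu : ∀ {Z : Over (Spec (CommRingCat.of R))} (a : Z ⟶ H), a ≫ u = a ^ n := fun a => by
      rw [MonObj.comp_pow, Category.comp_id]
    haveI : IsMonHom u := isMonHom_of_pts u fun Y x y => by
      rw [hu, hu, hu]
      exact (show Commute x y from hcomm x y).mul_pow n
    haveI : IsMonHom (1 : L ⟶ H) := isMonHom_of_pts _ fun Y x y => by simp [MonObj.comp_one]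
    have := hom_eq_of_congr (R := CommRingCat.of R) (H := L) (H' := H) J hJ hL hHs (φ ≫ u) 1 fun X x hX => by
      obtain ⟨y, hyn, hy⟩ := toH X x hX
      have e1 : x ≫ φ = y := (cancel_mono j).mp (by rw [Category.assoc, hφ X x hX, hy])
      rw [← Category.assoc, hu, e1, hyn, MonObj.comp_one]
    rwa [hu] at this
  obtain ⟨φ', hφ'⟩ := (hK φ).mpr hφn
  haveI : IsMonHom φ' := isMonHom_of_pts φ' fun Y x y => by
    rw [← cancel_mono kι, Category.assoc, hφ', MonObj.mul_comp, MonObj.mul_comp, Category.assoc, Category.assoc, hφ']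
  have e2 : ψ ≫ φ' = 𝟙 K := hom_eq_of_congr (R := CommRingCat.of R) (H := K) (H' := K) J hJ hKs hKs (ψ ≫ φ') (𝟙 K) fun X x hX => by
    rw [← cancel_mono kι, Category.comp_id, Category.assoc, Category.assoc, hφ']
    rw [← cancel_mono j, Category.assoc, Category.assoc, Category.assoc, ← Category.assoc x ψ,
      hφ X (x ≫ ψ) hX, Category.assoc, hψ X x hX]
  refine ⟨φ, hφm, hφn, hφ, fun h hn => ?_⟩
  obtain ⟨k, rfl⟩ := (hK h).mpr hn
  refine ⟨k ≫ ψ, ?_⟩
  rw [Category.assoc, show ψ ≫ φ = kι by rw [← hφ', ← Category.assoc, e2, Category.id_comp]]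

set_option backward.isDefEq.respectTransparency.types false in
/-- Conjugating makes the congruence an equality. -/
theorem exists_conj_eq (hJ : IsNilpotent J)
    {G H L : Over (Spec (CommRingCat.of R))} [GrpObj G] [GrpObj H] [GrpObj L] (hL : SplitLoc L) (hG : Smooth G.hom)
    (j : H ⟶ G) (l : L ⟶ G) [IsMonHom j] [IsMonHom l] (φ : L ⟶ H) [IsMonHom φ]
    (hφ : ∀ (X : Over (Spec (CommRingCat.of R))) (x : X ⟶ L), OverJ J X → x ≫ φ ≫ j = x ≫ l) :
    ∃ j' : H ⟶ G, IsMonHom j' ∧ φ ≫ j' = l ∧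
      (Over.pullback qJ).map j' = (Over.pullback qJ).map j := by
  obtain ⟨g, hg, hconj⟩ := exists_conj_lift J hJ L G hL hG (φ ≫ j) l 1 (fun X p h => by
    rw [MonObj.comp_one, inv_one, _root_.mul_one, _root_.one_mul, hφ X h ⟨p.left, Over.w p⟩])
  refine ⟨conjHom j g, isMonHom_conjHom j g, ?_, ?_⟩
  · have h := hconj L (𝟙 L)
    rw [Category.id_comp, Category.id_comp] at h
    rw [h, comp_conjHom]
  · refine bcTr_injective qJ ?_
    let p : (Over.map qJ).obj (Red.bc qJ H) ⟶ Over.mk qJ := Over.homMk (Red.bc qJ H).hom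
    have h1 : toUnit ((Over.map qJ).obj (Red.bc qJ H)) ≫ g = 1 := by
      rw [← comp_toUnit p, Category.assoc, hg, MonObj.comp_one]
    rw [← Category.id_comp ((Over.pullback qJ).map (conjHom j g)), ← Category.id_comp ((Over.pullback qJ).map j),
      bcTr_map, bcTr_map, comp_conjHom, h1, inv_one, _root_.mul_one, _root_.one_mul]

set_option backward.isDefEq.respectTransparency.types false in
/-- **Lifting with prescribed torsion.** -/
theorem exists_sub_lift_torsion (hJ : IsNilpotent J) (n : ℕ)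
    (G : Over (Spec (CommRingCat.of R))) [GrpObj G] (hG : Smooth G.hom)
    (H₀ : Over (Spec (CommRingCat.of (R ⧸ J)))) [GrpObj H₀]
    (hH₀ : TwC.Locally (Spec (CommRingCat.of (R ⧸ J))) TwC.Topology.fpqc (fun S' f => ∃ (M : Type) (_ : AddCommGroup M),
      Nonempty (Grp.mk (Red.bc f H₀) ≅ Grp.mk (Red.DS S' M))))
    (j₀ : H₀ ⟶ Red.bc qJ G) [IsMonHom j₀] [IsImmersion j₀.left]
    (L : Over (Spec (CommRingCat.of R))) [GrpObj L] (hL : SplitLoc L) (l : L ⟶ G) [IsMonHom l] [IsImmersion l.left]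
    (hL0 : ∀ (X : Over (Spec (CommRingCat.of (R ⧸ J)))) (g : X ⟶ Red.bc qJ G),
      (∃ y : X ⟶ Red.bc qJ L, y ≫ (Over.pullback qJ).map l = g) ↔ ∃ h : X ⟶ H₀, h ^ n = 1 ∧ h ≫ j₀ = g) :
    ∃ (H : Over (Spec (CommRingCat.of R))) (_ : GrpObj H) (j : H ⟶ G), IsMonHom j ∧ IsImmersion j.left ∧
      SGA3x.IsMultTypeFT H ∧ (∃ φ : Red.bc qJ H ≅ H₀, φ.hom ≫ j₀ = (Over.pullback qJ).map j) ∧
      ∀ (X : Over (Spec (CommRingCat.of R))) (g : X ⟶ G),
        (∃ y : X ⟶ L, y ≫ l = g) ↔ ∃ h : X ⟶ H, h ^ n = 1 ∧ h ≫ j = g := by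
  obtain ⟨H, iH, j, -, hjm, hji, hHm, e, hem, he⟩ := exists_sub_lift J hJ G hG H₀ hH₀ j₀
  haveI : IsMonHom j := hjm
  haveI : Mono j := Over.mono_of_mono_left j
  haveI : Mono l := Over.mono_of_mono_left l
  obtain ⟨φ, hφm, hφn, hφ, hsurj⟩ := exists_torsion_hom J hJ n (splitLoc_of_locally (locally_of_multTypeFT hHm)) hL
    (fun a b => mul_comm_of_splitFpqc (splitFpqc_of_multTypeFT H hHm) a b) j l
    (fun X a ha hX => let ⟨Y, ⟨i⟩⟩ := exists_overJ_iso J hX; (transfer qJ j₀ e hem he hL0 Y i).1 a ha)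
    (fun X x hX => let ⟨Y, ⟨i⟩⟩ := exists_overJ_iso J hX; (transfer qJ j₀ e hem he hL0 Y i).2 x)
  haveI := hφm
  obtain ⟨j', hj', hl, hmap⟩ := exists_conj_eq J hJ hL hG j l φ hφ
  haveI : IsClosedImmersion qJ := isClosedImmersion_specQuot J
  haveI : Surjective qJ := surjective_specQuot_of_nil J (fun x hx => by
    obtain ⟨m, hm⟩ := hJ
    exact ⟨m, by simpa [hm] using Ideal.pow_mem_pow hx m⟩)
  haveI := multType_locallyOfFiniteType H hHm
  haveI : IsImmersion ((Over.pullback qJ).map j').left := by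
    haveI : IsIso e.hom.left := ((Over.forget _).mapIso e).isIso_hom
    rw [hmap, ← he]
    exact inferInstanceAs (IsImmersion (e.hom.left ≫ j₀.left))
  refine ⟨H, iH, j', hj', isImmersion_of_map qJ j', hHm, ⟨e, he.trans hmap.symm⟩, fun X a => ⟨?_, ?_⟩⟩
  · rintro ⟨y, rfl⟩
    exact ⟨y ≫ φ, by rw [← MonObj.comp_pow, hφn, MonObj.comp_one], by rw [Category.assoc, hl]⟩
  · rintro ⟨h, hn, rfl⟩
    obtain ⟨y, rfl⟩ := hsurj h hn
    exact ⟨y, by rw [Category.assoc, hl]⟩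

end Groth.Agent.DiagRig
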